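import Groth.Agent.EtShLib.Locus

/-! Stalks of constant sheaves. -/

set_option autoImplicit false
set_option linter.unusedSectionVars false
set_option linter.style.haveILetI false
set_option backward.isDefEq.respectTransparency false
set_option backward.isDefEq.respectTransparency.types false
set_option synthInstance.maxHeartbeats 400000
set_option maxHeartbeats 1000000

universe u

open CategoryTheory CategoryTheory.Limits AlgebraicGeometry Opposite Topology

namespace Groth.Agent.EtShLib

variable {X : Scheme.{u}}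
variable {A : Type (u + 2)} [Category.{u + 1} A] [HasColimitsOfSize.{u, u} A]
  {FA : A → A → Type*} {CA : A → Type (u + 1)} [∀ M N, FunLike (FA M N) (CA M) (CA N)]
  [ConcreteCategory.{u + 1} A FA] [hfc : PreservesFilteredColimitsOfSize.{u, u} (forget A)]
  [hri : (forget A).ReflectsIsomorphisms] [HasSheafify X.smallEtaleTopology A] [HasProducts.{u} A]

variable (X) in
/-- The unit of the constant sheaf. -/
noncomputable def cstUnit (M : A) : M ⟶ ((constantSheaf X.smallEtaleTopology A).obj M).obj.obj (op (EtCoh.top X)) :=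
  (toSheafify X.smallEtaleTopology ((Functor.const (X.Etale)ᵒᵖ).obj M)).app (op (EtCoh.top X))

theorem cstUnit_naturality {M N : A} (h : M ⟶ N) :
    cstUnit X M ≫ ((constantSheaf X.smallEtaleTopology A).map h).hom.app (op (EtCoh.top X)) = h ≫ cstUnit X N :=
  (congrArg (fun t => t.app (op (EtCoh.top X)))
    (toSheafify_naturality X.smallEtaleTopology ((Functor.const (X.Etale)ᵒᵖ).map h))).symm

include hfc hri

theorem isCst_cstUnit (M : A) : IsCst ((constantSheaf X.smallEtaleTopology A).obj M) (EtCoh.top X) (cstUnit X M) := by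
  intro Ω _ _ ξ u
  let P := (Functor.const (X.Etale)ᵒᵖ).obj M
  have hbij : IsIso ((pt ξ).toPresheafFiber (EtCoh.top X) u P) := by
    rw [← isIso_iff_of_reflects_iso _ (forget A), isIso_iff_bijective]
    constructor
    · intro a b e
      obtain ⟨Y, f, y, -, h⟩ := ((pt ξ).toPresheafFiber_eq_iff' (EtCoh.top X) u a b).1 e
      have h' : (𝟙 M : M ⟶ M) a = (𝟙 M : M ⟶ M) b := h
      simpa using h'
    · intro p
      obtain ⟨W, w, z, rfl⟩ := (pt ξ).toPresheafFiber_jointly_surjective p
      let t : W ⟶ EtCoh.top X := MorphismProperty.Over.homMk W.hom (Category.comp_id _)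
      have hw : Fib.map t w = u := by
        apply Fib.ext
        show Fib.hom (ξ := ξ) (U := W) w ≫ W.hom = u.hom
        rw [Fib.w (ξ := ξ) (U := W) w]
        exact u.w.symm.trans (Category.comp_id _)
      refine ⟨z, ?_⟩
      have e := (pt ξ).toPresheafFiber_w t w P
      rw [show (pt ξ).fiber.map t w = u from hw] at e
      refine (congrArg (fun q => q z) e).symm.trans ?_
      exact ConcreteCategory.comp_apply (P.map t.op) _ z |>.trans (congrArg ((pt ξ).toPresheafFiber W w P) (ConcreteCategory.id_apply z))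
  have : cstUnit X M ≫ germ ξ ((constantSheaf X.smallEtaleTopology A).obj M) (EtCoh.top X) u =
      (pt ξ).toPresheafFiber (EtCoh.top X) u P ≫ (pt ξ).presheafFiber.map (toSheafify X.smallEtaleTopology P) :=
    ((pt ξ).toPresheafFiber_naturality (toSheafify X.smallEtaleTopology P) (EtCoh.top X) u).symm
  rw [this]
  infer_instance

theorem isIso_of_generic [IrreducibleSpace X] [Abelian A] [AB5OfSize.{u, u} A] [PreservesFiniteLimits (forget A)]
    [hsc : X.smallEtaleTopology.HasSheafCompose (forget A)] {Ω : Type u} [Field Ω] [IsSepClosed Ω]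
    (ξ : Spec (CommRingCat.of Ω) ⟶ X) (hξ : ξ.base default = genericPoint X) {M' M : A} (i : M' ⟶ M)
    {G : Sheaf X.smallEtaleTopology A} (a : (constantSheaf X.smallEtaleTopology A).obj M' ⟶ G)
    (b : G ⟶ (constantSheaf X.smallEtaleTopology A).obj M) [Mono a] [Mono b]
    (hab : a ≫ b = (constantSheaf X.smallEtaleTopology A).map i) (hst : IsIso ((stk ξ).map a)) : IsIso a := by
  refine isIso_of_stalks a fun Ω' _ _ ξ' => ?_
  haveI : Mono ((stk ξ').map a) := inferInstance
  haveI : Mono ((stk ξ').map b) := inferInstance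
  rw [← isIso_iff_of_reflects_iso _ (forget A), isIso_iff_bijective]
  refine ⟨ConcreteCategory.injective_of_mono_of_preservesPullback ((stk ξ').map a), fun p => ?_⟩
  obtain ⟨t'⟩ := exists_fib_of_range ξ' (U := EtCoh.top X) ⟨ξ'.base default, rfl⟩
  obtain ⟨U, g, u, x, hu, rfl⟩ := exists_germ_below ξ' p (EtCoh.top X) t'
  haveI := (isCst_cstUnit M).map g Ω' ξ' u
  obtain ⟨m, hm⟩ := (ConcreteCategory.bijective_of_isIso ((cstUnit X M ≫ ((constantSheaf X.smallEtaleTopology A).obj M).obj.map g.op) ≫
    germ ξ' _ U u)).2 ((stk ξ').map b (germ ξ' G U u x))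
  rw [ConcreteCategory.comp_apply, germ_natural_apply] at hm
  obtain ⟨V, k, v, hv, he⟩ := (germ_eq_iff ξ' U u _ _).1 hm
  have hgen : genericPoint X ∈ Set.range V.hom.base :=
    (genericPoint_specializes (show X from V.hom.base v.pt)).mem_open (isOpen_range_etale V) ⟨v.pt, rfl⟩
  obtain ⟨w⟩ := exists_fib_of_range ξ (U := V) (hξ ▸ hgen)
  haveI := (isCst_cstUnit M').map (k ≫ g) Ω ξ w
  haveI := hst
  obtain ⟨m', hm'⟩ := (ConcreteCategory.bijective_of_isIso (((cstUnit X M' ≫ ((constantSheaf X.smallEtaleTopology A).obj M').obj.map (k ≫ g).op) ≫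
    germ ξ _ V w) ≫ (stk ξ).map a)).2 (germ ξ G V w (G.obj.map k.op x))
  have key : ∀ {Ω₀ : Type u} [Field Ω₀] [IsSepClosed Ω₀] (ζ : Spec (CommRingCat.of Ω₀) ⟶ X) (z : Fib ζ V),
      (stk ζ).map b ((((cstUnit X M' ≫ ((constantSheaf X.smallEtaleTopology A).obj M').obj.map (k ≫ g).op) ≫
        germ ζ _ V z) ≫ (stk ζ).map a) m') =
      ((cstUnit X M ≫ ((constantSheaf X.smallEtaleTopology A).obj M).obj.map (k ≫ g).op) ≫ germ ζ _ V z) (i m') := by
    intro Ω₀ _ _ ζ z
    rw [← ConcreteCategory.comp_apply, ← ConcreteCategory.comp_apply i]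
    congr 1
    rw [Category.assoc, Category.assoc, Category.assoc, ← Functor.map_comp, hab, germ_natural, NatTrans.naturality_assoc,
      reassoc_of% (cstUnit_naturality (X := X) i), Category.assoc]
  have hbx : ∀ {Ω₀ : Type u} [Field Ω₀] [IsSepClosed Ω₀] (ζ : Spec (CommRingCat.of Ω₀) ⟶ X) (z : Fib ζ V),
      (stk ζ).map b (germ ζ G V z (G.obj.map k.op x)) =
      ((cstUnit X M ≫ ((constantSheaf X.smallEtaleTopology A).obj M).obj.map (k ≫ g).op) ≫ germ ζ _ V z) m := by
    intro Ω₀ _ _ ζ z
    rw [germ_natural_apply, NatTrans.naturality_apply, ← he, ConcreteCategory.comp_apply, op_comp, Functor.map_comp,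
      ← Category.assoc, ConcreteCategory.comp_apply]
    simp only [ConcreteCategory.comp_apply]
  have hmi : i m' = m := by
    haveI := (isCst_cstUnit M).map (k ≫ g) Ω ξ w
    apply (ConcreteCategory.bijective_of_isIso ((cstUnit X M ≫ ((constantSheaf X.smallEtaleTopology A).obj M).obj.map (k ≫ g).op) ≫ germ ξ _ V w)).1
    rw [← key ξ w, hm', hbx ξ w]
  refine ⟨germ ξ' ((constantSheaf X.smallEtaleTopology A).obj M') V v ((cstUnit X M' ≫ ((constantSheaf X.smallEtaleTopology A).obj M').obj.map (k ≫ g).op) m'), ?_⟩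
  apply ConcreteCategory.injective_of_mono_of_preservesPullback ((stk ξ').map b)
  have h1 := key ξ' v
  rw [hmi, ← hbx ξ' v, ConcreteCategory.comp_apply, ConcreteCategory.comp_apply, germ_res_apply, hv] at h1
  exact h1

end Groth.Agent.EtShLib
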