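import Groth.Agent.EtShLib.Strata
import Groth.Prelude.Def_PBC
import Groth.Prelude.Def_EtMod2
import Groth.Prelude.Def_WeakSerre

/-! The two notions of constructibility of the problem. -/

set_option autoImplicit false
set_option linter.unusedSectionVars false
set_option linter.style.haveILetI false
set_option backward.isDefEq.respectTransparency false
set_option backward.isDefEq.respectTransparency.types false
set_option synthInstance.maxHeartbeats 400000
set_option maxHeartbeats 1000000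

universe u

open CategoryTheory CategoryTheory.Limits AlgebraicGeometry Opposite Topology
open scoped ZeroObject

namespace Groth.Agent.EtShLib

variable {X : Scheme.{u}}

/-- Finite groups. -/
abbrev FinP : AddCommGrpCat.{u + 1} → Prop := fun M => Finite M

theorem adaptedStrata_iff (F : EtCoh.Ab X) (S : Set X) :
    EtPBC.AdaptedStrata F S ↔ Adapted (A := AddCommGrpCat.{u + 1}) FinP F S := by
  constructor
  · rintro ⟨n, T, g, h1, h2, h3, h4, h5⟩
    exact ⟨n, T, g, h1, h2, h3, h4, fun i => (isFLC_iff _).1 (h5 i)⟩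
  · rintro ⟨n, T, g, h1, h2, h3, h4, h5⟩
    exact ⟨n, T, g, h1, h2, h3, h4, fun i {_} => (isFLC_iff _).2 (h5 i)⟩

theorem isConstructible_iff (F : EtCoh.Ab X) :
    EtPBC.IsConstructible F ↔ IsCons (A := AddCommGrpCat.{u + 1}) FinP F :=
  forall_congr' fun U => imp_congr_right fun _ => adaptedStrata_iff F U

variable {Λ : Type (u + 1)} [CommRing Λ]

/-- Finite modules. -/
abbrev FinMP : ModuleCat.{u + 1} Λ → Prop := fun M => Module.Finite Λ M

theorem adaptedStrataMod_iff (F : EtModW.Mod Λ X) (S : Set X) :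
    EtModW.AdaptedStrata Λ F S ↔ Adapted (A := ModuleCat.{u + 1} Λ) FinMP F S := by
  constructor
  · rintro ⟨n, T, g, h1, h2, h3, h4, h5⟩
    exact ⟨n, T, g, h1, h2, h3, h4, fun i => (isFTLC_iff _).1 (h5 i)⟩
  · rintro ⟨n, T, g, h1, h2, h3, h4, h5⟩
    exact ⟨n, T, g, h1, h2, h3, h4, fun i => (isFTLC_iff _).2 (h5 i)⟩

theorem isConstructibleMod_iff (F : EtModW.Mod Λ X) :
    EtModW.IsConstructible Λ F ↔ IsCons (A := ModuleCat.{u + 1} Λ) FinMP F :=
  forall_congr' fun U => imp_congr_right fun _ => adaptedStrataMod_iff F U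

theorem cons_kernel {F G : EtCoh.Ab X} (φ : F ⟶ G) (hF : IsCons (A := AddCommGrpCat.{u + 1}) FinP F)
    (hG : IsCons (A := AddCommGrpCat.{u + 1}) FinP G) : IsCons (A := AddCommGrpCat.{u + 1}) FinP (kernel φ) :=
  hF.kernel φ hG (fun M (hM : Finite M) => fg_Ab) fun M N h (hM : Finite M) _ =>
    Finite.of_injective (kernel.ι h) ((AddCommGrpCat.mono_iff_injective _).1 inferInstance)

theorem cons_cokernel {F G : EtCoh.Ab X} (φ : F ⟶ G) (hF : IsCons (A := AddCommGrpCat.{u + 1}) FinP F)
    (hG : IsCons (A := AddCommGrpCat.{u + 1}) FinP G) : IsCons (A := AddCommGrpCat.{u + 1}) FinP (cokernel φ) :=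
  hF.cokernel φ hG (fun M (hM : Finite M) => fg_Ab) fun M N h _ (hN : Finite N) =>
    Finite.of_surjective (cokernel.π h) ((AddCommGrpCat.epi_iff_surjective _).1 inferInstance)

theorem cons_extension {S : ShortComplex (EtCoh.Ab X)} (hS : S.ShortExact)
    (h₁ : IsCons (A := AddCommGrpCat.{u + 1}) FinP S.X₁) (h₃ : IsCons (A := AddCommGrpCat.{u + 1}) FinP S.X₃) :
    IsCons (A := AddCommGrpCat.{u + 1}) FinP S.X₂ :=
  IsCons.extension S hS h₁ h₃ (fun M (hM : Finite M) => fg_Ab)
    (fun T hT (h1 : Finite T.X₁) (h3 : Finite T.X₃) => finite_mid hT) fun M (hM : Finite M) => ⟨fg_Ab, lifts_Ab⟩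

theorem consMod_cokernel {F G : EtModW.Mod Λ X} (φ : F ⟶ G) (hF : IsCons (A := ModuleCat.{u + 1} Λ) FinMP F)
    (hG : IsCons (A := ModuleCat.{u + 1} Λ) FinMP G) : IsCons (A := ModuleCat.{u + 1} Λ) FinMP (cokernel φ) :=
  hF.cokernel φ hG (fun M hM => fg_Mod hM) fun M N h _ (hN : Module.Finite Λ N) =>
    Module.Finite.of_surjective (cokernel.π h).hom ((ModuleCat.epi_iff_surjective _).1 inferInstance)

variable [IsNoetherianRing Λ]

theorem consMod_kernel {F G : EtModW.Mod Λ X} (φ : F ⟶ G) (hF : IsCons (A := ModuleCat.{u + 1} Λ) FinMP F)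
    (hG : IsCons (A := ModuleCat.{u + 1} Λ) FinMP G) : IsCons (A := ModuleCat.{u + 1} Λ) FinMP (kernel φ) :=
  hF.kernel φ hG (fun M hM => fg_Mod hM) fun M N h (hM : Module.Finite Λ M) _ =>
    Module.Finite.of_injective (kernel.ι h).hom ((ModuleCat.mono_iff_injective _).1 inferInstance)

theorem consMod_extension {S : ShortComplex (EtModW.Mod Λ X)} (hS : S.ShortExact)
    (h₁ : IsCons (A := ModuleCat.{u + 1} Λ) FinMP S.X₁) (h₃ : IsCons (A := ModuleCat.{u + 1} Λ) FinMP S.X₃) :
    IsCons (A := ModuleCat.{u + 1} Λ) FinMP S.X₂ :=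
  IsCons.extension S hS h₁ h₃ (fun M hM => fg_Mod hM)
    (fun T hT (h1 : Module.Finite Λ T.X₁) (h3 : Module.Finite Λ T.X₃) => by
      haveI : IsNoetherian Λ T.X₁ := isNoetherian_of_isNoetherianRing_of_finite Λ _
      haveI : IsNoetherian Λ T.X₃ := isNoetherian_of_isNoetherianRing_of_finite Λ _
      haveI : IsNoetherian Λ T.X₂ := isNoetherian_of_range_eq_ker T.f.hom T.g.hom (T.moduleCat_exact_iff_range_eq_ker.1 hT.exact)
      exact inferInstanceAs (Module.Finite Λ T.X₂))
    fun M hM => ⟨fg_Mod hM, lifts_Mod hM⟩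

end Groth.Agent.EtShLib

namespace Groth.Agent.EtShLib

variable {X : Scheme.{u}} {Λ : Type (u + 1)} [CommRing Λ]

theorem consMod_weakSerre [IsNoetherianRing Λ] (X : Scheme.{u}) :
    WSerre.IsWeakSerre (fun F : EtModW.Mod Λ X => EtModW.IsConstructible Λ F) where
  exists_zero := ⟨0, isZero_zero _, (isConstructibleMod_iff _).2 (isCons_of_isZero (A := ModuleCat.{u + 1} Λ)
    (by
      haveI := ModuleCat.subsingleton_of_isZero (isZero_zero (ModuleCat.{u + 1} Λ))
      exact inferInstanceAs (Module.Finite Λ (0 : ModuleCat.{u + 1} Λ)))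
    (isZero_zero _))⟩
  kernels_le := by
    rintro K ⟨φ, k, hk, hF, hG⟩
    exact (isConstructibleMod_iff _).2 ((consMod_kernel φ ((isConstructibleMod_iff _).1 hF)
      ((isConstructibleMod_iff _).1 hG)).of_hom ((limit.isLimit _).conePointUniqueUpToIso hk).hom)
  cokernels_le := by
    rintro K ⟨φ, k, hk, hF, hG⟩
    exact (isConstructibleMod_iff _).2 ((consMod_cokernel φ ((isConstructibleMod_iff _).1 hF)
      ((isConstructibleMod_iff _).1 hG)).of_hom ((colimit.isColimit _).coconePointUniqueUpToIso hk).hom)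
  prop_X₂_of_shortExact := fun hS h₁ h₃ => (isConstructibleMod_iff _).2
    (consMod_extension hS ((isConstructibleMod_iff _).1 h₁) ((isConstructibleMod_iff _).1 h₃))

end Groth.Agent.EtShLib
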