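import Mathlib.AlgebraicGeometry.Morphisms.Etale
import Mathlib.AlgebraicGeometry.Morphisms.ClosedImmersion
import Mathlib.AlgebraicGeometry.Pullbacks
import Groth.Agent.HenselLib.EtaleLift

/-! Étale morphisms to a closed subscheme lift, locally, to étale morphisms to the ambient scheme. -/

set_option autoImplicit false
set_option linter.style.haveILetI false
set_option backward.isDefEq.respectTransparency false
universe u

open CategoryTheory CategoryTheory.Limits AlgebraicGeometry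

namespace Groth.Agent.EtShLib

theorem exists_lift_ring {R S T : CommRingCat.{u}} (φ : R ⟶ S) (hφ : Function.Surjective φ.hom) (ψ : S ⟶ T)
    (hψ : ψ.hom.Etale) :
    ∃ (A : CommRingCat.{u}) (α : R ⟶ A) (β : A ⟶ T), α.hom.Etale ∧ IsPushout α φ β ψ := by
  let I := RingHom.ker φ.hom
  let e : R ⧸ I ≃+* S := RingHom.quotientKerEquivOfSurjective hφ
  letI : Algebra R T := (ψ.hom.comp φ.hom).toAlgebra
  letI : Algebra (R ⧸ I) T := (ψ.hom.comp e.toRingHom).toAlgebra
  haveI : IsScalarTower R (R ⧸ I) T := IsScalarTower.of_algebraMap_eq fun _ => rfl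
  haveI : Algebra.Etale (R ⧸ I) T := by
    rw [← RingHom.etale_algebraMap]
    exact RingHom.Etale.respectsIso.2 ψ.hom e hψ
  obtain ⟨A, _, _, hA, β, hβ, hker⟩ := HenselLib.exists_etale_lift (A := R) I T
  refine ⟨CommRingCat.of A, CommRingCat.ofHom (algebraMap R A), CommRingCat.ofHom β.toRingHom, RingHom.etale_algebraMap.2 hA, ?_⟩
  have w : CommRingCat.ofHom (algebraMap R A) ≫ CommRingCat.ofHom β.toRingHom = φ ≫ ψ := by
    ext r
    exact β.commutes r
  have hk : ∀ (s : PushoutCocone (CommRingCat.ofHom (algebraMap R A)) φ), RingHom.ker β.toRingHom ≤ RingHom.ker s.inl.hom := by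
    intro s
    show RingHom.ker β ≤ _
    rw [hker, Ideal.map_le_iff_le_comap]
    intro r (hr : φ.hom r = 0)
    show s.inl.hom (algebraMap R A r) = 0
    have h2 := congrArg (fun t => t.hom r) s.condition
    exact h2.trans (by show s.inr.hom (φ.hom r) = 0; rw [hr, map_zero])
  refine IsPushout.of_isColimit' ⟨w⟩ (PushoutCocone.IsColimit.mk _
    (fun s => CommRingCat.ofHom (β.toRingHom.liftOfSurjective hβ ⟨s.inl.hom, hk s⟩)) (fun s => ?_) (fun s => ?_) (fun s m h1 _ => ?_))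
  · ext a
    exact β.toRingHom.liftOfRightInverse_comp_apply (Function.surjInv hβ) (Function.rightInverse_surjInv hβ) ⟨s.inl.hom, hk s⟩ a
  · ext x
    obtain ⟨r, rfl⟩ := hφ x
    show (β.toRingHom.liftOfSurjective hβ ⟨s.inl.hom, hk s⟩) (ψ.hom (φ.hom r)) = s.inr.hom (φ.hom r)
    rw [show ψ.hom (φ.hom r) = β.toRingHom (algebraMap R A r) from (β.commutes r).symm]
    refine (β.toRingHom.liftOfRightInverse_comp_apply (Function.surjInv hβ) (Function.rightInverse_surjInv hβ) ⟨s.inl.hom, hk s⟩ _).trans ?_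
    exact congrArg (fun t => t.hom r) s.condition
  · ext x
    obtain ⟨a, rfl⟩ := hβ x
    show m.hom (β a) = _
    refine Eq.trans ?_ (β.toRingHom.liftOfRightInverse_comp_apply (Function.surjInv hβ) (Function.rightInverse_surjInv hβ) ⟨s.inl.hom, hk s⟩ a).symm
    exact congrArg (fun t => t.hom a) h1

theorem exists_lift_affine {P U W : Scheme.{u}} [IsAffine P] [IsAffine U] [IsAffine W] (q : P ⟶ U) [IsClosedImmersion q]
    (g : W ⟶ P) [Etale g] : ∃ (U' : Scheme.{u}) (k : U' ⟶ U) (c : W ⟶ U'), Etale k ∧ IsPullback c g k q := by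
  have hψ : g.appTop.hom.Etale := HasRingHomProperty.appTop @Etale g inferInstance
  obtain ⟨A, α, β, hα, hpo⟩ := exists_lift_ring q.appTop
    (q.app_surjective ⊤ (isAffineOpen_top _)) g.appTop hψ
  haveI : Etale (Spec.map α) := (HasRingHomProperty.Spec_iff (P := @Etale)).2 hα
  refine ⟨Spec A, Spec.map α ≫ U.isoSpec.inv, W.isoSpec.hom ≫ Spec.map β, inferInstance, ?_⟩
  refine (isPullback_SpecMap_of_isPushout _ _ _ _ hpo).of_iso W.isoSpec.symm (Iso.refl _) P.isoSpec.symm U.isoSpec.symm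
    ?_ ?_ ?_ ?_
  · simp
  · exact Scheme.isoSpec_inv_naturality g
  · simp
  · exact Scheme.isoSpec_inv_naturality q

theorem exists_lift_closed {P U W : Scheme.{u}} (q : P ⟶ U) [IsClosedImmersion q] (g : W ⟶ P) [Etale g] (w : W) :
    ∃ (W₀ : W.Opens) (_ : w ∈ W₀) (U' : Scheme.{u}) (k : U' ⟶ U) (c : (W₀ : Scheme.{u}) ⟶ U'),
      Etale k ∧ IsPullback c (W₀.ι ≫ g) k q := by
  obtain ⟨U₀, hU₀, hu, -⟩ := exists_isAffineOpen_mem_and_subset (X := U) (x := q.base (g.base w)) (U := ⊤) trivial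
  obtain ⟨W₀, hW₀, hw, hle⟩ := exists_isAffineOpen_mem_and_subset (X := W) (x := w) (U := g ⁻¹ᵁ (q ⁻¹ᵁ U₀)) hu
  haveI : IsAffine U₀.toScheme := hU₀
  haveI : IsAffine W₀.toScheme := hW₀
  haveI : IsAffine (q ⁻¹ᵁ U₀).toScheme := hU₀.preimage q
  haveI : IsClosedImmersion (q ∣_ U₀) := MorphismProperty.IsStableUnderBaseChange.of_isPullback
    (isPullback_morphismRestrict q U₀).flip inferInstance
  let g₀ : W₀.toScheme ⟶ (q ⁻¹ᵁ U₀).toScheme :=
    IsOpenImmersion.lift (q ⁻¹ᵁ U₀).ι (W₀.ι ≫ g) (by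
      rintro _ ⟨x, rfl⟩
      rw [Scheme.Opens.range_ι]
      exact hle x.2)
  have hg₀ : g₀ ≫ (q ⁻¹ᵁ U₀).ι = W₀.ι ≫ g := IsOpenImmersion.lift_fac _ _ _
  haveI : Etale g₀ := by
    haveI : Etale (g₀ ≫ (q ⁻¹ᵁ U₀).ι) := by rw [hg₀]; infer_instance
    exact MorphismProperty.of_postcomp (W := @Etale) (W' := @Etale) g₀ (q ⁻¹ᵁ U₀).ι (inferInstanceAs (Etale (q ⁻¹ᵁ U₀).ι)) this
  obtain ⟨U', k, c, hk, hpb⟩ := exists_lift_affine (q ∣_ U₀) g₀
  haveI := hk
  refine ⟨W₀, hw, U', k ≫ U₀.ι, c, inferInstance, ?_⟩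
  rw [← hg₀]
  exact hpb.paste_vert (isPullback_morphismRestrict q U₀)

end Groth.Agent.EtShLib
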