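import Groth.Agent.EtShLib.Stalk
import Groth.Agent.EtShLib.LiftClosed

/-! Stalks of direct images at points where neighbourhoods upstairs come from neighbourhoods downstairs. -/

set_option autoImplicit false
set_option linter.unusedSectionVars false
set_option linter.style.haveILetI false
set_option backward.isDefEq.respectTransparency false
set_option backward.isDefEq.respectTransparency.types false
set_option synthInstance.maxHeartbeats 200000
set_option maxHeartbeats 1000000

universe u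

open CategoryTheory CategoryTheory.Limits AlgebraicGeometry Opposite

namespace Groth.Agent.EtShLib

variable {Z X : Scheme.{u}} (f : Z ⟶ X) {Ω : Type u} [Field Ω] [IsSepClosed Ω] (ξ : Spec (CommRingCat.of Ω) ⟶ Z)

/-- Étale neighbourhoods of `ξ` upstairs are refined by base changes of neighbourhoods downstairs. -/
def Refines : Prop :=
  ∀ (U : X.Etale) (u : Fib (ξ ≫ f) U) (W : Z.Etale) (g : W ⟶ (EtCoh.bc f).obj U) (w : Fib ξ W),
    w.map g = u.lift f ξ → ∃ (U' : X.Etale) (k : U' ⟶ U) (u' : Fib (ξ ≫ f) U') (h : (EtCoh.bc f).obj U' ⟶ W),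
      u'.map k = u ∧ (u'.lift f ξ).map h = w ∧ h ≫ g = (EtCoh.bc f).map k

theorem lift_map {U V : X.Etale} (g : V ⟶ U) (v : Fib (ξ ≫ f) V) :
    (v.lift f ξ).map ((EtCoh.bc f).map g) = (v.map g).lift f ξ := by
  conv_rhs => rw [← Fib.proj_lift f ξ v, ← Fib.proj_map, Fib.lift_proj]

section

variable {A : Type (u + 2)} [Category.{u + 1} A] [HasColimitsOfSize.{u, u} A] [HasProducts.{u} A]
  [((EtCoh.bc f).sheafPushforwardContinuous A X.smallEtaleTopology Z.smallEtaleTopology).IsRightAdjoint]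

/-- Direct image with values in `A`. -/
noncomputable abbrev pushA : Sheaf Z.smallEtaleTopology A ⥤ Sheaf X.smallEtaleTopology A :=
  (EtCoh.bc f).sheafPushforwardContinuous A X.smallEtaleTopology Z.smallEtaleTopology

/-- Comparison of the stalk of a direct image with the stalk upstairs. -/
noncomputable def compare (G : Sheaf Z.smallEtaleTopology A) : (stk (ξ ≫ f)).obj ((pushA f).obj G) ⟶ (stk ξ).obj G :=
  (stalkPull f ξ A).hom.app ((pushA f).obj G) ≫ (stk ξ).map ((adjA f A).counit.app G)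

@[reassoc]
theorem germ_compare (G : Sheaf Z.smallEtaleTopology A) (U : X.Etale) (u : Fib (ξ ≫ f) U) :
    germ (ξ ≫ f) ((pushA f).obj G) U u ≫ compare f ξ G = germ ξ G ((EtCoh.bc f).obj U) (u.lift f ξ) := by
  rw [compare, germ_stalkPull_assoc, germ_natural]
  have h := congrArg (fun t => t.hom.app (op U)) ((adjA f A).right_triangle_components G)
  exact (Category.assoc _ _ _).symm.trans ((congrArg (· ≫ germ ξ G _ (u.lift f ξ)) h).trans (Category.id_comp _))

variable {FA : A → A → Type*} {CA : A → Type (u + 1)} [∀ M N, FunLike (FA M N) (CA M) (CA N)]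
  [ConcreteCategory.{u + 1} A FA] [hfc : PreservesFilteredColimitsOfSize.{u, u} (forget A)]
  [hri : (forget A).ReflectsIsomorphisms]

include hfc hri

theorem isIso_compare (h : Refines f ξ) (G : Sheaf Z.smallEtaleTopology A) : IsIso (compare f ξ G) := by
  have hg : ∀ (U : X.Etale) (u : Fib (ξ ≫ f) U) (s : ToType (((pushA f).obj G).obj.obj (op U))),
      compare f ξ G (germ (ξ ≫ f) ((pushA f).obj G) U u s) = germ ξ G ((EtCoh.bc f).obj U) (u.lift f ξ) s :=
    fun U u s => (ConcreteCategory.comp_apply _ _ s).symm.trans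
      (congrArg (fun t : ((pushA f).obj G).obj.obj (op U) ⟶ (stk ξ).obj G => t s) (germ_compare f ξ G U u))
  rw [← isIso_iff_of_reflects_iso _ (forget A), isIso_iff_bijective]
  constructor
  · intro p q e
    obtain ⟨U, u, s, rfl⟩ := exists_germ (ξ ≫ f) p
    obtain ⟨V, g, v, t, hv, rfl⟩ := exists_germ_below (ξ ≫ f) q U u
    rw [← hv, ← germ_res_apply] at e ⊢
    have e' : germ ξ G _ (v.lift f ξ) (((pushA f).obj G).obj.map g.op s) = germ ξ G _ (v.lift f ξ) t :=
      (hg V v _).symm.trans (e.trans (hg V v t))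
    obtain ⟨W, k, w, hw, he⟩ := (germ_eq_iff ξ _ (v.lift f ξ) _ _).1 e'
    obtain ⟨U', k', u', h', hu', -, hk⟩ := h V v W k w hw
    rw [germ_eq_iff]
    refine ⟨U', k', u', hu', ?_⟩
    show G.obj.map ((EtCoh.bc f).map k').op _ = G.obj.map ((EtCoh.bc f).map k').op t
    rw [← hk, op_comp, G.obj.map_comp, ConcreteCategory.comp_apply, ConcreteCategory.comp_apply, he]
  · intro p
    obtain ⟨W, w, x, rfl⟩ := exists_germ ξ p
    let t : Fib (ξ ≫ f) (EtCoh.top X) := Fib.mk (ξ ≫ f) (Category.comp_id _)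
    let hterm : W ⟶ (EtCoh.bc f).obj (EtCoh.top X) :=
      MorphismProperty.Over.homMk (pullback.lift (W.hom ≫ f) W.hom (Category.comp_id _)) (by
        dsimp [EtCoh.bc]
        exact pullback.lift_snd _ _ _)
    have hw : w.map hterm = t.lift f ξ := by
      apply Fib.ext
      apply pullback.hom_ext
      · refine (Category.assoc _ _ _).trans ((congrArg (w.hom ≫ ·) (pullback.lift_fst _ _ _)).trans ?_)
        refine ((Category.assoc _ _ _).symm.trans ?_).trans (pullback.lift_fst _ _ _).symm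
        rw [w.w]
        rfl
      · refine (Category.assoc _ _ _).trans ((congrArg (w.hom ≫ ·) (pullback.lift_snd _ _ _)).trans ?_)
        exact w.w.trans (pullback.lift_snd _ _ _).symm
    obtain ⟨U', k, u', h', -, hh, -⟩ := h _ t W hterm w hw
    exact ⟨germ (ξ ≫ f) ((pushA f).obj G) U' u' (G.obj.map h'.op x), by
      refine (hg U' u' _).trans ?_
      rw [germ_res_apply, hh]⟩

theorem isIso_counit [Z.smallEtaleTopology.HasSheafCompose (forget A)]
    (h : ∀ (Ω : Type u) [Field Ω] [IsSepClosed Ω] (ξ : Spec (CommRingCat.of Ω) ⟶ Z), Refines f ξ)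
    (G : Sheaf Z.smallEtaleTopology A) : IsIso ((adjA f A).counit.app G) :=
  isIso_of_stalks _ fun Ω _ _ ξ => by
    haveI : IsIso ((stalkPull f ξ A).hom.app ((pushA f).obj G) ≫ (stk ξ).map ((adjA f A).counit.app G)) :=
      isIso_compare f ξ (h Ω ξ) G
    exact IsIso.of_isIso_comp_left ((stalkPull f ξ A).hom.app ((pushA f).obj G)) _

end

theorem refines_of_closedImmersion [IsClosedImmersion f] : Refines f ξ := by
  intro U u W g w hw
  let q : ((EtCoh.bc f).obj U).left ⟶ U.left := pullback.fst U.hom f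
  haveI : IsClosedImmersion q := inferInstanceAs (IsClosedImmersion (pullback.fst U.hom f))
  haveI := etale_left g
  haveI : AlgebraicGeometry.Etale U.hom := U.prop
  obtain ⟨W₀, hw₀, U', k, c, hk, hpb⟩ := exists_lift_closed q g.left w.pt
  haveI := hk
  let U'' : X.Etale := MorphismProperty.Over.mk _ (k ≫ U.hom) inferInstance
  let kk : U'' ⟶ U := MorphismProperty.Over.homMk k
  have sq := EtCoh.isPullback_bc_map f kk
  let e : ((EtCoh.bc f).obj U'').left ≅ (W₀ : Scheme.{u}) := (IsPullback.isoIsPullback _ _ hpb.flip sq).symm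
  have e1 : e.hom ≫ W₀.ι ≫ g.left = ((EtCoh.bc f).map kk).left :=
    IsPullback.isoIsPullback_inv_fst _ _ hpb.flip sq
  have e2 : e.hom ≫ c = (pullback.fst U''.hom f : ((EtCoh.bc f).obj U'').left ⟶ U''.left) :=
    IsPullback.isoIsPullback_inv_snd _ _ hpb.flip sq
  let h : (EtCoh.bc f).obj U'' ⟶ W := MorphismProperty.Over.homMk (e.hom ≫ W₀.ι) (by
    rw [← MorphismProperty.Over.w g, Category.assoc, ← Category.assoc W₀.ι, ← Category.assoc, e1]
    exact MorphismProperty.Over.w ((EtCoh.bc f).map kk))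
  let w₀ : Spec (CommRingCat.of Ω) ⟶ (W₀ : Scheme.{u}) := IsOpenImmersion.lift W₀.ι w.hom (by
    rintro _ ⟨a, rfl⟩
    rw [Subsingleton.elim a default, Scheme.Opens.range_ι]
    exact hw₀)
  have hw₀' : w₀ ≫ W₀.ι = w.hom := IsOpenImmersion.lift_fac _ _ _
  have e3 : (w₀ ≫ c) ≫ k = u.hom := by
    rw [Category.assoc, hpb.w, ← Category.assoc, ← Category.assoc, hw₀']
    refine (congrArg (fun t : Fib ξ ((EtCoh.bc f).obj U) => t.hom ≫ q) hw).trans ?_
    exact pullback.lift_fst _ _ _
  let u' : Fib (ξ ≫ f) U'' := Fib.mk (w₀ ≫ c) (by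
    show (w₀ ≫ c) ≫ k ≫ U.hom = ξ ≫ f
    rw [← Category.assoc, e3]
    exact u.w)
  have hku : u'.map kk = u := Fib.ext e3
  refine ⟨U'', kk, u', h, hku, ?_, ?_⟩
  · apply Fib.ext
    show (u'.lift f ξ).hom ≫ e.hom ≫ W₀.ι = w.hom
    rw [← hw₀', ← Category.assoc]
    refine congrArg (· ≫ W₀.ι) ?_
    rw [← Iso.eq_comp_inv]
    apply sq.hom_ext
    · rw [Category.assoc]
      refine Eq.trans ?_ (congrArg (w₀ ≫ ·) (IsPullback.isoIsPullback_hom_fst _ _ hpb.flip sq).symm)
      rw [← Category.assoc, hw₀']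
      have := congrArg Fib.hom ((lift_map f ξ kk u').trans ((congrArg (Fib.lift f ξ) hku).trans hw.symm))
      exact this
    · rw [Category.assoc]
      refine Eq.trans ?_ (congrArg (w₀ ≫ ·) (IsPullback.isoIsPullback_hom_snd _ _ hpb.flip sq).symm)
      exact pullback.lift_fst _ _ _
  · apply MorphismProperty.Over.Hom.ext
    show (e.hom ≫ W₀.ι) ≫ g.left = _
    rw [Category.assoc]
    exact e1

theorem refines_of_openImmersion [IsOpenImmersion f] : Refines f ξ := by
  intro U u W g w hw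
  haveI : AlgebraicGeometry.Etale W.hom := W.prop
  let U'' : X.Etale := MorphismProperty.Over.mk _ (W.hom ≫ f) inferInstance
  have hg : g.left ≫ (pullback.fst U.hom f : ((EtCoh.bc f).obj U).left ⟶ U.left) ≫ U.hom = W.hom ≫ f := by
    rw [← MorphismProperty.Over.w g, Category.assoc]
    exact congrArg (g.left ≫ ·) pullback.condition
  let kk : U'' ⟶ U := MorphismProperty.Over.homMk (g.left ≫ pullback.fst U.hom f) (by
    rw [Category.assoc]
    exact hg)
  let p : ((EtCoh.bc f).obj U'').left ⟶ W.left := pullback.fst U''.hom f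
  have hp : p ≫ W.hom = pullback.snd U''.hom f := by
    rw [← cancel_mono f, Category.assoc]
    exact pullback.condition
  let h : (EtCoh.bc f).obj U'' ⟶ W := MorphismProperty.Over.homMk p hp
  let u' : Fib (ξ ≫ f) U'' := Fib.mk w.hom (by
    show w.hom ≫ W.hom ≫ f = ξ ≫ f
    rw [← Category.assoc, w.w])
  refine ⟨U'', kk, u', h, ?_, Fib.ext (pullback.lift_fst _ _ _), ?_⟩
  · apply Fib.ext
    show w.hom ≫ g.left ≫ pullback.fst U.hom f = u.hom
    rw [← Category.assoc]
    refine (congrArg (fun t : Fib ξ ((EtCoh.bc f).obj U) => t.hom ≫ pullback.fst U.hom f) hw).trans ?_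
    exact pullback.lift_fst _ _ _
  · apply MorphismProperty.Over.Hom.ext
    show p ≫ g.left = ((EtCoh.bc f).map kk).left
    apply pullback.hom_ext
    · refine (Category.assoc _ _ _).trans ?_
      exact (EtCoh.isPullback_bc_map f kk).w.symm
    · refine (Category.assoc _ _ _).trans ((congrArg (p ≫ ·) (MorphismProperty.Over.w g)).trans (hp.trans ?_))
      exact (MorphismProperty.Over.w ((EtCoh.bc f).map kk)).symm

end Groth.Agent.EtShLib

namespace Groth.Agent.EtShLib

variable {Z X : Scheme.{u}} (i : Z ⟶ X)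

theorem exists_factor [IsPreimmersion i] {Ω : Type u} [Field Ω] (ξ : Spec (CommRingCat.of Ω) ⟶ X)
    (h : ξ.base default ∈ Set.range i.base) : ∃ ζ : Spec (CommRingCat.of Ω) ⟶ Z, ζ ≫ i = ξ := by
  obtain ⟨z, hz⟩ := h
  obtain ⟨⟨t, a⟩, rfl⟩ := (Scheme.SpecToEquivOfField Ω X).symm.surjective ξ
  obtain rfl : i.base z = t := by simp [Scheme.SpecToEquivOfField] at hz; exact hz
  have hs : Function.Surjective (i.residueFieldMap z).hom := fun y => by
    obtain ⟨y', rfl⟩ := Z.residue_surjective z y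
    obtain ⟨y'', rfl⟩ := i.stalkMap_surjective z y'
    exact ⟨X.residue (i.base z) y'', (congrArg (fun t => t.hom y'') (Scheme.residue_residueFieldMap i z))⟩
  haveI : IsIso (i.residueFieldMap z) :=
    (ConcreteCategory.isIso_iff_bijective _).2 ⟨(i.residueFieldMap z).hom.injective, hs⟩
  refine ⟨Spec.map (inv (i.residueFieldMap z) ≫ a) ≫ Z.fromSpecResidueField z, ?_⟩
  rw [Category.assoc, ← Scheme.Hom.SpecMap_residueFieldMap_fromSpecResidueField, ← Category.assoc, ← Spec.map_comp]
  simp [Scheme.SpecToEquivOfField]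

theorem subsingleton_sect_of_isEmpty (F : EtCoh.Ab X) (U : X.Etale) [IsEmpty U.left] :
    Subsingleton (F.obj.obj (op U)) :=
  ⟨fun s t => eq_of_germ (A := AddCommGrpCat.{u + 1}) F s t fun Ω _ _ ξ u => isEmptyElim u.pt⟩

theorem subsingleton_stalk {F : EtCoh.Ab X} {Ω : Type u} [Field Ω] [IsSepClosed Ω]
    (ξ : Spec (CommRingCat.of Ω) ⟶ X) {T : Set X} (hT : IsOpen T) (hξ : ξ.base default ∈ T)
    (h : ∀ U : X.Etale, Set.range U.hom.base ⊆ T → Subsingleton (F.obj.obj (op U))) :
    Subsingleton ((stk (A := AddCommGrpCat.{u + 1}) ξ).obj F) := by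
  refine ⟨fun p q => ?_⟩
  suffices ∀ p, p = (0 : (stk (A := AddCommGrpCat.{u + 1}) ξ).obj F) by rw [this p, this q]
  intro p
  obtain ⟨U, u, x, rfl⟩ := exists_germ (A := AddCommGrpCat.{u + 1}) ξ p
  haveI : AlgebraicGeometry.Etale U.hom := U.prop
  let T' : X.Opens := ⟨T, hT⟩
  let V : X.Etale := MorphismProperty.Over.mk _ ((U.hom ⁻¹ᵁ T').ι ≫ U.hom) inferInstance
  let g : V ⟶ U := MorphismProperty.Over.homMk (U.hom ⁻¹ᵁ T').ι
  haveI := h V (by
    rintro _ ⟨v, rfl⟩
    exact v.2)
  have hu : u.pt ∈ (U.hom ⁻¹ᵁ T' : U.left.Opens) := by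
    show U.hom.base u.pt ∈ T
    exact Eq.mpr (congrArg (· ∈ T) (congrArg (fun t : Spec (CommRingCat.of Ω) ⟶ X => t.base default) u.w)) hξ
  let v : Fib ξ V := Fib.mk (IsOpenImmersion.lift (U.hom ⁻¹ᵁ T').ι u.hom (by
    rintro _ ⟨a, rfl⟩
    rw [Subsingleton.elim a default]
    exact ⟨⟨_, hu⟩, rfl⟩)) (by
    show _ ≫ (U.hom ⁻¹ᵁ T').ι ≫ U.hom = ξ
    rw [IsOpenImmersion.lift_fac_assoc]
    exact u.w)
  have hv : v.map g = u := Fib.ext (IsOpenImmersion.lift_fac _ _ _)
  rw [← hv, ← germ_res_apply, Subsingleton.elim (F.obj.map g.op x) 0, map_zero]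

theorem subsingleton_push_stalk [IsClosedImmersion i] (G : EtCoh.Ab Z) {Ω : Type u} [Field Ω] [IsSepClosed Ω]
    (ξ : Spec (CommRingCat.of Ω) ⟶ X) (hξ : ξ.base default ∉ Set.range i.base) :
    Subsingleton ((stk (A := AddCommGrpCat.{u + 1}) ξ).obj ((EtCoh.push i).obj G)) := by
  refine subsingleton_stalk ξ (T := (Set.range i.base)ᶜ) i.isClosedEmbedding.isClosed_range.isOpen_compl hξ fun U hU => ?_
  haveI : IsEmpty ((EtCoh.bc i).obj U).left := ⟨fun p => by
    have hc : U.hom.base ((pullback.fst U.hom i).base p) = i.base ((pullback.snd U.hom i).base p) :=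
      congrArg (fun t : pullback U.hom i ⟶ X => t.base p) pullback.condition
    exact hU ⟨_, rfl⟩ ⟨_, hc.symm⟩⟩
  exact subsingleton_sect_of_isEmpty G ((EtCoh.bc i).obj U)

theorem counit_isIso_of_closedImmersion [IsClosedImmersion i] (G : EtCoh.Ab Z) :
    IsIso ((EtCoh.pullPushAdj i).counit.app G) :=
  isIso_counit i (fun Ω _ _ ξ => refines_of_closedImmersion i ξ) G

theorem counit_isIso_of_openImmersion [IsOpenImmersion i] (G : EtCoh.Ab Z) :
    IsIso ((EtCoh.pullPushAdj i).counit.app G) :=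
  isIso_counit i (fun Ω _ _ ξ => refines_of_openImmersion i ξ) G

theorem unit_isIso_of_vanish [IsClosedImmersion i] (F : EtCoh.Ab X)
    (h : ∀ U : X.Etale, Set.range U.hom.base ⊆ (Set.range i.base)ᶜ → Subsingleton (F.obj.obj (op U))) :
    IsIso ((EtCoh.pullPushAdj i).unit.app F) := by
  refine isIso_of_stalks (A := AddCommGrpCat.{u + 1}) _ fun Ω _ _ ξ => ?_
  by_cases hξ : ξ.base default ∈ Set.range i.base
  · obtain ⟨ζ, rfl⟩ := exists_factor i ξ hξ
    haveI := isIso_compare (A := AddCommGrpCat.{u + 1}) i ζ (refines_of_closedImmersion i ζ) ((EtCoh.pull i).obj F)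
    have e : (stk (ζ ≫ i)).map ((EtCoh.pullPushAdj i).unit.app F) ≫ compare i ζ ((EtCoh.pull i).obj F) =
        (stalkPull i ζ AddCommGrpCat.{u + 1}).hom.app F := by
      apply stk_hom_ext
      intro U u
      rw [← Category.assoc, germ_natural, Category.assoc]
      exact (congrArg (_ ≫ ·) (germ_compare i ζ _ U u)).trans (germ_stalkPull i ζ _ F U u).symm
    haveI : IsIso ((stk (ζ ≫ i)).map ((EtCoh.pullPushAdj i).unit.app F) ≫ compare i ζ ((EtCoh.pull i).obj F)) := by
      rw [e]; infer_instance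
    exact IsIso.of_isIso_comp_right _ (compare i ζ ((EtCoh.pull i).obj F))
  · haveI := subsingleton_push_stalk i ((EtCoh.pull i).obj F) ξ hξ
    haveI : Subsingleton ((stk (A := AddCommGrpCat.{u + 1}) ξ).obj ((𝟭 (EtCoh.Ab X)).obj F)) :=
      subsingleton_stalk (F := F) ξ (T := (Set.range i.base)ᶜ) i.isClosedEmbedding.isClosed_range.isOpen_compl hξ h
    exact (ConcreteCategory.isIso_iff_bijective _).2 ⟨fun a b _ => Subsingleton.elim a b, fun b => ⟨0, Subsingleton.elim (α := ((stk (A := AddCommGrpCat.{u + 1}) ξ).obj ((EtCoh.push i).obj ((EtCoh.pull i).obj F)) : Type (u + 1))) _ _⟩⟩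

end Groth.Agent.EtShLib
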