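import Groth.Agent.EtShLib.Constructible
import Groth.Agent.EtShLib.PushStalk
import Mathlib.Topology.Spectral.ConstructibleTopology
import Mathlib.AlgebraicGeometry.Morphisms.UniversallyOpen

/-! Loci attached to locally constant and constructible sheaves. -/

set_option autoImplicit false
set_option linter.unusedSectionVars false
set_option linter.style.haveILetI false
set_option backward.isDefEq.respectTransparency false
set_option backward.isDefEq.respectTransparency.types false
set_option synthInstance.maxHeartbeats 400000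
set_option maxHeartbeats 1000000

universe u v

open CategoryTheory CategoryTheory.Limits AlgebraicGeometry Opposite Topology

namespace Groth.Agent.EtShLib

section Top

variable {X : Type u} [TopologicalSpace X]

theorem isConstructible_inter_of_compact [CompactSpace X] [QuasiSeparatedSpace X] [PrespectralSpace X]
    {r W : Set X} (hr : IsConstructible r) (hW : IsOpen W) (hc : IsCompact (W ∩ r)) : IsConstructible (W ∩ r) := by
  let T := {V : Set X | IsOpen V ∧ IsCompact V ∧ V ⊆ W}
  obtain ⟨t, ht⟩ := hc.elim_finite_subcover (fun V : T => (V : Set X)) (fun V => V.2.1) (fun x hx => by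
    obtain ⟨V, ⟨hV1, hV2⟩, hxV, hVW⟩ := (PrespectralSpace.isTopologicalBasis (X := X)).exists_subset_of_mem_open hx.1 hW
    exact Set.mem_iUnion.2 ⟨⟨V, hV1, hV2, hVW⟩, hxV⟩)
  have : W ∩ r = (⋃ V ∈ t, (V : Set X)) ∩ r := by
    refine subset_antisymm (fun x hx => ⟨ht hx, hx.2⟩) ?_
    rintro x ⟨hV, hx⟩
    obtain ⟨V, -, hxV⟩ := Set.mem_iUnion₂.1 hV
    exact ⟨V.2.2.2 hxV, hx⟩
  rw [this]
  exact (IsConstructible.biUnion t.finite_toSet fun V _ => V.2.2.1.isConstructible V.2.1).inter hr

theorem isCompact_of_isConstructible [CompactSpace X] [QuasiSeparatedSpace X] [PrespectralSpace X]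
    {C : Set X} (hC : IsConstructible C) : IsCompact C := by
  rcases isEmpty_or_nonempty X with hX | hX
  · rw [Set.eq_empty_of_isEmpty C]; exact isCompact_empty
  let T := {V : Set X | IsOpen V ∧ IsCompact V}
  haveI : Nonempty T := ⟨⟨Set.univ, isOpen_univ, CompactSpace.isCompact_univ⟩⟩
  induction C, hC using IsConstructible.induction_of_isTopologicalBasis (b := fun V : T => (V : Set X)) with
  | basis => simpa [T] using (PrespectralSpace.isTopologicalBasis (X := X))
  | isCompact_basis i => exact i.2.2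
  | sdiff i s hs => exact i.2.2.diff (isOpen_biUnion fun j _ => j.2.1)
  | union s hs t ht h1 h2 => exact h1.union h2

theorem exists_finite_subcover_constructible [CompactSpace X] [QuasiSeparatedSpace X] [PrespectralSpace X] [QuasiSober X]
    {ι : Type v} (C : ι → Set X) (hC : ∀ i, IsConstructible (C i)) (hcov : (⋃ i, C i) = Set.univ) :
    ∃ t : Finset ι, (⋃ i ∈ t, C i) = Set.univ := by
  have key : ∀ {s : Set X}, IsConstructible s → IsOpen[constructibleTopology X] s ∧ IsOpen[constructibleTopology X] sᶜ := by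
    intro s hs
    induction hs using IsConstructible.empty_union_induction with
    | open_retrocompact U hU hU' =>
      exact ⟨hU'.isCompact.isOpen_constructibleTopology_of_isOpen hU,
        IsCompact.isOpen_constructibleTopology_of_isClosed (by rw [compl_compl]; exact hU'.isCompact) hU.isClosed_compl⟩
    | union a _ b _ ha hb =>
      refine ⟨@IsOpen.union _ _ _ (constructibleTopology X) ha.1 hb.1, ?_⟩
      rw [Set.compl_union]
      exact @IsOpen.inter _ (constructibleTopology X) _ _ ha.2 hb.2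
    | compl a _ ha => exact ⟨ha.2, by rw [compl_compl]; exact ha.1⟩
  obtain ⟨t, ht⟩ := (CompactSpace.isCompact_univ (X := WithConstructibleTopology X)).elim_finite_subcover
    (fun i => WithTopology.ofTopology ⁻¹' C i)
    (fun i => WithConstructibleTopology.isOpen_iff.2 (key (hC i)).1)
    (fun x _ => by
      obtain ⟨i, hi⟩ := Set.mem_iUnion.1 (hcov.ge (Set.mem_univ (WithTopology.ofTopology x)))
      exact Set.mem_iUnion.2 ⟨i, hi⟩)
  refine ⟨t, Set.eq_univ_of_forall fun x => ?_⟩
  obtain ⟨i, hi, hx⟩ := Set.mem_iUnion₂.1 (ht (Set.mem_univ (WithTopology.toTopology _ x)))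
  exact Set.mem_biUnion hi hx

end Top

variable {X : Scheme.{u}}

theorem isOpen_range_etale (U : X.Etale) : IsOpen (Set.range U.hom.base) := by
  haveI : AlgebraicGeometry.Etale U.hom := U.prop
  exact U.hom.isOpenMap.isOpen_range

theorem exists_fib_of_range {Ω : Type u} [Field Ω] [IsSepClosed Ω] (ξ : Spec (CommRingCat.of Ω) ⟶ X) {U : X.Etale}
    (h : ξ.base default ∈ Set.range U.hom.base) : Nonempty (Fib ξ U) := by
  obtain ⟨y, hy⟩ := h
  exact ⟨(exists_fib ξ U y hy).choose⟩

theorem range_eq_singleton {Ω : Type u} [Field Ω] (ξ : Spec (CommRingCat.of Ω) ⟶ X) :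
    Set.range ξ = {ξ.base default} :=
  Set.eq_singleton_iff_unique_mem.2 ⟨⟨default, rfl⟩, by rintro _ ⟨a, rfl⟩; rw [Subsingleton.elim a default]⟩

section Value

variable {A : Type (u + 2)} [Category.{u + 1} A] [HasColimitsOfSize.{u, u} A]
  {FA : A → A → Type*} {CA : A → Type (u + 1)} [∀ M N, FunLike (FA M N) (CA M) (CA N)]
  [ConcreteCategory.{u + 1} A FA]

theorem IsCst.nonempty_iso {F : Sheaf X.smallEtaleTopology A} {U U' : X.Etale} {M M' : A}
    {η : M ⟶ F.obj.obj (op U)} {η' : M' ⟶ F.obj.obj (op U')} (h : IsCst F U η) (h' : IsCst F U' η') {x : X}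
    (hx : x ∈ Set.range U.hom.base) (hx' : x ∈ Set.range U'.hom.base) : Nonempty (M ≅ M') := by
  obtain ⟨Ω, _, _, ξ, rfl⟩ := exists_geometric_pt x
  obtain ⟨u⟩ := exists_fib_of_range ξ hx
  obtain ⟨u'⟩ := exists_fib_of_range ξ hx'
  haveI := h Ω ξ u
  haveI := h' Ω ξ u'
  exact ⟨asIso (η ≫ germ ξ F U u) ≪≫ (asIso (η' ≫ germ ξ F U' u')).symm⟩

theorem LC.exists_value_of_connected {P : A → Prop} [ConnectedSpace X] {F : Sheaf X.smallEtaleTopology A} (h : LC P F) :
    ∃ M₀ : A, P M₀ ∧ ∀ x : X, ∃ (U : X.Etale) (y : U.left) (η : M₀ ⟶ F.obj.obj (op U)),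
      U.hom.base y = x ∧ IsCst F U η := by
  choose U y M η hy hM hη using h
  obtain ⟨x₀⟩ := (inferInstance : Nonempty X)
  refine ⟨M x₀, hM x₀, fun x => ?_⟩
  let S : Set X := ⋃ z : {z : X // Nonempty (M x₀ ≅ M z)}, Set.range (U z.1).hom.base
  let S' : Set X := ⋃ z : {z : X // ¬ Nonempty (M x₀ ≅ M z)}, Set.range (U z.1).hom.base
  have hS : IsClopen S := by
    have hd : Disjoint S S' := Set.disjoint_left.2 fun z hz hz' => by
      obtain ⟨a, ha⟩ := Set.mem_iUnion.1 hz
      obtain ⟨b, hb⟩ := Set.mem_iUnion.1 hz'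
      obtain ⟨e⟩ := a.2
      obtain ⟨e'⟩ := (hη a.1).nonempty_iso (hη b.1) ha hb
      exact b.2 ⟨e ≪≫ e'⟩
    refine ⟨⟨?_⟩, isOpen_iUnion fun z => isOpen_range_etale _⟩
    have : Sᶜ = S' := by
      refine subset_antisymm (fun z hz => ?_) (fun z hz hz' => Set.disjoint_left.1 hd hz' hz)
      by_cases hM : Nonempty (M x₀ ≅ M z)
      · exact absurd (show z ∈ S from Set.mem_iUnion.2 ⟨⟨z, hM⟩, y z, hy z⟩) hz
      · exact Set.mem_iUnion.2 ⟨⟨z, hM⟩, y z, hy z⟩
    rw [this]
    exact isOpen_iUnion fun z => isOpen_range_etale _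
  have hx : x ∈ S := by
    rw [hS.eq_univ ⟨x₀, Set.mem_iUnion.2 ⟨⟨x₀, ⟨Iso.refl _⟩⟩, y x₀, hy x₀⟩⟩]
    trivial
  obtain ⟨⟨z, ⟨e⟩⟩, w, hw⟩ := Set.mem_iUnion.1 hx
  exact ⟨U z, w, e.hom ≫ η z, hw, (hη z).of_hom e.hom⟩

end Value

theorem isLocallyConstructible_supp {F : EtCoh.Ab X} (hF : EtPBC.IsConstructible F) :
    IsLocallyConstructible (EtPBC.supp F) := by
  intro x
  obtain ⟨U, hU, hxU, -⟩ := exists_isAffineOpen_mem_and_subset (X := X) (x := x) (U := ⊤) trivial
  refine ⟨U, U.isOpen.mem_nhds hxU, U.isOpen, ?_⟩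
  show IsConstructible ((Subtype.val : ↥(U : Set X) → X) ⁻¹' EtPBC.supp F)
  obtain ⟨n, T, g, hi, hc, hd, hu, hl⟩ := (isConstructible_iff F).1 hF U hU
  haveI : IsAffine U.toScheme := hU
  haveI : CompactSpace ↥(U : Set X) := inferInstanceAs (CompactSpace U.toScheme)
  haveI : QuasiSeparatedSpace ↥(U : Set X) := inferInstanceAs (QuasiSeparatedSpace U.toScheme)
  haveI : PrespectralSpace ↥(U : Set X) := inferInstanceAs (PrespectralSpace U.toScheme)
  have key : ∀ i, IsConstructible ((Subtype.val : ↥(U : Set X) → X) ⁻¹' (EtPBC.supp F ∩ Set.range (g i))) := by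
    intro i
    choose V y M η hy hM hη using hl i
    let N : Set (T i) := ⋃ t : {t : T i // ¬ IsZero (M t)}, Set.range (V t.1).hom.base
    let N' : Set (T i) := ⋃ t : {t : T i // IsZero (M t)}, Set.range (V t.1).hom.base
    have hNN' : Disjoint N N' := Set.disjoint_left.2 fun z hz hz' => by
      obtain ⟨a, ha⟩ := Set.mem_iUnion.1 hz
      obtain ⟨b, hb⟩ := Set.mem_iUnion.1 hz'
      obtain ⟨e⟩ := (hη a.1).nonempty_iso (hη b.1) ha hb
      exact a.2 (b.2.of_iso e)
    have hNu : ∀ t, t ∈ N ∨ t ∈ N' := fun t => by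
      by_cases h : IsZero (M t)
      · exact Or.inr (Set.mem_iUnion.2 ⟨⟨t, h⟩, y t, hy t⟩)
      · exact Or.inl (Set.mem_iUnion.2 ⟨⟨t, h⟩, y t, hy t⟩)
    have hN : IsOpen N := isOpen_iUnion fun t => isOpen_range_etale _
    have hNc : IsClosed N := by
      rw [← isOpen_compl_iff, show Nᶜ = N' from subset_antisymm (fun t ht => (hNu t).resolve_left ht)
        (fun t ht ht' => Set.disjoint_left.1 hNN' ht' ht)]
      exact isOpen_iUnion fun t => isOpen_range_etale _
    have hsupp : EtPBC.supp F ∩ Set.range (g i) = (g i) '' N := by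
      refine subset_antisymm ?_ ?_
      · rintro x ⟨⟨Ω, _, _, ξ, hξ, hne⟩, hxr⟩
        have hx : ξ.base default = x := hξ.subset ⟨default, rfl⟩
        haveI := hi i
        obtain ⟨ζ, rfl⟩ := exists_factor (g i) ξ (hx ▸ hxr)
        refine ⟨ζ.base default, (hNu _).resolve_right fun hN' => hne ?_, hx⟩
        obtain ⟨⟨t, ht⟩, hh⟩ := Set.mem_iUnion.1 hN'
        obtain ⟨v⟩ := exists_fib_of_range ζ hh
        haveI := hη t Ω ζ v
        exact (ht.of_iso (asIso (η t ≫ germ ζ _ (V t) v)).symm).of_iso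
          ((stalkPull (g i) ζ AddCommGrpCat.{u + 1}).app F)
      · rintro _ ⟨s, hs, rfl⟩
        obtain ⟨Ω, _, _, ζ, rfl⟩ := exists_geometric_pt s
        refine ⟨⟨Ω, inferInstance, inferInstance, ζ ≫ g i, range_eq_singleton _, fun hz => ?_⟩, _, rfl⟩
        obtain ⟨⟨t, ht⟩, hh⟩ := Set.mem_iUnion.1 hs
        obtain ⟨v⟩ := exists_fib_of_range ζ hh
        haveI := hη t Ω ζ v
        exact ht ((hz.of_iso ((stalkPull (g i) ζ AddCommGrpCat.{u + 1}).app F).symm).of_iso
          (asIso (η t ≫ germ ζ _ (V t) v)))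
    rw [hsupp]
    haveI := hi i
    let r : Set ↥(U : Set X) := (Subtype.val : ↥(U : Set X) → X) ⁻¹' Set.range (g i)
    have hsub : Set.range (g i) ⊆ (U : Set X) := hu ▸ Set.subset_iUnion (fun i => Set.range (g i)) i
    haveI : CompactSpace (T i) := by
      have h1 : IsCompact (Set.range (g i)) := by
        have := (isCompact_of_isConstructible (hc i)).image continuous_subtype_val
        rwa [Set.image_preimage_eq_inter_range, Subtype.range_coe, Set.inter_eq_left.2 hsub] at this
      exact ⟨(g i).isEmbedding.isCompact_iff.2 (by rwa [Set.image_univ])⟩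
    obtain ⟨W, hW, hWN⟩ := (g i).isEmbedding.isInducing.isOpen_iff.1 hN
    have heq : (Subtype.val : ↥(U : Set X) → X) ⁻¹' ((g i) '' N) =
        ((Subtype.val : ↥(U : Set X) → X) ⁻¹' W) ∩ r := by
      ext ⟨z, hz⟩
      constructor
      · rintro ⟨s, hs, rfl⟩
        exact ⟨show g i s ∈ W from hWN.ge hs, ⟨s, rfl⟩⟩
      · rintro ⟨hzW, s, rfl⟩
        exact ⟨s, hWN.le hzW, rfl⟩
    rw [heq]
    refine isConstructible_inter_of_compact (hc i) (hW.preimage continuous_subtype_val) ?_
    rw [← heq, Topology.IsEmbedding.subtypeVal.isCompact_iff, Set.image_preimage_eq_inter_range, Subtype.range_coe,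
      Set.inter_eq_left.2 ((Set.image_subset_range _ _).trans hsub)]
    exact hNc.isCompact.image (g i).continuous
  have htot : (Subtype.val : ↥(U : Set X) → X) ⁻¹' EtPBC.supp F =
      ⋃ i, (Subtype.val : ↥(U : Set X) → X) ⁻¹' (EtPBC.supp F ∩ Set.range (g i)) := by
    rw [← Set.preimage_iUnion, ← Set.inter_iUnion, hu]
    ext ⟨z, hz⟩
    exact ⟨fun h => ⟨h, hz⟩, fun h => h.1⟩
  rw [htot]
  exact IsConstructible.iUnion key

theorem isCons_of_strata [CompactSpace X] [QuasiSeparatedSpace X] {F : EtCoh.Ab X} {ι : Type u} (T : ι → Scheme.{u})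
    (g : ∀ i, T i ⟶ X) [∀ i, IsImmersion (g i)] (hc : ∀ i, IsConstructible (Set.range (g i)))
    (hcov : (⋃ i, Set.range (g i)) = Set.univ)
    (h : ∀ i, IsCons (A := AddCommGrpCat.{u + 1}) FinP ((pullA (g i) AddCommGrpCat.{u + 1}).obj F)) :
    IsCons (A := AddCommGrpCat.{u + 1}) FinP F := by
  obtain ⟨t, ht⟩ := exists_finite_subcover_constructible _ hc hcov
  haveI : ∀ i, CompactSpace (T i) := fun i =>
    ⟨(g i).isEmbedding.isCompact_iff.2 (by rw [Set.image_univ]; exact isCompact_of_isConstructible (hc i))⟩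
  haveI : ∀ i, QuasiSeparatedSpace (T i) := fun i => quasiSeparatedSpace_of_quasiSeparated (g i)
  choose n E e hi hce hd hu hl using fun i => adapted_univ_of_isCons (h i)
  haveI : ∀ q : Σ i : t, Fin (n i), IsImmersion (e q.1 q.2 ≫ g q.1) := fun q =>
    haveI := hi q.1 q.2
    inferInstance
  refine isCons_of_adapted_univ (adapted_of_cover isOpen_univ (fun q : Σ i : t, Fin (n i) => E q.1 q.2)
    (fun q => e q.1 q.2 ≫ g q.1) (fun q => ?_) (fun x _ => ?_) fun q => (hl q.1 q.2).of_pull)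
  · obtain ⟨i, j⟩ := q
    have h1 : IsConstructible (Set.range (e i j)) :=
      IsConstructible.preimage_of_isOpenEmbedding (f := fun s => (⟨s, trivial⟩ : (Set.univ : Set (T i))))
        (Homeomorph.Set.univ (T i)).symm.isOpenEmbedding (hce i j)
    have h2 : IsConstructible (Set.range (e i j ≫ g i)) := by
      rw [Scheme.Hom.comp_base, TopCat.coe_comp, Set.range_comp]
      exact isConstructible_image_of_isEmbedding (g i).isEmbedding (hc i) h1
    exact h2.preimage_of_isOpenEmbedding isOpen_univ.isOpenEmbedding_subtypeVal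
  · obtain ⟨i, hi', s, rfl⟩ := Set.mem_iUnion₂.1 (ht.ge (Set.mem_univ x))
    obtain ⟨j, z, rfl⟩ := Set.mem_iUnion.1 ((hu i).ge (Set.mem_univ s))
    exact Set.mem_iUnion.2 ⟨⟨⟨i, hi'⟩, j⟩, z, rfl⟩

end Groth.Agent.EtShLib
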