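import Groth.Agent.EtShLib.Shriek

/-! Restriction along an étale morphism is inverse image. -/

set_option autoImplicit false
set_option linter.unusedSectionVars false
set_option linter.style.haveILetI false
set_option backward.isDefEq.respectTransparency false
set_option backward.isDefEq.respectTransparency.types false
set_option synthInstance.maxHeartbeats 400000
set_option maxHeartbeats 1000000

universe u

open CategoryTheory CategoryTheory.Limits AlgebraicGeometry Opposite

namespace Groth.Agent.EtShLib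

variable {U X : Scheme.{u}} (j : U ⟶ X) [AlgebraicGeometry.Etale j] [EtShriek.JCont j]

theorem nonempty_pull_iso_restrAlong (G : EtCoh.Ab X) :
    Nonempty ((pullA j AddCommGrpCat.{u + 1}).obj G ≅ (EtShriek.restrAlong j).obj G) := by
  let k : ∀ W : X.Etale, (EtShriek.compEtale j).obj ((EtCoh.bc j).obj W) ⟶ W := fun W =>
    MorphismProperty.Over.homMk (pullback.fst W.hom j) pullback.condition
  have hk : ∀ {W W' : X.Etale} (g : W ⟶ W'),
      (EtShriek.compEtale j).map ((EtCoh.bc j).map g) ≫ k W' = k W ≫ g := fun g =>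
    MorphismProperty.Over.Hom.ext (EtCoh.isPullback_bc_map j g).w
  let η : G ⟶ ((EtCoh.bc j).sheafPushforwardContinuous AddCommGrpCat.{u + 1} X.smallEtaleTopology
      U.smallEtaleTopology).obj ((EtShriek.restrAlong j).obj G) := ObjectProperty.homMk
    { app := fun W => G.obj.map (k W.unop).op
      naturality := fun W W' g => by
        show G.obj.map g ≫ G.obj.map (k W'.unop).op =
          G.obj.map (k W.unop).op ≫ G.obj.map ((EtShriek.compEtale j).map ((EtCoh.bc j).map g.unop)).op
        rw [← Functor.map_comp, ← Functor.map_comp, ← Quiver.Hom.op_unop g, ← op_comp, ← op_comp, hk]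
        rfl }
  let θ := ((adjA j AddCommGrpCat.{u + 1}).homEquiv G _).symm η
  haveI : IsIso θ := isIso_of_stalks (A := AddCommGrpCat.{u + 1}) θ fun Ω _ _ u => by
    haveI := isIso_restrStalk j G (u ≫ j) ⟨u, rfl⟩
    have e : (stalkPull j u AddCommGrpCat.{u + 1}).hom.app G ≫ (stk (A := AddCommGrpCat.{u + 1}) u).map θ ≫
        restrStalk j G (u ≫ j) ⟨u, rfl⟩ = 𝟙 _ := by
      apply stk_hom_ext
      intro W w
      have hθ : ((adjA j AddCommGrpCat.{u + 1}).unit.app G).hom.app (op W) ≫
          θ.hom.app (op ((EtCoh.bc j).obj W)) = G.obj.map (k W).op := by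
        refine congrArg (fun t : G ⟶ _ => t.hom.app (op W)) (?_ :
          (adjA j AddCommGrpCat.{u + 1}).unit.app G ≫
            ((EtCoh.bc j).sheafPushforwardContinuous AddCommGrpCat.{u + 1} X.smallEtaleTopology
              U.smallEtaleTopology).map θ = η)
        exact ((adjA j AddCommGrpCat.{u + 1}).homEquiv_unit (f := θ)).symm.trans (Equiv.apply_symm_apply _ _)
      rw [Category.comp_id, ← Category.assoc, germ_stalkPull, Category.assoc,
        ← Category.assoc (germ u _ _ _), germ_natural, Category.assoc]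
      refine (congrArg (fun t => _ ≫ _ ≫ t)
        (germ_restrStalk j G (u ≫ j) ⟨u, rfl⟩ ((EtCoh.bc j).obj W) (w.lift j u))).trans ?_
      rw [← Category.assoc, hθ, germ_res]
      exact congrArg (germ (u ≫ j) G W) (Fib.ext (pullback.lift_fst _ _ _))
    haveI : IsIso ((stalkPull j u AddCommGrpCat.{u + 1}).hom.app G ≫ (stk (A := AddCommGrpCat.{u + 1}) u).map θ ≫
        restrStalk j G (u ≫ j) ⟨u, rfl⟩) := by rw [e]; infer_instance
    haveI := IsIso.of_isIso_comp_left ((stalkPull j u AddCommGrpCat.{u + 1}).hom.app G)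
      ((stk (A := AddCommGrpCat.{u + 1}) u).map θ ≫ restrStalk j G (u ≫ j) ⟨u, rfl⟩)
    exact IsIso.of_isIso_comp_right _ (restrStalk j G (u ≫ j) ⟨u, rfl⟩)
  exact ⟨asIso θ⟩

theorem isIso_extZero_map_stalk [Mono j] {F G : EtCoh.Ab U} (b : F ⟶ G) {Ω : Type u} [Field Ω] [IsSepClosed Ω]
    (u : Spec (CommRingCat.of Ω) ⟶ U) [IsIso ((stk (A := AddCommGrpCat.{u + 1}) u).map b)] :
    IsIso ((stk (A := AddCommGrpCat.{u + 1}) (u ≫ j)).map ((EtShriek.extZero j).map b)) := by
  haveI := isIso_inclStalk j F (u ≫ j) ⟨u, rfl⟩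
  haveI := isIso_inclStalk j G (u ≫ j) ⟨u, rfl⟩
  haveI : IsIso (inclStalk j F (u ≫ j) ⟨u, rfl⟩ ≫
      (stk (A := AddCommGrpCat.{u + 1}) (u ≫ j)).map ((EtShriek.extZero j).map b)) := by
    rw [inclStalk_natural j b (u ≫ j) ⟨u, rfl⟩]; infer_instance
  exact IsIso.of_isIso_comp_left (inclStalk j F (u ≫ j) ⟨u, rfl⟩) _

theorem isIso_unit_stalk_closed {Z : Scheme.{u}} (i : Z ⟶ X) [IsClosedImmersion i] (F : EtCoh.Ab X) {Ω : Type u}
    [Field Ω] [IsSepClosed Ω] (ζ : Spec (CommRingCat.of Ω) ⟶ Z) :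
    IsIso ((stk (A := AddCommGrpCat.{u + 1}) (ζ ≫ i)).map ((EtCoh.pullPushAdj i).unit.app F)) := by
  haveI := isIso_compare (A := AddCommGrpCat.{u + 1}) i ζ (refines_of_closedImmersion i ζ) ((EtCoh.pull i).obj F)
  have e : (stk (A := AddCommGrpCat.{u + 1}) (ζ ≫ i)).map ((EtCoh.pullPushAdj i).unit.app F) ≫
      compare i ζ ((EtCoh.pull i).obj F) = (stalkPull i ζ AddCommGrpCat.{u + 1}).hom.app F := by
    apply stk_hom_ext
    intro V v
    rw [← Category.assoc, germ_natural, Category.assoc]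
    exact (congrArg (_ ≫ ·) (germ_compare i ζ _ V v)).trans (germ_stalkPull i ζ _ F V v).symm
  haveI : IsIso ((stk (A := AddCommGrpCat.{u + 1}) (ζ ≫ i)).map ((EtCoh.pullPushAdj i).unit.app F) ≫
      compare i ζ ((EtCoh.pull i).obj F)) := by rw [e]; infer_instance
  exact IsIso.of_isIso_comp_right _ (compare i ζ ((EtCoh.pull i).obj F))

end Groth.Agent.EtShLib
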