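import Groth.Agent.EtShLib.SpecGen
import Groth.Agent.EtShLib.RestrPull
import Groth.Agent.EtShLib.ConstSheaf
import Groth.Agent.EtShLib.Constructible
import Groth.Agent.EtShLib.Locus

/-! Local constancy near a point and specialisation maps. -/

set_option autoImplicit false
set_option linter.unusedSectionVars false
set_option linter.style.haveILetI false
set_option backward.isDefEq.respectTransparency false
set_option backward.isDefEq.respectTransparency.types false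
set_option synthInstance.maxHeartbeats 400000
set_option maxHeartbeats 1000000

universe u

open CategoryTheory CategoryTheory.Limits AlgebraicGeometry Opposite Topology

namespace Groth.Agent.EtShLib

variable {X : Scheme.{u}}

theorem exists_arrow_fib' (V : X.Etale) {Ω Ω' : Type u} [Field Ω] [IsSepClosed Ω] [Field Ω'] [IsSepClosed Ω']
    {ζ : Spec (CommRingCat.of Ω) ⟶ X} {ξ : Spec (CommRingCat.of Ω') ⟶ X}
    (a : Fib ζ V) (b : Fib ξ V) (h : b.pt ⤳ a.pt) :
    ∃ φ : Scheme.pointSmallEtale ξ ⟶ Scheme.pointSmallEtale ζ, φ.hom.app V a = b := by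
  obtain ⟨aS, haS⟩ : ∃ aS : Spec (CommRingCat.of Ω) ⟶ V.left, aS = a.hom := ⟨_, rfl⟩
  obtain ⟨bS, hbS⟩ : ∃ bS : Spec (CommRingCat.of Ω') ⟶ V.left, bS = b.hom := ⟨_, rfl⟩
  obtain rfl : aS ≫ str V = ζ := haS ▸ a.w
  obtain rfl : bS ≫ str V = ξ := hbS ▸ b.w
  obtain rfl : a = Fib.mk aS rfl := Fib.ext haS.symm
  obtain rfl : b = Fib.mk bS rfl := Fib.ext hbS.symm
  obtain ⟨φ⟩ := exists_spec_arrow' aS bS h
  refine ⟨⟨(fiberIso (str V) aS).inv ≫ Functor.whiskerLeft (EtCoh.bc (str V)) φ.hom ≫ (fiberIso (str V) bS).hom⟩, ?_⟩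
  let δ : EtCoh.top V.left ⟶ (EtCoh.bc (str V)).obj V :=
    MorphismProperty.Over.homMk (pullback.lift (𝟙 _) (𝟙 _) rfl) (pullback.lift_snd _ _ _)
  have hlift : ∀ {Ω₀ : Type u} [Field Ω₀] [IsSepClosed Ω₀] (θ : Spec (CommRingCat.of Ω₀) ⟶ V.left)
      (t : Fib θ (EtCoh.top V.left)), t.map δ = (Fib.mk (U := V) θ rfl : Fib (θ ≫ str V) V).lift (str V) θ := by
    intro Ω₀ _ _ θ t
    have ht : t.hom = θ := (Category.comp_id _).symm.trans t.w
    apply Fib.ext
    rw [Fib.map_hom]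
    show t.hom ≫ pullback.lift (𝟙 _) (𝟙 _) _ = pullback.lift θ θ _
    apply pullback.hom_ext <;> simp [ht]
  let tζ : Fib aS (EtCoh.top V.left) := Fib.mk aS (Category.comp_id _)
  show Fib.proj (str V) bS (φ.hom.app ((EtCoh.bc (str V)).obj V)
    (Fib.lift (str V) aS (Fib.mk (U := V) aS rfl : Fib (aS ≫ str V) V))) = _
  rw [← hlift aS tζ]
  have hn : φ.hom.app ((EtCoh.bc (str V)).obj V) (tζ.map δ) = Fib.map δ (φ.hom.app (EtCoh.top V.left) tζ) :=
    NatTrans.naturality_apply φ.hom δ tζ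
  rw [hn, hlift bS, Fib.proj_lift]

section Generic

variable {A : Type (u + 2)} [Category.{u + 1} A] [HasColimitsOfSize.{u, u} A]
  {FA : A → A → Type*} {CA : A → Type (u + 1)} [∀ M N, FunLike (FA M N) (CA M) (CA N)]
  [ConcreteCategory.{u + 1} A FA]

theorem germ_spec {F : Sheaf X.smallEtaleTopology A} {Ω Ω' : Type u} [Field Ω] [IsSepClosed Ω] [Field Ω']
    [IsSepClosed Ω'] {ζ : Spec (CommRingCat.of Ω) ⟶ X} {ξ : Spec (CommRingCat.of Ω') ⟶ X}
    (φ : Scheme.pointSmallEtale ξ ⟶ Scheme.pointSmallEtale ζ) (U : X.Etale) (u : Fib ζ U) :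
    germ ζ F U u ≫ (GrothendieckTopology.Point.Hom.sheafFiber (A := A) φ).app F = germ ξ F U (φ.hom.app U u) := by
  show (pt ζ).toPresheafFiber U u F.obj ≫
    (GrothendieckTopology.Point.Hom.presheafFiber (A := A) φ).app F.obj = _
  rw [GrothendieckTopology.Point.Hom.presheafFiber_app]
  exact (pt ζ).toPresheafFiber_presheafFiberDesc (P := F.obj) _ _ U u

theorem isIso_spec_of_isCst {F : Sheaf X.smallEtaleTopology A} {V : X.Etale} {M : A} {η : M ⟶ F.obj.obj (op V)}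
    (hη : IsCst F V η) {Ω Ω' : Type u} [Field Ω] [IsSepClosed Ω] [Field Ω'] [IsSepClosed Ω']
    {ξ : Spec (CommRingCat.of Ω) ⟶ X} {ξ' : Spec (CommRingCat.of Ω') ⟶ X}
    (φ : Scheme.pointSmallEtale ξ' ⟶ Scheme.pointSmallEtale ξ) (a : Fib ξ V) :
    IsIso ((GrothendieckTopology.Point.Hom.sheafFiber (A := A) φ).app F) := by
  haveI := hη Ω ξ a
  haveI := hη Ω' ξ' (φ.hom.app V a)
  haveI : IsIso ((η ≫ germ ξ F V a) ≫ (GrothendieckTopology.Point.Hom.sheafFiber (A := A) φ).app F) := by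
    rw [Category.assoc, germ_spec]; infer_instance
  exact IsIso.of_isIso_comp_left (η ≫ germ ξ F V a) _

/-- The geometric stalks of a diagram of locally constant sheaves on a connected scheme all agree. -/
theorem nonempty_stalk_iso {J : Type*} [Category J] [ConnectedSpace X] [TopologicalSpace.NoetherianSpace X]
    (F : J ⥤ Sheaf X.smallEtaleTopology A) {P : A → Prop} (hF : ∀ n, LC P (F.obj n))
    {Ω : Type u} [Field Ω] [IsSepClosed Ω] (s : Spec (CommRingCat.of Ω) ⟶ X)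
    {Ω' : Type u} [Field Ω'] [IsSepClosed Ω'] (s' : Spec (CommRingCat.of Ω') ⟶ X) :
    Nonempty (F ⋙ stk (A := A) s ≅ F ⋙ stk (A := A) s') := by
  have step : ∀ {Ω₁ Ω₂ : Type u} [Field Ω₁] [IsSepClosed Ω₁] [Field Ω₂] [IsSepClosed Ω₂]
      (a : Spec (CommRingCat.of Ω₁) ⟶ X) (b : Spec (CommRingCat.of Ω₂) ⟶ X), b.base default ⤳ a.base default →
      Nonempty (F ⋙ stk (A := A) a ≅ F ⋙ stk (A := A) b) := by
    intro Ω₁ Ω₂ _ _ _ _ a b h
    obtain ⟨φ⟩ := exists_spec_arrow' a b h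
    let t : F ⋙ stk (A := A) a ⟶ F ⋙ stk (A := A) b :=
      Functor.whiskerLeft F (GrothendieckTopology.Point.Hom.sheafFiber (A := A) φ)
    haveI : ∀ n, IsIso (t.app n) := fun n => by
      obtain ⟨V, y, M, η, hy, -, hη⟩ := hF n (a.base default)
      obtain ⟨w, -⟩ := exists_fib a V y hy
      exact isIso_spec_of_isCst hη φ w
    haveI : IsIso t := NatIso.isIso_of_isIso_app t
    exact ⟨asIso t⟩
  let C : Set X := {x | ∀ (Ω₂ : Type u) [Field Ω₂] [IsSepClosed Ω₂] (b : Spec (CommRingCat.of Ω₂) ⟶ X),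
    b.base default = x → Nonempty (F ⋙ stk (A := A) s ≅ F ⋙ stk (A := A) b)}
  have hup : ∀ x y : X, x ⤳ y → (x ∈ C ↔ y ∈ C) := by
    intro x y hxy
    constructor
    · intro hx Ω₂ _ _ b hb
      obtain ⟨Ω₁, _, _, a, ha⟩ := exists_geometric_pt x
      obtain ⟨e⟩ := hx Ω₁ a ha
      obtain ⟨e'⟩ := step b a (ha.symm ▸ hb.symm ▸ hxy)
      exact ⟨e ≪≫ e'.symm⟩
    · intro hy Ω₂ _ _ b hb
      obtain ⟨Ω₁, _, _, a, ha⟩ := exists_geometric_pt y
      obtain ⟨e⟩ := hy Ω₁ a ha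
      obtain ⟨e'⟩ := step a b (ha.symm ▸ hb.symm ▸ hxy)
      exact ⟨e ≪≫ e'⟩
  have hclopen : ∀ S : Set X, (∀ x y : X, x ⤳ y → (x ∈ S ↔ y ∈ S)) → IsClosed S := by
    intro S hS
    have : S = ⋃₀ {Z ∈ irreducibleComponents X | Z ⊆ S} := by
      refine subset_antisymm (fun x hx => ⟨irreducibleComponent x, ⟨irreducibleComponent_mem_irreducibleComponents x,
        fun z hz => ?_⟩, mem_irreducibleComponent⟩) (Set.sUnion_subset fun Z hZ => hZ.2)
      let c : irreducibleComponents X := ⟨irreducibleComponent x, irreducibleComponent_mem_irreducibleComponents x⟩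
      have hg := genericPoints.isGenericPoint_ofComponent c
      exact (hS _ _ (hg.specializes hz)).1 ((hS _ _ (hg.specializes mem_irreducibleComponent)).2 hx)
    rw [this, Set.sUnion_eq_biUnion]
    exact (TopologicalSpace.NoetherianSpace.finite_irreducibleComponents.subset fun Z hZ => hZ.1).isClosed_biUnion
      fun Z hZ => isClosed_of_mem_irreducibleComponents Z hZ.1
  have hC : IsClopen C := ⟨hclopen C hup,
    isClosed_compl_iff.1 (hclopen Cᶜ fun x y h => not_congr (hup x y h))⟩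
  have hs : s.base default ∈ C := fun Ω₂ _ _ b hb => step s b (hb ▸ specializes_rfl)
  have := hC.eq_univ ⟨_, hs⟩
  exact (this.ge (Set.mem_univ (s'.base default))) Ω' s' rfl

end Generic

theorem exists_mem_specializes_of_mem_closure [CompactSpace X] [QuasiSeparatedSpace X] {E : Set X}
    (hE : IsConstructible E) {v : X} (hv : v ∈ closure E) : ∃ e ∈ E, e ⤳ v := by
  by_contra hne
  let C : Option {V : X.Opens // IsCompact (V : Set X) ∧ v ∈ V} → Set X := fun o => o.elim Eᶜ fun V => (V.1 : Set X)ᶜ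
  obtain ⟨t, ht⟩ := exists_finite_subcover_constructible C
    (fun o => match o with
      | none => hE.compl
      | some V => (V.2.1.isConstructible V.1.isOpen).compl)
    (Set.eq_univ_of_forall fun p => by
      by_cases hp : p ∈ E
      · have : ¬ p ⤳ v := fun h => hne ⟨p, hp, h⟩
        obtain ⟨O, hO, hvO, hpO⟩ := not_specializes_iff_exists_open.1 this
        obtain ⟨_, ⟨V, hV, rfl⟩, hvV, hVO⟩ := X.isBasis_affineOpens.exists_subset_of_mem_open hvO hO
        exact Set.mem_iUnion.2 ⟨some ⟨V, IsAffineOpen.isCompact hV, hvV⟩, fun h => hpO (hVO h)⟩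
      · exact Set.mem_iUnion.2 ⟨none, hp⟩)
  classical
  let O : Set X := ⋂ o ∈ t, o.elim Set.univ fun V => (V.1 : Set X)
  have hO : IsOpen O := isOpen_biInter_finset fun o _ => match o with
    | none => isOpen_univ
    | some V => V.1.isOpen
  have hvO : v ∈ O := Set.mem_iInter₂.2 fun o _ => match o with
    | none => trivial
    | some V => V.2.2
  obtain ⟨p, hpO, hpE⟩ := mem_closure_iff.1 hv O hO hvO
  obtain ⟨o, ho, hp⟩ := Set.mem_iUnion₂.1 (ht.ge (Set.mem_univ p))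
  rcases o with _ | V
  · exact hp hpE
  · exact hp (Set.mem_iInter₂.1 hpO _ ho)

/-- The constant sheaf is constructible. -/
theorem isCons_const [CompactSpace X] [QuasiSeparatedSpace X] (M : AddCommGrpCat.{u + 1}) [Finite M] :
    IsCons (A := AddCommGrpCat.{u + 1}) FinP ((constantSheaf X.smallEtaleTopology AddCommGrpCat.{u + 1}).obj M) := by
  refine isCons_of_adapted_univ (adapted_of_cover isOpen_univ (fun _ : Fin 1 => X) (fun _ => 𝟙 X) (fun _ => ?_)
    (fun x _ => Set.mem_iUnion.2 ⟨0, x, rfl⟩) fun _ => LC.pull fun x => ⟨EtCoh.top X, x, M, _, rfl, ‹_›, isCst_cstUnit M⟩)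
  have : (Subtype.val : ↥(Set.univ : Set X) → X) ⁻¹' Set.range (𝟙 X : X ⟶ X) = Set.univ :=
    Set.eq_univ_of_forall fun p => ⟨p.1, rfl⟩
  rw [this]
  exact IsConstructible.univ

/-- A constructible sheaf with bijective specialisation maps to `ξ` is constant near `ξ`. -/
theorem exists_cst_of_isIso_spec {F : EtCoh.Ab X} (hF : IsCons (A := AddCommGrpCat.{u + 1}) FinP F)
    {Ω : Type u} [Field Ω] [IsSepClosed Ω] (ξ : Spec (CommRingCat.of Ω) ⟶ X)
    [hM : Finite ((stk (A := AddCommGrpCat.{u + 1}) ξ).obj F)]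
    (h : ∀ (Ω' : Type u) [Field Ω'] [IsSepClosed Ω'] (ξ' : Spec (CommRingCat.of Ω') ⟶ X)
      (φ : Scheme.pointSmallEtale ξ' ⟶ Scheme.pointSmallEtale ξ),
      IsIso ((GrothendieckTopology.Point.Hom.sheafFiber (A := AddCommGrpCat.{u + 1}) φ).app F)) :
    ∃ (W : X.Etale) (η : (stk (A := AddCommGrpCat.{u + 1}) ξ).obj F ⟶ F.obj.obj (op W)),
      ξ.base default ∈ Set.range W.hom.base ∧ IsCst F W η := by
  let M := (stk (A := AddCommGrpCat.{u + 1}) ξ).obj F
  obtain ⟨u₀⟩ := exists_fib_of_range ξ (U := EtCoh.top X) ⟨ξ.base default, rfl⟩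
  obtain ⟨V₁, -, v₁, σ, -, hσ⟩ := lifts_Ab (M := M) F ξ (EtCoh.top X) u₀ (𝟙 _)
  obtain ⟨W₀, k, w₀, ⟨hWa, -⟩, hw₀⟩ := exists_small_below ξ V₁ v₁
  haveI := hWa
  let σ₀ := σ ≫ F.obj.map k.op
  have hσ₀ : σ₀ ≫ germ ξ F W₀ w₀ = 𝟙 M := by
    rw [Category.assoc, germ_res, hw₀]; exact hσ
  let π := str W₀
  let G := (pullA π AddCommGrpCat.{u + 1}).obj F
  have hG : IsCons (A := AddCommGrpCat.{u + 1}) FinP G := hF.pull
  let Y := W₀.left
  let δ : EtCoh.top Y ⟶ (EtCoh.bc π).obj W₀ :=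
    MorphismProperty.Over.homMk (pullback.lift (𝟙 _) (𝟙 _) rfl) (pullback.lift_snd _ _ _)
  let τ : M ⟶ G.obj.obj (op (EtCoh.top Y)) :=
    σ₀ ≫ ((adjA π AddCommGrpCat.{u + 1}).unit.app F).hom.app (op W₀) ≫ G.obj.map δ.op
  have hterm : IsTerminal (EtCoh.top Y) :=
    IsTerminal.ofUniqueHom (fun V => MorphismProperty.Over.homMk V.hom (Category.comp_id _)) fun V m =>
      MorphismProperty.Over.Hom.ext ((Category.comp_id _).symm.trans (MorphismProperty.Over.w m))
  let C := (constantSheaf Y.smallEtaleTopology AddCommGrpCat.{u + 1}).obj M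
  let φ : C ⟶ G := ((constantSheafAdj Y.smallEtaleTopology AddCommGrpCat.{u + 1} hterm).homEquiv M G).symm τ
  have hφ : cstUnit Y M ≫ φ.hom.app (op (EtCoh.top Y)) = τ := by
    have h := ((constantSheafAdj Y.smallEtaleTopology AddCommGrpCat.{u + 1} hterm).homEquiv M G).apply_symm_apply τ
    rw [Adjunction.homEquiv_unit] at h
    refine Eq.trans ?_ h
    simp [cstUnit, φ, constantSheafAdj, constantPresheafAdj]
  have hgerm : ∀ {Ω' : Type u} [Field Ω'] [IsSepClosed Ω'] (ζ : Spec (CommRingCat.of Ω') ⟶ Y)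
      (t : Fib ζ (EtCoh.top Y)),
      (cstUnit Y M ≫ germ ζ C (EtCoh.top Y) t) ≫ (stk (A := AddCommGrpCat.{u + 1}) ζ).map φ =
        (σ₀ ≫ germ (ζ ≫ π) F W₀ (Fib.mk ζ rfl)) ≫ (stalkPull π ζ AddCommGrpCat.{u + 1}).hom.app F := by
    intro Ω' _ _ ζ t
    rw [Category.assoc, Category.assoc, germ_natural, ← Category.assoc, hφ, germ_stalkPull]
    simp only [τ, Category.assoc]
    rw [germ_res]
    refine congrArg (fun q => σ₀ ≫ _ ≫ germ ζ G _ q) (Fib.ext ?_)
    show t.hom ≫ pullback.lift (𝟙 _) (𝟙 _) _ = pullback.lift _ ζ _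
    have ht : t.hom = ζ := (Category.comp_id _).symm.trans t.w
    apply pullback.hom_ext <;> simp [ht]
  have hC : IsCons (A := AddCommGrpCat.{u + 1}) FinP C := isCons_const M
  let E : Set Y := EtPBC.supp (kernel φ) ∪ EtPBC.supp (cokernel φ)
  have hE : IsConstructible E :=
    ((isLocallyConstructible_supp ((isConstructible_iff _).2 (cons_kernel φ hC hG))).isConstructible).union
      ((isLocallyConstructible_supp ((isConstructible_iff _).2 (cons_cokernel φ hC hG))).isConstructible)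
  have hiso : ∀ {Ω' : Type u} [Field Ω'] [IsSepClosed Ω'] (ζ : Spec (CommRingCat.of Ω') ⟶ Y),
      IsIso (σ₀ ≫ germ (ζ ≫ π) F W₀ (Fib.mk ζ rfl)) ↔ IsIso ((stk (A := AddCommGrpCat.{u + 1}) ζ).map φ) := by
    intro Ω' _ _ ζ
    obtain ⟨t⟩ := exists_fib_of_range ζ (U := EtCoh.top Y) ⟨ζ.base default, rfl⟩
    haveI := isCst_cstUnit M Ω' ζ t
    have e := hgerm ζ t
    constructor
    · intro hi
      haveI : IsIso ((cstUnit Y M ≫ germ ζ C (EtCoh.top Y) t) ≫ (stk (A := AddCommGrpCat.{u + 1}) ζ).map φ) := by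
        rw [e]; infer_instance
      exact IsIso.of_isIso_comp_left (cstUnit Y M ≫ germ ζ C (EtCoh.top Y) t) _
    · intro hi
      haveI : IsIso ((σ₀ ≫ germ (ζ ≫ π) F W₀ (Fib.mk ζ rfl)) ≫ (stalkPull π ζ AddCommGrpCat.{u + 1}).hom.app F) := by
        rw [← e]; infer_instance
      exact IsIso.of_isIso_comp_right _ ((stalkPull π ζ AddCommGrpCat.{u + 1}).hom.app F)
  have hv : w₀.pt ∉ closure E := by
    intro hcl
    obtain ⟨z, hz, hzv⟩ := exists_mem_specializes_of_mem_closure hE hcl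
    have key : ∀ {Ω' : Type u} [Field Ω'] [IsSepClosed Ω'] (ζ : Spec (CommRingCat.of Ω') ⟶ Y), ζ.base default = z →
        IsIso ((stk (A := AddCommGrpCat.{u + 1}) ζ).map φ) := by
      intro Ω' _ _ ζ hζ
      rw [← hiso]
      obtain ⟨ψ, hψ⟩ := exists_arrow_fib' W₀ w₀ (Fib.mk ζ rfl : Fib (ζ ≫ π) W₀) (by
        show ζ.base default ⤳ w₀.pt
        rw [hζ]; exact hzv)
      haveI := h Ω' (ζ ≫ π) ψ
      rw [← hψ, ← germ_spec, ← Category.assoc, hσ₀, Category.id_comp]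
      infer_instance
    rcases hz with hz | hz <;> obtain ⟨Ω', _, _, ζ, hr, hne⟩ := hz <;>
      haveI := key ζ (hr.subset ⟨default, rfl⟩) <;> apply hne
    · exact (isZero_kernel_of_mono _).of_iso (PreservesKernel.iso (stk (A := AddCommGrpCat.{u + 1}) ζ) φ)
    · exact (isZero_cokernel_of_epi _).of_iso (PreservesCokernel.iso (stk (A := AddCommGrpCat.{u + 1}) ζ) φ)
  obtain ⟨W, j, w, hw, hj⟩ := exists_open_below ξ W₀ w₀ ⟨(closure E)ᶜ, isClosed_closure.isOpen_compl⟩ hv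
  refine ⟨W, σ₀ ≫ F.obj.map j.op, ⟨w.pt, congrArg (fun t : Spec (CommRingCat.of Ω) ⟶ X => t.base default) w.w⟩,
    fun Ω' _ _ ξ' a => ?_⟩
  rw [Category.assoc, germ_res]
  obtain ⟨ζ, hζ⟩ : ∃ ζ : Spec (CommRingCat.of Ω') ⟶ Y, ζ = (a.map j).hom := ⟨_, rfl⟩
  obtain rfl : ζ ≫ π = ξ' := hζ ▸ (a.map j).w
  rw [show a.map j = Fib.mk ζ rfl from Fib.ext hζ.symm, hiso]
  have hnot : ζ.base default ∉ E := fun hm => hj ⟨a.pt, rfl⟩ (subset_closure (by rw [hζ] at hm; exact hm))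
  have hker : IsZero ((stk (A := AddCommGrpCat.{u + 1}) ζ).obj (kernel φ)) :=
    by_contra fun hne => hnot (Or.inl ⟨Ω', inferInstance, inferInstance, ζ, range_eq_singleton _, hne⟩)
  have hcok : IsZero ((stk (A := AddCommGrpCat.{u + 1}) ζ).obj (cokernel φ)) :=
    by_contra fun hne => hnot (Or.inr ⟨Ω', inferInstance, inferInstance, ζ, range_eq_singleton _, hne⟩)
  haveI : Mono ((stk (A := AddCommGrpCat.{u + 1}) ζ).map φ) :=
    Preadditive.mono_of_kernel_zero ((hker.of_iso (PreservesKernel.iso _ φ).symm).eq_of_src _ _)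
  haveI : Epi ((stk (A := AddCommGrpCat.{u + 1}) ζ).map φ) :=
    Preadditive.epi_of_cokernel_zero ((hcok.of_iso (PreservesCokernel.iso _ φ).symm).eq_of_tgt _ _)
  exact isIso_of_mono_of_epi _

end Groth.Agent.EtShLib
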