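import Groth.Agent.EtShLib.AdicStalk
import Groth.Agent.EtShLib.PushStalk
import Groth.Agent.EtShLib.Constructible

/-! Systems of stalks. -/

set_option autoImplicit false
set_option linter.unusedSectionVars false
set_option linter.style.haveILetI false
set_option backward.isDefEq.respectTransparency false
set_option backward.isDefEq.respectTransparency.types false
set_option synthInstance.maxHeartbeats 400000
set_option maxHeartbeats 1000000

universe u

open CategoryTheory CategoryTheory.Limits AlgebraicGeometry Opposite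

namespace Groth.Agent.EtShLib

variable {Λ : Type (u + 1)} [CommRing Λ] {X : Scheme.{u}}

theorem finite_stalk_of_cons {F : EtModW.Mod Λ X} (hF : IsCons (A := ModuleCat.{u + 1} Λ) FinMP F)
    {Ω : Type u} [Field Ω] [IsSepClosed Ω] (ξ : Spec (CommRingCat.of Ω) ⟶ X) :
    Module.Finite Λ ((stk (A := ModuleCat.{u + 1} Λ) ξ).obj F) := by
  obtain ⟨W, hW, hxW, -⟩ := exists_isAffineOpen_mem_and_subset (X := X) (x := ξ.base default) (U := ⊤) trivial
  obtain ⟨n, T, g, hi, -, -, hu, hl⟩ := hF W hW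
  obtain ⟨i, ht⟩ := Set.mem_iUnion.1 (hu.ge hxW)
  haveI := hi i
  obtain ⟨ζ, rfl⟩ := exists_factor (g i) ξ ht
  obtain ⟨V, y, M, η, hy, hM, hη⟩ := hl i (ζ.base default)
  obtain ⟨v, -⟩ := exists_fib ζ V y hy
  haveI := hη Ω ζ v
  haveI : Module.Finite Λ M := hM
  exact Module.Finite.equiv
    (asIso (η ≫ germ ζ _ V v) ≪≫ ((stalkPull (g i) ζ (ModuleCat.{u + 1} Λ)).app F).symm).toLinearEquiv

theorem isQuot_stalk [IsNoetherianRing Λ] {J : Ideal Λ} {A B : EtModW.Mod Λ X} {p : A ⟶ B} (h : ARSys.IsQuot J p)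
    {Ω : Type u} [Field Ω] [IsSepClosed Ω] (ξ : Spec (CommRingCat.of Ω) ⟶ X) :
    ARSys.IsQuot J ((stk (A := ModuleCat.{u + 1} Λ) ξ).map p) := by
  refine ⟨fun c hc => ModuleCat.hom_ext (LinearMap.ext fun m => smul_stalk_eq_zero ξ h.1 hc m), fun Y φ hφ => ?_⟩
  haveI : Epi ((stk (A := ModuleCat.{u + 1} Λ) ξ).map p) :=
    (ModuleCat.epi_iff_surjective _).2 (stalk_surjective ξ h)
  let q := ((stk (A := ModuleCat.{u + 1} Λ) ξ).map p).hom
  have hk : LinearMap.ker q ≤ LinearMap.ker φ.hom := fun m hm => by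
    refine (Submodule.smul_le.2 fun c hc x _ => ?_) (stalk_ker_le ξ (IsNoetherian.noetherian _) h m hm)
    have := congrArg (fun t : (stk (A := ModuleCat.{u + 1} Λ) ξ).obj A ⟶ Y => t x) (hφ c hc)
    rw [LinearMap.mem_ker, map_smul]
    exact this
  let ψ := (LinearMap.ker q).liftQ φ.hom hk ∘ₗ (q.quotKerEquivOfSurjective (stalk_surjective ξ h)).symm.toLinearMap
  have e : (stk (A := ModuleCat.{u + 1} Λ) ξ).map p ≫ ModuleCat.ofHom ψ = φ := by
    ext m
    show (LinearMap.ker q).liftQ φ.hom hk ((q.quotKerEquivOfSurjective (stalk_surjective ξ h)).symm (q m)) = φ m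
    rw [show q m = (q.quotKerEquivOfSurjective (stalk_surjective ξ h)) (Submodule.Quotient.mk m) from rfl,
      LinearEquiv.symm_apply_apply]
    rfl
  exact ⟨ModuleCat.ofHom ψ, e, fun ψ' hψ' => (cancel_epi _).1 (hψ'.trans e.symm)⟩

theorem isARNull_comp {C D : Type*} [Category C] [Category D] [HasZeroMorphisms C] [HasZeroMorphisms D] (G : C ⥤ D)
    [G.PreservesZeroMorphisms] {S : ARSys.PS C} (h : ARSys.IsARNull S) : ARSys.IsARNull (S ⋙ G) := by
  obtain ⟨r, hr⟩ := h
  exact ⟨r, fun n => by show G.map (ARSys.shiftMap S r n) = 0; rw [hr n, Functor.map_zero]⟩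

theorem isARNull_of_iso {C : Type*} [Category C] [HasZeroMorphisms C] {S T : ARSys.PS C} (e : S ≅ T)
    (h : ARSys.IsARNull S) : ARSys.IsARNull T := by
  obtain ⟨r, hr⟩ := h
  refine ⟨r, fun n => ?_⟩
  rw [← cancel_epi (e.hom.app (op (n + r)))]
  show e.hom.app (op (n + r)) ≫ ARSys.shiftMap T r n = e.hom.app (op (n + r)) ≫ 0
  rw [← e.hom.naturality, show S.map (homOfLE (Nat.le_add_right n r)).op = 0 from hr n, zero_comp, comp_zero]

theorem isARIso_comp {C : Type*} [Category C] [Abelian C] {D : Type*} [Category D] [Abelian D] (G : C ⥤ D)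
    [PreservesFiniteLimits G] [PreservesFiniteColimits G] [G.Additive] {S T : ARSys.PS C} {v : S ⟶ T}
    (h : ARSys.IsARIso v) : ARSys.IsARIso (Functor.whiskerRight v G) :=
  ⟨isARNull_of_iso (PreservesKernel.iso ((Functor.whiskeringRight ℕᵒᵖ C D).obj G) v) (isARNull_comp G h.1),
    isARNull_of_iso (PreservesCokernel.iso ((Functor.whiskeringRight ℕᵒᵖ C D).obj G) v) (isARNull_comp G h.2)⟩

end Groth.Agent.EtShLib
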