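import Mathlib.Topology.Constructible
import Mathlib.AlgebraicGeometry.Morphisms.Immersion
import Mathlib.AlgebraicGeometry.IdealSheaf.Subscheme

/-! Finite partitions by constructible locally closed subsets, and reduced subschemes on them. -/

set_option autoImplicit false
set_option linter.style.haveILetI false
set_option backward.isDefEq.respectTransparency false

universe u v w

open CategoryTheory CategoryTheory.Limits AlgebraicGeometry Topology TopologicalSpace

namespace Groth.Agent.EtShLib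

section Top

variable {X : Type u} [TopologicalSpace X]

theorem exists_detect {C : Set X} (hC : IsConstructible C) :
    ∃ 𝒲 : Finset (Set X), (∀ W ∈ 𝒲, IsOpen W ∧ IsRetrocompact W) ∧
      ∀ x y, (∀ W ∈ 𝒲, (x ∈ W ↔ y ∈ W)) → (x ∈ C ↔ y ∈ C) := by
  classical
  induction hC using IsConstructible.empty_union_induction with
  | open_retrocompact U hU hU' => exact ⟨{U}, by simp [hU, hU'], fun x y h => h U (by simp)⟩
  | union s _ t _ hs ht =>
    obtain ⟨𝒲, h1, h2⟩ := hs
    obtain ⟨𝒲', h1', h2'⟩ := ht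
    exact ⟨𝒲 ∪ 𝒲', fun W hW => (Finset.mem_union.1 hW).elim (h1 W) (h1' W), fun x y h =>
      or_congr (h2 x y fun W hW => h W (Finset.mem_union_left _ hW))
        (h2' x y fun W hW => h W (Finset.mem_union_right _ hW))⟩
  | compl s _ hs =>
    obtain ⟨𝒲, h1, h2⟩ := hs
    exact ⟨𝒲, h1, fun x y h => not_congr (h2 x y h)⟩

theorem exists_atoms {κ : Type v} [Finite κ] (C : κ → Set X) (hC : ∀ k, IsConstructible (C k)) :
    ∃ (n : ℕ) (A : Fin n → Set X), (∀ i, IsConstructible (A i)) ∧ (∀ i, IsLocallyClosed (A i)) ∧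
      Pairwise (fun i j => Disjoint (A i) (A j)) ∧ (⋃ i, A i) = Set.univ ∧
      ∀ i k, A i ⊆ C k ∨ Disjoint (A i) (C k) := by
  classical
  haveI := Fintype.ofFinite κ
  choose 𝒲 h1 h2 using fun k => exists_detect (hC k)
  let 𝒱 := Finset.univ.biUnion 𝒲
  have h1' : ∀ W ∈ 𝒱, IsOpen W ∧ IsRetrocompact W := fun W hW => by
    obtain ⟨k, -, hk⟩ := Finset.mem_biUnion.1 hW
    exact h1 k W hk
  let A : Finset 𝒱 → Set X := fun J => (⋂ W ∈ J, (W : Set X)) ∩ (⋃ W ∈ Jᶜ, (W : Set X))ᶜ
  have hA : ∀ J x, x ∈ A J ↔ ∀ W : 𝒱, (x ∈ (W : Set X) ↔ W ∈ J) := fun J x => by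
    simp only [A, Set.mem_inter_iff, Set.mem_iInter, Set.mem_compl_iff, Set.mem_iUnion, Finset.mem_compl, exists_prop,
      not_exists, not_and]
    exact ⟨fun h W => ⟨fun hx => by_contra fun hW => h.2 W hW hx, h.1 W⟩,
      fun h => ⟨fun W hW => (h W).2 hW, fun W hW hx => hW ((h W).1 hx)⟩⟩
  let e := Fintype.equivFin (Finset 𝒱)
  refine ⟨_, fun i => A (e.symm i), fun i => ?_, fun i => ?_, fun i j hij => Set.disjoint_left.2 fun x hx hx' => ?_,
    Set.eq_univ_of_forall fun x => Set.mem_iUnion.2 ⟨e (Finset.univ.filter fun W : 𝒱 => x ∈ (W : Set X)), ?_⟩,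
    fun i k => ?_⟩
  · exact ((IsConstructible.biInter (Finset.finite_toSet _) fun (W : 𝒱) _ => (h1' W W.2).2.isConstructible (h1' W W.2).1)).inter
      (IsConstructible.biUnion (Finset.finite_toSet _) fun (W : 𝒱) _ => (h1' W W.2).2.isConstructible (h1' W W.2).1).compl
  · exact ⟨_, _, isOpen_biInter_finset fun (W : 𝒱) _ => (h1' W W.2).1,
      (isOpen_biUnion fun (W : 𝒱) _ => (h1' W W.2).1).isClosed_compl, rfl⟩
  · refine hij (e.symm.injective (Finset.ext fun W => ?_))
    rw [← (hA _ _).1 hx W, (hA _ _).1 hx' W]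
  · rw [hA, Equiv.symm_apply_apply]
    simp
  · by_cases hd : Disjoint (A (e.symm i)) (C k)
    · exact Or.inr hd
    · obtain ⟨x, hx, hxk⟩ := Set.not_disjoint_iff.1 hd
      refine Or.inl fun y hy => (h2 k x y fun W hW => ?_).1 hxk
      have hW' : W ∈ 𝒱 := Finset.mem_biUnion.2 ⟨k, Finset.mem_univ _, hW⟩
      rw [(hA _ _).1 hx ⟨W, hW'⟩, (hA _ _).1 hy ⟨W, hW'⟩]

theorem isConstructible_image_of_isEmbedding {Y : Type v} [TopologicalSpace Y] [CompactSpace X] [QuasiSeparatedSpace X]
    [CompactSpace Y] [QuasiSeparatedSpace Y] [PrespectralSpace X] {f : Y → X} (hf : IsEmbedding f)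
    (hr : IsConstructible (Set.range f)) {C : Set Y} (hC : IsConstructible C) : IsConstructible (f '' C) := by
  induction hC using IsConstructible.empty_union_induction with
  | open_retrocompact U hU hU' =>
    obtain ⟨W, hW, rfl⟩ := hf.isInducing.isOpen_iff.1 hU
    let T := {V : Set X | IsOpen V ∧ IsCompact V ∧ V ⊆ W}
    have hcov : f ⁻¹' W ⊆ ⋃ V : T, f ⁻¹' (V : Set X) := fun y hy => by
      obtain ⟨V, ⟨hV1, hV2⟩, hy', hVW⟩ := (PrespectralSpace.isTopologicalBasis (X := X)).exists_subset_of_mem_open (show f y ∈ W from hy) hW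
      exact Set.mem_iUnion.2 ⟨⟨V, hV1, hV2, hVW⟩, hy'⟩
    obtain ⟨t, ht⟩ := hU'.isCompact.elim_finite_subcover _ (fun V : T => V.2.1.preimage hf.continuous) hcov
    have : f '' (f ⁻¹' W) = (⋃ V ∈ t, (V : Set X)) ∩ Set.range f := by
      refine subset_antisymm ?_ ?_
      · rintro _ ⟨y, hy, rfl⟩
        obtain ⟨V, hV, hyV⟩ := Set.mem_iUnion₂.1 (ht hy)
        exact ⟨Set.mem_biUnion hV hyV, y, rfl⟩
      · rintro _ ⟨hV, y, rfl⟩
        obtain ⟨V, -, hyV⟩ := Set.mem_iUnion₂.1 hV
        exact ⟨y, V.2.2.2 hyV, rfl⟩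
    rw [this]
    exact (IsConstructible.biUnion t.finite_toSet fun V _ => V.2.2.1.isConstructible V.2.1).inter hr
  | union s _ t _ hs ht => rw [Set.image_union]; exact hs.union ht
  | compl s _ hs =>
    rw [← Set.range_sdiff_image hf.injective]
    exact hr.sdiff hs

end Top

theorem isReduced_vanishing {Y : Scheme.{u}} (S : Closeds Y) :
    AlgebraicGeometry.IsReduced (Scheme.IdealSheafData.vanishingIdeal S).subscheme := by
  let I := Scheme.IdealSheafData.vanishingIdeal S
  have : ∀ i, AlgebraicGeometry.IsReduced (I.subschemeCover.openCover.X i) := fun (U : Y.affineOpens) => by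
    change AlgebraicGeometry.IsReduced (Spec (CommRingCat.of (Γ(Y, U) ⧸ I.ideal U)))
    have : _root_.IsReduced (Γ(Y, U) ⧸ I.ideal U) :=
      (Ideal.isRadical_iff_quotient_reduced _).1 (by
        rw [Scheme.IdealSheafData.vanishingIdeal_ideal]
        exact PrimeSpectrum.isRadical_vanishingIdeal _)
    infer_instance
  exact IsReduced.of_openCover (𝒰 := I.subschemeCover.openCover)

theorem exists_reduced_immersion {X : Scheme.{u}} {E : Set X} (hE : IsLocallyClosed E) :
    ∃ (T : Scheme.{u}) (g : T ⟶ X), IsImmersion g ∧ IsReduced T ∧ Set.range g = E := by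
  obtain ⟨W, Z, hW, hZ, rfl⟩ := hE
  let W' : X.Opens := ⟨W, hW⟩
  let Z' : Closeds W'.toScheme := ⟨W'.ι ⁻¹' Z, hZ.preimage W'.ι.continuous⟩
  let I := Scheme.IdealSheafData.vanishingIdeal Z'
  refine ⟨I.subscheme, I.subschemeι ≫ W'.ι, inferInstance, isReduced_vanishing _, ?_⟩
  have h : Set.range I.subschemeι = W'.ι ⁻¹' Z :=
    (Scheme.IdealSheafData.range_subschemeι _).trans (Scheme.IdealSheafData.coe_support_vanishingIdeal _)
  rw [Scheme.Hom.comp_base, TopCat.coe_comp, Set.range_comp, h, Set.image_preimage_eq_inter_range, Scheme.Opens.range_ι,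
    Set.inter_comm]
  rfl

theorem exists_lift_immersion {X T T' : Scheme.{u}} (g : T ⟶ X) [IsImmersion g] (h : T' ⟶ X) [IsReduced T']
    (hr : Set.range h ⊆ Set.range g) : ∃ l : T' ⟶ T, l ≫ g = h := by
  let p := pullback.snd g h
  haveI : IsImmersion p := inferInstanceAs (IsImmersion (pullback.snd g h))
  have hs : Function.Surjective p := fun t => by
    obtain ⟨s, hs⟩ := hr ⟨t, rfl⟩
    obtain ⟨q, -, hq⟩ := Scheme.Pullback.exists_preimage_pullback (f := g) (g := h) s t hs
    exact ⟨q, hq⟩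
  haveI : Surjective p := ⟨hs⟩
  haveI : IsClosedImmersion p := IsClosedImmersion.of_isPreimmersion p (by
    rw [hs.range_eq]
    exact isClosed_univ)
  haveI : IsIso p := isIso_of_isClosedImmersion_of_surjective p
  exact ⟨inv p ≫ pullback.fst g h, by rw [Category.assoc, pullback.condition, IsIso.inv_hom_id_assoc]⟩

end Groth.Agent.EtShLib
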