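import Groth.Agent.EtShLib.LocExt
import Groth.Agent.EtShLib.StrataTop
import Mathlib.AlgebraicGeometry.Morphisms.QuasiSeparated
import Mathlib.CategoryTheory.Abelian.Exact

/-! Constructible sheaves on small étale sites: stratifications. -/

set_option autoImplicit false
set_option linter.unusedSectionVars false
set_option linter.style.haveILetI false
set_option backward.isDefEq.respectTransparency false
set_option backward.isDefEq.respectTransparency.types false
set_option synthInstance.maxHeartbeats 400000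
set_option maxHeartbeats 1000000

universe u

open CategoryTheory CategoryTheory.Limits AlgebraicGeometry Opposite Topology
open scoped ZeroObject

namespace Groth.Agent.EtShLib

variable {X Y : Scheme.{u}}
variable {A : Type (u + 2)} [Category.{u + 1} A] [HasColimitsOfSize.{u, u} A] [HasProducts.{u} A]
  [hra : ∀ {T S : Scheme.{u}} (g : T ⟶ S),
    ((EtCoh.bc g).sheafPushforwardContinuous A S.smallEtaleTopology T.smallEtaleTopology).IsRightAdjoint]
  {FA : A → A → Type*} {CA : A → Type (u + 1)} [∀ M N, FunLike (FA M N) (CA M) (CA N)]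
  [ConcreteCategory.{u + 1} A FA] [hfc : PreservesFilteredColimitsOfSize.{u, u} (forget A)]

section Comp

variable (A)

/-- Direct images compose. -/
noncomputable def pushCompA {T S R : Scheme.{u}} (a : T ⟶ S) (b : S ⟶ R) :
    (EtCoh.bc a).sheafPushforwardContinuous A S.smallEtaleTopology T.smallEtaleTopology ⋙
      (EtCoh.bc b).sheafPushforwardContinuous A R.smallEtaleTopology S.smallEtaleTopology ≅
      (EtCoh.bc (a ≫ b)).sheafPushforwardContinuous A R.smallEtaleTopology T.smallEtaleTopology :=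
  Functor.sheafPushforwardContinuousComp' (F := EtCoh.bc b) (G := EtCoh.bc a) (FG := EtCoh.bc (a ≫ b))
    ((MorphismProperty.Over.pullbackComp (P := EtCoh.etaleMP) (Q := ⊤) a b).symm :
      EtCoh.bc b ⋙ EtCoh.bc a ≅ EtCoh.bc (a ≫ b))
    A R.smallEtaleTopology S.smallEtaleTopology T.smallEtaleTopology

/-- Inverse images compose. -/
noncomputable def pullCompA {T S R : Scheme.{u}} (a : T ⟶ S) (b : S ⟶ R) :
    pullA b A ⋙ pullA a A ≅ pullA (a ≫ b) A :=
  Adjunction.leftAdjointUniq (((adjA b A).comp (adjA a A)).ofNatIsoRight (pushCompA A a b)) (adjA (a ≫ b) A)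

/-- Inverse images along equal morphisms. -/
noncomputable def pullCongrA {T S : Scheme.{u}} {a b : T ⟶ S} (h : a = b) : pullA a A ≅ pullA b A :=
  eqToIso (by subst h; rfl)

end Comp

variable (P : A → Prop)

/-- `F` becomes locally constant along `g`. -/
def PullLC (F : Sheaf X.smallEtaleTopology A) {T : Scheme.{u}} (g : T ⟶ X) : Prop := LC P ((pullA g A).obj F)

variable {P}

theorem PullLC.comp {F : Sheaf X.smallEtaleTopology A} {T T' : Scheme.{u}} {g : T ⟶ X} (h : PullLC P F g)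
    (l : T' ⟶ T) : PullLC P F (l ≫ g) :=
  (LC.pull (f := l) h).of_stalk_iso ((pullCompA A l g).hom.app F)

theorem PullLC.of_eq {F : Sheaf X.smallEtaleTopology A} {T : Scheme.{u}} {g g' : T ⟶ X} (h : PullLC P F g)
    (e : g = g') : PullLC P F g' := e ▸ h

theorem PullLC.pull {f : X ⟶ Y} {F : Sheaf Y.smallEtaleTopology A} {T S : Scheme.{u}} {g : T ⟶ Y} (h : PullLC P F g)
    {g' : S ⟶ X} (l : S ⟶ T) (e : l ≫ g = g' ≫ f) : PullLC P ((pullA f A).obj F) g' :=
  ((h.comp l).of_eq e).of_stalk_iso ((pullCompA A g' f).inv.app F)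

theorem PullLC.of_pull {f : X ⟶ Y} {F : Sheaf Y.smallEtaleTopology A} {S : Scheme.{u}} {g' : S ⟶ X}
    (h : PullLC P ((pullA f A).obj F) g') : PullLC P F (g' ≫ f) :=
  LC.of_stalk_iso h ((pullCompA A g' f).hom.app F)

variable (P)

/-- Adapted stratifications. -/
def Adapted (F : Sheaf X.smallEtaleTopology A) (S : Set X) : Prop :=
  ∃ (n : ℕ) (T : Fin n → Scheme.{u}) (g : ∀ i, T i ⟶ X), (∀ i, IsImmersion (g i)) ∧
    (∀ i, IsConstructible ((Subtype.val : S → X) ⁻¹' Set.range (g i))) ∧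
    Pairwise (fun i j => Disjoint (Set.range (g i)) (Set.range (g j))) ∧
    (⋃ i, Set.range (g i)) = S ∧ ∀ i, PullLC P F (g i)

/-- Constructibility. -/
def IsCons (F : Sheaf X.smallEtaleTopology A) : Prop := ∀ U : X.Opens, IsAffineOpen U → Adapted P F (U : Set X)

variable {P}

theorem exists_partition {S : Set X} (hS : IsOpen S) {ι : Type*} [Finite ι] (T : ι → Scheme.{u}) (g : ∀ i, T i ⟶ X)
    [∀ i, IsImmersion (g i)] (hc : ∀ i, IsConstructible ((Subtype.val : S → X) ⁻¹' Set.range (g i))) :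
    ∃ (n : ℕ) (E : Fin n → Scheme.{u}) (e : ∀ j, E j ⟶ X), (∀ j, IsImmersion (e j)) ∧
      (∀ j, IsConstructible ((Subtype.val : S → X) ⁻¹' Set.range (e j))) ∧
      Pairwise (fun i j => Disjoint (Set.range (e i)) (Set.range (e j))) ∧
      (⋃ j, Set.range (e j)) = S ∧
      ∀ j i, (∃ l : E j ⟶ T i, l ≫ g i = e j) ∨ Disjoint (Set.range (e j)) (Set.range (g i)) := by
  obtain ⟨n, C, hC, hC', hd, hu, hk⟩ := exists_atoms _ hc
  have hlc : ∀ j, IsLocallyClosed (Subtype.val '' C j : Set X) := fun j =>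
    (hC' j).image IsInducing.subtypeVal (by rw [Subtype.range_coe]; exact hS.isLocallyClosed)
  choose E e he hE hr using fun j => exists_reduced_immersion (hlc j)
  refine ⟨n, E, e, he, fun j => ?_, fun i j hij => ?_, ?_, fun j i => ?_⟩
  · rw [hr, Set.preimage_image_eq _ Subtype.val_injective]
    exact hC j
  · show Disjoint (Set.range (e i)) (Set.range (e j))
    rw [hr, hr, Set.disjoint_image_iff Subtype.val_injective]
    exact hd hij
  · simp_rw [hr]
    rw [← Set.image_iUnion, hu, Set.image_univ, Subtype.range_coe]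
  · haveI := hE j
    rcases hk j i with h | h
    · exact Or.inl (exists_lift_immersion (g i) (e j) (by rw [hr]; exact Set.image_subset_iff.2 h))
    · refine Or.inr (Set.disjoint_left.2 fun x hx hx' => ?_)
      rw [hr] at hx
      obtain ⟨s, hs, rfl⟩ := hx
      exact Set.disjoint_left.1 h hs hx'

theorem pullLC_of_cover {F : Sheaf X.smallEtaleTopology A} {S : Set X} {ι : Type*} {T : ι → Scheme.{u}}
    {g : ∀ i, T i ⟶ X} (hcov : S ⊆ ⋃ i, Set.range (g i)) (hl : ∀ i, PullLC P F (g i)) {E : Scheme.{u}} {e : E ⟶ X}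
    (heS : Set.range e ⊆ S) (hd : ∀ i, (∃ l : E ⟶ T i, l ≫ g i = e) ∨ Disjoint (Set.range e) (Set.range (g i))) :
    PullLC P F e := by
  by_cases hne : Nonempty E
  · obtain ⟨x⟩ := hne
    obtain ⟨i, hi⟩ := Set.mem_iUnion.1 (hcov (heS ⟨x, rfl⟩))
    rcases hd i with ⟨l, hl'⟩ | h
    · exact ((hl i).comp l).of_eq hl'
    · exact absurd hi (Set.disjoint_left.1 h ⟨x, rfl⟩)
  · exact fun x => absurd ⟨x⟩ hne

theorem adapted_of_cover {F : Sheaf X.smallEtaleTopology A} {S : Set X} (hS : IsOpen S) {ι : Type*} [Finite ι]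
    (T : ι → Scheme.{u}) (g : ∀ i, T i ⟶ X) [∀ i, IsImmersion (g i)]
    (hc : ∀ i, IsConstructible ((Subtype.val : S → X) ⁻¹' Set.range (g i)))
    (hcov : S ⊆ ⋃ i, Set.range (g i)) (hl : ∀ i, PullLC P F (g i)) : Adapted P F S := by
  obtain ⟨n, E, e, he, h1, h2, h3, h4⟩ := exists_partition hS T g hc
  exact ⟨n, E, e, he, h1, h2, h3, fun j =>
    pullLC_of_cover hcov hl (h3 ▸ Set.subset_iUnion (fun j => Set.range (e j)) j) (h4 j)⟩

theorem exists_common_strata {Q : A → Prop} {F G : Sheaf X.smallEtaleTopology A} {S : Set X} (hS : IsOpen S)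
    (hF : Adapted P F S) (hG : Adapted Q G S) :
    ∃ (n : ℕ) (E : Fin n → Scheme.{u}) (e : ∀ j, E j ⟶ X), (∀ j, IsImmersion (e j)) ∧
      (∀ j, IsConstructible ((Subtype.val : S → X) ⁻¹' Set.range (e j))) ∧
      Pairwise (fun i j => Disjoint (Set.range (e i)) (Set.range (e j))) ∧
      (⋃ j, Set.range (e j)) = S ∧ ∀ j, PullLC P F (e j) ∧ PullLC Q G (e j) := by
  obtain ⟨n₁, T₁, g₁, i₁, c₁, -, u₁, l₁⟩ := hF
  obtain ⟨n₂, T₂, g₂, i₂, c₂, -, u₂, l₂⟩ := hG
  let T : Fin n₁ ⊕ Fin n₂ → Scheme.{u} := Sum.elim T₁ T₂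
  let g : ∀ i, T i ⟶ X := fun i => match i with | Sum.inl a => g₁ a | Sum.inr b => g₂ b
  haveI : ∀ i, IsImmersion (g i) := fun i => match i with | Sum.inl a => i₁ a | Sum.inr b => i₂ b
  obtain ⟨n, E, e, he, h1, h2, h3, h4⟩ := exists_partition hS T g
    (fun i => match i with | Sum.inl a => c₁ a | Sum.inr b => c₂ b)
  exact ⟨n, E, e, he, h1, h2, h3, fun j =>
    ⟨pullLC_of_cover u₁.ge l₁ (h3 ▸ Set.subset_iUnion (fun j => Set.range (e j)) j) fun a => h4 j (Sum.inl a),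
      pullLC_of_cover u₂.ge l₂ (h3 ▸ Set.subset_iUnion (fun j => Set.range (e j)) j) fun b => h4 j (Sum.inr b)⟩⟩

theorem adapted_of_subsets {F : Sheaf X.smallEtaleTopology A} {S : Set X} (hS : IsOpen S) {ι : Type*} [Finite ι]
    (V : ι → Set X) (hVS : ∀ k, V k ⊆ S) (hV : ∀ k, IsOpen (V k))
    (hVc : ∀ k, IsRetrocompact ((Subtype.val : S → X) ⁻¹' V k)) (hcov : S ⊆ ⋃ k, V k)
    (h : ∀ k, Adapted P F (V k)) : Adapted P F S := by
  choose n T g hi hc _ hu hl using h
  haveI : ∀ q : Σ k, Fin (n k), IsImmersion (g q.1 q.2) := fun q => hi q.1 q.2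
  refine adapted_of_cover hS (fun q : Σ k, Fin (n k) => T q.1 q.2) (fun q => g q.1 q.2) (fun q => ?_) ?_ fun q => hl q.1 q.2
  · obtain ⟨k, j⟩ := q
    have hopen : IsOpenEmbedding (Set.inclusion (hVS k)) :=
      IsOpenEmbedding.inclusion (hVS k) ((hV k).preimage continuous_subtype_val)
    have hrange : Set.range (Set.inclusion (hVS k)) = (Subtype.val : S → X) ⁻¹' V k := by
      rw [Set.range_inclusion]
      rfl
    refine (isConstructible_preimage_iff_of_isOpenEmbedding hopen (hrange ▸ hVc k) ?_).1 (hc k j)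
    rw [hrange]
    exact Set.preimage_mono ((hu k) ▸ Set.subset_iUnion (fun j => Set.range (g k j)) j)
  · refine hcov.trans (Set.iUnion_subset fun k => ?_)
    rw [← hu k]
    exact Set.iUnion_subset fun j => Set.subset_iUnion (fun q : Σ k, Fin (n k) => Set.range (g q.1 q.2)) ⟨k, j⟩

theorem isCons_of_adapted_univ [QuasiSeparatedSpace X] {F : Sheaf X.smallEtaleTopology A}
    (h : Adapted P F (Set.univ : Set X)) : IsCons P F := by
  intro U hU
  obtain ⟨n, T, g, hi, hc, -, hu, hl⟩ := h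
  haveI : ∀ i, IsImmersion (((g i) ⁻¹ᵁ U).ι ≫ g i) := fun i => inferInstance
  refine adapted_of_cover U.isOpen (fun i => ((g i) ⁻¹ᵁ U : (T i).Opens).toScheme) (fun i => ((g i) ⁻¹ᵁ U).ι ≫ g i)
    (fun i => ?_) (fun x hx => ?_) fun i => (hl i).comp _
  · have hopen : IsOpenEmbedding (fun u : (U : Set X) => (⟨u.1, trivial⟩ : (Set.univ : Set X))) :=
      IsOpenEmbedding.inclusion (Set.subset_univ _) (U.isOpen.preimage continuous_subtype_val)
    convert (hc i).preimage_of_isOpenEmbedding hopen using 1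
    ext u
    show (u.1 ∈ Set.range (((g i) ⁻¹ᵁ U).ι ≫ g i)) ↔ u.1 ∈ Set.range (g i)
    refine ⟨fun ⟨t, ht⟩ => ⟨t.1, ht⟩, fun ⟨t, ht⟩ => ⟨⟨t, ?_⟩, ht⟩⟩
    show g i t ∈ U
    rw [ht]
    exact u.2
  · obtain ⟨i, t, rfl⟩ := Set.mem_iUnion.1 (hu.ge (Set.mem_univ x))
    exact Set.mem_iUnion.2 ⟨i, ⟨t, hx⟩, rfl⟩

theorem isRetrocompact_preimage_of_affine {U W : X.Opens} (hU : IsAffineOpen U) (hW : IsAffineOpen W) (h : W ≤ U) :
    IsRetrocompact ((Subtype.val : ↥(U : Set X) → X) ⁻¹' (W : Set X)) := by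
  haveI : IsAffine U.toScheme := hU
  haveI : QuasiSeparatedSpace ↥(U : Set X) := inferInstanceAs (QuasiSeparatedSpace U.toScheme)
  refine IsCompact.isRetrocompact ?_ (W.isOpen.preimage continuous_subtype_val)
  rw [Topology.IsEmbedding.subtypeVal.isCompact_iff, Set.image_preimage_eq_inter_range, Subtype.range_coe,
    Set.inter_eq_left.2 h]
  exact hW.isCompact

theorem adapted_univ_of_isCons [CompactSpace X] [QuasiSeparatedSpace X] {F : Sheaf X.smallEtaleTopology A}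
    (h : IsCons P F) : Adapted P F (Set.univ : Set X) := by
  have hb := X.isBasis_affineOpens
  obtain ⟨t, ht⟩ := CompactSpace.isCompact_univ.elim_finite_subcover (fun U : X.affineOpens => ((U : X.Opens) : Set X))
    (fun U => U.1.isOpen) (fun x _ => by
      obtain ⟨U, hU, hx, -⟩ := exists_isAffineOpen_mem_and_subset (X := X) (x := x) (U := ⊤) trivial
      exact Set.mem_iUnion.2 ⟨⟨U, hU⟩, hx⟩)
  refine adapted_of_subsets isOpen_univ (fun U : t => ((U.1 : X.Opens) : Set X)) (fun _ => Set.subset_univ _)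
    (fun U => U.1.1.isOpen) (fun U => ?_) (fun x hx => ?_) fun U => h U.1.1 U.1.2
  · haveI : QuasiSeparatedSpace ↥(Set.univ : Set X) :=
      QuasiSeparatedSpace.of_isOpenEmbedding (isOpen_univ.isOpenEmbedding_subtypeVal)
    refine IsCompact.isRetrocompact ?_ (U.1.1.isOpen.preimage continuous_subtype_val)
    rw [Topology.IsEmbedding.subtypeVal.isCompact_iff, Set.image_preimage_eq_inter_range, Subtype.range_coe, Set.inter_univ]
    exact U.1.2.isCompact
  · obtain ⟨U, hU, hxU⟩ := Set.mem_iUnion₂.1 (ht hx)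
    exact Set.mem_iUnion.2 ⟨⟨U, hU⟩, hxU⟩

theorem IsCons.of_open_cover {F : Sheaf X.smallEtaleTopology A} {ι : Type*} (U : ι → X.Opens) (hU : ⨆ i, U i = ⊤)
    (h : ∀ i, IsCons P ((pullA (U i).ι A).obj F)) : IsCons P F := by
  intro W hW
  have : ∀ x ∈ (W : Set X), ∃ (V : X.Opens) (i : ι), IsAffineOpen V ∧ x ∈ V ∧ V ≤ W ∧ V ≤ U i := fun x hx => by
    obtain ⟨i, hi⟩ := TopologicalSpace.Opens.mem_iSup.1 (hU.ge (trivial : x ∈ (⊤ : X.Opens)))
    obtain ⟨V, hV, hxV, hle⟩ := exists_isAffineOpen_mem_and_subset (X := X) (x := x) (U := W ⊓ U i) ⟨hx, hi⟩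
    exact ⟨V, i, hV, hxV, fun y hy => (hle hy).1, fun y hy => (hle hy).2⟩
  choose V i hV hxV hVW hVU using this
  obtain ⟨t, ht⟩ := hW.isCompact.elim_finite_subcover (fun x : (W : Set X) => ((V x.1 x.2 : X.Opens) : Set X))
    (fun x => (V x.1 x.2).isOpen) (fun x hx => Set.mem_iUnion.2 ⟨⟨x, hx⟩, hxV x hx⟩)
  refine adapted_of_subsets W.isOpen (fun x : t => ((V x.1.1 x.1.2 : X.Opens) : Set X)) (fun x => hVW _ x.1.2)
    (fun x => (V x.1.1 x.1.2).isOpen) (fun x => isRetrocompact_preimage_of_affine hW (hV _ x.1.2) (hVW _ x.1.2))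
    (fun y hy => ?_) fun x => ?_
  · obtain ⟨x, hx, hyx⟩ := Set.mem_iUnion₂.1 (ht hy)
    exact Set.mem_iUnion.2 ⟨⟨x, hx⟩, hyx⟩
  · let Ui := U (i x.1.1 x.1.2)
    let V₀ := V x.1.1 x.1.2
    have hV' : IsAffineOpen (Ui.ι ⁻¹ᵁ V₀) := by
      refine (Scheme.Hom.isAffineOpen_iff_of_isOpenImmersion Ui.ι).1 ?_
      convert hV _ x.1.2 using 1
      rw [Scheme.Hom.image_preimage_eq_opensRange_inf, Scheme.Opens.opensRange_ι]
      exact inf_eq_right.2 (hVU _ x.1.2)
    obtain ⟨n, T, g, hi, hc, hd, hu, hl⟩ := h (i x.1.1 x.1.2) _ hV'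
    have hsub : ∀ j, Set.range (g j ≫ Ui.ι) ⊆ (V₀ : Set X) := fun j => by
      rintro _ ⟨y, rfl⟩
      have : g j y ∈ (Ui.ι ⁻¹ᵁ V₀ : Ui.toScheme.Opens) := hu.le (Set.mem_iUnion.2 ⟨j, y, rfl⟩)
      exact this
    haveI : ∀ j, IsImmersion (g j ≫ Ui.ι) := fun j => inferInstance
    refine adapted_of_cover V₀.isOpen T (fun j => g j ≫ Ui.ι) (fun j => ?_) (fun y hy => ?_) fun j => (hl j).of_pull
    · let φ : ↥(V₀ : Set X) → ((Ui.ι ⁻¹ᵁ V₀ : Ui.toScheme.Opens) : Set Ui.toScheme) :=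
        fun v => ⟨⟨v.1, hVU _ x.1.2 v.2⟩, v.2⟩
      have hφ : IsOpenEmbedding φ := by
        have hh : IsHomeomorph φ := by
          exact isHomeomorph_iff_exists_inverse.2 ⟨Continuous.subtype_mk (Continuous.subtype_mk continuous_subtype_val _) _,
            fun w => ⟨Ui.ι w.1, w.2⟩, fun _ => rfl, fun _ => rfl, Continuous.subtype_mk (Ui.ι.continuous.comp continuous_subtype_val) _⟩
        exact hh.isOpenEmbedding
      convert (hc j).preimage_of_isOpenEmbedding hφ using 1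
      ext v
      show v.1 ∈ Set.range (g j ≫ Ui.ι) ↔ (⟨v.1, hVU _ x.1.2 v.2⟩ : Ui.toScheme) ∈ Set.range (g j)
      exact ⟨fun ⟨y, hy⟩ => ⟨y, Subtype.ext hy⟩, fun ⟨y, hy⟩ => ⟨y, congrArg Subtype.val hy⟩⟩
    · obtain ⟨j, z, hz⟩ := Set.mem_iUnion.1 (hu.ge (show (⟨y, hVU _ x.1.2 hy⟩ : Ui.toScheme) ∈
        ((Ui.ι ⁻¹ᵁ V₀ : Ui.toScheme.Opens) : Set Ui.toScheme) from hy))
      exact Set.mem_iUnion.2 ⟨j, z, congrArg Subtype.val hz⟩

theorem IsCons.pull {f : X ⟶ Y} {F : Sheaf Y.smallEtaleTopology A} (h : IsCons P F) :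
    IsCons P ((pullA f A).obj F) := by
  intro U hU
  have : ∀ x ∈ (U : Set X), ∃ (V : X.Opens) (W : Y.Opens), IsAffineOpen V ∧ IsAffineOpen W ∧ x ∈ V ∧ V ≤ U ∧ V ≤ f ⁻¹ᵁ W := fun x hx => by
    obtain ⟨W, hW, hxW, -⟩ := exists_isAffineOpen_mem_and_subset (X := Y) (x := f.base x) (U := ⊤) trivial
    obtain ⟨V, hV, hxV, hle⟩ := exists_isAffineOpen_mem_and_subset (X := X) (x := x) (U := U ⊓ f ⁻¹ᵁ W) ⟨hx, hxW⟩
    exact ⟨V, W, hV, hW, hxV, fun y hy => (hle hy).1, fun y hy => (hle hy).2⟩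
  choose V W hV hW hxV hVU hVW using this
  obtain ⟨t, ht⟩ := hU.isCompact.elim_finite_subcover (fun x : (U : Set X) => ((V x.1 x.2 : X.Opens) : Set X))
    (fun x => (V x.1 x.2).isOpen) (fun x hx => Set.mem_iUnion.2 ⟨⟨x, hx⟩, hxV x hx⟩)
  refine adapted_of_subsets U.isOpen (fun x : t => ((V x.1.1 x.1.2 : X.Opens) : Set X)) (fun x => hVU _ x.1.2)
    (fun x => (V x.1.1 x.1.2).isOpen) (fun x => isRetrocompact_preimage_of_affine hU (hV _ x.1.2) (hVU _ x.1.2))
    (fun y hy => ?_) fun x => ?_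
  · obtain ⟨x, hx, hyx⟩ := Set.mem_iUnion₂.1 (ht hy)
    exact Set.mem_iUnion.2 ⟨⟨x, hx⟩, hyx⟩
  · let V₀ := V x.1.1 x.1.2
    let W₀ := W x.1.1 x.1.2
    haveI : IsAffine V₀.toScheme := hV _ x.1.2
    haveI : IsAffine W₀.toScheme := hW _ x.1.2
    let q : V₀.toScheme ⟶ W₀.toScheme := f.resLE W₀ V₀ (hVW _ x.1.2)
    obtain ⟨n, T, g, hi, hc, hd, hu, hl⟩ := h W₀ (hW _ x.1.2)
    have hq : ∀ s, IsOpen s → IsRetrocompact s → IsRetrocompact (q ⁻¹' s) := fun s hs hs' =>
      (q.isCompact_preimage (U := ⟨s, hs⟩) hs'.isCompact).isRetrocompact (hs.preimage q.continuous)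
    haveI : ∀ j, IsImmersion (pullback.snd (g j) (V₀.ι ≫ f) ≫ V₀.ι) := fun j => inferInstance
    refine adapted_of_cover V₀.isOpen (fun j => pullback (g j) (V₀.ι ≫ f))
      (fun j => pullback.snd (g j) (V₀.ι ≫ f) ≫ V₀.ι) (fun j => ?_) (fun y hy => ?_)
      fun j => (hl j).pull (pullback.fst _ _) (by rw [Category.assoc, pullback.condition])
    · have hc' : IsConstructible (q ⁻¹' ((Subtype.val : ↥(W₀ : Set Y) → Y) ⁻¹' Set.range (g j)) : Set V₀.toScheme) :=
        IsConstructible.preimage (f := (q : V₀.toScheme → W₀.toScheme)) (s := ((Subtype.val : ↥(W₀ : Set Y) → Y) ⁻¹' Set.range (g j)))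
          q.continuous hq (hc j)
      refine Eq.mpr (congrArg (fun s : Set V₀.toScheme => IsConstructible s) (show
        ((fun v : V₀.toScheme => (v.1 : X)) ⁻¹' Set.range (pullback.snd (g j) (V₀.ι ≫ f) ≫ V₀.ι)) = _ from
          Set.ext fun v => ?_)) hc'
      show v.1 ∈ Set.range (pullback.snd (g j) (V₀.ι ≫ f) ≫ V₀.ι) ↔ (q v).1 ∈ Set.range (g j)
      have hqv : (q v).1 = f v.1 := congrArg (fun t : V₀.toScheme ⟶ Y => t.base v) (f.resLE_comp_ι (hVW _ x.1.2))
      rw [hqv]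
      constructor
      · rintro ⟨z, hz⟩
        refine ⟨pullback.fst (g j) (V₀.ι ≫ f) z, ?_⟩
        refine (congrArg (fun t : pullback (g j) (V₀.ι ≫ f) ⟶ Y => t.base z) pullback.condition).trans ?_
        exact congrArg f.base hz
      · rintro ⟨s, hs⟩
        obtain ⟨z, -, hz⟩ := Scheme.Pullback.exists_preimage_pullback (f := g j) (g := V₀.ι ≫ f) s v hs
        exact ⟨z, congrArg Subtype.val hz⟩
    · obtain ⟨j, s, hs⟩ := Set.mem_iUnion.1 (hu.ge (show f y ∈ (W₀ : Set Y) from hVW _ x.1.2 hy))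
      obtain ⟨z, -, hz⟩ := Scheme.Pullback.exists_preimage_pullback (f := g j) (g := V₀.ι ≫ f) s ⟨y, hy⟩ hs
      exact Set.mem_iUnion.2 ⟨j, z, congrArg Subtype.val hz⟩

section Abelian

variable [Abelian A] [AB5OfSize.{u, u} A] [∀ T : Scheme.{u}, HasSheafify T.smallEtaleTopology A]
  [hri : (forget A).ReflectsIsomorphisms] [hsc : ∀ T : Scheme.{u}, T.smallEtaleTopology.HasSheafCompose (forget A)]

include hfc hri hsc

instance (f : X ⟶ Y) :
    ((EtCoh.bc f).sheafPushforwardContinuous A Y.smallEtaleTopology X.smallEtaleTopology).Additive where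

instance (f : X ⟶ Y) : (pullA f A).Additive := (adjA f A).left_adjoint_additive

instance (f : X ⟶ Y) : PreservesFiniteColimits (pullA f A) :=
  haveI : (pullA f A).IsLeftAdjoint := (adjA f A).isLeftAdjoint
  inferInstance

theorem preservesFiniteLimits_pullA (f : X ⟶ Y) : PreservesFiniteLimits (pullA f A) := by
  refine ((Functor.preservesFiniteLimits_tfae (pullA f A)).out 0 3).1 fun S hS => ?_
  have hst : ∀ (Ω : Type u) [Field Ω] [IsSepClosed Ω] (ξ : Spec (CommRingCat.of Ω) ⟶ X),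
      ((S.map (pullA f A)).map (stk ξ)).ShortExact := fun Ω _ _ ξ =>
    ShortComplex.shortExact_of_iso (S.mapNatIso (stalkPull f ξ A)) (hS.map_of_exact (stk (ξ ≫ f)))
  exact ⟨(exact_iff_stalks _).2 fun Ω _ _ ξ => (hst Ω ξ).exact,
    (mono_iff_stalks _).2 fun Ω _ _ ξ => (hst Ω ξ).mono_f⟩

theorem IsCons.kernel {Q R : A → Prop} {F G : Sheaf X.smallEtaleTopology A} (φ : F ⟶ G) (hF : IsCons P F)
    (hG : IsCons Q G) (hP : ∀ M, P M → FG M) (hR : ∀ (M N : A) (h : M ⟶ N), P M → Q N → R (Limits.kernel h)) :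
    IsCons R (Limits.kernel φ) := fun U hU => by
  obtain ⟨n, E, e, he, h1, h2, h3, h4⟩ := exists_common_strata U.isOpen (hF U hU) (hG U hU)
  refine ⟨n, E, e, he, h1, h2, h3, fun j => ?_⟩
  haveI := preservesFiniteLimits_pullA (A := A) (e j)
  exact ((h4 j).1.kernel ((pullA (e j) A).map φ) (h4 j).2 hP hR).of_stalk_iso
    (PreservesKernel.iso (pullA (e j) A) φ).inv

theorem IsCons.cokernel {Q R : A → Prop} {F G : Sheaf X.smallEtaleTopology A} (φ : F ⟶ G) (hF : IsCons P F)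
    (hG : IsCons Q G) (hP : ∀ M, P M → FG M) (hR : ∀ (M N : A) (h : M ⟶ N), P M → Q N → R (Limits.cokernel h)) :
    IsCons R (Limits.cokernel φ) := fun U hU => by
  obtain ⟨n, E, e, he, h1, h2, h3, h4⟩ := exists_common_strata U.isOpen (hF U hU) (hG U hU)
  refine ⟨n, E, e, he, h1, h2, h3, fun j => ?_⟩
  exact ((h4 j).1.cokernel ((pullA (e j) A).map φ) (h4 j).2 hP hR).of_stalk_iso
    (PreservesCokernel.iso (pullA (e j) A) φ).inv

theorem IsCons.extension {R : A → Prop} (S : ShortComplex (Sheaf X.smallEtaleTopology A)) (hS : S.ShortExact)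
    (h₁ : IsCons P S.X₁) (h₃ : IsCons P S.X₃) (hP : ∀ M, P M → FG M)
    (hR : ∀ T : ShortComplex A, T.ShortExact → P T.X₁ → P T.X₃ → R T.X₂)
    (hR' : ∀ M, R M → FG M ∧ Lifts M) : IsCons R S.X₂ := fun U hU => by
  obtain ⟨n, E, e, he, h1, h2, h3, h4⟩ := exists_common_strata U.isOpen (h₁ U hU) (h₃ U hU)
  refine ⟨n, E, e, he, h1, h2, h3, fun j => ?_⟩
  haveI := preservesFiniteLimits_pullA (A := A) (e j)
  exact LC.extension _ (hS.map_of_exact (pullA (e j) A)) (h4 j).1 (h4 j).2 hP hR hR'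

end Abelian

end Groth.Agent.EtShLib

namespace Groth.Agent.EtShLib

variable {X : Scheme.{u}}
variable {A : Type (u + 2)} [Category.{u + 1} A] [HasColimitsOfSize.{u, u} A] [HasProducts.{u} A]
  [hra : ∀ {T S : Scheme.{u}} (g : T ⟶ S),
    ((EtCoh.bc g).sheafPushforwardContinuous A S.smallEtaleTopology T.smallEtaleTopology).IsRightAdjoint]
  {FA : A → A → Type*} {CA : A → Type (u + 1)} [∀ M N, FunLike (FA M N) (CA M) (CA N)]
  [ConcreteCategory.{u + 1} A FA] [hfc : PreservesFilteredColimitsOfSize.{u, u} (forget A)]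
  {P : A → Prop}

theorem IsCons.of_hom {F G : Sheaf X.smallEtaleTopology A} (h : IsCons P F) (φ : F ⟶ G) [IsIso φ] : IsCons P G :=
  fun U hU => by
    obtain ⟨n, T, g, h1, h2, h3, h4, h5⟩ := h U hU
    exact ⟨n, T, g, h1, h2, h3, h4, fun i => LC.of_stalk_iso (h5 i) ((pullA (g i) A).map φ)⟩

theorem LC.of_isZero [Abelian A] [HasSheafify X.smallEtaleTopology A] (hP : P 0)
    {F : Sheaf X.smallEtaleTopology A} (h : IsZero F) : LC P F := fun x => by
  haveI : AlgebraicGeometry.Etale (EtCoh.top X).hom := (EtCoh.top X).prop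
  refine ⟨EtCoh.top X, x, 0, 0, rfl, hP, fun Ω _ _ ξ u => ?_⟩
  have hz : IsZero ((stk (A := A) ξ).obj F) := (stk ξ).map_isZero h
  exact ⟨0, (isZero_zero A).eq_of_src _ _, hz.eq_of_src _ _⟩

theorem isCons_of_isZero [Abelian A] [∀ T : Scheme.{u}, HasSheafify T.smallEtaleTopology A] [AB5OfSize.{u, u} A]
    [hri : (forget A).ReflectsIsomorphisms] [hsc : ∀ T : Scheme.{u}, T.smallEtaleTopology.HasSheafCompose (forget A)]
    (hP : P 0) {F : Sheaf X.smallEtaleTopology A} (h : IsZero F) : IsCons P F := by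
  intro U hU
  haveI : ∀ _ : Fin 1, IsImmersion U.ι := fun _ => inferInstance
  refine adapted_of_cover U.isOpen (fun _ : Fin 1 => U.toScheme) (fun _ => U.ι) (fun _ => ?_) (fun x hx => ?_)
    fun _ => LC.of_isZero hP ((pullA U.ι A).map_isZero h)
  · convert IsConstructible.univ (X := ↥(U : Set X)) using 1
    rw [Scheme.Opens.range_ι]
    exact Set.eq_univ_of_forall fun v => v.2
  · exact Set.mem_iUnion.2 ⟨0, by rw [Scheme.Opens.range_ι]; exact hx⟩

end Groth.Agent.EtShLib
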