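import Groth.Agent.EtShLib.Noeth
import Groth.Agent.EtShLib.Constructible

/-! Subsheaves and quotients of constructible sheaves on Noetherian schemes. -/

set_option autoImplicit false
set_option linter.unusedSectionVars false
set_option linter.style.haveILetI false
set_option backward.isDefEq.respectTransparency false
set_option backward.isDefEq.respectTransparency.types false
set_option synthInstance.maxHeartbeats 400000
set_option maxHeartbeats 1000000

universe u

open CategoryTheory CategoryTheory.Limits AlgebraicGeometry Opposite Topology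

namespace Groth.Agent.EtShLib

variable {X : Scheme.{u}} [IsLocallyNoetherian X]

theorem exists_noetherian_cover (X : Scheme.{u}) [IsLocallyNoetherian X] :
    (⨆ U : X.affineOpens, (U : X.Opens)) = ⊤ ∧ ∀ U : X.affineOpens, IsNoetherian (U : X.Opens).toScheme := by
  refine ⟨top_le_iff.1 fun x _ => ?_, fun U => ?_⟩
  · obtain ⟨V, hV, hxV, -⟩ := exists_isAffineOpen_mem_and_subset (X := X) (x := x) (U := ⊤) trivial
    exact TopologicalSpace.Opens.mem_iSup.2 ⟨⟨V, hV⟩, hxV⟩
  · haveI : IsAffine (U : X.Opens).toScheme := U.2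
    haveI : IsLocallyNoetherian (U : X.Opens).toScheme := LocallyOfFiniteType.isLocallyNoetherian (U : X.Opens).ι
    exact {}

theorem cons_of_mono {K F : EtCoh.Ab X} (ι : K ⟶ F) [Mono ι] (hF : IsCons (A := AddCommGrpCat.{u + 1}) FinP F) :
    IsCons (A := AddCommGrpCat.{u + 1}) FinP K :=
  IsCons.of_open_cover (fun U : X.affineOpens => (U : X.Opens)) (exists_noetherian_cover X).1 fun U => by
    haveI := (exists_noetherian_cover X).2 U
    haveI := preservesFiniteLimits_pullA (A := AddCommGrpCat.{u + 1}) (U : X.Opens).ι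
    exact isCons_of_mono ((pullA (U : X.Opens).ι AddCommGrpCat.{u + 1}).map ι) hF.pull
      (fun M' M i hi (hM : Finite M) => Finite.of_injective i ((AddCommGrpCat.mono_iff_injective _).1 hi))
      fun M (hM : Finite M) => ⟨fg_Ab, lifts_Ab⟩

theorem cons_of_epi {F G : EtCoh.Ab X} (π : F ⟶ G) [Epi π] (hF : IsCons (A := AddCommGrpCat.{u + 1}) FinP F) :
    IsCons (A := AddCommGrpCat.{u + 1}) FinP G :=
  (cons_cokernel (kernel.ι π) (cons_of_mono (kernel.ι π) hF) hF).of_hom
    (haveI : Epi (Abelian.factorThruCoimage π) := epi_of_epi_fac (Abelian.coimage.fac π)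
    haveI : IsIso (Abelian.factorThruCoimage π) := isIso_of_mono_of_epi _
    asIso (Abelian.factorThruCoimage π)).hom

variable {Λ : Type (u + 1)} [CommRing Λ] [IsNoetherianRing Λ]

theorem consMod_of_mono {K F : EtModW.Mod Λ X} (ι : K ⟶ F) [Mono ι] (hF : IsCons (A := ModuleCat.{u + 1} Λ) FinMP F) :
    IsCons (A := ModuleCat.{u + 1} Λ) FinMP K :=
  IsCons.of_open_cover (fun U : X.affineOpens => (U : X.Opens)) (exists_noetherian_cover X).1 fun U => by
    haveI := (exists_noetherian_cover X).2 U
    haveI := preservesFiniteLimits_pullA (A := ModuleCat.{u + 1} Λ) (U : X.Opens).ι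
    exact isCons_of_mono ((pullA (U : X.Opens).ι (ModuleCat.{u + 1} Λ)).map ι) hF.pull
      (fun M' M i hi (hM : Module.Finite Λ M) =>
        Module.Finite.of_injective i.hom ((ModuleCat.mono_iff_injective _).1 hi))
      fun M hM => ⟨fg_Mod hM, lifts_Mod hM⟩

theorem consMod_of_epi {F G : EtModW.Mod Λ X} (π : F ⟶ G) [Epi π]
    (hF : IsCons (A := ModuleCat.{u + 1} Λ) FinMP F) : IsCons (A := ModuleCat.{u + 1} Λ) FinMP G :=
  (consMod_cokernel (kernel.ι π) (consMod_of_mono (kernel.ι π) hF) hF).of_hom
    (haveI : Epi (Abelian.factorThruCoimage π) := epi_of_epi_fac (Abelian.coimage.fac π)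
    haveI : IsIso (Abelian.factorThruCoimage π) := isIso_of_mono_of_epi _
    asIso (Abelian.factorThruCoimage π)).hom

end Groth.Agent.EtShLib
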