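import Groth.Agent.EtShLib.ExtConst
import Groth.Agent.EtShLib.NoethCons
import Mathlib.Data.ZMod.Basic
import Mathlib.CategoryTheory.Subobject.Limits
import Mathlib.CategoryTheory.Subobject.NoetherianObject

/-! Generation of torsion sheaves by extensions by zero of finite constant sheaves. -/

set_option autoImplicit false
set_option linter.unusedSectionVars false
set_option linter.style.haveILetI false
set_option backward.isDefEq.respectTransparency false
set_option backward.isDefEq.respectTransparency.types false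
set_option synthInstance.maxHeartbeats 400000
set_option maxHeartbeats 1000000

universe u

open CategoryTheory CategoryTheory.Limits AlgebraicGeometry Opposite Topology
open scoped ZeroObject

namespace Groth.Agent.EtShLib

variable {X : Scheme.{u}}

/-- Every stalk element is killed by an allowed integer. -/
def TorsionBy (ok : ℕ → Prop) (F : EtCoh.Ab X) : Prop :=
  ∀ (Ω : Type u) [Field Ω] [IsSepClosed Ω] (ξ : Spec (CommRingCat.of Ω) ⟶ X)
    (p : (stk (A := AddCommGrpCat.{u + 1}) ξ).obj F), ∃ m, ok m ∧ m • p = 0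

theorem exists_affine_below' {Ω : Type u} [Field Ω] [IsSepClosed Ω] (ζ : Spec (CommRingCat.of Ω) ⟶ X)
    (U : X.Etale) (u : Fib ζ U) :
    ∃ (W : X.Etale) (g : W ⟶ U) (w : Fib ζ W), IsAffine W.left ∧ w.map g = u := by
  haveI : AlgebraicGeometry.Etale U.hom := U.prop
  obtain ⟨O, hO, huO, -⟩ := exists_isAffineOpen_mem_and_subset (X := U.left) (x := u.pt) (U := ⊤) trivial
  have hrange : Set.range (Fib.hom (ξ := ζ) (U := U) u).base ⊆ Set.range O.ι.base := by
    rintro _ ⟨a, rfl⟩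
    rw [Scheme.Opens.range_ι, Subsingleton.elim a default]
    exact huO
  refine ⟨MorphismProperty.Over.mk ⊤ (O.ι ≫ U.hom) (inferInstance : AlgebraicGeometry.Etale (O.ι ≫ U.hom)),
    MorphismProperty.Over.homMk O.ι rfl, Fib.mk (IsOpenImmersion.lift O.ι u.hom hrange) (by
      show _ ≫ O.ι ≫ U.hom = ζ
      rw [← Category.assoc, IsOpenImmersion.lift_fac]
      exact u.w), hO, Fib.ext (IsOpenImmersion.lift_fac _ _ _)⟩

theorem exists_hom_of_torsion {F : EtCoh.Ab X} (U : X.Etale) (n : ℕ) (s : F.obj.obj (op U)) (hs : n • s = 0) :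
    ∃ a : EtPBC.extZeroConst U (ZMod n) ⟶ F,
      a.hom.app (op U) (extConstSec U (ZMod n) (ULift.up 1)) = s := by
  let φ : ZMod n →+ F.obj.obj (op U) := ZMod.lift n ⟨zmultiplesHom _ s, by simpa using hs⟩
  obtain ⟨a, ha⟩ := exists_extConst_hom U (ZMod n) (N := F)
    (AddCommGrpCat.ofHom (φ.comp AddEquiv.ulift.toAddMonoidHom))
  refine ⟨a, (congrArg (fun t : AddCommGrpCat.of (ULift.{u + 1} (ZMod n)) ⟶ F.obj.obj (op U) =>
    t (ULift.up 1)) ha).trans ?_⟩
  show φ 1 = s
  rw [← Int.cast_one (R := ZMod n)]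
  simp only [φ, ZMod.lift_coe]
  simp

theorem exists_gen {F : EtCoh.Ab X} {ok : ℕ → Prop} (h : TorsionBy ok F) {Ω : Type u} [Field Ω] [IsSepClosed Ω]
    (ξ : Spec (CommRingCat.of Ω) ⟶ X) (p : (stk (A := AddCommGrpCat.{u + 1}) ξ).obj F) :
    ∃ (U : X.Etale) (_ : IsAffine U.left) (n : ℕ) (a : EtPBC.extZeroConst U (ZMod n) ⟶ F),
      ok n ∧ ∃ q, (stk (A := AddCommGrpCat.{u + 1}) ξ).map a q = p := by
  obtain ⟨m, hm, hp⟩ := h Ω ξ p
  obtain ⟨U, u, s, rfl⟩ := exists_germ ξ p
  obtain ⟨V, g, v, hv, he⟩ := (germ_eq_iff ξ U u (m • s) 0).1 (by rw [map_nsmul, map_zero]; exact hp)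
  obtain ⟨W, e, w, hW, hw⟩ := exists_affine_below' ξ V v
  obtain ⟨a, ha⟩ := exists_hom_of_torsion W m (F.obj.map e.op (F.obj.map g.op s)) (by
    rw [← map_nsmul, ← map_nsmul, he, map_zero, map_zero])
  refine ⟨W, hW, m, a, hm, germ ξ (EtPBC.extZeroConst W (ZMod m)) W w (extConstSec W (ZMod m) (ULift.up 1)), ?_⟩
  rw [germ_natural_apply, ha, germ_res_apply, hw, germ_res_apply, hv]

theorem torsionBy_of_isTorsion {F : EtCoh.Ab X} (hF : EtCoh.IsTorsion F) : TorsionBy (fun n => 0 < n) F := by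
  intro Ω _ _ ξ p
  obtain ⟨U, u, s, rfl⟩ := exists_germ ξ p
  obtain ⟨V, g, ⟨y, hy⟩, ho⟩ := hF U s u.pt
  haveI : AlgebraicGeometry.Etale g.left := etale_left g
  obtain ⟨l, hl, -⟩ := Scheme.exists_fac_of_etale_of_isSepClosed g.left u.hom y hy
  let v : Fib ξ V := Fib.mk l (by
    rw [← (show g.left ≫ U.hom = V.hom from MorphismProperty.Over.w g), ← Category.assoc, hl]
    exact u.w)
  obtain ⟨m, hm, he⟩ := isOfFinAddOrder_iff_nsmul_eq_zero.1 ho
  refine ⟨m, hm, ?_⟩
  rw [← (show v.map g = u from Fib.ext hl), ← germ_res_apply, ← map_nsmul, he, map_zero]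

theorem torsionBy_of_killedBy {F : EtCoh.Ab X} {n : ℕ} (hF : EtCoh.KilledBy n F) : TorsionBy (fun m => m = n) F := by
  intro Ω _ _ ξ p
  obtain ⟨U, u, s, rfl⟩ := exists_germ ξ p
  exact ⟨n, rfl, by rw [← map_nsmul, hF U s, map_zero]⟩

theorem finite_stalk_Ab {F : EtCoh.Ab X} (hF : IsCons (A := AddCommGrpCat.{u + 1}) FinP F)
    {Ω : Type u} [Field Ω] [IsSepClosed Ω] (ξ : Spec (CommRingCat.of Ω) ⟶ X) :
    Finite ((stk (A := AddCommGrpCat.{u + 1}) ξ).obj F) := by
  obtain ⟨W, hW, hxW, -⟩ := exists_isAffineOpen_mem_and_subset (X := X) (x := ξ.base default) (U := ⊤) trivial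
  obtain ⟨n, T, g, hi, -, -, hu, hl⟩ := hF W hW
  obtain ⟨i, ht⟩ := Set.mem_iUnion.1 (hu.ge hxW)
  haveI := hi i
  obtain ⟨ζ, rfl⟩ := exists_factor (g i) ξ ht
  obtain ⟨V, y, M, η, hy, hM, hη⟩ := hl i (ζ.base default)
  obtain ⟨v, -⟩ := exists_fib ζ V y hy
  haveI := hη Ω ζ v
  haveI : Finite M := hM
  exact Finite.of_equiv M
    (asIso (η ≫ germ ζ _ V v) ≪≫ ((stalkPull (g i) ζ AddCommGrpCat.{u + 1}).app F).symm).addCommGroupIsoToAddEquiv.toEquiv

theorem torsionBy_of_isCons {F : EtCoh.Ab X} (hF : IsCons (A := AddCommGrpCat.{u + 1}) FinP F) :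
    TorsionBy (fun n => 0 < n) F := fun Ω _ _ ξ p => by
  haveI := finite_stalk_Ab hF ξ
  exact ⟨_, Nat.card_pos, card_nsmul_eq_zero' (x := p)⟩

theorem TorsionBy.of_mono {ok : ℕ → Prop} {K F : EtCoh.Ab X} (ι : K ⟶ F) [Mono ι] (h : TorsionBy ok F) :
    TorsionBy ok K := fun Ω _ _ ξ p => by
  obtain ⟨m, hm, hp⟩ := h Ω ξ ((stk (A := AddCommGrpCat.{u + 1}) ξ).map ι p)
  haveI : Mono ((stk (A := AddCommGrpCat.{u + 1}) ξ).map ι) := inferInstance
  exact ⟨m, hm, (AddCommGrpCat.mono_iff_injective _).1 ‹_› (by rw [map_nsmul, map_zero]; exact hp)⟩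

theorem isZero_stalk_congr {F : EtCoh.Ab X} (hF : IsCons (A := AddCommGrpCat.{u + 1}) FinP F)
    {Ω Ω' : Type u} [Field Ω] [IsSepClosed Ω] [Field Ω'] [IsSepClosed Ω'] {ξ : Spec (CommRingCat.of Ω) ⟶ X}
    {ξ' : Spec (CommRingCat.of Ω') ⟶ X} (e : ξ.base default = ξ'.base default)
    (h : IsZero ((stk (A := AddCommGrpCat.{u + 1}) ξ).obj F)) :
    IsZero ((stk (A := AddCommGrpCat.{u + 1}) ξ').obj F) := by
  obtain ⟨W, hW, hxW, -⟩ := exists_isAffineOpen_mem_and_subset (X := X) (x := ξ.base default) (U := ⊤) trivial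
  obtain ⟨n, T, g, hi, -, -, hu, hl⟩ := hF W hW
  obtain ⟨i, ht⟩ := Set.mem_iUnion.1 (hu.ge hxW)
  haveI := hi i
  obtain ⟨ζ, rfl⟩ := exists_factor (g i) ξ ht
  obtain ⟨ζ', rfl⟩ := exists_factor (g i) ξ' (e ▸ ht)
  have e' : ζ.base default = ζ'.base default := (g i).isEmbedding.injective e
  obtain ⟨V, y, M, η, hy, hM, hη⟩ := hl i (ζ.base default)
  obtain ⟨v, -⟩ := exists_fib ζ V y hy
  obtain ⟨v', -⟩ := exists_fib ζ' V y (hy.trans e')
  haveI := hη Ω ζ v
  haveI := hη Ω' ζ' v'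
  exact h.of_iso (((stalkPull (g i) ζ' AddCommGrpCat.{u + 1}).app F) ≪≫ (asIso (η ≫ germ ζ' _ V v')).symm ≪≫
    asIso (η ≫ germ ζ _ V v) ≪≫ ((stalkPull (g i) ζ AddCommGrpCat.{u + 1}).app F).symm)

theorem isCons_biproduct {n : ℕ} (f : Fin n → EtCoh.Ab X) (h : ∀ i, IsCons (A := AddCommGrpCat.{u + 1}) FinP (f i)) :
    IsCons (A := AddCommGrpCat.{u + 1}) FinP (⨁ f) := by
  induction n with
  | zero =>
    exact isCons_of_isZero (A := AddCommGrpCat.{u + 1}) (P := FinP) (by
      haveI := AddCommGrpCat.subsingleton_of_isZero (isZero_zero AddCommGrpCat.{u + 1})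
      exact Finite.of_subsingleton)
      ((IsZero.iff_id_eq_zero _).2 (biproduct.hom_ext _ _ fun i => i.elim0))
  | succ n ih =>
    let t : Fin n → EtCoh.Ab X := fun i => f i.succ
    let S : ShortComplex (EtCoh.Ab X) := ShortComplex.mk
      (biproduct.desc fun i => biproduct.ι f i.succ : ⨁ t ⟶ ⨁ f) (biproduct.π f 0) (by
        refine biproduct.hom_ext' _ _ fun i => ?_
        rw [biproduct.ι_desc_assoc, comp_zero]
        exact biproduct.ι_π_ne f (Fin.succ_ne_zero i))
    let σ : S.Splitting :=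
      { r := biproduct.lift fun i => biproduct.π f i.succ
        s := biproduct.ι f 0
        f_r := by
          refine biproduct.hom_ext' _ _ fun i => biproduct.hom_ext _ _ fun j => ?_
          simp only [S, biproduct.ι_desc_assoc, Category.assoc, biproduct.lift_π, Category.comp_id, biproduct.ι_π]
          split_ifs with h1 h2 h2
          · rfl
          · exact absurd (Fin.succ_injective _ h1) h2
          · exact absurd (congrArg Fin.succ h2) h1
          · rfl
        s_g := biproduct.ι_π_self f 0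
        id := by
          refine biproduct.hom_ext' _ _ fun i => ?_
          rw [Preadditive.comp_add, Category.comp_id]
          refine Fin.cases ?_ (fun i => ?_) i
          · have e : biproduct.ι f 0 ≫ biproduct.lift (fun i : Fin n => biproduct.π f i.succ) = 0 :=
              biproduct.hom_ext _ _ fun j => by
                rw [Category.assoc, biproduct.lift_π, zero_comp, biproduct.ι_π_ne f (Fin.succ_ne_zero j).symm]
            show biproduct.ι f 0 ≫ biproduct.lift _ ≫ biproduct.desc _ + biproduct.ι f 0 ≫ biproduct.π f 0 ≫ _ = _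
            rw [← Category.assoc, e, zero_comp, zero_add, biproduct.ι_π_self_assoc]
          · have e : biproduct.ι f i.succ ≫ biproduct.lift (fun i : Fin n => biproduct.π f i.succ) = biproduct.ι t i :=
              biproduct.hom_ext _ _ fun j => by
                rw [Category.assoc, biproduct.lift_π]
                by_cases hij : i = j
                · subst hij; rw [biproduct.ι_π_self, biproduct.ι_π_self]
                · rw [biproduct.ι_π_ne f fun h => hij (Fin.succ_injective _ h), biproduct.ι_π_ne t hij]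
            show biproduct.ι f i.succ ≫ biproduct.lift _ ≫ biproduct.desc _ + biproduct.ι f i.succ ≫ biproduct.π f 0 ≫ _ = _
            rw [← Category.assoc, e, biproduct.ι_desc, ← Category.assoc (biproduct.ι f i.succ),
              biproduct.ι_π_ne f (Fin.succ_ne_zero i), zero_comp, add_zero] }
    exact cons_extension σ.shortExact (ih t fun i => h i.succ) (h 0)

theorem isZero_stalk_coker_of_epi {F G : EtCoh.Ab X} (φ : F ⟶ G) {Ω : Type u} [Field Ω] [IsSepClosed Ω]
    (ξ : Spec (CommRingCat.of Ω) ⟶ X)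
    (h : ∀ p, ∃ q, (stk (A := AddCommGrpCat.{u + 1}) ξ).map φ q = p) :
    IsZero ((stk (A := AddCommGrpCat.{u + 1}) ξ).obj (cokernel φ)) := by
  haveI : Epi ((stk (A := AddCommGrpCat.{u + 1}) ξ).map (cokernel.π φ)) := inferInstance
  refine IsZero.of_epi_eq_zero ((stk (A := AddCommGrpCat.{u + 1}) ξ).map (cokernel.π φ))
    (ConcreteCategory.hom_ext _ _ fun p => ?_)
  obtain ⟨q, rfl⟩ := h p
  rw [← ConcreteCategory.comp_apply, ← Functor.map_comp, cokernel.condition, Functor.map_zero]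
  rfl

theorem epi_of_stalks {F G : EtCoh.Ab X} (φ : F ⟶ G)
    (h : ∀ (Ω : Type u) [Field Ω] [IsSepClosed Ω] (ξ : Spec (CommRingCat.of Ω) ⟶ X),
      IsZero ((stk (A := AddCommGrpCat.{u + 1}) ξ).obj (cokernel φ))) : Epi φ := by
  haveI : IsIso (0 : cokernel φ ⟶ cokernel φ) := isIso_of_stalks (A := AddCommGrpCat.{u + 1}) _ fun Ω _ _ ξ =>
    ⟨0, (h Ω ξ).eq_of_src _ _, (h Ω ξ).eq_of_src _ _⟩
  refine Preadditive.epi_of_cokernel_zero ?_
  rw [← cancel_mono (0 : cokernel φ ⟶ cokernel φ)]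
  simp

/-- Constructible sheaves are quotients of finite sums of extensions by zero. -/
theorem exists_epi_cons [CompactSpace X] [QuasiSeparatedSpace X] {F : EtCoh.Ab X}
    (hF : IsCons (A := AddCommGrpCat.{u + 1}) FinP F) {ok : ℕ → Prop} (hok : TorsionBy ok F)
    (hpos : ∀ m, ok m → 0 < m) :
    ∃ (a : ℕ) (U : Fin a → X.Etale) (n : Fin a → ℕ), (∀ i, ok (n i) ∧ IsAffine (U i).left) ∧
      ∃ φ : (⨁ fun i => EtPBC.extZeroConst (U i) (ZMod (n i))) ⟶ F, Epi φ := by
  classical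
  choose Ω iF iS ξ hξ using fun x : X => exists_geometric_pt x
  haveI := fun x => @finite_stalk_Ab X F hF (Ω x) (iF x) (iS x) (ξ x)
  choose U hU n a hn q hq using fun (x : X) (p : (@stk X (Ω x) (iF x) (iS x) AddCommGrpCat.{u + 1} _ _ (ξ x)).obj F) =>
    @exists_gen X F ok hok (Ω x) (iF x) (iS x) (ξ x) p
  haveI : ∀ (x : X) p, Finite (ZMod (n x p)) := fun x p => haveI : NeZero (n x p) := ⟨(hpos _ (hn x p)).ne'⟩; inferInstance
  haveI : ∀ x p, CompactSpace (U x p).left := fun x p => haveI := hU x p; inferInstance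
  haveI : ∀ x p, QuasiSeparatedSpace (U x p).left := fun x p => haveI := hU x p; inferInstance
  let k : X → ℕ := fun x => Nat.card ((@stk X (Ω x) (iF x) (iS x) AddCommGrpCat.{u + 1} _ _ (ξ x)).obj F)
  let e := fun x => (Finite.equivFin ((@stk X (Ω x) (iF x) (iS x) AddCommGrpCat.{u + 1} _ _ (ξ x)).obj F)).symm
  let φ := fun x => (biproduct.desc fun i : Fin (k x) => a x (e x i) :
    (⨁ fun i : Fin (k x) => EtPBC.extZeroConst (U x (e x i)) (ZMod (n x (e x i)))) ⟶ F)
  have hQ : ∀ x, IsCons (A := AddCommGrpCat.{u + 1}) FinP (cokernel (φ x)) := fun x =>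
    cons_cokernel (φ x) (isCons_biproduct _ fun i => isCons_extConst _ _) hF
  have hQ0 : ∀ x, x ∈ (EtPBC.supp (cokernel (φ x)))ᶜ := fun x => by
    rintro ⟨Ω', _, _, ξ', hr, hne⟩
    refine hne (isZero_stalk_congr (hQ x) (ξ := ξ x) ((hξ x).trans ((hr.subset ⟨default, rfl⟩).symm)) ?_)
    refine isZero_stalk_coker_of_epi _ _ fun p => ⟨(stk (A := AddCommGrpCat.{u + 1}) (ξ x)).map
      (biproduct.ι (fun i : Fin (k x) => EtPBC.extZeroConst (U x (e x i)) (ZMod (n x (e x i)))) ((e x).symm p))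
        (q x (e x ((e x).symm p))), ?_⟩
    rw [← ConcreteCategory.comp_apply, ← Functor.map_comp, biproduct.ι_desc]
    exact (hq x _).trans ((e x).apply_symm_apply p)
  obtain ⟨t, ht⟩ := exists_finite_subcover_constructible (fun x => (EtPBC.supp (cokernel (φ x)))ᶜ)
    (fun x => ((isLocallyConstructible_supp ((isConstructible_iff _).2 (hQ x))).isConstructible).compl)
    (Set.eq_univ_of_forall fun x => Set.mem_iUnion.2 ⟨x, hQ0 x⟩)
  let I := Σ x : t, Fin (k x.1)
  let E := Fintype.equivFin I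
  let U' : Fin (Fintype.card I) → X.Etale := fun i => U (E.symm i).1.1 (e _ (E.symm i).2)
  let n' : Fin (Fintype.card I) → ℕ := fun i => n (E.symm i).1.1 (e _ (E.symm i).2)
  let ψ : (⨁ fun i => EtPBC.extZeroConst (U' i) (ZMod (n' i))) ⟶ F :=
    biproduct.desc fun i => a (E.symm i).1.1 (e _ (E.symm i).2)
  refine ⟨_, U', n', fun i => ⟨hn _ _, hU _ _⟩, ψ, epi_of_stalks ψ fun Ω' _ _ ξ' => ?_⟩
  obtain ⟨x, hx, hmem⟩ := Set.mem_iUnion₂.1 (ht.ge (Set.mem_univ (ξ'.base default)))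
  have hz : IsZero ((stk (A := AddCommGrpCat.{u + 1}) ξ').obj (cokernel (φ x))) := by
    by_contra hne
    exact hmem ⟨Ω', inferInstance, inferInstance, ξ', range_eq_singleton _, hne⟩
  have hc : φ x ≫ cokernel.π ψ = 0 := by
    refine biproduct.hom_ext' _ _ fun i => ?_
    rw [comp_zero, biproduct.ι_desc_assoc]
    have key : ∀ j : I, a j.1.1 (e _ j.2) ≫ cokernel.π ψ = 0 := fun j => by
      obtain ⟨l, rfl⟩ := E.symm.surjective j
      rw [← biproduct.ι_desc (fun i => a (E.symm i).1.1 (e _ (E.symm i).2)) l, Category.assoc,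
        cokernel.condition, comp_zero]
    exact key ⟨⟨x, hx⟩, i⟩
  haveI : Epi (cokernel.desc (φ x) (cokernel.π ψ) hc) := by
    haveI : Epi (cokernel.π (φ x) ≫ cokernel.desc (φ x) (cokernel.π ψ) hc) := by
      rw [cokernel.π_desc]; infer_instance
    exact epi_of_epi (cokernel.π (φ x)) _
  exact IsZero.of_epi ((stk (A := AddCommGrpCat.{u + 1}) ξ').map (cokernel.desc (φ x) (cokernel.π ψ) hc)) hz

theorem exists_presentation [CompactSpace X] [QuasiSeparatedSpace X] {F : EtCoh.Ab X}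
    (hF : IsCons (A := AddCommGrpCat.{u + 1}) FinP F) {ok : ℕ → Prop} (hok : TorsionBy ok F)
    (hpos : ∀ m, ok m → 0 < m) (hsum : ∀ (a : ℕ) (U : Fin a → X.Etale) (n : Fin a → ℕ), (∀ i, ok (n i)) →
      TorsionBy ok (⨁ fun i => EtPBC.extZeroConst (U i) (ZMod (n i)))) :
    ∃ (a b : ℕ) (U : Fin a → X.Etale) (V : Fin b → X.Etale) (n : Fin a → ℕ) (m : Fin b → ℕ),
      (∀ i, ok (n i) ∧ IsAffine (U i).left) ∧ (∀ j, ok (m j) ∧ IsAffine (V j).left) ∧
        ∃ φ : (⨁ fun j => EtPBC.extZeroConst (V j) (ZMod (m j))) ⟶ ⨁ fun i => EtPBC.extZeroConst (U i) (ZMod (n i)),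
          Nonempty (F ≅ cokernel φ) := by
  obtain ⟨a, U, n, hn, π, hπ⟩ := exists_epi_cons hF hok hpos
  haveI : ∀ i, Finite (ZMod (n i)) := fun i => haveI : NeZero (n i) := ⟨(hpos _ (hn i).1).ne'⟩; inferInstance
  haveI : ∀ i, CompactSpace (U i).left := fun i => haveI := (hn i).2; inferInstance
  haveI : ∀ i, QuasiSeparatedSpace (U i).left := fun i => haveI := (hn i).2; inferInstance
  obtain ⟨b, V, m, hm, ψ, hψ⟩ := exists_epi_cons (cons_kernel π (isCons_biproduct _ fun i => isCons_extConst _ _) hF)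
    ((hsum a U n fun i => (hn i).1).of_mono (kernel.ι π)) hpos
  refine ⟨a, b, U, V, n, m, hn, hm, ψ ≫ kernel.ι π, ⟨?_⟩⟩
  exact ((Abelian.epiIsCokernelOfKernel _ (kernelIsKernel π)).coconePointUniqueUpToIso
    (cokernelIsCokernel (kernel.ι π))) ≪≫ (cokernelEpiComp ψ (kernel.ι π)).symm

theorem isCons_of_noetherianObject [IsNoetherian X] {F : EtCoh.Ab X} (hF : TorsionBy (fun n => 0 < n) F)
    [IsNoetherianObject F] : IsCons (A := AddCommGrpCat.{u + 1}) FinP F := by
  let S : Set (Subobject F) := {K | ∃ (G : EtCoh.Ab X) (φ : G ⟶ F),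
    IsCons (A := AddCommGrpCat.{u + 1}) FinP G ∧ imageSubobject φ = K}
  obtain ⟨K, ⟨G, φ, hG, rfl⟩, hmax⟩ := (IsWellFounded.wf (r := fun a b : Subobject F => b < a)).has_min S
    ⟨_, (0 : EtCoh.Ab X), 0, isCons_of_isZero (A := AddCommGrpCat.{u + 1}) (P := FinP) (by
      haveI := AddCommGrpCat.subsingleton_of_isZero (isZero_zero AddCommGrpCat.{u + 1})
      exact Finite.of_subsingleton) (isZero_zero _), rfl⟩
  haveI : Epi φ := by
    refine epi_of_stalks φ fun Ω _ _ ξ => isZero_stalk_coker_of_epi _ _ fun p => ?_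
    obtain ⟨U, hU, n, a, hn, q, rfl⟩ := exists_gen hF ξ p
    haveI : Finite (ZMod n) := haveI : NeZero n := ⟨hn.ne'⟩; inferInstance
    haveI : CompactSpace U.left := inferInstance
    let f : Fin 2 → EtCoh.Ab X := ![G, EtPBC.extZeroConst U (ZMod n)]
    let χ : (⨁ f) ⟶ F := biproduct.desc (Fin.cases φ fun i => Fin.cases a (fun j => j.elim0) i)
    have hf : ∀ i, IsCons (A := AddCommGrpCat.{u + 1}) FinP (f i) :=
      Fin.cases hG fun i => Fin.cases (isCons_extConst U (ZMod n)) (fun j => j.elim0) i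
    have h0 : biproduct.ι f 0 ≫ χ = φ := biproduct.ι_desc _ _
    have h1 : biproduct.ι f 1 ≫ χ = a := biproduct.ι_desc _ _
    have hle : imageSubobject φ ≤ imageSubobject χ := by
      rw [← h0]; exact imageSubobject_comp_le _ _
    have heq : imageSubobject χ ≤ imageSubobject φ := by
      by_contra hne
      exact hmax _ ⟨_, χ, isCons_biproduct f hf, rfl⟩ (lt_of_le_not_ge hle hne)
    let k := factorThruImageSubobject φ
    have hfac : ((biproduct.ι f 1 ≫ factorThruImageSubobject χ) ≫ Subobject.ofLE _ _ heq) ≫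
        (imageSubobject φ).arrow = a := by
      rw [Category.assoc, Subobject.ofLE_arrow, Category.assoc, imageSubobject_arrow_comp, h1]
    obtain ⟨r, hr⟩ := (AddCommGrpCat.epi_iff_surjective _).1
      (inferInstance : Epi ((stk (A := AddCommGrpCat.{u + 1}) ξ).map k))
      ((stk (A := AddCommGrpCat.{u + 1}) ξ).map ((biproduct.ι f 1 ≫ factorThruImageSubobject χ) ≫
        Subobject.ofLE _ _ heq) q)
    refine ⟨r, ?_⟩
    rw [← imageSubobject_arrow_comp φ, Functor.map_comp, ConcreteCategory.comp_apply, hr,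
      ← ConcreteCategory.comp_apply, ← Functor.map_comp, hfac]
    rfl
  exact cons_of_epi φ hG

end Groth.Agent.EtShLib
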