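import Groth.Agent.EtShLib.SectColim
import Groth.Agent.EtShLib.Generate
import Mathlib.CategoryTheory.Limits.Types.Filtered
import Mathlib.CategoryTheory.Yoneda

/-! Constructible sheaves are compact objects. -/

set_option autoImplicit false
set_option linter.unusedSectionVars false
set_option linter.style.haveILetI false
set_option backward.isDefEq.respectTransparency false
set_option backward.isDefEq.respectTransparency.types false
set_option synthInstance.maxHeartbeats 400000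
set_option maxHeartbeats 1000000

universe u

open CategoryTheory CategoryTheory.Limits AlgebraicGeometry Opposite

namespace Groth.Agent.EtShLib

variable {X : Scheme.{u}}

/-- Morphisms out of `G` commute with filtered colimits. -/
def CompactSh (G : EtCoh.Ab X) : Prop :=
  ∀ (J : Type u) [SmallCategory J] [IsFiltered J] (D : J ⥤ EtCoh.Ab X) (c : Cocone D), IsColimit c →
    (∀ (i : J) (h : G ⟶ D.obj i), h ≫ c.ι.app i = 0 → ∃ (k : J) (a : i ⟶ k), h ≫ D.map a = 0) ∧
      ∀ h : G ⟶ c.pt, ∃ (i : J) (g : G ⟶ D.obj i), g ≫ c.ι.app i = h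

/-- The generator of `j_! ℤ/n`. -/
noncomputable def genSec (U : X.Etale) (n : ℕ) : (EtPBC.extZeroConst U (ZMod n)).obj.obj (op U) :=
  extConstSec U (ZMod n) (ULift.up 1)

theorem nsmul_genSec (U : X.Etale) (n : ℕ) : n • genSec U n = 0 := by
  rw [genSec, ← map_nsmul]
  have e : n • (ULift.up 1 : ULift.{u + 1} (ZMod n)) = 0 := by
    apply ULift.ext
    show n • (1 : ZMod n) = 0
    rw [nsmul_eq_mul, ZMod.natCast_self, zero_mul]
  exact (congrArg (extConstSec U (ZMod n)) e).trans (map_zero _)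

theorem extConst_hom_ext_gen (U : X.Etale) (n : ℕ) [NeZero n] {N : EtCoh.Ab X}
    {a b : EtPBC.extZeroConst U (ZMod n) ⟶ N}
    (h : a.hom.app (op U) (genSec U n) = b.hom.app (op U) (genSec U n)) : a = b := by
  refine extConst_hom_ext U (ZMod n) ?_
  ext ⟨x⟩
  obtain ⟨k, rfl⟩ : ∃ k : ℕ, (k : ZMod n) = x := ⟨x.val, ZMod.natCast_zmod_val x⟩
  have e : (ULift.up (k : ZMod n) : ULift.{u + 1} (ZMod n)) = k • ULift.up 1 := by
    apply ULift.ext
    show (k : ZMod n) = k • (1 : ZMod n)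
    rw [nsmul_eq_mul, mul_one]
  show a.hom.app (op U) (extConstSec U (ZMod n) (ULift.up _)) = b.hom.app (op U) (extConstSec U (ZMod n) (ULift.up _))
  rw [e]
  simp only [map_nsmul]
  exact congrArg (k • ·) h

theorem compactSh_extConst (U : X.Etale) [CompactSpace U.left] [QuasiSeparatedSpace U.left] (n : ℕ) [NeZero n] :
    CompactSh (EtPBC.extZeroConst U (ZMod n)) := by
  intro J _ _ D c hc
  refine ⟨fun i h h0 => ?_, fun h => ?_⟩
  · obtain ⟨k, a, ha⟩ := exists_stage_zero hc U (h.hom.app (op U) (genSec U n)) (by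
      show (h ≫ c.ι.app i).hom.app (op U) (genSec U n) = 0
      rw [h0]
      rfl)
    exact ⟨k, a, extConst_hom_ext_gen U n (ha.trans rfl)⟩
  · obtain ⟨i, s, hs⟩ := exists_stage_lift hc U (h.hom.app (op U) (genSec U n))
    obtain ⟨k, a, ha⟩ := exists_stage_zero hc U (n • s) (by
      refine (map_nsmul _ n s).trans ((congrArg (n • ·) hs).trans ?_)
      exact (map_nsmul (h.hom.app (op U)).hom n _).symm.trans
        ((congrArg (h.hom.app (op U)) (nsmul_genSec U n)).trans (map_zero _)))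
    obtain ⟨g, hg⟩ := exists_hom_of_torsion U n ((D.map a).hom.app (op U) s) (by rw [← map_nsmul]; exact ha)
    refine ⟨k, g, extConst_hom_ext_gen U n ?_⟩
    show (c.ι.app k).hom.app (op U) (g.hom.app (op U) (genSec U n)) = _
    refine (congrArg ((c.ι.app k).hom.app (op U)) hg).trans
      ((congrArg (fun w : D.obj i ⟶ c.pt => w.hom.app (op U) s) (c.w a)).trans hs)

theorem compactSh_biproduct {n : ℕ} (f : Fin n → EtCoh.Ab X) (h : ∀ i, CompactSh (f i)) : CompactSh (⨁ f) := by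
  classical
  intro J _ _ D c hc
  refine ⟨fun i g h0 => ?_, fun g => ?_⟩
  · choose k a ha using fun l => (h l J D c hc).1 i (biproduct.ι f l ≫ g) (by rw [Category.assoc, h0, comp_zero])
    obtain ⟨N, T, hT⟩ := IsFiltered.sup_exists (insert i (Finset.univ.image k))
      (Finset.univ.image fun l => ⟨i, k l, by simp, by simp, a l⟩)
    refine ⟨N, T (X := i) (by simp), biproduct.hom_ext' _ _ fun l => ?_⟩
    rw [← hT (X := i) (Y := k l) (by simp) (by simp) (f := a l) (Finset.mem_image.2 ⟨l, Finset.mem_univ _, rfl⟩),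
      D.map_comp, ← Category.assoc g, ← Category.assoc, ← Category.assoc, ha, zero_comp, comp_zero]
  · choose i q hq using fun l => (h l J D c hc).2 (biproduct.ι f l ≫ g)
    obtain ⟨N, hN⟩ := IsFiltered.sup_objs_exists (Finset.univ.image i)
    have b : ∀ l, i l ⟶ N := fun l => (hN (Finset.mem_image_of_mem i (Finset.mem_univ l))).some
    refine ⟨N, biproduct.desc fun l => q l ≫ D.map (b l), biproduct.hom_ext' _ _ fun l => ?_⟩
    rw [biproduct.ι_desc_assoc, Category.assoc, c.w, hq]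

theorem compactSh_cokernel {P Q : EtCoh.Ab X} (φ : Q ⟶ P) (hP : CompactSh P) (hQ : CompactSh Q) :
    CompactSh (cokernel φ) := by
  intro J _ _ D c hc
  refine ⟨fun i g h0 => ?_, fun g => ?_⟩
  · obtain ⟨k, a, ha⟩ := (hP J D c hc).1 i (cokernel.π φ ≫ g) (by rw [Category.assoc, h0, comp_zero])
    exact ⟨k, a, (cancel_epi (cokernel.π φ)).1 (by rw [← Category.assoc, ha, comp_zero])⟩
  · obtain ⟨i, q, hq⟩ := (hP J D c hc).2 (cokernel.π φ ≫ g)
    obtain ⟨k, a, ha⟩ := (hQ J D c hc).1 i (φ ≫ q) (by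
      rw [Category.assoc, hq, cokernel.condition_assoc, zero_comp])
    refine ⟨k, cokernel.desc φ (q ≫ D.map a) (by rw [← Category.assoc, ha]), (cancel_epi (cokernel.π φ)).1 ?_⟩
    rw [cokernel.π_desc_assoc, Category.assoc, c.w, hq]

theorem exists_presentation' [CompactSpace X] [QuasiSeparatedSpace X] {F : EtCoh.Ab X}
    (hF : IsCons (A := AddCommGrpCat.{u + 1}) FinP F) :
    ∃ (a b : ℕ) (U : Fin a → X.Etale) (V : Fin b → X.Etale) (n : Fin a → ℕ) (m : Fin b → ℕ),
      (∀ i, 0 < n i ∧ IsAffine (U i).left) ∧ (∀ j, 0 < m j ∧ IsAffine (V j).left) ∧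
        ∃ φ : (⨁ fun j => EtPBC.extZeroConst (V j) (ZMod (m j))) ⟶ ⨁ fun i => EtPBC.extZeroConst (U i) (ZMod (n i)),
          Nonempty (F ≅ cokernel φ) := by
  obtain ⟨a, U, n, hn, π, hπ⟩ := exists_epi_cons hF (torsionBy_of_isCons hF) (fun _ h => h)
  have hP : IsCons (A := AddCommGrpCat.{u + 1}) FinP (⨁ fun i => EtPBC.extZeroConst (U i) (ZMod (n i))) :=
    isCons_biproduct _ fun i => by
      haveI : NeZero (n i) := ⟨(hn i).1.ne'⟩
      haveI := (hn i).2
      exact isCons_extConst _ _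
  obtain ⟨b, V, m, hm, ψ, hψ⟩ := exists_epi_cons (cons_kernel π hP hF)
    ((torsionBy_of_isCons hP).of_mono (kernel.ι π)) (fun _ h => h)
  exact ⟨a, b, U, V, n, m, hn, hm, ψ ≫ kernel.ι π,
    ⟨((Abelian.epiIsCokernelOfKernel _ (kernelIsKernel π)).coconePointUniqueUpToIso
      (cokernelIsCokernel (kernel.ι π))) ≪≫ (cokernelEpiComp ψ (kernel.ι π)).symm⟩⟩

theorem compactSh_of_isCons [CompactSpace X] [QuasiSeparatedSpace X] {F : EtCoh.Ab X}
    (hF : IsCons (A := AddCommGrpCat.{u + 1}) FinP F) : CompactSh F := by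
  obtain ⟨a, b, U, V, n, m, hn, hm, φ, ⟨e⟩⟩ := exists_presentation' hF
  have h : ∀ {a : ℕ} (U : Fin a → X.Etale) (n : Fin a → ℕ), (∀ i, 0 < n i ∧ IsAffine (U i).left) →
      CompactSh (⨁ fun i => EtPBC.extZeroConst (U i) (ZMod (n i))) := fun U n hn =>
    compactSh_biproduct _ fun i => by
      haveI : NeZero (n i) := ⟨(hn i).1.ne'⟩
      haveI := (hn i).2
      exact compactSh_extConst (U i) (n i)
  intro J _ _ D c hc
  obtain ⟨h1, h2⟩ := compactSh_cokernel φ (h U n hn) (h V m hm) J D c hc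
  refine ⟨fun i g h0 => ?_, fun g => ?_⟩
  · obtain ⟨k, a, ha⟩ := h1 i (e.inv ≫ g) (by rw [Category.assoc, h0, comp_zero])
    exact ⟨k, a, (cancel_epi e.inv).1 (by rw [← Category.assoc, ha, comp_zero])⟩
  · obtain ⟨i, q, hq⟩ := h2 (e.inv ≫ g)
    exact ⟨i, e.hom ≫ q, by rw [Category.assoc, hq, Iso.hom_inv_id_assoc]⟩

theorem preservesColimitsOfShape_coyoneda {F : EtCoh.Ab X} (hF : CompactSh F) (J : Type u) [SmallCategory J]
    [IsFiltered J] : PreservesColimitsOfShape J (coyoneda.obj (op F)) := by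
  refine ⟨fun {D} => ⟨fun {c} hc => ⟨?_⟩⟩⟩
  obtain ⟨h1, h2⟩ := hF J D c hc
  refine Types.FilteredColimit.isColimitOf' _ _ (fun x => ?_) fun i x y h => ?_
  · obtain ⟨i, g, hg⟩ := h2 x
    exact ⟨i, g, hg.symm⟩
  · let x' : F ⟶ D.obj i := x
    let y' : F ⟶ D.obj i := y
    have h' : x' ≫ c.ι.app i = y' ≫ c.ι.app i := h
    obtain ⟨k, a, ha⟩ := h1 i (x' - y') (by
      rw [Preadditive.sub_comp, h', sub_self])
    exact ⟨k, a, (sub_eq_zero.1 ((Preadditive.sub_comp x' y' _).symm.trans ha) : x' ≫ D.map a = y' ≫ D.map a)⟩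

end Groth.Agent.EtShLib
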