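import Groth.Agent.EtShLib.CechColim
import Groth.Agent.EtShLib.Generate
import Mathlib.CategoryTheory.Abelian.Injective.Ext
import Mathlib.CategoryTheory.Abelian.RightDerived
import Mathlib.Algebra.Category.Grp.Adjunctions
import Mathlib.CategoryTheory.Adjunction.Whiskering

/-! Cohomology and higher direct images of torsion sheaves are torsion. -/

set_option autoImplicit false
set_option linter.unusedSectionVars false
set_option linter.style.haveILetI false
set_option backward.isDefEq.respectTransparency false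
set_option backward.isDefEq.respectTransparency.types false
set_option synthInstance.maxHeartbeats 400000
set_option maxHeartbeats 1000000

universe u

open CategoryTheory CategoryTheory.Limits AlgebraicGeometry Opposite CategoryTheory.Abelian

namespace Groth.Agent.EtShLib

variable {X : Scheme.{u}}

/-- A sheaf corepresenting sections over an object. -/
structure SectRep (M : EtCoh.Ab X) (W : X.Etale) where
  e : ∀ F : EtCoh.Ab X, (M ⟶ F) ≃+ F.obj.obj (op W)
  nat : ∀ {F G : EtCoh.Ab X} (s : M ⟶ F) (f : F ⟶ G), f.hom.app (op W) (e F s) = e G (s ≫ f)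

theorem exists_sectRep_constZ (X : Scheme.{u}) : Nonempty (SectRep (constZ X) (EtCoh.top X)) := by
  obtain ⟨hT⟩ := isTerminal_top X
  refine ⟨{ e := fun F => Ext.addEquiv₀.symm.trans (Sheaf.H.equiv₀ F hT), nat := fun {F G} s f => ?_ }⟩
  show f.hom.app _ (Sheaf.H.equiv₀ F hT (Ext.addEquiv₀.symm s)) = Sheaf.H.equiv₀ G hT (Ext.addEquiv₀.symm (s ≫ f))
  rw [Sheaf.H.equiv₀_naturality, Sheaf.H.map_apply, Ext.addEquiv₀_symm_apply, Ext.addEquiv₀_symm_apply,
    Ext.mk₀_comp_mk₀]

/-- The free abelian sheaf on an object. -/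
noncomputable abbrev freeAt (W : X.Etale) : EtCoh.Ab X :=
  (presheafToSheaf X.smallEtaleTopology AddCommGrpCat.{u + 1}).obj
    (uliftYoneda.{u + 1}.obj W ⋙ AddCommGrpCat.free.{u + 1})

/-- The tautological section of the free sheaf. -/
noncomputable def genAt (W : X.Etale) : (freeAt W).obj.obj (op W) :=
  (toSheafify X.smallEtaleTopology (uliftYoneda.{u + 1}.obj W ⋙ AddCommGrpCat.free.{u + 1})).app (op W)
    (FreeAbelianGroup.of (ULift.up (𝟙 W)))

theorem exists_sectRep_freeAt (W : X.Etale) : Nonempty (SectRep (freeAt W) W) := by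
  let E : ∀ F : EtCoh.Ab X, (freeAt W ⟶ F) ≃ F.obj.obj (op W) := fun F =>
    ((sheafificationAdjunction X.smallEtaleTopology AddCommGrpCat.{u + 1}).homEquiv _ F).trans
      (((AddCommGrpCat.adj.{u + 1}.whiskerRight _).homEquiv _ F.obj).trans
        (uliftYonedaEquiv.{u + 1} (F := F.obj ⋙ forget AddCommGrpCat.{u + 1})))
  have hE : ∀ (F : EtCoh.Ab X) (s : freeAt W ⟶ F), E F s = s.hom.app (op W) (genAt W) := fun F s => rfl
  exact ⟨{
    e := fun F => { E F with
      map_add' := fun s t => by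
        show E F (s + t) = E F s + E F t
        rw [hE, hE, hE]
        rfl }
    nat := fun {F G} s f => by
      show f.hom.app _ (E F s) = E G (s ≫ f)
      rw [hE, hE]
      rfl }⟩

variable {M : EtCoh.Ab X} {W : X.Etale} (R : SectRep M W) (hW : W ∈ qcqsObj X)

include R hW

theorem subsingleton_ext_cechAcyclicQ : ∀ (p : ℕ) (G : EtCoh.Ab X),
    CechAcyclicQ G → Subsingleton (Ext.{u + 1} M G (p + 1))
  | 0, G, hG => by
    haveI : Injective (CohLib.injSC G).X₂ := inferInstanceAs (Injective (Injective.under G))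
    haveI := CohLib.subsingleton_ext_injective.{u + 1} M (CohLib.injSC G).X₂ 0
    refine CohLib.subsingleton_ext_one_of_lift (CohLib.injSC_shortExact G) fun s => ?_
    obtain ⟨t, ht⟩ := surjective_sections (CohLib.injSC_shortExact G) hG hW (R.e _ s)
    refine ⟨(R.e _).symm t, (R.e _).injective ?_⟩
    rw [← R.nat, AddEquiv.apply_symm_apply]
    exact ht
  | p + 1, G, hG => by
    haveI : Injective (CohLib.injSC G).X₂ := inferInstanceAs (Injective (Injective.under G))
    haveI := CohLib.subsingleton_ext_injective.{u + 1} M (CohLib.injSC G).X₂ (p + 1)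
    haveI := subsingleton_ext_cechAcyclicQ p _ (cechAcyclicQ_quotient (CohLib.injSC_shortExact G) hG)
    exact CohLib.subsingleton_ext_of_shift (CohLib.injSC_shortExact G)

theorem extComm_sectRep (n : ℕ) (J : Type u) [SmallCategory J] [IsFiltered J] :
    FiltExtLib.ExtComm M (AsSmall.{u + 1} J) n := by
  haveI : IsFiltered (AsSmall.{u + 1} J) := IsFiltered.of_equivalence AsSmall.equiv
  haveI := hW.1
  haveI := hW.2
  refine FiltExtLib.extComm_of_acyclic ?_ ?_ ?_ n
  · intro D t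
    have hc := IsColimit.whiskerEquivalence (colimit.isColimit D) AsSmall.equiv
    obtain ⟨i, y, hy⟩ := exists_stage_lift hc W (R.e _ t)
    refine ⟨AsSmall.equiv.functor.obj i, (R.e _).symm y, (R.e _).injective ?_⟩
    rw [← R.nat, AddEquiv.apply_symm_apply]
    exact hy
  · rintro D ⟨i⟩ s h
    have hc := IsColimit.whiskerEquivalence (colimit.isColimit D) AsSmall.equiv
    obtain ⟨k, a, ha⟩ := exists_stage_zero hc W (i := i) (R.e _ s) (by
      refine (R.nat s _).trans ?_
      erw [h]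
      rw [map_zero])
    refine ⟨AsSmall.equiv.functor.obj k, AsSmall.equiv.functor.map a, (R.e _).injective ?_⟩
    rw [← R.nat, map_zero]
    exact ha
  · intro q I hI
    have hc := IsColimit.whiskerEquivalence (colimit.isColimit I) AsSmall.equiv
    exact subsingleton_ext_cechAcyclicQ R hW q _ (cechAcyclicQ_colimit hc fun j =>
      @cechAcyclicQ_injective _ (I.obj (AsSmall.equiv.functor.obj j)) (hI _))

omit R hW

/-- The subsheaf killed by `m`. -/
noncomputable abbrev killedSub (F : EtCoh.Ab X) (m : ℕ) : EtCoh.Ab X := kernel (m • 𝟙 F)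

theorem nsmul_id_killedSub (F : EtCoh.Ab X) (m : ℕ) : m • 𝟙 (killedSub F m) = 0 := by
  rw [← cancel_mono (kernel.ι (m • 𝟙 F)), zero_comp, Preadditive.nsmul_comp, Category.id_comp,
    ← kernel.condition (m • 𝟙 F), Preadditive.comp_nsmul, Category.comp_id]

theorem exists_killed_colimit {F : EtCoh.Ab X} (hF : EtCoh.IsTorsion F) :
    ∃ (J : Type u) (_ : SmallCategory J) (_ : IsFiltered J) (D : J ⥤ EtCoh.Ab X) (c : Cocone D),
      Nonempty (IsColimit c) ∧ c.pt = F ∧ ∀ j, ∃ m, 0 < m ∧ m • 𝟙 (D.obj j) = 0 := by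
  classical
  let J := ULift.{u} ℕ
  haveI : Nonempty J := ⟨⟨0⟩⟩
  haveI : IsDirectedOrder J := ⟨fun a b => ⟨⟨max a.down b.down⟩, ULift.down_le.1 (le_max_left _ _), ULift.down_le.1 (le_max_right _ _)⟩⟩
  have hdvd : ∀ {i j : J}, i ≤ j → Nat.factorial i.down ∣ Nat.factorial j.down := fun h => Nat.factorial_dvd_factorial h
  have hker : ∀ {i j : J}, i ≤ j → kernel.ι (Nat.factorial i.down • 𝟙 F) ≫ (Nat.factorial j.down • 𝟙 F) = 0 := fun h => by
    obtain ⟨r, hr⟩ := hdvd h
    rw [hr, mul_comm, mul_smul, Preadditive.comp_nsmul, kernel.condition, smul_zero]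
  let D : J ⥤ EtCoh.Ab X := {
    obj := fun j => killedSub F (Nat.factorial j.down)
    map := fun {i j} h => kernel.lift _ (kernel.ι _) (hker (leOfHom h))
    map_id := fun i => by rw [← cancel_mono (kernel.ι (Nat.factorial i.down • 𝟙 F))]; simp
    map_comp := fun {i j k} f g => by rw [← cancel_mono (kernel.ι (Nat.factorial k.down • 𝟙 F))]; simp }
  let c : Cocone D := { pt := F, ι := {
    app := fun j => kernel.ι _
    naturality := fun i j h => by simp [D] } }
  haveI : IsIso (colimit.desc D c) := by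
    refine isIso_of_stalks (A := AddCommGrpCat.{u + 1}) _ fun Ω _ _ ξ => ?_
    let S := stk (A := AddCommGrpCat.{u + 1}) ξ
    have hι : ∀ j (q : (D ⋙ S).obj j),
        S.map (colimit.desc D c) (S.map (colimit.ι D j) q) = S.map (kernel.ι _) q := fun j q => by
      rw [← ConcreteCategory.comp_apply, ← S.map_comp, colimit.ι_desc]
    rw [ConcreteCategory.isIso_iff_bijective]
    refine ⟨(injective_iff_map_eq_zero (S.map (colimit.desc D c)).hom).2 fun p hp => ?_, fun p => ?_⟩
    · obtain ⟨j, q, rfl⟩ := Concrete.isColimit_exists_rep (D ⋙ S) (isColimitOfPreserves S (colimit.isColimit D)) p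
      have hinj := (AddCommGrpCat.mono_iff_injective _).1
        ((mono_iff_stalks (A := AddCommGrpCat.{u + 1}) (kernel.ι (Nat.factorial j.down • 𝟙 F))).1 inferInstance Ω ξ)
      have hq : q = 0 := hinj ((hι j q).symm.trans (hp.trans (map_zero _).symm))
      rw [hq, map_zero]
    · obtain ⟨m, hm, hmp⟩ := torsionBy_of_isTorsion hF Ω ξ p
      have he : (ShortComplex.mk (kernel.ι (Nat.factorial m • 𝟙 F)) (Nat.factorial m • 𝟙 F) (kernel.condition _)).Exact :=
        ShortComplex.exact_of_f_is_kernel _ (kernelIsKernel _)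
      have he' := (ShortComplex.ab_exact_iff _).1 ((exact_iff_stalks (A := AddCommGrpCat.{u + 1}) _).1 he Ω ξ)
      obtain ⟨U, u, s, rfl⟩ := exists_germ (A := AddCommGrpCat.{u + 1}) ξ p
      obtain ⟨q, hq⟩ := he' (germ (A := AddCommGrpCat.{u + 1}) ξ F U u s) (by
        refine (germ_natural_apply (A := AddCommGrpCat.{u + 1}) ξ (Nat.factorial m • 𝟙 F) U u s).trans ?_
        obtain ⟨r, hr⟩ := Nat.dvd_factorial hm le_rfl
        have h2 : (Nat.factorial m • 𝟙 F).hom.app (op U) s = Nat.factorial m • s := by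
          show AddCommGrpCat.homAddEquiv (((sheafToPresheaf _ _).map (Nat.factorial m • 𝟙 F)).app (op U)) s = _
          rw [Functor.map_nsmul, NatTrans.app_nsmul, map_nsmul, AddMonoidHom.nsmul_apply]
          rfl
        rw [h2, map_nsmul, hr, mul_comm, mul_smul, hmp, smul_zero])
      exact ⟨S.map (colimit.ι D ⟨m⟩) q, (hι ⟨m⟩ q).trans hq⟩
  haveI : IsIso ((colimit.isColimit D).desc c) := ‹IsIso (colimit.desc D c)›
  refine ⟨J, inferInstance, inferInstance, D, c, ⟨IsColimit.ofPointIso (colimit.isColimit D)⟩, rfl,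
    fun j => ⟨_, Nat.factorial_pos j.down, nsmul_id_killedSub F _⟩⟩

theorem ext_mk₀_nsmul {A B : EtCoh.Ab X} (m : ℕ) (f : A ⟶ B) :
    Ext.mk₀.{u + 1} (m • f) = m • Ext.mk₀.{u + 1} f := by
  rw [← Ext.addEquiv₀_symm_apply, ← Ext.addEquiv₀_symm_apply, map_nsmul]

include R hW

theorem isAddTorsion_ext {F : EtCoh.Ab X} (hF : EtCoh.IsTorsion F) (n : ℕ) :
    IsAddTorsion (Ext.{u + 1} M F n) := by
  obtain ⟨J, _, _, D, c, ⟨hc⟩, hpt, hk⟩ := exists_killed_colimit hF
  subst hpt
  let eq := AsSmall.equiv.{u, u, u + 1} (C := J)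
  let D' : AsSmall.{u + 1} J ⥤ EtCoh.Ab X := eq.inverse ⋙ D
  let φ := ((colimit.isColimit D').coconePointUniqueUpToIso (IsColimit.whiskerEquivalence hc eq.symm))
  intro x
  obtain ⟨i, z, hz⟩ := (extComm_sectRep R hW n J D').1 (x.comp (Ext.mk₀ φ.inv) (add_zero n))
  obtain ⟨m, hm, hkill⟩ := hk (eq.inverse.obj i)
  have hkill' : m • 𝟙 (D'.obj i) = 0 := hkill
  refine isOfFinAddOrder_iff_nsmul_eq_zero.2 ⟨m, hm, ?_⟩
  let f := colimit.ι D' i ≫ φ.hom
  have hx : x = z.comp (Ext.mk₀ f) (add_zero n) := by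
    rw [← Ext.mk₀_comp_mk₀, ← Ext.comp_assoc_of_third_deg_zero, hz, Ext.comp_assoc_of_third_deg_zero,
      Ext.mk₀_comp_mk₀, Iso.inv_hom_id, Ext.comp_mk₀_id]
  let P : Ext.{u + 1} (D'.obj i) c.pt 0 →+ Ext.{u + 1} M c.pt n :=
    AddMonoidHom.mk' (fun w => z.comp w (add_zero n)) fun a b => Ext.comp_add _ _ _ _
  have hPm : m • P (Ext.mk₀ f) = P (Ext.mk₀ (m • f)) := by rw [ext_mk₀_nsmul, map_nsmul]
  have hf0 : m • f = 0 := by
    rw [← Category.id_comp f, ← Preadditive.nsmul_comp, hkill', zero_comp]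
  rw [hx]
  refine hPm.trans ?_
  rw [hf0, Ext.mk₀_zero, map_zero]

omit R hW

theorem isAddTorsion_H [CompactSpace X] [QuasiSeparatedSpace X] {F : EtCoh.Ab X} (hF : EtCoh.IsTorsion F) (n : ℕ) :
    IsAddTorsion (EtCoh.H X F n) := by
  obtain ⟨R⟩ := exists_sectRep_constZ X
  exact isAddTorsion_ext R ⟨‹CompactSpace X›, ‹QuasiSeparatedSpace X›⟩ hF n

theorem extMk_nsmul {F : EtCoh.Ab X} (I : InjectiveResolution F) {M' : EtCoh.Ab X} {n : ℕ}
    (f : M' ⟶ I.cocomplex.X n) (hf : f ≫ I.cocomplex.d n (n + 1) = 0) : ∀ m : ℕ,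
    m • I.extMk f (n + 1) rfl hf = I.extMk (m • f) (n + 1) rfl (by rw [Preadditive.nsmul_comp, hf, smul_zero])
  | 0 => by
    simp only [zero_smul]
    exact (I.extMk_zero (n + 1) rfl).symm
  | m + 1 => by
    rw [succ_nsmul, extMk_nsmul I f hf m, InjectiveResolution.add_extMk]
    simp only [succ_nsmul]

theorem exists_nsmul_coboundary {F : EtCoh.Ab X} (hF : EtCoh.IsTorsion F) (hW : W ∈ qcqsObj X)
    (I : InjectiveResolution F) (n : ℕ) (a : (I.cocomplex.X n).obj.obj (op W))
    (ha : (I.cocomplex.d n (n + 1)).hom.app (op W) a = 0) :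
    ∃ m : ℕ, 0 < m ∧ ((n = 0 ∧ m • a = 0) ∨ ∃ (p : ℕ) (_ : p + 1 = n) (b : (I.cocomplex.X p).obj.obj (op W)),
      (I.cocomplex.d p n).hom.app (op W) b = m • a) := by
  obtain ⟨R⟩ := exists_sectRep_freeAt W
  obtain ⟨f, rfl⟩ := (R.e (I.cocomplex.X n)).surjective a
  have hf : f ≫ I.cocomplex.d n (n + 1) = 0 := (R.e _).injective (by rw [← R.nat, ha, map_zero])
  rcases n with _ | p
  · obtain ⟨g, hg⟩ := KernelFork.IsLimit.lift' I.isLimitKernelFork f hf
    obtain ⟨m, hm, hmg⟩ := isOfFinAddOrder_iff_nsmul_eq_zero.1 (isAddTorsion_ext R hW hF 0 (Ext.mk₀ g))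
    have hmg' : m • g = 0 := Ext.addEquiv₀.symm.injective (by
      rw [Ext.addEquiv₀_symm_apply, Ext.addEquiv₀_symm_apply, ext_mk₀_nsmul, hmg, Ext.mk₀_zero])
    refine ⟨m, hm, Or.inl ⟨rfl, ?_⟩⟩
    rw [← map_nsmul, ← hg, ← Preadditive.nsmul_comp, hmg', zero_comp, map_zero]
  · obtain ⟨m, hm, hmf⟩ := isOfFinAddOrder_iff_nsmul_eq_zero.1
      (isAddTorsion_ext R hW hF (p + 1) (I.extMk f (p + 1 + 1) rfl hf))
    rw [extMk_nsmul I f hf m, I.extMk_eq_zero_iff _ _ _ _ p rfl] at hmf
    obtain ⟨g, hg⟩ := hmf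
    refine ⟨m, hm, Or.inr ⟨p, rfl, R.e _ g, ?_⟩⟩
    rw [R.nat, hg, map_nsmul]

variable {Y : Scheme.{u}} (f : X ⟶ Y)

theorem bc_mem_qcqsObj [QuasiCompact f] [QuasiSeparated f] {V : Y.Etale} [IsAffine V.left] :
    (EtCoh.bc f).obj V ∈ qcqsObj X := by
  haveI : QuasiCompact (pullback.fst V.hom f) := MorphismProperty.pullback_fst _ _ ‹_›
  haveI : QuasiSeparated (pullback.fst V.hom f) := MorphismProperty.pullback_fst _ _ ‹_›
  haveI : CompactSpace ↥((𝟭 Scheme.{u}).obj V.left) := inferInstanceAs (CompactSpace ↥V.left)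
  haveI : QuasiSeparatedSpace ↥((𝟭 Scheme.{u}).obj V.left) := inferInstanceAs (QuasiSeparatedSpace ↥V.left)
  exact ⟨QuasiCompact.compactSpace_of_compactSpace (pullback.fst V.hom f),
    quasiSeparatedSpace_of_quasiSeparated (pullback.fst V.hom f)⟩

theorem isTorsion_of_iso {A B : EtCoh.Ab Y} (e : A ≅ B) (h : EtCoh.IsTorsion A) : EtCoh.IsTorsion B := by
  intro U s x
  obtain ⟨V, g, hx, ho⟩ := h U (e.inv.hom.app (op U) s) x
  refine ⟨V, g, hx, ?_⟩
  have e1 : B.obj.map g.op s = e.hom.hom.app (op V) (A.obj.map g.op (e.inv.hom.app (op U) s)) := by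
    rw [NatTrans.naturality_apply, ← ConcreteCategory.comp_apply (e.inv.hom.app (op U)),
      show e.inv.hom.app (op U) ≫ e.hom.hom.app (op U) = 𝟙 _ from
        congrArg (fun t : B ⟶ B => t.hom.app (op U)) e.inv_hom_id]
    rfl
  rw [e1]
  exact (AddMonoidHom.isOfFinAddOrder (e.hom.hom.app (op V)).hom ho)

theorem isTorsion_rightDerived_push [QuasiCompact f] [QuasiSeparated f] {F : EtCoh.Ab X} (hF : EtCoh.IsTorsion F)
    (n : ℕ) : haveI : (EtCoh.push f).Additive := { }
    EtCoh.IsTorsion (((EtCoh.push f).rightDerived n).obj F) := by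
  haveI : (EtCoh.push f).Additive := { }
  let I := injectiveResolution F
  let K := ((EtCoh.push f).mapHomologicalComplex (ComplexShape.up ℕ)).obj I.cocomplex
  refine isTorsion_of_iso (I.isoRightDerivedObj (EtCoh.push f) n).symm ?_
  show EtCoh.IsTorsion (K.homology n)
  intro U s x
  obtain ⟨Ω, _, _, ξ, v₀, hv₀⟩ := exists_geometric (U := U) x
  obtain ⟨q, hq⟩ := (AddCommGrpCat.epi_iff_surjective _).1
    ((epi_iff_stalks (A := AddCommGrpCat.{u + 1}) (K.homologyπ n)).1 inferInstance Ω ξ)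
    (germ (A := AddCommGrpCat.{u + 1}) ξ (K.homology n) U v₀ s)
  obtain ⟨V₁, g₁, v₁, z₁, hv₁, rfl⟩ := exists_germ_below (A := AddCommGrpCat.{u + 1}) ξ q U v₀
  rw [germ_natural_apply, ← hv₁, ← germ_res_apply] at hq
  obtain ⟨V₂, g₂, v₂, hv₂, he⟩ := (germ_eq_iff (A := AddCommGrpCat.{u + 1}) ξ V₁ v₁ _ _).1 hq
  obtain ⟨V, g₃, v, hV, hv⟩ := exists_affine_below' ξ V₂ v₂
  let g : V ⟶ V₁ := g₃ ≫ g₂
  let z := (K.cycles n).obj.map g.op z₁
  have hz : (K.homologyπ n).hom.app (op V) z = (K.homology n).obj.map (g ≫ g₁).op s := by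
    refine (NatTrans.naturality_apply (K.homologyπ n).hom g.op z₁).trans ?_
    simp only [g, op_comp, Functor.map_comp, ConcreteCategory.comp_apply]
    exact congrArg ((K.homology n).obj.map g₃.op) he
  refine ⟨V, g ≫ g₁, ⟨v.pt, ?_⟩, ?_⟩
  · rw [← hv₀, ← hv₁, ← hv₂, ← hv]
    rfl
  rw [← hz]
  let a : (I.cocomplex.X n).obj.obj (op ((EtCoh.bc f).obj V)) := (K.iCycles n).hom.app (op V) z
  have ha : (I.cocomplex.d n (n + 1)).hom.app (op ((EtCoh.bc f).obj V)) a = 0 :=
    (ConcreteCategory.comp_apply ((K.iCycles n).hom.app (op V)) ((K.d n (n + 1)).hom.app (op V)) z).symm.trans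
      (congrArg (fun t : K.cycles n ⟶ K.X (n + 1) => t.hom.app (op V) z) (K.iCycles_d n (n + 1)))
  have hinj : Function.Injective ((K.iCycles n).hom.app (op V)) := by
    haveI : Mono ((sheafToPresheaf Y.smallEtaleTopology AddCommGrpCat.{u + 1} ⋙ (evaluation _ _).obj (op V)).map
      (K.iCycles n)) := inferInstance
    exact (AddCommGrpCat.mono_iff_injective _).1
      (inferInstanceAs (Mono ((sheafToPresheaf Y.smallEtaleTopology AddCommGrpCat.{u + 1} ⋙
        (evaluation _ _).obj (op V)).map (K.iCycles n))))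
  obtain ⟨m, hm, h⟩ := exists_nsmul_coboundary hF (bc_mem_qcqsObj f (V := V)) I n a ha
  refine isOfFinAddOrder_iff_nsmul_eq_zero.2 ⟨m, hm, ?_⟩
  rw [← map_nsmul]
  rcases h with ⟨-, h⟩ | ⟨p, hp, b, hb⟩
  · have : m • z = 0 := hinj (by rw [map_zero, map_nsmul]; exact h)
    rw [this, map_zero]
  · have : m • z = (K.toCycles p n).hom.app (op V) b := hinj (by
      rw [map_nsmul]
      refine hb.symm.trans ?_
      exact (congrArg (fun t : K.X p ⟶ K.X n => t.hom.app (op V) b) (K.toCycles_i p n)).symm.trans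
        (ConcreteCategory.comp_apply ((K.toCycles p n).hom.app (op V)) ((K.iCycles n).hom.app (op V)) b))
    rw [this]
    exact (ConcreteCategory.comp_apply ((K.toCycles p n).hom.app (op V)) ((K.homologyπ n).hom.app (op V)) b).symm.trans
      (congrArg (fun t : K.X p ⟶ K.homology n => t.hom.app (op V) b) (K.toCycles_comp_homologyπ p n))

end Groth.Agent.EtShLib
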