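import Groth.Agent.EtShLib.Compact
import Mathlib.CategoryTheory.Comma.Over.Basic

/-! Torsion sheaves are filtered colimits of constructible sheaves. -/

set_option autoImplicit false
set_option linter.unusedSectionVars false
set_option linter.style.haveILetI false
set_option backward.isDefEq.respectTransparency false
set_option backward.isDefEq.respectTransparency.types false
set_option synthInstance.maxHeartbeats 400000
set_option maxHeartbeats 1000000

universe u

open CategoryTheory CategoryTheory.Limits AlgebraicGeometry Opposite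

namespace Groth.Agent.EtShLib

variable {X : Scheme.{u}} [CompactSpace X] [QuasiSeparatedSpace X] (F : EtCoh.Ab X)

/-- Presented constructible sheaves over `F`. -/
structure PresOver : Type (u + 1) where
  a : ℕ
  b : ℕ
  U : Fin a → X.Etale
  V : Fin b → X.Etale
  n : Fin a → ℕ
  m : Fin b → ℕ
  hn : ∀ i, 0 < n i ∧ IsAffine (U i).left
  hm : ∀ j, 0 < m j ∧ IsAffine (V j).left
  φ : (⨁ fun j => EtPBC.extZeroConst (V j) (ZMod (m j))) ⟶ ⨁ fun i => EtPBC.extZeroConst (U i) (ZMod (n i))
  f : cokernel φ ⟶ F

variable {F}

/-- The underlying object over `F`. -/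
noncomputable def PresOver.toOver (p : PresOver F) : Over F := Over.mk p.f

theorem PresOver.isCons (p : PresOver F) : IsCons (A := AddCommGrpCat.{u + 1}) FinP p.toOver.left := by
  have h : ∀ {a : ℕ} (U : Fin a → X.Etale) (n : Fin a → ℕ), (∀ i, 0 < n i ∧ IsAffine (U i).left) →
      IsCons (A := AddCommGrpCat.{u + 1}) FinP (⨁ fun i => EtPBC.extZeroConst (U i) (ZMod (n i))) := fun U n hn =>
    isCons_biproduct _ fun i => by
      haveI : NeZero (n i) := ⟨(hn i).1.ne'⟩
      haveI := (hn i).2
      exact isCons_extConst _ _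
  exact cons_cokernel p.φ (h p.V p.m p.hm) (h p.U p.n p.hn)

theorem exists_presOver {G : EtCoh.Ab X} (hG : IsCons (A := AddCommGrpCat.{u + 1}) FinP G) (g : G ⟶ F) :
    ∃ p : PresOver F, ∃ e : G ≅ p.toOver.left, e.hom ≫ p.toOver.hom = g := by
  obtain ⟨a, b, U, V, n, m, hn, hm, φ, ⟨e⟩⟩ := exists_presentation' hG
  exact ⟨⟨a, b, U, V, n, m, hn, hm, φ, e.inv ≫ g⟩, e, e.hom_inv_id_assoc g⟩

variable (F)

/-- The category of presented constructible sheaves over `F`. -/
abbrev ConsOver : Type (u + 1) := InducedCategory (Over F) (PresOver.toOver (F := F))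

theorem isFiltered_consOver : IsFiltered (ConsOver F) := by
  haveI : IsFilteredOrEmpty (ConsOver F) :=
    { cocone_objs := fun (p : PresOver F) (q : PresOver F) => by
        let G : Bool → EtCoh.Ab X := fun i => cond i p.toOver.left q.toOver.left
        obtain ⟨r, e, he⟩ := exists_presOver (F := F) (G := ⨁ fun i : Fin 2 => G (i = 0))
          (isCons_biproduct _ fun i => by
            show IsCons (A := AddCommGrpCat.{u + 1}) FinP (cond _ p.toOver.left q.toOver.left)
            cases decide (i = 0)
            · exact q.isCons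
            · exact p.isCons)
          (biproduct.desc fun i : Fin 2 => (Fin.cases (motive := fun i => G (i = 0) ⟶ F) p.toOver.hom
            (fun j => (eqToHom (by simp [G]) : G (Fin.succ j = 0) ⟶ q.toOver.left) ≫ q.toOver.hom) i))
        refine ⟨r, InducedCategory.homMk (Over.homMk (biproduct.ι (fun i : Fin 2 => G (i = 0)) 0 ≫ e.hom) ?_),
          InducedCategory.homMk (Over.homMk (biproduct.ι (fun i : Fin 2 => G (i = 0)) 1 ≫ e.hom) ?_), trivial⟩
        · rw [Category.assoc, he, biproduct.ι_desc]
          rfl
        · rw [Category.assoc, he, biproduct.ι_desc]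
          exact Category.id_comp _
      cocone_maps := fun {p q} s t => by
        obtain ⟨r, e, he⟩ := exists_presOver (F := F) (G := cokernel (s.hom.left - t.hom.left))
          (cons_cokernel _ (PresOver.isCons (F := F) p) (PresOver.isCons (F := F) q))
          (cokernel.desc _ (PresOver.toOver (F := F) q).hom (by rw [Preadditive.sub_comp, Over.w, Over.w, sub_self]))
        refine ⟨r, InducedCategory.homMk (Over.homMk (cokernel.π _ ≫ e.hom) (by
          rw [Category.assoc, he, cokernel.π_desc])), InducedCategory.hom_ext (Over.OverMorphism.ext ?_)⟩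
        show s.hom.left ≫ cokernel.π _ ≫ e.hom = t.hom.left ≫ cokernel.π _ ≫ e.hom
        rw [← sub_eq_zero, ← Preadditive.sub_comp, cokernel.condition_assoc, zero_comp] }
  refine { nonempty := ?_ }
  obtain ⟨r, -⟩ := exists_presOver (F := F) (G := ⨁ fun i : Fin 0 => EtPBC.extZeroConst (EtCoh.top X) (ZMod (i.elim0 : ℕ)))
    (isCons_biproduct _ fun i => i.elim0) 0
  exact ⟨r⟩

/-- The diagram of constructible sheaves over `F`. -/
noncomputable def consDiagram : ConsOver F ⥤ EtCoh.Ab X :=
  inducedFunctor (PresOver.toOver (F := F)) ⋙ Over.forget F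

/-- The cocone to `F`. -/
noncomputable def consCocone : Cocone (consDiagram F) :=
  ⟨F, { app := fun p => (PresOver.toOver (F := F) p).hom
        naturality := fun p q s => by
          show s.hom.left ≫ _ = _ ≫ 𝟙 F
          rw [Category.comp_id]
          exact Over.w s.hom }⟩

theorem nonempty_isColimit_consCocone (hF : TorsionBy (fun n => 0 < n) F) :
    Nonempty (IsColimit (consCocone F)) := by
  haveI := isFiltered_consOver F
  let φ := colimit.desc (consDiagram F) (consCocone F)
  haveI : IsIso φ := isIso_of_stalks (A := AddCommGrpCat.{u + 1}) φ fun Ω _ _ ξ => by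
    let S := stk (A := AddCommGrpCat.{u + 1}) ξ
    rw [ConcreteCategory.isIso_iff_bijective]
    refine ⟨(injective_iff_map_eq_zero _).2 fun x hx => ?_, fun y => ?_⟩
    · obtain ⟨p, z, rfl⟩ := Concrete.isColimit_exists_rep (consDiagram F ⋙ S)
        (isColimitOfPreserves S (colimit.isColimit (consDiagram F))) x
      change (S.map (colimit.ι (consDiagram F) p) ≫ S.map φ) z = 0 at hx
      rw [← S.map_comp, colimit.ι_desc] at hx
      show S.map (colimit.ι (consDiagram F) p) z = 0
      let P := PresOver.toOver (F := F) p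
      have hK : TorsionBy (fun n => 0 < n) (kernel P.hom) :=
        (torsionBy_of_isCons (PresOver.isCons (F := F) p)).of_mono (kernel.ι P.hom)
      obtain ⟨z', hz'⟩ : ∃ z' : S.obj (kernel P.hom), S.map (kernel.ι P.hom) z' = z :=
        (ShortComplex.ab_exact_iff _).1 (((ShortComplex.exact_of_f_is_kernel
          (ShortComplex.mk (kernel.ι P.hom) P.hom (kernel.condition _)) (kernelIsKernel P.hom))).map S) z hx
      obtain ⟨U, hU, n, a, hn, w, hw⟩ := exists_gen hK ξ z'
      haveI := hU
      haveI : NeZero n := ⟨(Nat.pos_iff_ne_zero.1 hn)⟩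
      obtain ⟨r, e, he⟩ := exists_presOver (F := F) (G := cokernel (a ≫ kernel.ι P.hom))
        (cons_cokernel _ (isCons_extConst _ _) (PresOver.isCons (F := F) p))
        (cokernel.desc _ P.hom (by rw [Category.assoc, kernel.condition, comp_zero]))
      let s : (p : ConsOver F) ⟶ r := InducedCategory.homMk (Over.homMk (cokernel.π _ ≫ e.hom) (by
        rw [Category.assoc, he, cokernel.π_desc]))
      rw [← colimit.w (consDiagram F) s, ← hz', ← hw]
      show (S.map a ≫ S.map (kernel.ι P.hom) ≫ S.map ((cokernel.π _ ≫ e.hom) ≫ colimit.ι (consDiagram F) r)) w = 0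
      rw [← S.map_comp, ← S.map_comp, Category.assoc, ← Category.assoc a, cokernel.condition_assoc, zero_comp, S.map_zero]
      rfl
    · obtain ⟨U, hU, n, a, hn, w, hw⟩ := exists_gen hF ξ y
      haveI := hU
      haveI : NeZero n := ⟨(Nat.pos_iff_ne_zero.1 hn)⟩
      obtain ⟨r, e, he⟩ := exists_presOver (F := F) (isCons_extConst U (ZMod n)) a
      refine ⟨S.map (e.hom ≫ colimit.ι (consDiagram F) r) w, ?_⟩
      rw [← hw, ← ConcreteCategory.comp_apply, ← S.map_comp, Category.assoc, colimit.ι_desc]
      exact congrArg (fun t : EtPBC.extZeroConst U (ZMod n) ⟶ F => S.map t w) he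
  haveI : IsIso ((colimit.isColimit (consDiagram F)).desc (consCocone F)) := ‹IsIso φ›
  exact ⟨IsColimit.ofPointIso (colimit.isColimit (consDiagram F))⟩

end Groth.Agent.EtShLib
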