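import Groth.Agent.EtShLib.FiniteBC

/-! The canonical base change map along a finite morphism is an isomorphism. -/

set_option autoImplicit false
set_option linter.unusedSectionVars false
set_option linter.style.haveILetI false
set_option backward.isDefEq.respectTransparency false
set_option backward.isDefEq.respectTransparency.types false
set_option synthInstance.maxHeartbeats 400000
set_option maxHeartbeats 1000000

universe u

open CategoryTheory CategoryTheory.Limits AlgebraicGeometry Opposite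

namespace Groth.Agent.EtShLib

variable {X Y X' Y' : Scheme.{u}} (f : X ⟶ Y) (g : Y' ⟶ Y) (f' : X' ⟶ Y') (g' : X' ⟶ X)
  (hc : IsPullback g' f' f g)

theorem sqHom_eq (W : Y.Etale) :
    sqHom hc W = ((MorphismProperty.Over.pullbackComp (P := EtCoh.etaleMP) (Q := ⊤) f' g).inv.app W ≫
      (MorphismProperty.Over.pullbackCongr (P := EtCoh.etaleMP) (Q := ⊤) hc.w).inv.app W ≫
      (MorphismProperty.Over.pullbackComp (P := EtCoh.etaleMP) (Q := ⊤) g' f).hom.app W :
        (EtCoh.bc f').obj ((EtCoh.bc g).obj W) ⟶ (EtCoh.bc g').obj ((EtCoh.bc f).obj W)) := by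
  let a := (MorphismProperty.Over.pullbackComp (P := EtCoh.etaleMP) (Q := ⊤) f' g).app W
  let k := (MorphismProperty.Over.pullbackCongr (P := EtCoh.etaleMP) (Q := ⊤) hc.w).app W
  let b := (MorphismProperty.Over.pullbackComp (P := EtCoh.etaleMP) (Q := ⊤) g' f).app W
  show sqHom hc W = a.inv ≫ k.inv ≫ b.hom
  rw [← cancel_epi a.hom, a.hom_inv_id_assoc, ← cancel_epi k.hom, k.hom_inv_id_assoc]
  refine MorphismProperty.Over.Hom.ext ?_
  show k.hom.left ≫ a.hom.left ≫ sqLeft hc W = b.hom.left
  have a1 : a.hom.left ≫ bFst f' ((EtCoh.bc g).obj W) ≫ bFst g W = pullback.fst W.hom (f' ≫ g) :=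
    MorphismProperty.Over.pullbackComp_left_fst_fst _ _ _
  have b1 : b.hom.left ≫ bFst g' ((EtCoh.bc f).obj W) ≫ bFst f W = pullback.fst W.hom (g' ≫ f) :=
    MorphismProperty.Over.pullbackComp_left_fst_fst _ _ _
  have k1 : k.hom.left ≫ pullback.fst W.hom (f' ≫ g) = pullback.fst W.hom (g' ≫ f) :=
    MorphismProperty.Over.pullbackCongr_hom_app_left_fst _ _
  have a2 : a.hom.left ≫ bSnd f' ((EtCoh.bc g).obj W) = pullback.snd W.hom (f' ≫ g) := MorphismProperty.Over.w a.hom
  have b2 : b.hom.left ≫ bSnd g' ((EtCoh.bc f).obj W) = pullback.snd W.hom (g' ≫ f) := MorphismProperty.Over.w b.hom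
  have k2 : k.hom.left ≫ pullback.snd W.hom (f' ≫ g) = pullback.snd W.hom (g' ≫ f) := MorphismProperty.Over.w k.hom
  refine b_ext g' (b_ext f ?_ ?_) ?_
  · rw [Category.assoc b.hom.left, b1, ← k1, ← a1]
    simp only [Category.assoc]
    exact congrArg (fun t => k.hom.left ≫ a.hom.left ≫ t) ((Category.assoc _ _ _).symm.trans (sq_fst_fst hc W))
  · rw [show (b.hom.left ≫ bFst g' ((EtCoh.bc f).obj W)) ≫ bSnd f W = (b.hom.left ≫ bSnd g' _) ≫ g' from
      (Category.assoc _ _ _).trans ((congrArg (b.hom.left ≫ ·)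
        (pullback.condition : bFst g' ((EtCoh.bc f).obj W) ≫ _ = _)).trans (Category.assoc _ _ _).symm)]
    erw [b2]
    rw [← k2, ← a2]
    simp only [Category.assoc]
    exact congrArg (fun t => k.hom.left ≫ a.hom.left ≫ t) ((Category.assoc _ _ _).symm.trans (sq_fst_snd hc W))
  · rw [b2, ← k2, ← a2]
    simp only [Category.assoc]
    exact congrArg (fun t => k.hom.left ≫ a.hom.left ≫ t) (sq_snd hc W)

variable (F : EtCoh.Ab X)

theorem bcHom_eq : bcHom hc F = EtCoh.baseChange0 f g f' g' hc.w F := by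
  refine congrArg ((EtCoh.pullPushAdj g).homEquiv _ _).symm (Sheaf.hom_ext (NatTrans.ext (funext fun W => ?_)))
  show ((EtCoh.pullPushAdj g').unit.app F).hom.app (op ((EtCoh.bc f).obj W.unop)) ≫
    ((EtCoh.pull g').obj F).obj.map (sqHom hc W.unop).op = _
  rw [sqHom_eq f g f' g' hc, op_comp, op_comp, Functor.map_comp, Functor.map_comp]
  simp [EtCoh.pushComp, EtCoh.pushCongr]

include hc in
theorem isIso_baseChange0_of_finite [IsFinite f] : IsIso (EtCoh.baseChange0 f g f' g' hc.w F) := by
  haveI : IsFinite f' := MorphismProperty.of_isPullback hc ‹IsFinite f›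
  rw [← bcHom_eq f g f' g' hc F]
  exact isIso_of_stalks_algClosed _ fun Ω _ _ _ ξ => isIso_bcHom_stalk hc F ξ

end Groth.Agent.EtShLib
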