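import Groth.Agent.EtShLib.ExtComp

/-! Direct images of constructible sheaves along finite étale morphisms. -/

set_option autoImplicit false
set_option linter.unusedSectionVars false
set_option linter.style.haveILetI false
set_option backward.isDefEq.respectTransparency false
set_option backward.isDefEq.respectTransparency.types false
set_option synthInstance.maxHeartbeats 400000
set_option maxHeartbeats 1000000

universe u

open CategoryTheory CategoryTheory.Limits AlgebraicGeometry Opposite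

namespace Groth.Agent.EtShLib

theorem isIso_extZero_map_of_lifts {U X : Scheme.{u}} (j : U ⟶ X) [AlgebraicGeometry.Etale j] [EtShriek.JCont j]
    {F G : EtCoh.Ab U} (α : F ⟶ G) {Ω : Type u} [Field Ω] [IsSepClosed Ω] (ξ : Spec (CommRingCat.of Ω) ⟶ X)
    (h : ∀ u : {u : Spec (CommRingCat.of Ω) ⟶ U // u ≫ j = ξ}, IsIso ((stk (A := AddCommGrpCat.{u + 1}) u.1).map α)) :
    IsIso ((stk (A := AddCommGrpCat.{u + 1}) ξ).map ((EtShriek.extZero j).map α)) := by
  let hF := stalkExtColimit j F ξ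
  let hG := stalkExtColimit j G ξ
  haveI := h
  let d : (stk (A := AddCommGrpCat.{u + 1}) ξ).obj ((EtShriek.extZero j).obj G) ⟶
      (stk (A := AddCommGrpCat.{u + 1}) ξ).obj ((EtShriek.extZero j).obj F) :=
    hG.desc (Cofan.mk _ fun u => inv ((stk (A := AddCommGrpCat.{u + 1}) u.1).map α) ≫ inclStalk j F ξ u)
  have hd : ∀ u, inclStalk j G ξ u ≫ d = inv ((stk (A := AddCommGrpCat.{u + 1}) u.1).map α) ≫ inclStalk j F ξ u :=
    fun u => hG.fac _ ⟨u⟩
  refine ⟨d, hF.hom_ext fun ⟨u⟩ => ?_, hG.hom_ext fun ⟨u⟩ => ?_⟩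
  · show inclStalk j F ξ u ≫ _ ≫ d = inclStalk j F ξ u ≫ 𝟙 _
    rw [← Category.assoc, inclStalk_natural, Category.assoc, hd, IsIso.hom_inv_id_assoc, Category.comp_id]
  · show inclStalk j G ξ u ≫ d ≫ _ = inclStalk j G ξ u ≫ 𝟙 _
    rw [← Category.assoc, hd, Category.assoc, inclStalk_natural, IsIso.inv_hom_id_assoc, Category.comp_id]

theorem isCons_push_finite_etale {X Y : Scheme.{u}} (f : X ⟶ Y) [IsFinite f] [AlgebraicGeometry.Etale f]
    {F : EtCoh.Ab X} (hF : IsCons (A := AddCommGrpCat.{u + 1}) FinP F) :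
    IsCons (A := AddCommGrpCat.{u + 1}) FinP ((EtCoh.push f).obj F) := by
  haveI := jCont f
  obtain ⟨eP⟩ := nonempty_iso_push f F
  refine IsCons.of_hom ?_ eP.hom
  refine IsCons.of_open_cover (fun V : Y.affineOpens => (V : Y.Opens)) (eq_top_iff.2 fun x _ => ?_) fun V => ?_
  · obtain ⟨W, hW, hx, -⟩ := exists_isAffineOpen_mem_and_subset (X := Y) (x := x) (U := ⊤) trivial
    exact TopologicalSpace.Opens.mem_iSup.2 ⟨⟨W, hW⟩, hx⟩
  let ι := (V : Y.Opens).ι
  let U : X.Opens := f ⁻¹ᵁ V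
  let f' : U.toScheme ⟶ (V : Y.Opens).toScheme := f ∣_ V
  let c : U.toScheme ⟶ Y := U.ι ≫ f
  haveI : IsAffine (V : Y.Opens).toScheme := V.2
  haveI : IsAffine U.toScheme := IsAffineOpen.preimage V.2 f
  haveI : AlgebraicGeometry.Etale f' := IsZariskiLocalAtTarget.restrict ‹_› _
  haveI : AlgebraicGeometry.Etale c := inferInstance
  haveI : AlgebraicGeometry.Etale U.ι := inferInstance
  haveI : AlgebraicGeometry.Etale ι := inferInstance
  haveI := jCont f'
  haveI := jCont U.ι
  haveI := jCont ι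
  haveI := jCont c
  let G := (EtShriek.restrAlong U.ι).obj F
  have hG : IsCons (A := AddCommGrpCat.{u + 1}) FinP G := by
    obtain ⟨e⟩ := nonempty_pull_iso_restrAlong U.ι F
    exact IsCons.of_hom (IsCons.pull (f := U.ι) hF) e.hom
  let K := (EtShriek.extZero f').obj G
  obtain ⟨e₁⟩ := nonempty_extComp U.ι f c rfl
  obtain ⟨e₂⟩ := nonempty_extComp f' ι c (morphismRestrict_ι f V)
  let α : (EtShriek.extZero ι).obj K ⟶ (EtShriek.extZero f).obj F :=
    (e₂.app G).hom ≫ (e₁.app G).inv ≫ (EtShriek.extZero f).map ((EtShriek.extZeroAdj U.ι).counit.app F)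
  haveI : IsIso ((pullA ι AddCommGrpCat.{u + 1}).map α) := isIso_of_stalks (A := AddCommGrpCat.{u + 1}) _
    fun Ω _ _ ζ => by
      haveI : IsIso ((stk (A := AddCommGrpCat.{u + 1}) (ζ ≫ ι)).map
          ((EtShriek.extZero f).map ((EtShriek.extZeroAdj U.ι).counit.app F))) :=
        isIso_extZero_map_of_lifts f _ _ fun u => isIso_counit_stalk U.ι F u.1 (by
          rw [Scheme.Opens.range_ι]
          show (u.1 ≫ f).base default ∈ (V : Y.Opens)
          rw [u.2]
          exact (Scheme.Opens.range_ι (V : Y.Opens)).subset ⟨_, rfl⟩)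
      haveI : IsIso ((stk (A := AddCommGrpCat.{u + 1}) (ζ ≫ ι)).map α) := by
        simp only [α, Functor.map_comp]
        infer_instance
      exact (NatIso.isIso_map_iff (stalkPull ι ζ AddCommGrpCat.{u + 1}) α).1 inferInstance
  obtain ⟨e₃⟩ := nonempty_pull_iso_restrAlong ι ((EtShriek.extZero ι).obj K)
  haveI := isIso_unit ι K
  exact IsCons.of_hom (isCons_extZero_cons f' hG)
    ((EtShriek.extZeroAdj ι).unit.app K ≫ e₃.inv ≫ (pullA ι AddCommGrpCat.{u + 1}).map α)

end Groth.Agent.EtShLib
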