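import Groth.Agent.EtShLib.FiniteExact
import Groth.Prelude.Def_PBC

/-! Base change for direct images along finite morphisms. -/

set_option autoImplicit false
set_option linter.unusedSectionVars false
set_option linter.style.haveILetI false
set_option backward.isDefEq.respectTransparency false
set_option backward.isDefEq.respectTransparency.types false
set_option synthInstance.maxHeartbeats 400000
set_option maxHeartbeats 1000000

universe u

open CategoryTheory CategoryTheory.Limits AlgebraicGeometry Opposite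

namespace Groth.Agent.EtShLib

theorem liftGerm_jointly_injective {A B : Scheme.{u}} (h : A ⟶ B) [IsFinite h] {Ω : Type u} [Field Ω]
    [IsSepClosed Ω] [IsAlgClosed Ω] (G : EtCoh.Ab A)
    (η : Spec (CommRingCat.of Ω) ⟶ B)
    (p : (stk (A := AddCommGrpCat.{u + 1}) η).obj ((EtCoh.push h).obj G)) (h0 : ∀ u, liftGerm h G η u p = 0) :
    p = 0 := by
  haveI := isIso_preι h
  obtain ⟨q, rfl⟩ := ((ConcreteCategory.isIso_iff_bijective
    ((stk (A := AddCommGrpCat.{u + 1}) η).map ((preι h).app G))).1 inferInstance).2 p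
  rw [comp'_jointly_injective h η G q h0, map_zero]

variable {X Y X' Y' : Scheme.{u}} {f : X ⟶ Y} {f' : X' ⟶ Y'} {g' : X' ⟶ X} {g : Y' ⟶ Y}
  (hc : IsPullback g' f' f g)

/-- The projection to the object. -/
noncomputable abbrev bFst {A B : Scheme.{u}} (h : A ⟶ B) (W : B.Etale) : ((EtCoh.bc h).obj W).left ⟶ W.left :=
  pullback.fst W.hom h

/-- The projection to the base. -/
noncomputable abbrev bSnd {A B : Scheme.{u}} (h : A ⟶ B) (W : B.Etale) : ((EtCoh.bc h).obj W).left ⟶ A :=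
  pullback.snd W.hom h

theorem bMap_fst {A B : Scheme.{u}} (h : A ⟶ B) {W W' : B.Etale} (a : W' ⟶ W) :
    ((EtCoh.bc h).map a).left ≫ bFst h W = bFst h W' ≫ a.left :=
  (EtCoh.isPullback_bc_map h a).w

theorem bMap_snd {A B : Scheme.{u}} (h : A ⟶ B) {W W' : B.Etale} (a : W' ⟶ W) :
    ((EtCoh.bc h).map a).left ≫ bSnd h W = bSnd h W' :=
  pullback.lift_snd _ _ _

theorem b_ext {A B T : Scheme.{u}} (h : A ⟶ B) {W : B.Etale} {a b : T ⟶ ((EtCoh.bc h).obj W).left}
    (h1 : a ≫ bFst h W = b ≫ bFst h W) (h2 : a ≫ bSnd h W = b ≫ bSnd h W) : a = b :=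
  pullback.hom_ext h1 h2

include hc in
theorem sq_cond (W : Y.Etale) :
    (bFst f' ((EtCoh.bc g).obj W) ≫ bFst g W) ≫ W.hom = (bSnd f' ((EtCoh.bc g).obj W) ≫ g') ≫ f := by
  rw [Category.assoc, Category.assoc, hc.w]
  refine (congrArg (bFst f' ((EtCoh.bc g).obj W) ≫ ·) (pullback.condition : bFst g W ≫ W.hom = bSnd g W ≫ g)).trans ?_
  rw [← Category.assoc, ← Category.assoc]
  exact congrArg (· ≫ g) (pullback.condition : bFst f' ((EtCoh.bc g).obj W) ≫ _ = _)

/-- The underlying morphism of the comparison. -/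
noncomputable def sqLeft (W : Y.Etale) :
    ((EtCoh.bc f').obj ((EtCoh.bc g).obj W)).left ⟶ ((EtCoh.bc g').obj ((EtCoh.bc f).obj W)).left :=
  pullback.lift (pullback.lift (bFst f' ((EtCoh.bc g).obj W) ≫ bFst g W) (bSnd f' ((EtCoh.bc g).obj W) ≫ g')
    (sq_cond hc W)) (bSnd f' ((EtCoh.bc g).obj W)) (pullback.lift_snd _ _ _)

/-- The comparison of base changes of étale objects along a square. -/
noncomputable def sqHom (W : Y.Etale) :
    (EtCoh.bc f').obj ((EtCoh.bc g).obj W) ⟶ (EtCoh.bc g').obj ((EtCoh.bc f).obj W) :=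
  MorphismProperty.Over.homMk (sqLeft hc W) (pullback.lift_snd _ _ _)

theorem sq_fst_fst (W : Y.Etale) : (sqLeft hc W ≫ bFst g' ((EtCoh.bc f).obj W)) ≫ bFst f W =
    bFst f' ((EtCoh.bc g).obj W) ≫ bFst g W :=
  (congrArg (· ≫ bFst f W) (pullback.lift_fst _ _ _)).trans (pullback.lift_fst _ _ _)

theorem sq_fst_snd (W : Y.Etale) : (sqLeft hc W ≫ bFst g' ((EtCoh.bc f).obj W)) ≫ bSnd f W =
    bSnd f' ((EtCoh.bc g).obj W) ≫ g' :=
  (congrArg (· ≫ bSnd f W) (pullback.lift_fst _ _ _)).trans (pullback.lift_snd _ _ _)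

theorem sq_snd (W : Y.Etale) : sqLeft hc W ≫ bSnd g' ((EtCoh.bc f).obj W) = bSnd f' ((EtCoh.bc g).obj W) :=
  pullback.lift_snd _ _ _

theorem sqHom_naturality {W W' : Y.Etale} (a : W' ⟶ W) :
    (EtCoh.bc f').map ((EtCoh.bc g).map a) ≫ sqHom hc W = sqHom hc W' ≫ (EtCoh.bc g').map ((EtCoh.bc f).map a) := by
  refine MorphismProperty.Over.Hom.ext ?_
  show ((EtCoh.bc f').map ((EtCoh.bc g).map a)).left ≫ sqLeft hc W =
    sqLeft hc W' ≫ ((EtCoh.bc g').map ((EtCoh.bc f).map a)).left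
  refine b_ext g' (b_ext f ?_ ?_) ?_
  · simp only [Category.assoc, reassoc_of% (bMap_fst g'), bMap_fst f]
    rw [← Category.assoc (sqLeft hc W), sq_fst_fst, ← Category.assoc (sqLeft hc W') (bFst g' _), ← Category.assoc
      (sqLeft hc W' ≫ _), sq_fst_fst, reassoc_of% (bMap_fst f'), bMap_fst g, Category.assoc]
  · simp only [Category.assoc, reassoc_of% (bMap_fst g'), bMap_snd f]
    rw [← Category.assoc (sqLeft hc W), sq_fst_snd, ← Category.assoc (sqLeft hc W') (bFst g' _), sq_fst_snd,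
      reassoc_of% (bMap_snd f')]
  · simp only [Category.assoc, bMap_snd g', sq_snd, bMap_snd f']

variable (F : EtCoh.Ab X)

/-- The transposed base change morphism. -/
noncomputable def bcAdj : (EtCoh.push f).obj F ⟶
    (EtCoh.push g).obj ((EtCoh.push f').obj ((EtCoh.pull g').obj F)) :=
  ObjectProperty.homMk
    { app := fun W => ((EtCoh.pullPushAdj g').unit.app F).hom.app (op ((EtCoh.bc f).obj W.unop)) ≫
        ((EtCoh.pull g').obj F).obj.map (sqHom hc W.unop).op
      naturality := fun W W' a => by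
        show F.obj.map ((EtCoh.bc f).map a.unop).op ≫ _ ≫ _ = (_ ≫ _) ≫ ((EtCoh.pull g').obj F).obj.map
          ((EtCoh.bc f').map ((EtCoh.bc g).map a.unop)).op
        rw [Category.assoc, ← Functor.map_comp, ← op_comp, sqHom_naturality, op_comp, Functor.map_comp,
          ← Category.assoc, ← Category.assoc]
        exact congrArg (· ≫ _) (((EtCoh.pullPushAdj g').unit.app F).hom.naturality ((EtCoh.bc f).map a.unop).op) }

/-- The base change morphism. -/
noncomputable def bcHom : (EtCoh.pull g).obj ((EtCoh.push f).obj F) ⟶ (EtCoh.push f').obj ((EtCoh.pull g').obj F) :=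
  ((EtCoh.pullPushAdj g).homEquiv _ _).symm (bcAdj hc F)

variable {Ω : Type u} [Field Ω] [IsSepClosed Ω] (ξ : Spec (CommRingCat.of Ω) ⟶ Y')

include hc in
theorem comp_stalk (u : {u : Spec (CommRingCat.of Ω) ⟶ X' // u ≫ f' = ξ}) :
    (u.1 ≫ g') ≫ f = ξ ≫ g := by rw [Category.assoc, hc.w, ← Category.assoc, u.2]

theorem bcHom_component (u : {u : Spec (CommRingCat.of Ω) ⟶ X' // u ≫ f' = ξ})
    (p : (stk (A := AddCommGrpCat.{u + 1}) (ξ ≫ g)).obj ((EtCoh.push f).obj F)) :
    liftGerm f' ((EtCoh.pull g').obj F) ξ u ((stk (A := AddCommGrpCat.{u + 1}) ξ).map (bcHom hc F)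
      ((stalkPull g ξ AddCommGrpCat.{u + 1}).hom.app ((EtCoh.push f).obj F) p)) =
      (stalkPull g' u.1 AddCommGrpCat.{u + 1}).hom.app F
        (liftGerm f F (ξ ≫ g) ⟨u.1 ≫ g', comp_stalk hc ξ u⟩ p) := by
  obtain ⟨W, w, t, rfl⟩ := exists_germ (A := AddCommGrpCat.{u + 1}) (ξ ≫ g) p
  have h1 := ConcreteCategory.congr_hom
    (germ_stalkPull (A := AddCommGrpCat.{u + 1}) g ξ ((EtCoh.push f).obj F) W w) t
  rw [ConcreteCategory.comp_apply, ConcreteCategory.comp_apply] at h1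
  have h2 : (bcHom hc F).hom.app (op ((EtCoh.bc g).obj W))
      (((adjA g AddCommGrpCat.{u + 1}).unit.app ((EtCoh.push f).obj F)).hom.app (op W) t) =
      (bcAdj hc F).hom.app (op W) t := by
    have := (EtCoh.pullPushAdj g).homEquiv_unit ((EtCoh.push f).obj F)
      ((EtCoh.push f').obj ((EtCoh.pull g').obj F)) (bcHom hc F)
    rw [show (EtCoh.pullPushAdj g).homEquiv _ _ (bcHom hc F) = bcAdj hc F from Equiv.apply_symm_apply _ _] at this
    rw [this]
    rfl
  have h3 := ConcreteCategory.congr_hom (germ_stalkPull (A := AddCommGrpCat.{u + 1}) g' u.1 F _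
    (Fib.liftU f ⟨u.1 ≫ g', comp_stalk hc ξ u⟩ w)) t
  rw [ConcreteCategory.comp_apply, ConcreteCategory.comp_apply] at h3
  refine (congrArg (fun q => liftGerm f' ((EtCoh.pull g').obj F) ξ u
    ((stk (A := AddCommGrpCat.{u + 1}) ξ).map (bcHom hc F) q)) h1).trans ?_
  refine (congrArg (liftGerm f' ((EtCoh.pull g').obj F) ξ u)
    (germ_natural_apply (A := AddCommGrpCat.{u + 1}) ξ (bcHom hc F) ((EtCoh.bc g).obj W) (w.lift g ξ) _)).trans ?_
  refine (liftGerm_germ f' ((EtCoh.pull g').obj F) ξ u ((EtCoh.bc g).obj W) (w.lift g ξ) _).trans ?_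
  refine (congrArg (germ (A := AddCommGrpCat.{u + 1}) u.1 ((EtCoh.pull g').obj F)
    ((EtCoh.bc f').obj ((EtCoh.bc g).obj W)) (Fib.liftU f' u (w.lift g ξ))) h2).trans ?_
  refine Eq.trans ?_ (congrArg ((stalkPull g' u.1 AddCommGrpCat.{u + 1}).hom.app F)
    (liftGerm_germ f F (ξ ≫ g) ⟨u.1 ≫ g', comp_stalk hc ξ u⟩ W w t)).symm
  refine Eq.trans ?_ h3.symm
  refine (germ_res_apply (A := AddCommGrpCat.{u + 1}) u.1 ((EtCoh.pull g').obj F) (sqHom hc W)
    (Fib.liftU f' u (w.lift g ξ)) (((EtCoh.pullPushAdj g').unit.app F).hom.app (op ((EtCoh.bc f).obj W)) t)).trans ?_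
  refine congrArg (fun v => germ (A := AddCommGrpCat.{u + 1}) u.1 _ _ v
    (((EtCoh.pullPushAdj g').unit.app F).hom.app (op ((EtCoh.bc f).obj W)) t)) (Fib.ext ?_)
  show pullback.lift _ u.1 _ ≫ sqLeft hc W = pullback.lift (pullback.lift w.hom (u.1 ≫ g') _) u.1 _
  refine b_ext g' (b_ext f ?_ ?_) ?_
  · rw [Category.assoc _ (sqLeft hc W), Category.assoc, sq_fst_fst, pullback.lift_fst_assoc]
    erw [pullback.lift_fst]
    exact ((congrArg (· ≫ bFst f W) (pullback.lift_fst _ _ _)).trans (pullback.lift_fst _ _ _)).symm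
  · rw [Category.assoc _ (sqLeft hc W), Category.assoc, sq_fst_snd, pullback.lift_snd_assoc]
    erw [pullback.lift_fst, pullback.lift_snd]
  · rw [Category.assoc, sq_snd, pullback.lift_snd]
    erw [pullback.lift_snd]

variable [IsFinite f] [IsFinite f'] [IsAlgClosed Ω]

include hc in
theorem isIso_bcHom_stalk : IsIso ((stk (A := AddCommGrpCat.{u + 1}) ξ).map (bcHom hc F)) := by
  classical
  refine (ConcreteCategory.isIso_iff_bijective _).2 ⟨?_, fun q => ?_⟩
  · rw [injective_iff_map_eq_zero]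
    intro q hq
    obtain ⟨p, rfl⟩ := ((ConcreteCategory.isIso_iff_bijective
      ((stalkPull g ξ AddCommGrpCat.{u + 1}).hom.app ((EtCoh.push f).obj F))).1 inferInstance).2 q
    rw [liftGerm_jointly_injective f F _ p fun u => ?_, map_zero]
    let u' : {u : Spec (CommRingCat.of Ω) ⟶ X' // u ≫ f' = ξ} := ⟨hc.lift u.1 ξ u.2, hc.lift_snd _ _ _⟩
    have h := bcHom_component hc F ξ u' p
    rw [hq, map_zero] at h
    have h0 := ((ConcreteCategory.isIso_iff_bijective
      ((stalkPull g' u'.1 AddCommGrpCat.{u + 1}).hom.app F)).1 inferInstance).1 (h.symm.trans (map_zero _).symm)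
    have he : (⟨u'.1 ≫ g', comp_stalk hc ξ u'⟩ : {v : Spec (CommRingCat.of Ω) ⟶ X // v ≫ f = ξ ≫ g}) = u :=
      Subtype.ext (hc.lift_fst _ _ _)
    exact he ▸ h0
  · haveI := isIso_preι f'
    obtain ⟨q₀, hq₀⟩ := ((ConcreteCategory.isIso_iff_bijective
      ((stk (A := AddCommGrpCat.{u + 1}) ξ).map ((preι f').app ((EtCoh.pull g').obj F)))).1 inferInstance).2 q
    let σ : {u : Spec (CommRingCat.of Ω) ⟶ X' // u ≫ f' = ξ} → {v : Spec (CommRingCat.of Ω) ⟶ X // v ≫ f = ξ ≫ g} :=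
      fun u => ⟨u.1 ≫ g', comp_stalk hc ξ u⟩
    have hσ : Function.Injective σ := fun a b e =>
      Subtype.ext (hc.hom_ext (congrArg Subtype.val e) (a.2.trans b.2.symm))
    let b : ∀ u : {u : Spec (CommRingCat.of Ω) ⟶ X' // u ≫ f' = ξ},
        (stk (A := AddCommGrpCat.{u + 1}) (σ u).1).obj F := fun u =>
      inv ((stalkPull g' u.1 AddCommGrpCat.{u + 1}).hom.app F) (comp' f' ξ _ u q₀)
    let p : (stk (A := AddCommGrpCat.{u + 1}) (ξ ≫ g)).obj ((preF f).obj F) :=
      ∑ u ∈ (finite_support_comp' f' ξ _ q₀).toFinset, injAt f (ξ ≫ g) F (σ u) (b u)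
    refine ⟨(stalkPull g ξ AddCommGrpCat.{u + 1}).hom.app ((EtCoh.push f).obj F)
      ((stk (A := AddCommGrpCat.{u + 1}) (ξ ≫ g)).map ((preι f).app F) p), ?_⟩
    refine sub_eq_zero.1 (liftGerm_jointly_injective f' _ ξ _ fun u => ?_)
    rw [map_sub, sub_eq_zero, bcHom_component, ← hq₀]
    show (stalkPull g' u.1 AddCommGrpCat.{u + 1}).hom.app F (comp' f (ξ ≫ g) F (σ u) p) = comp' f' ξ _ u q₀
    have hp : comp' f (ξ ≫ g) F (σ u) p = b u := by
      simp only [p, map_sum]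
      rw [Finset.sum_eq_single u (fun v _ hv => injAt_comp'_ne f (ξ ≫ g) F _ _ (fun e => hv (hσ e).symm) _)
        (fun hu => ?_), injAt_comp']
      have h0 : comp' f' ξ _ u q₀ = 0 := by_contra fun h => hu ((Set.Finite.mem_toFinset _).2 h)
      simp only [b, h0, map_zero]
    rw [hp]
    exact ConcreteCategory.congr_hom (IsIso.inv_hom_id ((stalkPull g' u.1 AddCommGrpCat.{u + 1}).hom.app F)) _

omit Ω ξ in
theorem cohCommutesWithBC {X Y : Scheme.{u}} (f : X ⟶ Y) [IsFinite f] [EtCoh.BCCont f] :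
    EtPBC.CohCommutesWithBC f := by
  intro X' Y' f' g' g _ _ _ hc F _ q
  haveI : IsFinite f' := MorphismProperty.of_isPullback hc ‹IsFinite f›
  haveI : (EtCoh.push f).Additive := { }
  haveI : (EtCoh.push f').Additive := { }
  rcases q with _ | n
  · haveI : IsIso (bcHom hc F) := isIso_of_stalks_algClosed _ fun Ω _ _ _ ξ => isIso_bcHom_stalk hc F ξ
    exact ⟨(EtCoh.pull g).mapIso ((EtCoh.push f).rightDerivedZeroIsoSelf.app F) ≪≫ asIso (bcHom hc F) ≪≫
      ((EtCoh.push f').rightDerivedZeroIsoSelf.app ((EtCoh.pull g').obj F)).symm⟩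
  · haveI : (EtCoh.pull g).IsLeftAdjoint := (EtCoh.pullPushAdj g).isLeftAdjoint
    exact ⟨((EtCoh.pull g).map_isZero (isZero_rightDerived_push_finite f F (n + 1) (by omega))).iso
      (isZero_rightDerived_push_finite f' ((EtCoh.pull g').obj F) (n + 1) (by omega))⟩

end Groth.Agent.EtShLib
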