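import Groth.Agent.EtShLib.SectColim
import Groth.Agent.EpsLib.Cartan
import Groth.Agent.EpsLib.NerveGen
import Groth.Agent.CohLib.ExtShift
import Groth.Agent.FiltExtLib.Basic
import Mathlib.CategoryTheory.Abelian.GrothendieckAxioms.Sheaf
import Mathlib.CategoryTheory.Category.ULift
import Mathlib.CategoryTheory.Limits.Preserves.Shapes.Pullbacks
import Mathlib.AlgebraicGeometry.Morphisms.QuasiSeparated
import Mathlib.AlgebraicGeometry.Limits

/-! Étale cohomology of quasi-compact quasi-separated schemes commutes with filtered colimits. -/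

set_option autoImplicit false
set_option linter.unusedSectionVars false
set_option linter.style.haveILetI false
set_option backward.isDefEq.respectTransparency false
set_option backward.isDefEq.respectTransparency.types false
set_option synthInstance.maxHeartbeats 400000
set_option maxHeartbeats 1000000

universe u

open CategoryTheory CategoryTheory.Limits AlgebraicGeometry Opposite CategoryTheory.Abelian

namespace Groth.Agent.EtShLib

variable {X : Scheme.{u}}

/-- The quasi-compact quasi-separated objects of the small étale site. -/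
def qcqsObj (X : Scheme.{u}) : Set X.Etale := {W | CompactSpace W.left ∧ QuasiSeparatedSpace W.left}

theorem mem_qcqsObj_of_isAffine {W : X.Etale} [IsAffine W.left] : W ∈ qcqsObj X :=
  ⟨inferInstance, inferInstance⟩

theorem pow_mem_qcqsObj {W' W : X.Etale} (π : W' ⟶ W) (hW' : W' ∈ qcqsObj X) (hW : W ∈ qcqsObj X) :
    ∀ n, (EpsLib.pow π n).left ∈ qcqsObj X
  | 0 => hW'
  | n + 1 => by
    obtain ⟨hc, hq⟩ := pow_mem_qcqsObj π hW' hW n
    haveI := hW'.1; haveI := hW'.2; haveI := hW.1; haveI := hW.2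
    let G := Scheme.Etale.forget X ⋙ Over.forget X
    let e := PreservesPullback.iso G π (EpsLib.pow π n).hom
    haveI : CompactSpace ↥(G.obj W') := hW'.1
    haveI : QuasiSeparatedSpace ↥(G.obj W') := hW'.2
    haveI : QuasiSeparatedSpace ↥(G.obj W) := hW.2
    haveI : CompactSpace ↥(G.obj (EpsLib.pow π n).left) := hc
    haveI : QuasiSeparatedSpace ↥(G.obj (EpsLib.pow π n).left) := hq
    haveI : CompactSpace ↥(pullback (G.map π) (G.map (EpsLib.pow π n).hom)) :=
      QuasiCompact.compactSpace_of_compactSpace (pullback.snd (G.map π) (G.map (EpsLib.pow π n).hom))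
    haveI : QuasiSeparatedSpace ↥(pullback (G.map π) (G.map (EpsLib.pow π n).hom)) :=
      quasiSeparatedSpace_of_quasiSeparated (pullback.snd (G.map π) (G.map (EpsLib.pow π n).hom))
    exact ⟨(e.hom.homeomorph).symm.compactSpace,
      quasiSeparatedSpace_of_quasiSeparated e.hom⟩

/-- Čech exactness for all covers between quasi-compact quasi-separated objects. -/
def CechAcyclicQ (F : EtCoh.Ab X) : Prop :=
  ∀ (W' W : X.Etale) (π : W' ⟶ W), W' ∈ qcqsObj X → W ∈ qcqsObj X → Surjective π.left →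
    ∀ n, EpsLib.HExact (EpsLib.nerveOf π) F.obj n

theorem ofArrows_single_mem {W' W : X.Etale} (π : W' ⟶ W) (h : Surjective π.left) :
    Sieve.ofArrows (fun _ : PUnit.{u + 1} => W') (fun _ => π) ∈ X.smallEtaleTopology W :=
  (Scheme.ofArrows_mem_smallEtaleTopology_iff _).2
    (Set.eq_univ_of_forall fun y => Set.mem_iUnion.2 ⟨PUnit.unit, π.left.surjective y⟩)

theorem exists_cover_lift {S : ShortComplex (EtCoh.Ab X)} (hS : S.ShortExact) {W : X.Etale}
    (hW : W ∈ qcqsObj X) (s : S.X₃.obj.obj (op W)) :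
    ∃ (W' : X.Etale) (π : W' ⟶ W), IsAffine W'.left ∧ Surjective π.left ∧
      ∃ t : S.X₂.obj.obj (op W'), S.g.hom.app (op W') t = S.X₃.obj.map π.op s := by
  classical
  haveI := hW.1
  haveI := hS.epi_g
  have hsurj := (epi_iff_stalks (A := AddCommGrpCat.{u + 1}) S.g).1 inferInstance
  have hloc : ∀ y : W.left, ∃ (V : X.Etale) (g : V ⟶ W) (t : S.X₂.obj.obj (op V)),
      IsAffine V.left ∧ y ∈ Set.range g.left.base ∧ S.g.hom.app (op V) t = S.X₃.obj.map g.op s := by
    intro y
    obtain ⟨Ω, _, _, ξ, u, rfl⟩ := exists_geometric (U := W) y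
    obtain ⟨q, hq⟩ := (AddCommGrpCat.epi_iff_surjective _).1 (hsurj Ω ξ) (germ (A := AddCommGrpCat.{u + 1}) ξ S.X₃ W u s)
    obtain ⟨V₁, g₁, v₁, t₁, hv₁, rfl⟩ := exists_germ_below (A := AddCommGrpCat.{u + 1}) ξ q W u
    rw [germ_natural_apply, ← hv₁, ← germ_res_apply] at hq
    obtain ⟨V₂, g₂, v₂, hv₂, he⟩ := (germ_eq_iff (A := AddCommGrpCat.{u + 1}) ξ V₁ v₁ _ _).1 hq
    obtain ⟨B, hB, hvB, -⟩ := exists_isAffineOpen_mem_and_subset (X := V₂.left) (x := v₂.pt) (U := ⊤) trivial
    haveI : AlgebraicGeometry.Etale V₂.hom := V₂.prop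
    let V : X.Etale := MorphismProperty.Over.mk ⊤ (B.ι ≫ V₂.hom)
      (inferInstance : AlgebraicGeometry.Etale (B.ι ≫ V₂.hom))
    let e₃ : V ⟶ V₂ := MorphismProperty.Over.homMk B.ι rfl
    refine ⟨V, (e₃ ≫ g₂) ≫ g₁, S.X₂.obj.map (e₃ ≫ g₂).op t₁, hB, ⟨⟨v₂.pt, hvB⟩, ?_⟩, ?_⟩
    · show g₁.left.base (g₂.left.base v₂.pt) = u.pt
      rw [← hv₁, ← hv₂]
      rfl
    · refine (NatTrans.naturality_apply S.g.hom (e₃ ≫ g₂).op t₁).trans ?_
      simp only [op_comp, Functor.map_comp, ConcreteCategory.comp_apply]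
      exact congrArg (S.X₃.obj.map e₃.op) he
  choose V g t hV hy ht using hloc
  obtain ⟨F, hF⟩ := (isCompact_univ (X := W.left)).elim_finite_subcover (fun y => Set.range (g y).left.base)
    (fun y => haveI := etale_left (g y); (g y).left.isOpenMap.isOpen_range)
    (fun y _ => Set.mem_iUnion.2 ⟨y, hy y⟩)
  let sch : F → Scheme.{u} := fun y => (V y.1).left
  haveI : ∀ y : F, IsAffine (sch y) := fun y => hV y.1
  haveI : AlgebraicGeometry.Etale (Sigma.desc fun y : F => (V y.1).hom) :=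
    IsZariskiLocalAtSource.sigmaDesc (P := @AlgebraicGeometry.Etale) fun y => (V y.1).prop
  let W' : X.Etale := MorphismProperty.Over.mk ⊤ (Sigma.desc fun y : F => (V y.1).hom)
    (inferInstance : AlgebraicGeometry.Etale (Sigma.desc fun y : F => (V y.1).hom))
  let ι : ∀ y : F, V y.1 ⟶ W' := fun y => MorphismProperty.Over.homMk (Sigma.ι sch y) (Sigma.ι_desc _ _)
  let π : W' ⟶ W := MorphismProperty.Over.homMk (Sigma.desc fun y : F => (g y.1).left) (by
    refine Sigma.hom_ext _ _ fun y => ?_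
    refine ((Category.assoc _ _ _).symm.trans (congrArg (· ≫ W.hom) (Sigma.ι_desc _ y))).trans ?_
    exact (MorphismProperty.Over.w (g y.1)).trans (Sigma.ι_desc (fun y : F => (V y.1).hom) y).symm)
  have hιπ : ∀ y : F, ι y ≫ π = g y.1 := fun y => MorphismProperty.Over.Hom.ext (Sigma.ι_desc _ y)
  haveI : IsAffine W'.left := inferInstanceAs (IsAffine (∐ sch))
  have hπ : Surjective π.left := ⟨fun z => by
    obtain ⟨y, hy', p, hp⟩ := Set.mem_iUnion₂.1 (hF (Set.mem_univ z))
    refine ⟨(ι ⟨y, hy'⟩).left.base p, ?_⟩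
    rw [← hp]
    exact congrArg (fun t : V y ⟶ W => t.left.base p) (hιπ ⟨y, hy'⟩)⟩
  have hcov : Sieve.ofArrows (fun y : F => V y.1) ι ∈ X.smallEtaleTopology W' := by
    refine (Scheme.ofArrows_mem_smallEtaleTopology_iff ι).2 (Set.eq_univ_of_forall fun z => ?_)
    obtain ⟨⟨y, p⟩, hp⟩ := (sigmaMk sch).surjective z
    exact Set.mem_iUnion.2 ⟨y, p, (sigmaMk_mk sch y p).symm.trans hp⟩
  have hsh : (Presieve.ofArrows (fun y : F => V y.1) ι).IsSheafFor (S.X₂.obj ⋙ forget AddCommGrpCat.{u + 1}) := by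
    rw [Presieve.isSheafFor_iff_generate]
    exact ((isSheaf_iff_isSheaf_of_type _ _).1
      (GrothendieckTopology.HasSheafCompose.isSheaf S.X₂.obj S.X₂.property)) _ hcov
  obtain ⟨T, hT, -⟩ := (Presieve.isSheafFor_arrows_iff _ _).1 hsh (fun y => t y.1) (fun i j Z a b hab => by
    by_cases hij : i = j
    · subst hij
      have : a = b := MorphismProperty.Over.Hom.ext
        ((cancel_mono (Sigma.ι sch i)).1 (congrArg (fun k : Z ⟶ W' => k.left) hab))
      rw [this]
    · haveI : IsEmpty Z.left := ⟨fun z => hij (congrArg Sigma.fst ((sigmaMk sch).injective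
        ((sigmaMk_mk sch i (a.left.base z)).trans
          ((congrArg (fun k : Z ⟶ W' => k.left.base z) hab).trans (sigmaMk_mk sch j (b.left.base z)).symm))))⟩
      exact eq_of_germ (A := AddCommGrpCat.{u + 1}) S.X₂ (U := Z) _ _ fun Ω _ _ ξ u => isEmptyElim u.pt)
  refine ⟨W', π, inferInstance, hπ, T, res_ext S.X₃ _ _ fun z => ?_⟩
  obtain ⟨⟨y, p⟩, hp⟩ := (sigmaMk sch).surjective z
  refine ⟨V y.1, ι y, ⟨p, (sigmaMk_mk sch y p).symm.trans hp⟩, ?_⟩
  rw [← NatTrans.naturality_apply]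
  refine (congrArg (S.g.hom.app (op (V y.1))) (hT y)).trans ((ht y.1).trans ?_)
  rw [← ConcreteCategory.comp_apply, ← Functor.map_comp, ← op_comp, hιπ]

theorem surjective_sections {S : ShortComplex (EtCoh.Ab X)} (hS : S.ShortExact) (h : CechAcyclicQ S.X₁)
    {W : X.Etale} (hW : W ∈ qcqsObj X) : Function.Surjective (S.g.hom.app (op W)) := fun s => by
  obtain ⟨W', π, hW'a, hπ, t, ht⟩ := exists_cover_lift hS hW s
  have hW' : W' ∈ qcqsObj X := haveI := hW'a; mem_qcqsObj_of_isAffine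
  exact EpsLib.exists_lift_of_hExact hS (EpsLib.nerveOf π) (ofArrows_single_mem π hπ) (h W' W π hW' hW hπ 0) s t ht

theorem cechAcyclicQ_quotient {S : ShortComplex (EtCoh.Ab X)} (hS : S.ShortExact) [Injective S.X₂]
    (h : CechAcyclicQ S.X₁) : CechAcyclicQ S.X₃ := fun W' W π hW' hW hπ n =>
  EpsLib.hExact_quotient hS (EpsLib.nerveOf π)
    (surjective_sections hS h (pow_mem_qcqsObj π hW' hW (n + 1)))
    (h W' W π hW' hW hπ (n + 1)) (EpsLib.hExact_injective_sheaf S.X₂ (EpsLib.nerveOf π) n)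

theorem cechAcyclicQ_colimit {J : Type u} [SmallCategory J] [IsFiltered J] {D : J ⥤ EtCoh.Ab X} {c : Cocone D}
    (hc : IsColimit c) (h : ∀ j, CechAcyclicQ (D.obj j)) : CechAcyclicQ c.pt := by
  intro W' W π hW' hW hπ n x hx
  haveI := (pow_mem_qcqsObj π hW' hW (n + 1)).1
  haveI := (pow_mem_qcqsObj π hW' hW (n + 1)).2
  haveI := (pow_mem_qcqsObj π hW' hW (n + 2)).1
  haveI : CompactSpace ((EpsLib.nerveOf π).obj (n + 1)).left := (pow_mem_qcqsObj π hW' hW (n + 1)).1
  haveI : QuasiSeparatedSpace ((EpsLib.nerveOf π).obj (n + 1)).left := (pow_mem_qcqsObj π hW' hW (n + 1)).2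
  haveI : CompactSpace ((EpsLib.nerveOf π).obj (n + 1 + 1)).left := (pow_mem_qcqsObj π hW' hW (n + 1 + 1)).1
  obtain ⟨i, s, rfl⟩ := exists_stage_lift hc ((EpsLib.nerveOf π).obj (n + 1)) x
  obtain ⟨k, a, ha⟩ := exists_stage_zero hc ((EpsLib.nerveOf π).obj (n + 1 + 1)) _
    ((EpsLib.cechD_natural (EpsLib.nerveOf π) (c.ι.app i).hom (n + 1) s).trans hx)
  obtain ⟨y, hy⟩ := h k W' W π hW' hW hπ n _
    ((EpsLib.cechD_natural (EpsLib.nerveOf π) (D.map a).hom (n + 1) s).symm.trans ha)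
  refine ⟨(c.ι.app k).hom.app _ y, ?_⟩
  refine (EpsLib.cechD_natural (EpsLib.nerveOf π) (c.ι.app k).hom n y).symm.trans ?_
  rw [hy, ← ConcreteCategory.comp_apply]
  exact congrArg (fun w : D.obj i ⟶ c.pt => w.hom.app _ s) (c.w a)

theorem cechAcyclicQ_injective (I : EtCoh.Ab X) [Injective I] : CechAcyclicQ I := fun _ _ π _ _ _ n =>
  EpsLib.hExact_injective_sheaf I (EpsLib.nerveOf π) n

/-- The constant sheaf corepresenting cohomology. -/
noncomputable abbrev constZ (X : Scheme.{u}) : EtCoh.Ab X :=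
  (constantSheaf X.smallEtaleTopology AddCommGrpCat.{u + 1}).obj (AddCommGrpCat.of (ULift.{u + 1} ℤ))

theorem isTerminal_top (X : Scheme.{u}) : Nonempty (IsTerminal (EtCoh.top X)) :=
  ⟨MorphismProperty.Over.mkIdTerminal EtCoh.etaleMP X⟩

theorem subsingleton_H_cechAcyclicQ [CompactSpace X] [QuasiSeparatedSpace X] : ∀ (p : ℕ) (G : EtCoh.Ab X),
    CechAcyclicQ G → Subsingleton (Ext.{u + 1} (constZ X) G (p + 1))
  | 0, G, hG => by
    haveI : Injective (CohLib.injSC G).X₂ := inferInstanceAs (Injective (Injective.under G))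
    haveI := CohLib.subsingleton_ext_injective.{u + 1} (constZ X) (CohLib.injSC G).X₂ 0
    refine CohLib.subsingleton_ext_one_of_lift (CohLib.injSC_shortExact G) fun s => ?_
    obtain ⟨hT⟩ := isTerminal_top X
    have htop : EtCoh.top X ∈ qcqsObj X := ⟨‹CompactSpace X›, ‹QuasiSeparatedSpace X›⟩
    obtain ⟨t, ht⟩ := surjective_sections (CohLib.injSC_shortExact G) hG htop
      (Sheaf.H.equiv₀ (CohLib.injSC G).X₃ hT (Ext.mk₀ s))
    refine ⟨Ext.addEquiv₀ ((Sheaf.H.equiv₀ (CohLib.injSC G).X₂ hT).symm t), ?_⟩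
    rw [← Sheaf.H.addEquiv₀_map, Sheaf.H.equiv₀_symm_naturality, ht, AddEquiv.symm_apply_apply]
    exact Ext.addEquiv₀.symm.injective (by simp)
  | p + 1, G, hG => by
    haveI : Injective (CohLib.injSC G).X₂ := inferInstanceAs (Injective (Injective.under G))
    haveI := CohLib.subsingleton_ext_injective.{u + 1} (constZ X) (CohLib.injSC G).X₂ (p + 1)
    haveI := subsingleton_H_cechAcyclicQ p _ (cechAcyclicQ_quotient (CohLib.injSC_shortExact G) hG)
    exact CohLib.subsingleton_ext_of_shift (CohLib.injSC_shortExact G)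

theorem preservesFilteredColimits_H [CompactSpace X] [QuasiSeparatedSpace X] (n : ℕ) (J : Type u) [SmallCategory J]
    [IsFiltered J] : PreservesColimitsOfShape J (EtCoh.HF X n) := by
  haveI : IsFiltered (AsSmall.{u + 1} J) := IsFiltered.of_equivalence AsSmall.equiv
  obtain ⟨hT⟩ := isTerminal_top X
  haveI : CompactSpace (EtCoh.top X).left := ‹CompactSpace X›
  haveI : QuasiSeparatedSpace (EtCoh.top X).left := ‹QuasiSeparatedSpace X›
  have key : ∀ (F : EtCoh.Ab X) (s : constZ X ⟶ F) {G : EtCoh.Ab X} (f : F ⟶ G),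
      f.hom.app (op (EtCoh.top X)) (Sheaf.H.equiv₀ F hT (Ext.mk₀ s)) = Sheaf.H.equiv₀ G hT (Ext.mk₀ (s ≫ f)) :=
    fun F s G f => by
      rw [Sheaf.H.equiv₀_naturality, Sheaf.H.map_apply, Ext.mk₀_comp_mk₀]
  have hcomm : FiltExtLib.ExtComm (constZ X) (AsSmall.{u + 1} J) n := by
    refine FiltExtLib.extComm_of_acyclic ?_ ?_ ?_ n
    · intro D t
      have hc := IsColimit.whiskerEquivalence (colimit.isColimit D) AsSmall.equiv
      obtain ⟨i, y, hy⟩ := exists_stage_lift hc (EtCoh.top X) (Sheaf.H.equiv₀ _ hT (Ext.mk₀ t))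
      obtain ⟨s, hs⟩ := Ext.addEquiv₀.symm.surjective ((Sheaf.H.equiv₀ _ hT).symm y)
      refine ⟨AsSmall.equiv.functor.obj i, s, ?_⟩
      have h1 : Sheaf.H.equiv₀ _ hT (Ext.mk₀ s) = y := by
        rw [← Ext.addEquiv₀_symm_apply, hs, AddEquiv.apply_symm_apply]
      apply Ext.addEquiv₀.symm.injective
      rw [Ext.addEquiv₀_symm_apply, Ext.addEquiv₀_symm_apply]
      apply (Sheaf.H.equiv₀ _ hT).injective
      rw [← key _ s, h1]
      exact hy
    · rintro D ⟨i⟩ s h
      have hc := IsColimit.whiskerEquivalence (colimit.isColimit D) AsSmall.equiv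
      obtain ⟨k, a, ha⟩ := exists_stage_zero hc (EtCoh.top X) (i := i) (Sheaf.H.equiv₀ _ hT (Ext.mk₀ s)) (by
        refine (key _ s _).trans ?_
        erw [h]
        rw [Ext.mk₀_zero, map_zero])
      refine ⟨AsSmall.equiv.functor.obj k, AsSmall.equiv.functor.map a, ?_⟩
      apply Ext.addEquiv₀.symm.injective
      rw [Ext.addEquiv₀_symm_apply, Ext.addEquiv₀_symm_apply]
      apply (Sheaf.H.equiv₀ _ hT).injective
      rw [← key _ s, Ext.mk₀_zero, map_zero]
      exact ha
    · intro q I hI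
      have hc := IsColimit.whiskerEquivalence (colimit.isColimit I) AsSmall.equiv
      exact subsingleton_H_cechAcyclicQ q _ (cechAcyclicQ_colimit hc fun j =>
        @cechAcyclicQ_injective _ (I.obj (AsSmall.equiv.functor.obj j)) (hI _))
  haveI := FiltExtLib.preservesColimitsOfShape_ext hcomm
  let e : (Abelian.extFunctor.{u + 1} n).obj (op (constZ X)) ≅ EtCoh.HF X n :=
    NatIso.ofComponents (fun F => Iso.refl _) fun _ => rfl
  haveI : PreservesColimitsOfShape (AsSmall.{u + 1} J) (EtCoh.HF X n) := preservesColimitsOfShape_of_natIso e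
  exact preservesColimitsOfShape_of_equiv AsSmall.equiv.symm _

end Groth.Agent.EtShLib
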