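import Groth.Agent.EtShLib.Stalk
import Groth.Agent.SubmDescLib.Sections
import Mathlib.Algebra.Homology.DerivedCategory.Ext.EnoughProjectives
import Mathlib.CategoryTheory.Sites.SheafCohomology.Basic

/-! Etale sheaves on strictly henselian local schemes. -/

set_option autoImplicit false
set_option linter.unusedSectionVars false
set_option linter.style.haveILetI false
set_option backward.isDefEq.respectTransparency false
set_option backward.isDefEq.respectTransparency.types false
set_option maxHeartbeats 1000000

universe u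

open CategoryTheory CategoryTheory.Limits AlgebraicGeometry Opposite

namespace Groth.Agent.EtShLib

variable (R : Type u) [CommRing R] [HenselianLocalRing R] [IsSepClosed (IsLocalRing.ResidueField R)]

/-- The geometric closed point. -/
noncomputable abbrev closedPt : Spec (CommRingCat.of (IsLocalRing.ResidueField R)) ⟶ Spec (CommRingCat.of R) :=
  Spec.map (CommRingCat.ofHom (IsLocalRing.residue R))

/-- The lift of the closed point to the final object. -/
noncomputable abbrev topPt : Fib (closedPt R) (EtCoh.top (Spec (CommRingCat.of R))) :=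
  Fib.mk (closedPt R) (Category.comp_id _)

theorem exists_section_fib (U : (Spec (CommRingCat.of R)).Etale) (u : Fib (closedPt R) U) :
    ∃ σ : EtCoh.top (Spec (CommRingCat.of R)) ⟶ U, (topPt R).map σ = u := by
  haveI : AlgebraicGeometry.Etale U.hom := U.prop
  obtain ⟨σ, hσ, hσu⟩ := SubmDescLib.exists_hensel_section (IsLocalRing.residue R) IsLocalRing.residue_surjective
    U.hom u.hom u.w
  exact ⟨MorphismProperty.Over.homMk σ hσ, Fib.ext hσu⟩

variable (F : EtCoh.Ab (Spec (CommRingCat.of R)))

theorem bijective_germ_top :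
    Function.Bijective (germ (A := AddCommGrpCat.{u + 1}) (closedPt R) F (EtCoh.top _) (topPt R)) := by
  refine ⟨fun x y h => ?_, fun p => ?_⟩
  · obtain ⟨V, g, v, -, he⟩ := (germ_eq_iff (closedPt R) _ _ x y).1 h
    obtain ⟨σ, -⟩ := exists_section_fib R V v
    have h1 : σ ≫ g = 𝟙 _ := MorphismProperty.Over.Hom.ext (by
      have h2 := MorphismProperty.Over.w (σ ≫ g)
      exact (Category.comp_id _).symm.trans h2)
    have := congrArg (F.obj.map σ.op) he
    rwa [← ConcreteCategory.comp_apply, ← ConcreteCategory.comp_apply, ← Functor.map_comp, ← op_comp, h1,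
      op_id, CategoryTheory.Functor.map_id, ConcreteCategory.id_apply, ConcreteCategory.id_apply] at this
  · obtain ⟨U, u, x, rfl⟩ := exists_germ (A := AddCommGrpCat.{u + 1}) (closedPt R) p
    obtain ⟨σ, rfl⟩ := exists_section_fib R U u
    exact ⟨F.obj.map σ.op x, germ_res_apply _ _ _ _ _⟩

theorem surjective_sections_of_epi {F G : EtCoh.Ab (Spec (CommRingCat.of R))} (α : F ⟶ G) [Epi α] :
    Function.Surjective (α.hom.app (op (EtCoh.top (Spec (CommRingCat.of R))))) := fun y => by
  haveI : Epi ((stk (A := AddCommGrpCat.{u + 1}) (closedPt R)).map α) :=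
    (epi_iff_stalks α).1 inferInstance _ (closedPt R)
  obtain ⟨p, hp⟩ := (AddCommGrpCat.epi_iff_surjective _).1 ‹_›
    (germ (A := AddCommGrpCat.{u + 1}) (closedPt R) G _ (topPt R) y)
  obtain ⟨x, rfl⟩ := (bijective_germ_top R F).2 p
  rw [germ_natural_apply] at hp
  exact ⟨x, (bijective_germ_top R G).1 hp⟩

theorem projective_constantSheaf : Projective ((constantSheaf (Spec (CommRingCat.of R)).smallEtaleTopology
    AddCommGrpCat.{u + 1}).obj (AddCommGrpCat.of (ULift ℤ))) := by
  have hT : IsTerminal (EtCoh.top (Spec (CommRingCat.of R))) :=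
    MorphismProperty.Over.mkIdTerminal EtCoh.etaleMP (Spec (CommRingCat.of R))
  haveI : Projective (AddCommGrpCat.of (ULift.{u + 1} ℤ)) :=
    ⟨fun {E X} f e he => by
      obtain ⟨x, hx⟩ := (AddCommGrpCat.epi_iff_surjective e).1 he (f (ULift.up 1))
      refine ⟨AddCommGrpCat.ofHom ((zmultiplesHom _ x).comp AddEquiv.ulift.toAddMonoidHom), ?_⟩
      ext n
      show e (n.down • x) = f n
      rw [map_zsmul, hx, ← map_zsmul]
      exact congrArg f (ULift.ext _ _ (by simp))⟩
  haveI : ((sheafSections (Spec (CommRingCat.of R)).smallEtaleTopology AddCommGrpCat.{u + 1}).obj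
      (op (EtCoh.top (Spec (CommRingCat.of R))))).PreservesEpimorphisms :=
    ⟨fun α hα => (AddCommGrpCat.epi_iff_surjective _).2 (surjective_sections_of_epi R α)⟩
  exact Adjunction.map_projective (constantSheafAdj _ _ hT) _ inferInstance

theorem subsingleton_H (p : ℕ) (hp : 1 ≤ p) : Subsingleton (EtCoh.H (Spec (CommRingCat.of R)) F p) := by
  haveI := projective_constantSheaf R
  obtain ⟨n, rfl⟩ : ∃ n, p = n + 1 := ⟨p - 1, by omega⟩
  exact subsingleton_of_forall_eq 0 Abelian.Ext.eq_zero_of_projective

end Groth.Agent.EtShLib
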