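import Groth.Agent.EtShLib.Kummer
import Groth.Prelude.Def_W4c5etcohweilstudentAS

/-! The Artin–Schreier sequence. -/

set_option autoImplicit false
set_option linter.unusedSectionVars false
set_option linter.style.haveILetI false
set_option backward.isDefEq.respectTransparency false
set_option backward.isDefEq.respectTransparency.types false
set_option maxHeartbeats 1000000

universe u

open CategoryTheory CategoryTheory.Limits AlgebraicGeometry Opposite Polynomial

namespace Groth.Agent.EtShLib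

/-- An étale cover where an element becomes `y ^ p - y`. -/
theorem exists_as_cover {A : CommRingCat.{u}} (p : ℕ) (hp : p.Prime) (h0 : (p : A) = 0) (a : A) :
    ∃ (B : CommRingCat.{u}) (φ : A ⟶ B), AlgebraicGeometry.Etale (Spec.map φ) ∧
      Function.Surjective (Spec.map φ).base ∧ ∃ y : B, y ^ p - y = φ.hom a := by
  rcases subsingleton_or_nontrivial A with hA | hA
  · exact ⟨A, 𝟙 A, by rw [Spec.map_id]; infer_instance, by rw [Spec.map_id]; exact Function.surjective_id,
      0, Subsingleton.elim _ _⟩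
  let f : A[X] := X ^ p - (X + C a)
  have hdeg : degree (X + C a : A[X]) < (p : WithBot ℕ) := by
    rw [degree_X_add_C]
    exact_mod_cast hp.one_lt
  have hm : f.Monic := monic_X_pow_sub hdeg
  have hsep : f.Separable := by
    refine ⟨0, -1, ?_⟩
    simp [f, derivative_X_pow, h0]
  haveI := etale_adjoinRoot_separable hm hsep
  haveI : Module.Free A (AdjoinRoot f) := hm.free_adjoinRoot
  haveI : Module.Finite A (AdjoinRoot f) := hm.finite_adjoinRoot
  have hnd : f.natDegree = p := natDegree_eq_of_degree_eq_some (by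
    rw [degree_sub_eq_left_of_degree_lt (by rw [degree_X_pow]; exact hdeg), degree_X_pow])
  haveI : Nontrivial (AdjoinRoot f) := nontrivial_of_ne _ 0
    ((AdjoinRoot.powerBasis' hm).basis.ne_zero ⟨0, by rw [AdjoinRoot.powerBasis'_dim, hnd]; exact hp.pos⟩)
  haveI : Module.FaithfullyFlat A (AdjoinRoot f) := inferInstance
  refine ⟨CommRingCat.of (AdjoinRoot f), CommRingCat.ofHom (algebraMap A (AdjoinRoot f)), ?_, ?_,
    AdjoinRoot.root f, ?_⟩
  · exact (HasRingHomProperty.Spec_iff (P := @AlgebraicGeometry.Etale)).2 (RingHom.etale_algebraMap.2 ‹_›)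
  · exact PrimeSpectrum.comap_surjective_of_faithfullyFlat
  · have h := AdjoinRoot.eval₂_root f
    simp only [f, eval₂_sub, eval₂_add, eval₂_pow, eval₂_X, eval₂_C, ← sub_sub, sub_eq_zero] at h
    exact h

theorem epi_artinSchreier (p : ℕ) (hp : p.Prime) {S : Scheme.{u}} (h0 : (p : Γ(S, ⊤)) = 0) :
    Epi (W4c5etcohweilstudent.artinSchreierEndo S p hp h0) := by
  refine (epi_iff_stalks _).2 fun Ω _ _ ξ => (AddCommGrpCat.epi_iff_surjective _).2 fun q => ?_
  obtain ⟨U, u, x₀, rfl⟩ := exists_germ (A := AddCommGrpCat.{u + 1}) ξ q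
  obtain ⟨W, g, w, hW, rfl⟩ := exists_affine_below' ξ U u
  haveI := hW
  rw [← germ_res_apply]
  generalize (EtCoh.Ga S).obj.map g.op x₀ = x
  let x' : Γ(W.left, ⊤) := x.down
  obtain ⟨B, φ, hφ, hsurj, y, hy⟩ := exists_as_cover p hp (W4c5etcohweilstudent.natCast_eq_zero_etale p h0 W) x'
  haveI : AlgebraicGeometry.Etale W.hom := W.prop
  haveI := hφ
  let j : Spec B ⟶ W.left := Spec.map φ ≫ W.left.isoSpec.inv
  let V : S.Etale := MorphismProperty.Over.mk ⊤ (j ≫ W.hom) (inferInstance : AlgebraicGeometry.Etale (j ≫ W.hom))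
  let e : V ⟶ W := MorphismProperty.Over.homMk j rfl
  obtain ⟨z, hz⟩ : ∃ z, j.base z = w.pt := by
    obtain ⟨z, hz⟩ := hsurj (W.left.isoSpec.hom.base w.pt)
    refine ⟨z, ?_⟩
    show W.left.isoSpec.inv.base ((Spec.map φ).base z) = _
    rw [hz]
    exact congrArg (fun t : W.left ⟶ W.left => t.base w.pt) W.left.isoSpec.hom_inv_id
  obtain ⟨l, hl, -⟩ := Scheme.exists_fac_of_etale_of_isSepClosed j w.hom z hz
  let v : Fib ξ V := Fib.mk l (by
    show l ≫ j ≫ W.hom = ξ
    rw [← Category.assoc, hl]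
    exact w.w)
  have hv : v.map e = w := Fib.ext hl
  let y' : Γ(V.left, ⊤) := (Scheme.ΓSpecIso B).inv.hom y
  refine ⟨germ (A := AddCommGrpCat.{u + 1}) ξ (EtCoh.Ga S) V v (ULift.up y'), ?_⟩
  rw [germ_natural_apply, ← hv, ← germ_res_apply]
  refine congrArg _ ?_
  show (ULift.up (y' ^ p - y') : ULift.{u + 1} Γ(V.left, ⊤)) = ULift.up (j.appTop.hom x')
  refine ULift.ext _ _ ?_
  show ((Scheme.ΓSpecIso B).inv.hom y) ^ p - (Scheme.ΓSpecIso B).inv.hom y = j.appTop.hom x'
  rw [← map_pow, ← map_sub, hy]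
  show (φ ≫ (Scheme.ΓSpecIso B).inv).hom x' = _
  rw [Scheme.ΓSpecIso_inv_naturality]
  have hiso : W.left.isoSpec.inv.appTop = (Scheme.ΓSpecIso Γ(W.left, ⊤)).inv := by
    rw [← cancel_epi (Scheme.ΓSpecIso Γ(W.left, ⊤)).hom, Iso.hom_inv_id, ← Scheme.toSpecΓ_appTop]
    exact (Scheme.Hom.comp_appTop _ _).symm.trans (congrArg Scheme.Hom.appTop W.left.isoSpec.inv_hom_id)
  rw [← hiso]
  rfl

end Groth.Agent.EtShLib
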