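import Groth.Agent.EtShLib.CechColim
import Groth.Prelude.Def_EtGm
import Mathlib.AlgebraicGeometry.Morphisms.Flat
import Mathlib.RingTheory.Flat.FaithfullyFlat.Basic

/-! The additive group has no higher étale cohomology on affine schemes. -/

set_option autoImplicit false
set_option linter.unusedSectionVars false
set_option linter.style.haveILetI false
set_option backward.isDefEq.respectTransparency false
set_option backward.isDefEq.respectTransparency.types false
set_option synthInstance.maxHeartbeats 400000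
set_option maxHeartbeats 1000000

universe u

open CategoryTheory CategoryTheory.Limits AlgebraicGeometry Opposite CategoryTheory.Abelian TensorProduct

namespace Groth.Agent.EtShLib.GaAux

variable {X : Scheme.{u}} {W' W : X.Etale} (π : W' ⟶ W)

/-- Pullback of functions. -/
noncomputable abbrev res {U V : X.Etale} (g : U ⟶ V) : Γ(V.left, ⊤) →+* Γ(U.left, ⊤) :=
  g.left.appTop.hom

theorem res_comp {U V T : X.Etale} (g : U ⟶ V) (h : V ⟶ T) (x : Γ(T.left, ⊤)) :
    res g (res h x) = res (g ≫ h) x :=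
  (congrArg (fun t : Γ(T.left, ⊤) ⟶ Γ(U.left, ⊤) => t.hom x) (Scheme.Hom.comp_appTop g.left h.left)).symm

theorem res_id {U : X.Etale} (x : Γ(U.left, ⊤)) : res (𝟙 U) x = x :=
  congrArg (fun t : Γ(U.left, ⊤) ⟶ Γ(U.left, ⊤) => t.hom x) (Scheme.Hom.id_app ⊤)

/-- The powers. -/
noncomputable abbrev obj (n : ℕ) : X.Etale := (EpsLib.nerveOf π).obj n

/-- The faces. -/
noncomputable abbrev face (n : ℕ) (i : Fin (n + 2)) : obj π (n + 1) ⟶ obj π n := (EpsLib.nerveOf π).face n i

/-- The projections. -/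
noncomputable abbrev pr (n : ℕ) (k : Fin (n + 1)) : obj π n ⟶ W' := (EpsLib.nerveOf π).pr n k

theorem face_zero_eq (n : ℕ) : face π n 0 = pullback.snd π (EpsLib.pow π n).hom :=
  (EpsLib.nerveOf π).ext n _ _ fun k => by
    rw [(EpsLib.nerveOf π).face_pr, Fin.succAbove_zero]
    rfl

theorem face_w (n : ℕ) (i : Fin (n + 2)) : face π n i ≫ pr π n 0 ≫ π = pr π (n + 1) 0 ≫ π := by
  rw [← Category.assoc, (EpsLib.nerveOf π).face_pr, (EpsLib.nerveOf π).w]

theorem face_comm (n : ℕ) (i : Fin (n + 2)) :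
    face π (n + 1) i.succ ≫ face π n 0 = face π (n + 1) 0 ≫ face π n i :=
  (EpsLib.nerveOf π).ext n _ _ fun k => by
    simp only [Category.assoc, (EpsLib.nerveOf π).face_pr, Fin.succAbove_zero, Fin.succ_succAbove_succ]

theorem face_succ_pr (n : ℕ) (i : Fin (n + 2)) : face π (n + 1) i.succ ≫ pr π (n + 1) 0 = pr π (n + 2) 0 := by
  rw [(EpsLib.nerveOf π).face_pr, Fin.succ_succAbove_zero]

/-- Duplicate the first vertex. -/
noncomputable def dup (n : ℕ) : obj π n ⟶ obj π (n + 1) :=
  (EpsLib.nerveOf π).lift (n + 1) (Fin.cons (pr π n 0) fun k => pr π n k) fun k => by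
    induction k using Fin.cases with
    | zero => rfl
    | succ k => simp only [Fin.cons_zero, Fin.cons_succ, (EpsLib.nerveOf π).w n k]

theorem dup_face_one (n : ℕ) : dup π n ≫ face π n 1 = 𝟙 _ :=
  (EpsLib.nerveOf π).ext n _ _ fun k => by
    rw [Category.assoc, (EpsLib.nerveOf π).face_pr, dup, (EpsLib.nerveOf π).fac, Category.id_comp]
    induction k using Fin.cases with
    | zero => rw [show (1 : Fin (n + 2)) = (0 : Fin (n + 1)).succ from rfl, Fin.succ_succAbove_zero, Fin.cons_zero]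
    | succ k => rw [show (1 : Fin (n + 2)) = (0 : Fin (n + 1)).succ from rfl, Fin.succ_succAbove_succ, Fin.succAbove_zero, Fin.cons_succ]

theorem dup_face (n : ℕ) (i : Fin (n + 1)) :
    dup π (n + 1) ≫ face π (n + 1) i.succ.succ = face π n i.succ ≫ dup π n :=
  (EpsLib.nerveOf π).ext (n + 1) _ _ fun k => by
    simp only [Category.assoc, (EpsLib.nerveOf π).face_pr, dup, (EpsLib.nerveOf π).fac]
    induction k using Fin.cases with
    | zero => simp only [Fin.succ_succAbove_zero, Fin.cons_zero, (EpsLib.nerveOf π).face_pr]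
    | succ k => simp only [Fin.succ_succAbove_succ, Fin.cons_succ, (EpsLib.nerveOf π).face_pr]

/-- The differential. -/
noncomputable def d (n : ℕ) : Γ((obj π n).left, ⊤) →+ Γ((obj π (n + 1)).left, ⊤) :=
  ∑ i : Fin (n + 2), ((-1 : ℤ) ^ (i : ℕ)) • (res (face π n i)).toAddMonoidHom

theorem d_apply (n : ℕ) (x : Γ((obj π n).left, ⊤)) :
    d π n x = ∑ i : Fin (n + 2), ((-1 : ℤ) ^ (i : ℕ)) • res (face π n i) x := by
  simp [d, AddMonoidHom.finsetSum_apply]

/-- The differential without the first face. -/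
noncomputable def d' (n : ℕ) : Γ((obj π (n + 1)).left, ⊤) →+ Γ((obj π (n + 2)).left, ⊤) :=
  ∑ i : Fin (n + 2), ((-1 : ℤ) ^ (i : ℕ)) • (res (face π (n + 1) i.succ)).toAddMonoidHom

theorem d'_apply (n : ℕ) (x : Γ((obj π (n + 1)).left, ⊤)) :
    d' π n x = ∑ i : Fin (n + 2), ((-1 : ℤ) ^ (i : ℕ)) • res (face π (n + 1) i.succ) x := by
  simp [d', AddMonoidHom.finsetSum_apply]

theorem d'_exact (n : ℕ) (x : Γ((obj π (n + 2)).left, ⊤)) (h : d' π (n + 1) x = 0) :
    ∃ y, d' π n y = x := by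
  refine ⟨res (dup π (n + 1)) x, ?_⟩
  have h' := congrArg (res (dup π (n + 2))) h
  rw [d'_apply, map_sum, map_zero, Fin.sum_univ_succ] at h'
  simp only [map_zsmul, res_comp, Fin.val_zero, pow_zero, one_smul, Fin.val_succ,
    show (0 : Fin (n + 2 + 1)).succ = 1 from rfl, dup_face_one, res_id, dup_face] at h'
  rw [d'_apply, eq_comm, ← sub_eq_zero, sub_eq_add_neg, ← Finset.sum_neg_distrib]
  refine Eq.trans (congrArg (x + ·) (Finset.sum_congr rfl fun i _ => ?_)) h'
  rw [res_comp, pow_succ, mul_neg_one, neg_smul]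

theorem cechD_up (n : ℕ) (x : (EtCoh.Ga X).obj.obj (op (obj π n))) :
    (EpsLib.cechD (EpsLib.nerveOf π) (EtCoh.Ga X).obj n x).down = d π n x.down := by
  rw [EpsLib.cechD_apply, d_apply]
  refine (map_sum (AddEquiv.ulift : ULift.{u + 1} Γ((obj π (n + 1)).left, ⊤) ≃+ _) _ _).trans ?_
  refine Finset.sum_congr rfl fun i _ => ?_
  rw [map_zsmul]
  rfl

theorem hExact_Ga [Surjective π.left] [IsAffine W'.left] [IsAffine W.left] (n : ℕ) :
    EpsLib.HExact (EpsLib.nerveOf π) (EtCoh.Ga X).obj n := by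
  let G := Scheme.Etale.forget X ⋙ Over.forget X
  have hsq : ∀ m, IsPullback (pr π (m + 1) 0).left (face π m 0).left π.left (EpsLib.pow π m).hom.left := fun m => by
    rw [face_zero_eq]
    exact (IsPullback.of_hasPullback π (EpsLib.pow π m).hom).map G
  have haff : ∀ m, IsAffine (obj π m).left := fun m => by
    induction m with
    | zero => exact ‹IsAffine W'.left›
    | succ m ih =>
      haveI : IsAffine (EpsLib.pow π m).left.left := ih
      haveI := isAffineHom_of_isAffine (EpsLib.pow π m).hom.left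
      exact IsAffine.of_isPullback (hsq m)
  haveI := haff
  haveI := etale_left π
  letI : Algebra Γ(W.left, ⊤) Γ(W'.left, ⊤) := (res π).toAlgebra
  haveI : Module.FaithfullyFlat Γ(W.left, ⊤) Γ(W'.left, ⊤) :=
    (AlgebraicGeometry.Flat.flat_and_surjective_iff_faithfullyFlat_of_isAffine π.left).1 ⟨inferInstance, inferInstance⟩
  letI : ∀ m, Algebra Γ(W.left, ⊤) Γ((obj π m).left, ⊤) := fun m => (res (pr π m 0 ≫ π)).toAlgebra
  letI : ∀ m, Algebra Γ(W'.left, ⊤) Γ((obj π (m + 1)).left, ⊤) := fun m => (res (pr π (m + 1) 0)).toAlgebra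
  haveI : ∀ m, IsScalarTower Γ(W.left, ⊤) Γ(W'.left, ⊤) Γ((obj π (m + 1)).left, ⊤) := fun m =>
    IsScalarTower.of_algebraMap_eq fun a => (res_comp (pr π (m + 1) 0) π a).symm
  have hlin : ∀ m (i : Fin (m + 2)) (a : Γ(W.left, ⊤)) (x : Γ((obj π m).left, ⊤)),
      res (face π m i) (a • x) = a • res (face π m i) x := fun m i a x => by
    rw [Algebra.smul_def, Algebra.smul_def, map_mul]
    congr 1
    show res (face π m i) (res (pr π m 0 ≫ π) a) = res (pr π (m + 1) 0 ≫ π) a
    rw [res_comp, face_w]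
  let D : ∀ m, Γ((obj π m).left, ⊤) →ₗ[Γ(W.left, ⊤)] Γ((obj π (m + 1)).left, ⊤) := fun m =>
    { toFun := d π m
      map_add' := map_add _
      map_smul' := fun a x => by
        rw [RingHom.id_apply, d_apply, d_apply, Finset.smul_sum]
        exact Finset.sum_congr rfl fun i _ => by rw [hlin, smul_comm] }
  let f0 : ∀ m, Γ((obj π m).left, ⊤) →ₐ[Γ(W.left, ⊤)] Γ((obj π (m + 1)).left, ⊤) := fun m =>
    { res (face π m 0) with
      commutes' := fun a => by
        show res (face π m 0) (res (pr π m 0 ≫ π) a) = res (pr π (m + 1) 0 ≫ π) a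
        rw [res_comp, face_w] }
  have hpo : ∀ m, ∃ e : Γ(W'.left, ⊤) ⊗[Γ(W.left, ⊤)] Γ((obj π m).left, ⊤) ≃ₗ[Γ(W.left, ⊤)]
      Γ((obj π (m + 1)).left, ⊤), ∀ b x, e (b ⊗ₜ x) = res (pr π (m + 1) 0) b * res (face π m 0) x := fun m => by
    letI : Algebra Γ((obj π m).left, ⊤) Γ((obj π (m + 1)).left, ⊤) := (res (face π m 0)).toAlgebra
    haveI : IsScalarTower Γ(W.left, ⊤) Γ((obj π m).left, ⊤) Γ((obj π (m + 1)).left, ⊤) :=
      IsScalarTower.of_algebraMap_eq fun a => ((f0 m).commutes a).symm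
    haveI : IsAffine (EpsLib.pow π m).left.left := haff m
    have hp := isPushout_appTop_of_isPullback (hsq m)
    have hp' : IsPushout (CommRingCat.ofHom (algebraMap Γ(W.left, ⊤) Γ(W'.left, ⊤)))
        (CommRingCat.ofHom (algebraMap Γ(W.left, ⊤) Γ((obj π m).left, ⊤)))
        (CommRingCat.ofHom (algebraMap Γ(W'.left, ⊤) Γ((obj π (m + 1)).left, ⊤)))
        (CommRingCat.ofHom (algebraMap Γ((obj π m).left, ⊤) Γ((obj π (m + 1)).left, ⊤))) := by
      have hh : (EpsLib.pow π m).hom = pr π m 0 ≫ π := (EpsLib.powPr_w π m 0).symm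
      rw [hh] at hp
      exact hp
    haveI : Algebra.IsPushout Γ(W.left, ⊤) Γ(W'.left, ⊤) Γ((obj π m).left, ⊤) Γ((obj π (m + 1)).left, ⊤) :=
      CommRingCat.isPushout_iff_isPushout.1 hp'
    exact ⟨(Algebra.IsPushout.equiv Γ(W.left, ⊤) Γ(W'.left, ⊤) Γ((obj π m).left, ⊤) Γ((obj π (m + 1)).left, ⊤)).toLinearEquiv.restrictScalars Γ(W.left, ⊤),
      fun b x => Algebra.IsPushout.equiv_tmul _ _ _ _ b x⟩
  choose e he using hpo
  have hcomm : ∀ m z, d' π m (e m z) = e (m + 1) ((D m).lTensor Γ(W'.left, ⊤) z) := fun m z => by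
    induction z using TensorProduct.induction_on with
    | zero => simp
    | add z₁ z₂ h₁ h₂ => simp only [map_add, h₁, h₂]
    | tmul b x =>
      rw [LinearMap.lTensor_tmul, he, he, d'_apply]
      show _ = _ * res (face π (m + 1) 0) (d π m x)
      rw [d_apply, map_sum, Finset.mul_sum]
      refine Finset.sum_congr rfl fun i _ => ?_
      rw [map_mul, map_zsmul, res_comp, res_comp, res_comp, face_succ_pr, face_comm, mul_smul_comm]
  have hex : Function.Exact (D n) (D (n + 1)) := by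
    rw [← Module.FaithfullyFlat.lTensor_exact_iff_exact Γ(W.left, ⊤) Γ(W'.left, ⊤)]
    have hdd : (D (n + 1)) ∘ₗ (D n) = 0 := LinearMap.ext fun x => by
      show d π (n + 1) (d π n x) = 0
      have h := congrArg ULift.down (EpsLib.cechD_cechD (EpsLib.nerveOf π) (EtCoh.Ga X).obj n (ULift.up x))
      rw [cechD_up, cechD_up] at h
      exact h
    intro z
    refine ⟨fun hz => ?_, ?_⟩
    · obtain ⟨y, hy⟩ := d'_exact π n (e (n + 1) z) (by rw [hcomm, hz, map_zero])
      obtain ⟨y', rfl⟩ := (e n).surjective y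
      exact ⟨y', (e (n + 1)).injective (by rw [← hcomm, hy])⟩
    · rintro ⟨w, rfl⟩
      rw [← LinearMap.comp_apply, ← LinearMap.lTensor_comp, hdd, LinearMap.lTensor_zero, LinearMap.zero_apply]
  intro x hx
  obtain ⟨y, hy⟩ := (hex x.down).1 (by
    show d π (n + 1) x.down = 0
    rw [← cechD_up, hx]
    rfl)
  exact ⟨ULift.up y, ULift.down_injective ((cechD_up π n (ULift.up y)).trans hy)⟩

end Groth.Agent.EtShLib.GaAux

namespace Groth.Agent.EtShLib

variable {X : Scheme.{u}}

/-- Čech exactness for all covers between affine objects. -/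
def CechAcyclicA (F : EtCoh.Ab X) : Prop :=
  ∀ (W' W : X.Etale) (π : W' ⟶ W), IsAffine W'.left → IsAffine W.left → Surjective π.left →
    ∀ n, EpsLib.HExact (EpsLib.nerveOf π) F.obj n

theorem cechAcyclicA_Ga : CechAcyclicA (EtCoh.Ga X) := fun _ _ π h1 h2 h3 n =>
  haveI := h1; haveI := h2; haveI := h3
  GaAux.hExact_Ga π n

theorem pow_isAffine {W' W : X.Etale} (π : W' ⟶ W) [IsAffine W'.left] [IsAffine W.left] :
    ∀ n, IsAffine (EpsLib.pow π n).left.left
  | 0 => ‹IsAffine W'.left›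
  | n + 1 => by
    haveI := pow_isAffine π n
    let G := Scheme.Etale.forget X ⋙ Over.forget X
    haveI : IsAffine (G.obj W') := ‹IsAffine W'.left›
    haveI : IsAffine (G.obj W) := ‹IsAffine W.left›
    haveI : IsAffine (G.obj (EpsLib.pow π n).left) := pow_isAffine π n
    haveI := isAffineHom_of_isAffine (G.map (EpsLib.pow π n).hom)
    exact IsAffine.of_isPullback ((IsPullback.of_hasPullback π (EpsLib.pow π n).hom).map G)

theorem surjective_sectionsA {S : ShortComplex (EtCoh.Ab X)} (hS : S.ShortExact) (h : CechAcyclicA S.X₁)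
    {W : X.Etale} (hW : IsAffine W.left) : Function.Surjective (S.g.hom.app (op W)) := fun s => by
  obtain ⟨W', π, hW', hπ, t, ht⟩ := exists_cover_lift hS (haveI := hW; mem_qcqsObj_of_isAffine) s
  exact EpsLib.exists_lift_of_hExact hS (EpsLib.nerveOf π) (ofArrows_single_mem π hπ) (h W' W π hW' hW hπ 0) s t ht

theorem cechAcyclicA_quotient {S : ShortComplex (EtCoh.Ab X)} (hS : S.ShortExact) [Injective S.X₂]
    (h : CechAcyclicA S.X₁) : CechAcyclicA S.X₃ := fun W' W π hW' hW hπ n =>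
  EpsLib.hExact_quotient hS (EpsLib.nerveOf π)
    (surjective_sectionsA hS h (haveI := hW'; haveI := hW; pow_isAffine π (n + 1)))
    (h W' W π hW' hW hπ (n + 1)) (EpsLib.hExact_injective_sheaf S.X₂ (EpsLib.nerveOf π) n)

theorem subsingleton_H_cechAcyclicA [IsAffine X] : ∀ (p : ℕ) (G : EtCoh.Ab X),
    CechAcyclicA G → Subsingleton (Ext.{u + 1} (constZ X) G (p + 1))
  | 0, G, hG => by
    haveI : Injective (CohLib.injSC G).X₂ := inferInstanceAs (Injective (Injective.under G))
    haveI := CohLib.subsingleton_ext_injective.{u + 1} (constZ X) (CohLib.injSC G).X₂ 0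
    refine CohLib.subsingleton_ext_one_of_lift (CohLib.injSC_shortExact G) fun s => ?_
    obtain ⟨hT⟩ := isTerminal_top X
    obtain ⟨t, ht⟩ := surjective_sectionsA (CohLib.injSC_shortExact G) hG (W := EtCoh.top X) ‹IsAffine X›
      (Sheaf.H.equiv₀ (CohLib.injSC G).X₃ hT (Ext.mk₀ s))
    refine ⟨Ext.addEquiv₀ ((Sheaf.H.equiv₀ (CohLib.injSC G).X₂ hT).symm t), ?_⟩
    rw [← Sheaf.H.addEquiv₀_map, Sheaf.H.equiv₀_symm_naturality, ht, AddEquiv.symm_apply_apply]
    exact Ext.addEquiv₀.symm.injective (by simp)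
  | p + 1, G, hG => by
    haveI : Injective (CohLib.injSC G).X₂ := inferInstanceAs (Injective (Injective.under G))
    haveI := CohLib.subsingleton_ext_injective.{u + 1} (constZ X) (CohLib.injSC G).X₂ (p + 1)
    haveI := subsingleton_H_cechAcyclicA p _ (cechAcyclicA_quotient (CohLib.injSC_shortExact G) hG)
    exact CohLib.subsingleton_ext_of_shift (CohLib.injSC_shortExact G)

theorem subsingleton_H_Ga [IsAffine X] (p : ℕ) (hp : 1 ≤ p) : Subsingleton (EtCoh.H X (EtCoh.Ga X) p) := by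
  obtain ⟨q, rfl⟩ : ∃ q, p = q + 1 := ⟨p - 1, by omega⟩
  exact subsingleton_H_cechAcyclicA q _ cechAcyclicA_Ga

end Groth.Agent.EtShLib
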