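import Groth.Agent.EtShLib.Split
import Groth.Agent.EtShLib.Strata
import Groth.Agent.AlgSpLib.AffineDescent
import Mathlib.AlgebraicGeometry.Morphisms.FlatMono
import Mathlib.AlgebraicGeometry.Morphisms.Finite
import Mathlib.AlgebraicGeometry.Morphisms.FlatDescent
import Mathlib.AlgebraicGeometry.Morphisms.Descent
import Mathlib.AlgebraicGeometry.Morphisms.Proper

/-! Étale schemes are finite over split strata. -/

set_option autoImplicit false
set_option linter.unusedSectionVars false
set_option linter.style.haveILetI false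
set_option backward.isDefEq.respectTransparency false
set_option backward.isDefEq.respectTransparency.types false
set_option synthInstance.maxHeartbeats 400000
set_option maxHeartbeats 1000000

universe u

open CategoryTheory CategoryTheory.Limits AlgebraicGeometry Opposite TopologicalSpace

namespace Groth.Agent.EtShLib

theorem isFinite_fold {κ : Type u} [Finite κ] (T : Scheme.{u}) :
    IsFinite (Sigma.desc fun _ : κ => 𝟙 T) := by
  classical
  haveI := Fintype.ofFinite κ
  let h := Sigma.desc fun _ : κ => 𝟙 T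
  let V : κ → (∐ fun _ : κ => T : Scheme.{u}).Opens := fun k => (Sigma.ι (fun _ : κ => T) k).opensRange
  have hV : ∀ k, IsFinite ((V k).ι ≫ h) := fun k => by
    have e : (V k).ι ≫ h = (Sigma.ι (fun _ : κ => T) k).isoOpensRange.inv := by
      rw [← Iso.cancel_iso_hom_left (Sigma.ι (fun _ : κ => T) k).isoOpensRange,
        Scheme.Hom.isoOpensRange_hom_ι_assoc, Iso.hom_inv_id]
      exact Sigma.ι_desc _ _
    rw [e]
    infer_instance
  have hd : ∀ i j, i ≠ j → Disjoint (V i) (V j) := fun i j hij => disjoint_opensRange_sigmaι _ i j hij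
  have key : ∀ s : Finset κ, IsFinite ((s.sup V).ι ≫ h) := by
    intro s
    induction s using Finset.induction_on with
    | empty =>
      haveI : IsEmpty ↥((∅ : Finset κ).sup V) := by rw [Finset.sup_empty]; exact ⟨fun a => a.2⟩
      haveI : IsEmpty ((((∅ : Finset κ).sup V : (∐ fun _ : κ => T : Scheme.{u}).Opens)) : Scheme.{u}) := this
      infer_instance
    | insert a s ha ih =>
      let W := (insert a s).sup V
      have h1 : V a ≤ W := Finset.le_sup (Finset.mem_insert_self a s)
      have h2 : s.sup V ≤ W := Finset.sup_mono (Finset.subset_insert a s)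
      let f := (∐ fun _ : κ => T : Scheme.{u}).homOfLE h1
      let g := (∐ fun _ : κ => T : Scheme.{u}).homOfLE h2
      have hdis : Disjoint (V a) (s.sup V) :=
        Finset.disjoint_sup_right.mpr fun i hi => hd a i fun e => ha (e ▸ hi)
      have hW : W = V a ⊔ s.sup V := Finset.sup_insert
      have hf : f.opensRange = W.ι ⁻¹ᵁ V a := Scheme.opensRange_homOfLE h1
      have hg : g.opensRange = W.ι ⁻¹ᵁ s.sup V := Scheme.opensRange_homOfLE h2
      have hc : IsCompl f.opensRange g.opensRange := by
        rw [hf, hg]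
        refine ⟨?_, ?_⟩
        · rw [disjoint_iff, ← Scheme.Hom.preimage_inf, disjoint_iff.mp hdis]
          rfl
        · rw [codisjoint_iff, ← Scheme.Hom.preimage_sup, ← hW, Scheme.Opens.ι_preimage_self]
      obtain ⟨hcol⟩ := nonempty_isColimit_binaryCofanMk_of_isCompl f g hc
      let e := IsColimit.coconePointUniqueUpToIso
        (colimit.isColimit (pair (V a : Scheme.{u}) (s.sup V : Scheme.Opens _))) hcol
      haveI := ih
      haveI := hV a
      have he : e.hom ≫ W.ι ≫ h = coprod.desc ((V a).ι ≫ h) ((s.sup V).ι ≫ h) := by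
        refine coprod.hom_ext ?_ ?_
        · rw [coprod.inl_desc, ← Category.assoc, show coprod.inl ≫ e.hom = f from
            IsColimit.comp_coconePointUniqueUpToIso_hom _ hcol ⟨WalkingPair.left⟩]
          exact Scheme.homOfLE_ι_assoc ..
        · rw [coprod.inr_desc, ← Category.assoc, show coprod.inr ≫ e.hom = g from
            IsColimit.comp_coconePointUniqueUpToIso_hom _ hcol ⟨WalkingPair.right⟩]
          exact Scheme.homOfLE_ι_assoc ..
      have key : IsFinite (e.inv ≫ coprod.desc ((V a).ι ≫ h) ((s.sup V).ι ≫ h)) := inferInstance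
      rw [← he, e.inv_hom_id_assoc] at key
      exact key
  have htop : Finset.univ.sup V = ⊤ := top_le_iff.1 fun p _ => by
    obtain ⟨⟨k, x⟩, rfl⟩ := (sigmaMk (fun _ : κ => T)).surjective p
    exact Finset.le_sup (f := V) (Finset.mem_univ k) ⟨x, (sigmaMk_mk (fun _ : κ => T) k x).symm⟩
  have := key Finset.univ
  rw [htop] at this
  haveI := this
  have e : h = (∐ fun _ : κ => T : Scheme.{u}).topIso.inv ≫ (⊤ : Scheme.Opens _).ι ≫ h := by
    rw [← Category.assoc, Scheme.toIso_inv_ι, Category.id_comp]
  show IsFinite h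
  rw [e]
  infer_instance

variable {X : Scheme.{u}} {U : X.Etale} {T : Scheme.{u}} {g : T ⟶ X}

theorem isFinite_pullback_split {κ : Type u} [Finite κ] (W : T.Etale) (s : κ → (W ⟶ (EtCoh.bc g).obj U))
    (hb : ∀ (Ω : Type u) [Field Ω] [IsSepClosed Ω] (ζ : Spec (CommRingCat.of Ω) ⟶ T) (w : Fib ζ W),
      Function.Bijective fun u => (w.map (s u)).proj g ζ) :
    IsFinite (pullback.snd (str ((EtCoh.bc g).obj U)) (str W)) := by
  let h := str ((EtCoh.bc g).obj U)
  let σ : (∐ fun _ : κ => W.left) ⟶ pullback h (str W) :=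
    Sigma.desc fun u => pullback.lift (s u).left (𝟙 W.left)
      ((MorphismProperty.Over.w (s u)).trans (Category.id_comp _).symm)
  have hσ : σ ≫ pullback.snd h (str W) = Sigma.desc fun _ : κ => 𝟙 W.left := Sigma.hom_ext _ _ fun u => by
    simp [σ]
  have hσ₁ : ∀ u, Sigma.ι (fun _ : κ => W.left) u ≫ σ ≫ pullback.fst h (str W) = (s u).left := fun u => by
    simp [σ]
  have hfac : ∀ {Ω : Type u} [Field Ω] (a : Spec (CommRingCat.of Ω) ⟶ ∐ fun _ : κ => W.left),
      ∃ (u : κ) (b : Spec (CommRingCat.of Ω) ⟶ W.left), b ≫ Sigma.ι (fun _ : κ => W.left) u = a := by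
    intro Ω _ a
    obtain ⟨⟨u, x⟩, hx⟩ := (sigmaMk (fun _ : κ => W.left)).surjective (a.base default)
    refine ⟨u, IsOpenImmersion.lift (Sigma.ι (fun _ : κ => W.left) u) a ?_, IsOpenImmersion.lift_fac _ _ _⟩
    rintro _ ⟨p, rfl⟩
    rw [Subsingleton.elim p default, ← hx]
    exact ⟨x, (sigmaMk_mk (fun _ : κ => W.left) u x).symm⟩
  haveI hfold : AlgebraicGeometry.Etale (σ ≫ pullback.snd h (str W)) := by
    rw [hσ]; exact IsZariskiLocalAtSource.sigmaDesc fun _ => inferInstance
  haveI : AlgebraicGeometry.Etale σ := EtCoh.etaleMP.of_postcomp (W' := EtCoh.etaleMP) σ (pullback.snd h (str W))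
    (inferInstanceAs (AlgebraicGeometry.Etale (pullback.snd h (str W)))) hfold
  haveI : Surjective σ := ⟨fun q => by
    obtain ⟨Ω, _, _, z, rfl⟩ := exists_geometric_pt q
    let w : Fib ((z ≫ pullback.snd h (str W)) ≫ str W) W := Fib.mk (z ≫ pullback.snd h (str W)) rfl
    let t : Fib ((z ≫ pullback.snd h (str W)) ≫ str W) ((EtCoh.bc g).obj U) :=
      Fib.mk (z ≫ pullback.fst h (str W)) (by
        show (z ≫ pullback.fst h (str W)) ≫ h = _
        rw [Category.assoc, Category.assoc, pullback.condition])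
    obtain ⟨u, hu⟩ := (hb Ω _ w).2 (t.proj g _)
    have hu' : w.map (s u) = t := by
      have := congrArg (fun r => Fib.lift g ((z ≫ pullback.snd h (str W)) ≫ str W) r) hu
      dsimp only at this
      rwa [Fib.lift_proj, Fib.lift_proj] at this
    refine ⟨((z ≫ pullback.snd h (str W)) ≫ Sigma.ι (fun _ : κ => W.left) u).base default, ?_⟩
    refine congrArg (fun r : Spec (CommRingCat.of Ω) ⟶ _ => r.base default)
      (?_ : ((z ≫ pullback.snd h (str W)) ≫ Sigma.ι (fun _ : κ => W.left) u) ≫ σ = z)
    apply pullback.hom_ext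
    · rw [Category.assoc, Category.assoc, hσ₁]
      exact congrArg (fun r => r.hom) hu'
    · rw [Category.assoc, Category.assoc, hσ, Sigma.ι_desc, Category.comp_id]⟩
  haveI : UniversallyInjective σ := by
    rw [UniversallyInjective.iff_diagonal]
    refine ⟨fun q => ?_⟩
    obtain ⟨Ω, _, _, z, rfl⟩ := exists_geometric_pt q
    obtain ⟨u, a, ha⟩ := hfac (z ≫ pullback.fst σ σ)
    obtain ⟨v, b, hb'⟩ := hfac (z ≫ pullback.snd σ σ)
    have e : a ≫ Sigma.ι (fun _ : κ => W.left) u ≫ σ = b ≫ Sigma.ι (fun _ : κ => W.left) v ≫ σ := by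
      rw [← Category.assoc, ha, ← Category.assoc, hb', Category.assoc, Category.assoc, pullback.condition]
    obtain rfl : a = b := by
      have := congrArg (· ≫ pullback.snd h (str W)) e
      simpa only [Category.assoc, hσ, Sigma.ι_desc, Category.comp_id] using this
    obtain rfl : u = v := by
      refine (hb Ω (a ≫ str W) (Fib.mk a rfl)).1 (congrArg (Fib.proj g (a ≫ str W)) (Fib.ext ?_))
      have := congrArg (· ≫ pullback.fst h (str W)) e
      simp only [Category.assoc, hσ₁] at this
      exact this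
    refine ⟨(a ≫ Sigma.ι (fun _ : κ => W.left) u).base default, ?_⟩
    refine congrArg (fun r : Spec (CommRingCat.of Ω) ⟶ _ => r.base default)
      (?_ : (a ≫ Sigma.ι (fun _ : κ => W.left) u) ≫ pullback.diagonal σ = z)
    apply pullback.hom_ext
    · rw [Category.assoc, pullback.diagonal_fst, Category.comp_id, ha]
    · rw [Category.assoc, pullback.diagonal_snd, Category.comp_id, hb']
  haveI : Surjective (pullback.diagonal σ) := (UniversallyInjective.iff_diagonal σ).1 inferInstance
  haveI : IsIso (pullback.diagonal σ) :=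
    isIso_of_isOpenImmersion_of_opensRange_eq_top _ (top_le_iff.1 fun p _ => (pullback.diagonal σ).surjective p)
  haveI : Mono σ := (pullback.isIso_diagonal_iff σ).1 inferInstance
  haveI : IsOpenImmersion σ := IsOpenImmersion.of_flat_of_mono σ
  haveI : IsIso σ :=
    isIso_of_isOpenImmersion_of_opensRange_eq_top σ (top_le_iff.1 fun p _ => σ.surjective p)
  haveI := isFinite_fold (κ := κ) W.left
  show IsFinite (pullback.snd h (str W))
  rw [← IsIso.inv_hom_id_assoc σ (pullback.snd h (str W)), hσ]
  infer_instance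

theorem Splits.isFinite (hs : Splits g U) : IsFinite (str ((EtCoh.bc g).obj U)) := by
  let h := str ((EtCoh.bc g).obj U)
  choose Ω iF iS ζ hζ using fun x : T => exists_geometric_pt x
  choose hfin W w s hsw hb using fun x : T => @hs (Ω x) (iF x) (iS x) (ζ x)
  choose A hA hxA hA' using fun x : T =>
    exists_isAffineOpen_mem_and_subset (X := (W x).left) (x := (w x).pt) (U := ⊤) trivial
  let W' : T → T.Etale := fun x => MorphismProperty.Over.mk ⊤ ((A x).ι ≫ str (W x))
    (inferInstance : AlgebraicGeometry.Etale ((A x).ι ≫ str (W x)))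
  let e : ∀ x, W' x ⟶ W x := fun x => MorphismProperty.Over.homMk (A x).ι rfl
  let O : T → T.Opens := fun x => ⟨Set.range ((A x).ι ≫ str (W x)).base,
    ((A x).ι ≫ str (W x)).isOpenMap.isOpen_range⟩
  refine IsZariskiLocalAtTarget.of_iSup_eq_top (P := @IsFinite) O (top_le_iff.1 fun x _ =>
    Opens.mem_iSup.2 ⟨x, ⟨(w x).pt, hxA x⟩, ?_⟩) fun x => ?_
  · exact (congrArg (fun t : Spec (CommRingCat.of (Ω x)) ⟶ T => t.base default) (w x).w).trans (hζ x)
  haveI := hfin x
  haveI : IsAffine (A x).toScheme := hA x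
  let p : (A x).toScheme ⟶ T := (A x).ι ≫ str (W x)
  have hp : Set.range p.base ⊆ Set.range (O x).ι.base := by rw [Scheme.Opens.range_ι]; exact subset_rfl
  let p' := IsOpenImmersion.lift (O x).ι p hp
  haveI : AlgebraicGeometry.Etale (p' ≫ (O x).ι) := by rw [IsOpenImmersion.lift_fac]; infer_instance
  haveI : AlgebraicGeometry.Etale p' := EtCoh.etaleMP.of_postcomp (W' := EtCoh.etaleMP) p' (O x).ι
    (inferInstanceAs (AlgebraicGeometry.Etale (O x).ι)) ‹_›
  haveI : Surjective p' := ⟨fun v => by
    obtain ⟨a, ha⟩ := v.2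
    refine ⟨a, Subtype.ext ?_⟩
    show (O x).ι (p' a) = v.1
    rw [← Scheme.Hom.comp_apply, IsOpenImmersion.lift_fac]
    exact ha⟩
  have hsnd : IsFinite (pullback.snd h p) :=
    isFinite_pullback_split (g := g) (W' x) (fun u => e x ≫ s x u) fun Ω' _ _ ζ' w' => by
      have : (fun u => (w'.map (e x ≫ s x u)).proj g ζ') = fun u => ((w'.map (e x)).map (s x u)).proj g ζ' :=
        funext fun u => congrArg (Fib.proj g ζ') (Functor.map_comp_apply (pt ζ').fiber (e x) (s x u) w')
      rw [this]
      exact hb x Ω' ζ' _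
  refine MorphismProperty.of_isPullback_of_descendsAlong (P := @IsFinite) (Q := @Surjective ⊓ @Flat ⊓ @LocallyOfFinitePresentation)
    (IsPullback.of_hasPullback p' (h ∣_ O x)) ⟨⟨‹_›, inferInstance⟩, inferInstance⟩ ?_
  have sq₁ := (IsPullback.of_hasPullback p' (h ∣_ O x)).flip.paste_horiz (isPullback_morphismRestrict h (O x)).flip
  rw [IsOpenImmersion.lift_fac] at sq₁
  have e' := sq₁.isoPullback_hom_snd
  rw [← e']
  haveI := hsnd
  infer_instance

end Groth.Agent.EtShLib
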