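import Groth.Agent.EtShLib.Point
import Mathlib.Algebra.Homology.ShortComplex.ExactFunctor
import Mathlib.CategoryTheory.Sites.Point.Conservative
import Mathlib.CategoryTheory.Sites.Abelian

/-! Detection of isomorphisms, monomorphisms, epimorphisms and exactness on geometric stalks. -/

set_option autoImplicit false
set_option linter.style.haveILetI false
set_option maxHeartbeats 1000000
set_option synthInstance.maxHeartbeats 200000
set_option linter.unusedSectionVars false
set_option backward.isDefEq.respectTransparency false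
set_option backward.isDefEq.respectTransparency.types false

universe u

open CategoryTheory CategoryTheory.Limits AlgebraicGeometry Opposite
open scoped ZeroObject

namespace Groth.Agent.EtShLib

instance : PreservesFilteredColimitsOfSize.{u, u} (forget AddCommGrpCat.{u + 1}) :=
  preservesFilteredColimitsOfSize_of_univLE.{u + 1, u + 1, u, u} _

instance {Λ : Type (u + 1)} [CommRing Λ] :
    PreservesFilteredColimitsOfSize.{u, u} (forget (ModuleCat.{u + 1} Λ)) :=
  preservesFilteredColimitsOfSize_of_univLE.{u + 1, u + 1, u, u} _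

instance : AB5OfSize.{u, u} AddCommGrpCat.{u + 1} :=
  AB5OfSize_of_univLE.{u, u, u + 1, u + 1} AddCommGrpCat.{u + 1}

instance {Λ : Type (u + 1)} [CommRing Λ] : AB5OfSize.{u, u} (ModuleCat.{u + 1} Λ) :=
  AB5OfSize_of_univLE.{u, u, u + 1, u + 1} (ModuleCat.{u + 1} Λ)

instance {Λ : Type (u + 1)} [CommRing Λ] : HasLimitsOfSize.{u, u} (ModuleCat.{u + 1} Λ) :=
  hasLimitsOfSizeOfUnivLE.{u + 1, u + 1} (ModuleCat.{u + 1} Λ)

variable {X Y : Scheme.{u}}
variable {A : Type (u + 2)} [Category.{u + 1} A] [HasColimitsOfSize.{u, u} A]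
  {FA : A → A → Type*} {CA : A → Type (u + 1)} [∀ M N, FunLike (FA M N) (CA M) (CA N)]
  [ConcreteCategory.{u + 1} A FA] [hfc : PreservesFilteredColimitsOfSize.{u, u} (forget A)]

theorem res_ext [X.smallEtaleTopology.HasSheafCompose (forget A)] (F : Sheaf X.smallEtaleTopology A) {U : X.Etale}
    (s t : ToType (F.obj.obj (op U)))
    (h : ∀ y : U.left, ∃ (V : X.Etale) (g : V ⟶ U), (∃ v : V.left, g.left.base v = y) ∧
      F.obj.map g.op s = F.obj.map g.op t) : s = t := by
  choose V g hg he using h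
  have hmem : Sieve.ofArrows V g ∈ X.smallEtaleTopology U := by
    rw [Scheme.ofArrows_mem_smallEtaleTopology_iff]
    exact Set.eq_univ_of_forall fun y => Set.mem_iUnion.2 ⟨y, hg y⟩
  have hsh : (Presieve.ofArrows V g).IsSheafFor (F.obj ⋙ forget A) := by
    rw [Presieve.isSheafFor_iff_generate]
    exact ((isSheaf_iff_isSheaf_of_type _ _).1 (GrothendieckTopology.HasSheafCompose.isSheaf F.obj F.property)) _ hmem
  exact hsh.isSeparatedFor.ext fun Z q hq => by
    obtain ⟨i⟩ := hq
    exact he i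

theorem eq_of_germ [X.smallEtaleTopology.HasSheafCompose (forget A)] (F : Sheaf X.smallEtaleTopology A) {U : X.Etale}
    (s t : ToType (F.obj.obj (op U)))
    (h : ∀ (Ω : Type u) [Field Ω] [IsSepClosed Ω] (ξ : Spec (CommRingCat.of Ω) ⟶ X) (u : Fib ξ U),
      germ ξ F U u s = germ ξ F U u t) : s = t :=
  res_ext F s t fun y => by
    obtain ⟨Ω, _, _, ξ, u, hu⟩ := exists_geometric y
    obtain ⟨V, g, v, hv, he⟩ := (germ_eq_iff ξ U u s t).1 (h Ω ξ u)
    exact ⟨V, g, ⟨v.pt, by rw [← hu, ← hv]; rfl⟩, he⟩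

theorem exists_equalizer (F : Sheaf X.smallEtaleTopology A) {U : X.Etale} {Ω : Type u} [Field Ω] [IsSepClosed Ω]
    (ξ : Spec (CommRingCat.of Ω) ⟶ X) (u : Fib ξ U) {κ : Type*} (K : Finset κ) (s t : κ → ToType (F.obj.obj (op U)))
    (h : ∀ k ∈ K, germ ξ F U u (s k) = germ ξ F U u (t k)) :
    ∃ (V : X.Etale) (g : V ⟶ U) (v : Fib ξ V), v.map g = u ∧ ∀ k ∈ K, F.obj.map g.op (s k) = F.obj.map g.op (t k) :=
  exists_below_list ξ K U u (fun g k => F.obj.map g.op (s k) = F.obj.map g.op (t k))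
    (fun g h k e => by
      simp only [op_comp, Functor.map_comp, ConcreteCategory.comp_apply, e])
    fun k hk => (germ_eq_iff ξ U u (s k) (t k)).1 (h k hk)

section Reflect

variable [hri : (forget A).ReflectsIsomorphisms] [hsc : X.smallEtaleTopology.HasSheafCompose (forget A)]

include hfc hri hsc

theorem isIso_of_stalks {F G : Sheaf X.smallEtaleTopology A} (φ : F ⟶ G)
    (h : ∀ (Ω : Type u) [Field Ω] [IsSepClosed Ω] (ξ : Spec (CommRingCat.of Ω) ⟶ X), IsIso ((stk ξ).map φ)) :
    IsIso φ := by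
  have hinj : ∀ U : X.Etale, Function.Injective (φ.hom.app (op U)) := fun U s t e =>
    eq_of_germ F s t fun Ω _ _ ξ u => by
      haveI := h Ω ξ
      apply (ConcreteCategory.bijective_of_isIso ((stk ξ).map φ)).1
      rw [germ_natural_apply, germ_natural_apply, e]
  haveI : ∀ W : (X.Etale)ᵒᵖ, IsIso (φ.hom.app W) := fun W => by
    rw [← isIso_iff_of_reflects_iso _ (forget A), isIso_iff_bijective]
    refine ⟨hinj W.unop, fun t => ?_⟩
    obtain ⟨U⟩ := W
    have hloc : ∀ y : U.left, ∃ (V : X.Etale) (g : V ⟶ U) (x : ToType (F.obj.obj (op V))),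
        (∃ v : V.left, g.left.base v = y) ∧ φ.hom.app (op V) x = G.obj.map g.op t := by
      intro y
      obtain ⟨Ω, _, _, ξ, u, hu⟩ := exists_geometric y
      haveI := h Ω ξ
      obtain ⟨p, hp⟩ := (ConcreteCategory.bijective_of_isIso ((stk ξ).map φ)).2 (germ ξ G U u t)
      obtain ⟨V, g, v, x, hv, rfl⟩ := exists_germ_below ξ p U u
      have he : germ ξ G V v (φ.hom.app (op V) x) = germ ξ G V v (G.obj.map g.op t) := by
        rw [← germ_natural_apply, germ_res_apply, hv]
        exact hp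
      obtain ⟨W, k, w, hw, he'⟩ := (germ_eq_iff ξ V v _ _).1 he
      refine ⟨W, k ≫ g, F.obj.map k.op x, ⟨w.pt, ?_⟩, ?_⟩
      · rw [← hu, ← hv, ← hw]
        rfl
      · rw [NatTrans.naturality_apply, he', op_comp, G.obj.map_comp, ConcreteCategory.comp_apply]
    choose V g x hg hx using hloc
    have hmem : Sieve.ofArrows V g ∈ X.smallEtaleTopology U := by
      rw [Scheme.ofArrows_mem_smallEtaleTopology_iff]
      exact Set.eq_univ_of_forall fun y => Set.mem_iUnion.2 ⟨y, hg y⟩
    have hsh : (Presieve.ofArrows V g).IsSheafFor (F.obj ⋙ forget A) := by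
      rw [Presieve.isSheafFor_iff_generate]
      exact ((isSheaf_iff_isSheaf_of_type _ _).1 (GrothendieckTopology.HasSheafCompose.isSheaf F.obj F.property)) _ hmem
    obtain ⟨s, hs, -⟩ := (Presieve.isSheafFor_arrows_iff _ _).1 hsh x fun i j P a b hab => by
      apply hinj P
      show φ.hom.app (op P) (F.obj.map a.op (x i)) = φ.hom.app (op P) (F.obj.map b.op (x j))
      rw [NatTrans.naturality_apply, NatTrans.naturality_apply, hx, hx, ← ConcreteCategory.comp_apply,
        ← ConcreteCategory.comp_apply, ← G.obj.map_comp, ← G.obj.map_comp, ← op_comp, ← op_comp, hab]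
    refine ⟨s, res_ext G _ t fun y => ⟨V y, g y, hg y, ?_⟩⟩
    refine Eq.trans ?_ (hx y)
    refine (NatTrans.naturality_apply φ.hom (g y).op s).symm.trans ?_
    exact congrArg (φ.hom.app (op (V y))) (hs y)
  haveI : IsIso φ.hom := NatIso.isIso_of_isIso_app φ.hom
  exact (isIso_iff_of_reflects_iso φ (sheafToPresheaf X.smallEtaleTopology A)).1 ‹_›

theorem isIso_iff_stalks {F G : Sheaf X.smallEtaleTopology A} (φ : F ⟶ G) :
    IsIso φ ↔ ∀ (Ω : Type u) [Field Ω] [IsSepClosed Ω] (ξ : Spec (CommRingCat.of Ω) ⟶ X),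
      IsIso ((stk ξ).map φ) :=
  ⟨fun _ _ _ _ _ => inferInstance, isIso_of_stalks φ⟩

theorem mono_iff_stalks [AB5OfSize.{u, u} A] [HasFiniteLimits A] {F G : Sheaf X.smallEtaleTopology A} (φ : F ⟶ G) :
    Mono φ ↔ ∀ (Ω : Type u) [Field Ω] [IsSepClosed Ω] (ξ : Spec (CommRingCat.of Ω) ⟶ X), Mono ((stk ξ).map φ) := by
  refine ⟨fun _ _ _ _ _ => inferInstance, fun h => ?_⟩
  haveI : IsIso (pullback.fst φ φ) := isIso_of_stalks _ fun Ω _ _ ξ => by
    haveI := h Ω ξ
    exact (mono_iff_isIso_fst ((isLimitMapConePullbackConeEquiv (stk ξ) pullback.condition).1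
      (isLimitOfPreserves (stk ξ) (pullbackIsPullback φ φ)))).1 inferInstance
  exact (mono_iff_isIso_fst (pullbackIsPullback φ φ)).2 ‹_›

end Reflect

section Abelian

variable [Abelian A] [hri : (forget A).ReflectsIsomorphisms] [hsc : X.smallEtaleTopology.HasSheafCompose (forget A)]
  [HasSheafify X.smallEtaleTopology A] [AB5OfSize.{u, u} A] [HasProducts.{u} A]

include hfc hri hsc

instance {Ω : Type u} [Field Ω] [IsSepClosed Ω] (ξ : Spec (CommRingCat.of Ω) ⟶ X) :
    (stk (A := A) ξ).Additive :=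
  Functor.additive_of_preserves_binary_products _

theorem exact_iff_stalks (S : ShortComplex (Sheaf X.smallEtaleTopology A)) :
    S.Exact ↔ ∀ (Ω : Type u) [Field Ω] [IsSepClosed Ω] (ξ : Spec (CommRingCat.of Ω) ⟶ X),
      (S.map (stk ξ)).Exact := by
  refine ⟨fun h _ _ _ ξ => h.map (stk ξ), fun h => ?_⟩
  rw [S.exact_iff_isZero_homology, IsZero.iff_id_eq_zero]
  haveI : IsIso (0 : S.homology ⟶ 0) := isIso_of_stalks _ fun Ω _ _ ξ => by
    have h0 : IsZero ((stk ξ).obj S.homology) :=
      ((ShortComplex.exact_iff_isZero_homology _).1 (h Ω ξ)).of_iso (S.mapHomologyIso (stk ξ)).symm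
    have h0' : IsZero ((stk (A := A) ξ).obj 0) := (stk ξ).map_isZero (isZero_zero _)
    exact ⟨0, h0.eq_of_src _ _, h0'.eq_of_src _ _⟩
  exact ((isZero_zero _).of_iso (asIso (0 : S.homology ⟶ 0))).eq_of_src _ _

theorem epi_iff_stalks {F G : Sheaf X.smallEtaleTopology A}
    (φ : F ⟶ G) :
    Epi φ ↔ ∀ (Ω : Type u) [Field Ω] [IsSepClosed Ω] (ξ : Spec (CommRingCat.of Ω) ⟶ X), Epi ((stk ξ).map φ) := by
  refine ⟨fun _ _ _ _ _ => inferInstance, fun h => ?_⟩
  haveI : IsIso (pushout.inl φ φ) := isIso_of_stalks _ fun Ω _ _ ξ => by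
    haveI := h Ω ξ
    exact (epi_iff_isIso_inl ((isColimitMapCoconePushoutCoconeEquiv (stk ξ) pushout.condition).1
      (isColimitOfPreserves (stk ξ) (pushoutIsPushout φ φ)))).1 inferInstance
  exact (epi_iff_isIso_inl (pushoutIsPushout φ φ)).2 ‹_›

end Abelian

section Unit

variable [HasProducts.{u} A]

theorem unit_injective [Y.smallEtaleTopology.HasSheafCompose (forget A)]
    (f : X ⟶ Y) [Surjective f]
    [((EtCoh.bc f).sheafPushforwardContinuous A Y.smallEtaleTopology X.smallEtaleTopology).IsRightAdjoint]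
    (F : Sheaf Y.smallEtaleTopology A) (U : Y.Etale) :
    Function.Injective (((adjA f A).unit.app F).hom.app (op U)) := by
  intro s t hst
  refine res_ext F s t fun y => ?_
  obtain ⟨x, hx⟩ := f.surjective (U.hom.base y)
  obtain ⟨z, hz, -⟩ := Scheme.Pullback.exists_preimage_pullback (f := U.hom) (g := f) y x hx.symm
  obtain ⟨Ω, _, _, ξ, u', hu'⟩ := exists_geometric (U := (EtCoh.bc f).obj U) z
  let u := u'.proj f ξ
  have hgerm : germ (ξ ≫ f) F U u s = germ (ξ ≫ f) F U u t := by
    haveI : IsIso ((stalkPull f ξ A).hom.app F) := inferInstance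
    apply (ConcreteCategory.bijective_of_isIso ((stalkPull f ξ A).hom.app F)).1
    rw [← ConcreteCategory.comp_apply, ← ConcreteCategory.comp_apply, germ_stalkPull,
      ConcreteCategory.comp_apply, ConcreteCategory.comp_apply]
    exact congrArg _ hst
  obtain ⟨V, g, v, hv, he⟩ := (germ_eq_iff (ξ ≫ f) U u s t).1 hgerm
  refine ⟨V, g, ⟨v.pt, ?_⟩, he⟩
  have e1 : (v.map g).pt = u.pt := by rw [hv]
  refine e1.trans ?_
  show (u'.hom ≫ pullback.fst U.hom f).base default = y
  rw [← hz, ← hu']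
  rfl

end Unit

end Groth.Agent.EtShLib
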