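import Groth.Prelude.Def_EtShriek2

/-! Composition with an étale morphism is continuous. -/

set_option autoImplicit false
set_option backward.isDefEq.respectTransparency false
set_option backward.isDefEq.respectTransparency.types false

universe u

open CategoryTheory CategoryTheory.Limits AlgebraicGeometry Opposite

namespace Groth.Agent.EtShLib

theorem jCont {U X : Scheme.{u}} (j : U ⟶ X) [hj : AlgebraicGeometry.Etale j] : EtShriek.JCont j := by
  refine Functor.isContinuous_of_coverPreserving ⟨?_⟩ (EtShriek.coverPreserving_compEtale j)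
  intro ℱ Z T x hx Y₁ Y₂ W f₁ f₂ g₁ g₂ hg₁ hg₂ e
  have w : ∀ {Y : U.Etale} (f : W ⟶ (EtShriek.compEtale j).obj Y) (g : Y ⟶ Z),
      (f ≫ (EtShriek.compEtale j).map g).left ≫ Z.hom = f.left ≫ Y.hom := fun f g =>
    (Category.assoc _ _ _).trans (congrArg (f.left ≫ ·) (MorphismProperty.Over.w g))
  have h12 : f₂.left ≫ Y₂.hom = f₁.left ≫ Y₁.hom := by
    rw [← w f₁ g₁, ← w f₂ g₂, e]
  let V : U.Etale := MorphismProperty.Over.mk ⊤ (f₁.left ≫ Y₁.hom)
    (EtCoh.etaleMP.of_postcomp (W' := EtCoh.etaleMP) (f₁.left ≫ Y₁.hom) j hj (by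
      rw [Category.assoc, show f₁.left ≫ Y₁.hom ≫ j = W.hom from MorphismProperty.Over.w f₁]
      exact W.prop))
  let i : W ⟶ (EtShriek.compEtale j).obj V := MorphismProperty.Over.homMk (𝟙 W.left) (by
    show 𝟙 _ ≫ (f₁.left ≫ Y₁.hom) ≫ j = _
    rw [Category.id_comp, Category.assoc]
    exact MorphismProperty.Over.w f₁)
  let a₁ : V ⟶ Y₁ := MorphismProperty.Over.homMk f₁.left rfl
  let a₂ : V ⟶ Y₂ := MorphismProperty.Over.homMk f₂.left h12
  have e₁ : f₁ = i ≫ (EtShriek.compEtale j).map a₁ :=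
    MorphismProperty.Over.Hom.ext (Category.id_comp _).symm
  have e₂ : f₂ = i ≫ (EtShriek.compEtale j).map a₂ :=
    MorphismProperty.Over.Hom.ext (Category.id_comp _).symm
  have ea : a₁ ≫ g₁ = a₂ ≫ g₂ := MorphismProperty.Over.Hom.ext (congrArg (fun t => t.left) e :)
  have hc := hx a₁ a₂ hg₁ hg₂ ea
  rw [e₁, e₂, op_comp, op_comp, ℱ.obj.map_comp, ℱ.obj.map_comp]
  exact congrArg (fun t => ℱ.obj.map i.op t) hc

end Groth.Agent.EtShLib
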