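import Groth.Agent.EtShLib.RestrPull
import Groth.Agent.EtShLib.JContAll

/-! The comparison of inverse image and restriction is natural. -/

set_option autoImplicit false
set_option linter.unusedSectionVars false
set_option linter.style.haveILetI false
set_option backward.isDefEq.respectTransparency false
set_option backward.isDefEq.respectTransparency.types false
set_option synthInstance.maxHeartbeats 400000
set_option maxHeartbeats 1000000

universe u

open CategoryTheory CategoryTheory.Limits AlgebraicGeometry Opposite

namespace Groth.Agent.EtShLib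

variable {U X : Scheme.{u}} (j : U ⟶ X) [AlgebraicGeometry.Etale j] [EtShriek.JCont j]

/-- Composing the base change with the etale morphism maps to the original object. -/
noncomputable def compBc (W : X.Etale) : (EtShriek.compEtale j).obj ((EtCoh.bc j).obj W) ⟶ W :=
  MorphismProperty.Over.homMk (pullback.fst W.hom j) pullback.condition

theorem compBc_natural {W W' : X.Etale} (g : W ⟶ W') :
    (EtShriek.compEtale j).map ((EtCoh.bc j).map g) ≫ compBc j W' = compBc j W ≫ g :=
  MorphismProperty.Over.Hom.ext (EtCoh.isPullback_bc_map j g).w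

/-- Sections restrict to the base change. -/
noncomputable def restrEta : 𝟭 (EtCoh.Ab X) ⟶ EtShriek.restrAlong j ⋙
    (EtCoh.bc j).sheafPushforwardContinuous AddCommGrpCat.{u + 1} X.smallEtaleTopology U.smallEtaleTopology where
  app G := ObjectProperty.homMk
    { app := fun W => G.obj.map (compBc j W.unop).op
      naturality := fun W W' g => by
        show G.obj.map g ≫ G.obj.map (compBc j W'.unop).op =
          G.obj.map (compBc j W.unop).op ≫ G.obj.map ((EtShriek.compEtale j).map ((EtCoh.bc j).map g.unop)).op
        rw [← Functor.map_comp, ← Functor.map_comp, ← Quiver.Hom.op_unop g, ← op_comp, ← op_comp, compBc_natural]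
        rfl }
  naturality G G' φ := by
    ext W : 3
    exact (φ.hom.naturality (compBc j W.unop).op).symm

/-- The comparison of inverse image and restriction. -/
noncomputable def restrTheta : pullA j AddCommGrpCat.{u + 1} ⟶ EtShriek.restrAlong j where
  app G := ((adjA j AddCommGrpCat.{u + 1}).homEquiv G _).symm ((restrEta j).app G)
  naturality G G' φ := by
    rw [← Adjunction.homEquiv_naturality_left_symm, ← Adjunction.homEquiv_naturality_right_symm]
    exact congrArg _ ((restrEta j).naturality φ)

instance isIso_restrTheta : IsIso (restrTheta j) := by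
  haveI : ∀ G, IsIso ((restrTheta j).app G) := fun G => by
    let θ := (restrTheta j).app G
    refine isIso_of_stalks (A := AddCommGrpCat.{u + 1}) θ fun Ω _ _ u => ?_
    haveI := isIso_restrStalk j G (u ≫ j) ⟨u, rfl⟩
    have e : (stalkPull j u AddCommGrpCat.{u + 1}).hom.app G ≫ (stk (A := AddCommGrpCat.{u + 1}) u).map θ ≫
        restrStalk j G (u ≫ j) ⟨u, rfl⟩ = 𝟙 _ := by
      apply stk_hom_ext
      intro W w
      have hθ : ((adjA j AddCommGrpCat.{u + 1}).unit.app G).hom.app (op W) ≫
          θ.hom.app (op ((EtCoh.bc j).obj W)) = G.obj.map (compBc j W).op := by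
        refine congrArg (fun t : G ⟶ _ => t.hom.app (op W)) (?_ :
          (adjA j AddCommGrpCat.{u + 1}).unit.app G ≫
            ((EtCoh.bc j).sheafPushforwardContinuous AddCommGrpCat.{u + 1} X.smallEtaleTopology
              U.smallEtaleTopology).map θ = (restrEta j).app G)
        exact ((adjA j AddCommGrpCat.{u + 1}).homEquiv_unit (f := θ)).symm.trans (Equiv.apply_symm_apply _ _)
      rw [Category.comp_id, ← Category.assoc, germ_stalkPull, Category.assoc,
        ← Category.assoc (germ u _ _ _), germ_natural, Category.assoc]
      refine (congrArg (fun t => _ ≫ _ ≫ t)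
        (germ_restrStalk j G (u ≫ j) ⟨u, rfl⟩ ((EtCoh.bc j).obj W) (w.lift j u))).trans ?_
      rw [← Category.assoc, hθ, germ_res]
      exact congrArg (germ (u ≫ j) G W) (Fib.ext (pullback.lift_fst _ _ _))
    haveI : IsIso ((stalkPull j u AddCommGrpCat.{u + 1}).hom.app G ≫ (stk (A := AddCommGrpCat.{u + 1}) u).map θ ≫
        restrStalk j G (u ≫ j) ⟨u, rfl⟩) := by rw [e]; infer_instance
    haveI := IsIso.of_isIso_comp_left ((stalkPull j u AddCommGrpCat.{u + 1}).hom.app G)
      ((stk (A := AddCommGrpCat.{u + 1}) u).map θ ≫ restrStalk j G (u ≫ j) ⟨u, rfl⟩)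
    exact IsIso.of_isIso_comp_right _ (restrStalk j G (u ≫ j) ⟨u, rfl⟩)
  exact NatIso.isIso_of_isIso_app _

end Groth.Agent.EtShLib
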