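import Groth.Agent.EtShLib.LqfExact
import Mathlib.AlgebraicGeometry.Morphisms.Finite
import Mathlib.CategoryTheory.Abelian.RightDerived

/-! Direct images along finite morphisms are exact. -/

set_option autoImplicit false
set_option linter.unusedSectionVars false
set_option linter.style.haveILetI false
set_option backward.isDefEq.respectTransparency false
set_option backward.isDefEq.respectTransparency.types false
set_option synthInstance.maxHeartbeats 400000
set_option maxHeartbeats 1000000

universe u

open CategoryTheory CategoryTheory.Limits AlgebraicGeometry Opposite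

namespace Groth.Agent.EtShLib

variable {X Y : Scheme.{u}} (f : X ⟶ Y) [IsFinite f]

theorem mem_shriekSubgroup_of_finite (F : EtCoh.Ab X) (V : Y.Etale) (s : F.obj.obj (op ((EtCoh.bc f).obj V))) :
    s ∈ EtShriek.shriekSubgroup f F V := by
  rw [mem_shriekSubgroup_iff]
  haveI : IsFinite (EtShriek.prV f V) := MorphismProperty.pullback_fst (P := @IsFinite) _ _ ‹_›
  haveI : IsProper (𝟙 _ ≫ EtShriek.prV f V) := by rw [Category.id_comp]; infer_instance
  exact ProperOverLib.of_map (𝟙 _) _ _ (isClosed_sectSupp F _ _) fun z _ => ⟨z, rfl⟩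

theorem isIso_preι : IsIso (preι f) := by
  haveI : ∀ F, IsIso ((preι f).app F) := fun F => by
    haveI : ∀ V, IsIso (((preι f).app F).hom.app V) := fun V =>
      (ConcreteCategory.isIso_iff_bijective _).2
        ⟨Subtype.val_injective, fun s => ⟨⟨s, mem_shriekSubgroup_of_finite f F V.unop s⟩, rfl⟩⟩
    haveI : IsIso ((preι f).app F).hom := NatIso.isIso_of_isIso_app _
    exact (isIso_iff_of_reflects_iso ((preι f).app F) (sheafToPresheaf _ _)).1 ‹_›
  exact NatIso.isIso_of_isIso_app _

theorem preservesHomology_push_finite :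
    haveI : (EtCoh.push f).Additive := { }
    (EtCoh.push f).PreservesHomology := by
  haveI := isIso_preι f
  haveI : (EtCoh.push f).Additive := { }
  haveI := preservesColimits_preF f
  haveI : PreservesFiniteColimits (preF f) := PreservesColimitsOfSize.preservesFiniteColimits _
  haveI : PreservesFiniteColimits (EtCoh.push f) := preservesFiniteColimits_of_natIso (asIso (preι f))
  haveI : (EtCoh.push f).IsRightAdjoint := (EtCoh.pullPushAdj f).isRightAdjoint
  haveI : PreservesFiniteLimits (EtCoh.push f) := inferInstance
  infer_instance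

theorem isZero_rightDerived_push_finite (F : EtCoh.Ab X) (q : ℕ) (hq : 1 ≤ q) :
    haveI : (EtCoh.push f).Additive := { }
    IsZero (((EtCoh.push f).rightDerived q).obj F) := by
  haveI : (EtCoh.push f).Additive := { }
  haveI := preservesHomology_push_finite f
  obtain ⟨n, rfl⟩ : ∃ n, q = n + 1 := ⟨q - 1, by omega⟩
  let R : InjectiveResolution F := injectiveResolution F
  refine IsZero.of_iso ?_ (R.isoRightDerivedObj (EtCoh.push f) (n + 1))
  exact (ShortComplex.exact_iff_isZero_homology _).1 ((R.cocomplex_exactAt_succ n).map (EtCoh.push f))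

theorem stalk_push_finite {Ω : Type u} [Field Ω] [IsAlgClosed Ω] (η : Spec (CommRingCat.of Ω) ⟶ Y) (F : EtCoh.Ab X) :
    Nonempty ((EtCoh.stalk η).obj ((EtCoh.push f).obj F) ≅
      ∐ fun ξ : {ξ : Spec (CommRingCat.of Ω) ⟶ X // ξ ≫ f = η} => (EtCoh.stalk ξ.1).obj F) := by
  haveI := isIso_preι f
  exact ⟨(EtCoh.stalk η).mapIso ((asIso (preι f)).app F).symm ≪≫
    ((isColimitInjAt f η F).coconePointUniqueUpToIso (colimit.isColimit _))⟩

end Groth.Agent.EtShLib
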