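import Groth.Agent.EtShLib.Locus
import Mathlib.AlgebraicGeometry.Morphisms.QuasiFinite
import Mathlib.RingTheory.Unramified.LocalStructure

/-! Subsheaves of constructible sheaves on Noetherian schemes. -/

set_option autoImplicit false
set_option linter.unusedSectionVars false
set_option linter.style.haveILetI false
set_option backward.isDefEq.respectTransparency false
set_option backward.isDefEq.respectTransparency.types false
set_option synthInstance.maxHeartbeats 400000
set_option maxHeartbeats 1000000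

universe u

open CategoryTheory CategoryTheory.Limits AlgebraicGeometry Opposite Topology TopologicalSpace

namespace Groth.Agent.EtShLib

section Top

variable {X : Type u} [TopologicalSpace X]

theorem isConstructible_of_isLocallyClosed [NoetherianSpace X] {E : Set X} (hE : IsLocallyClosed E) :
    IsConstructible E := by
  have ho : ∀ U : Set X, IsOpen U → IsConstructible U := fun U hU =>
    (IsCompact.isRetrocompact (NoetherianSpace.isCompact U) hU).isConstructible hU
  obtain ⟨U, Z, hU, hZ, rfl⟩ := hE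
  have hz : IsConstructible Zᶜ := ho _ hZ.isOpen_compl
  exact (ho U hU).inter (by simpa using hz.compl)

theorem exists_maximal_generization [QuasiSober X] [T0Space X] (z : X) :
    ∃ x : X, x ⤳ z ∧ ∀ y : X, y ⤳ x → y = x := by
  let x := genericPoints.ofComponent ⟨irreducibleComponent z, irreducibleComponent_mem_irreducibleComponents z⟩
  have hx := genericPoints.isGenericPoint_ofComponent
    ⟨irreducibleComponent z, irreducibleComponent_mem_irreducibleComponents z⟩
  refine ⟨x.1, hx.specializes mem_irreducibleComponent, fun y hy => ?_⟩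
  refine (hy.antisymm ?_).eq
  rw [specializes_iff_mem_closure]
  have hsub : closure ({x.1} : Set X) ⊆ closure {y} :=
    closure_minimal (Set.singleton_subset_iff.2 (specializes_iff_mem_closure.1 hy)) isClosed_closure
  exact x.2.2 isIrreducible_singleton.closure hsub (subset_closure (Set.mem_singleton y))

theorem exists_nhds_specializes [NoetherianSpace X] [QuasiSober X] [T0Space X] {v : X}
    (hv : ∀ y : X, y ⤳ v → y = v) : ∃ O : Set X, IsOpen O ∧ v ∈ O ∧ ∀ o ∈ O, v ⤳ o := by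
  let C : Set (Set X) := {Z ∈ irreducibleComponents X | v ∉ Z}
  have hC : C.Finite := NoetherianSpace.finite_irreducibleComponents.subset fun Z hZ => hZ.1
  have hclosed : IsClosed (⋃₀ C) := by
    rw [Set.sUnion_eq_biUnion]
    exact hC.isClosed_biUnion fun Z hZ => isClosed_of_mem_irreducibleComponents Z hZ.1
  refine ⟨(⋃₀ C)ᶜ, hclosed.isOpen_compl, fun ⟨Z, hZ, hvZ⟩ => hZ.2 hvZ, fun o ho => ?_⟩
  let c : irreducibleComponents X := ⟨irreducibleComponent o, irreducibleComponent_mem_irreducibleComponents o⟩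
  have hg := genericPoints.isGenericPoint_ofComponent c
  have hvc : v ∈ irreducibleComponent o := by
    by_contra h
    exact ho ⟨irreducibleComponent o, ⟨c.2, h⟩, mem_irreducibleComponent⟩
  have := hv _ (hg.specializes hvc)
  exact this ▸ hg.specializes mem_irreducibleComponent

end Top

variable {X : Scheme.{u}}

theorem locallyQuasiFinite_of_etale {Y : Scheme.{u}} (f : X ⟶ Y) [AlgebraicGeometry.Etale f] : LocallyQuasiFinite f := by
  rw [HasRingHomProperty.iff_appLE (P := @LocallyQuasiFinite)]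
  intro U V e
  have h : (Scheme.Hom.appLE f U V e).hom.Etale :=
    HasRingHomProperty.appLE @AlgebraicGeometry.Etale f inferInstance U V e
  algebraize [(Scheme.Hom.appLE f U V e).hom]
  haveI : Algebra.Etale Γ(Y, U) Γ(X, V) := by assumption
  exact (inferInstance : Algebra.QuasiFinite Γ(Y, U) Γ(X, V))

theorem eq_of_specializes_of_etale {U : X.Etale} {a b : U.left} (h : a ⤳ b) (e : U.hom.base a = U.hom.base b) :
    a = b := by
  haveI : AlgebraicGeometry.Etale U.hom := U.prop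
  haveI := locallyQuasiFinite_of_etale U.hom
  haveI := (Scheme.Hom.isDiscrete_preimage_singleton U.hom (U.hom.base b)).to_subtype
  let a' : ↥(U.hom ⁻¹' {U.hom.base b}) := ⟨a, e⟩
  let b' : ↥(U.hom ⁻¹' {U.hom.base b}) := ⟨b, rfl⟩
  have : a' ⤳ b' := (subtype_specializes_iff a' b').2 h
  exact congrArg Subtype.val this.eq

variable {A : Type (u + 2)} [Category.{u + 1} A] [HasColimitsOfSize.{u, u} A] [HasProducts.{u} A]
  [hra : ∀ {T S : Scheme.{u}} (g : T ⟶ S),
    ((EtCoh.bc g).sheafPushforwardContinuous A S.smallEtaleTopology T.smallEtaleTopology).IsRightAdjoint]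
  {FA : A → A → Type*} {CA : A → Type (u + 1)} [∀ M N, FunLike (FA M N) (CA M) (CA N)]
  [ConcreteCategory.{u + 1} A FA] [hfc : PreservesFilteredColimitsOfSize.{u, u} (forget A)]
  [Abelian A] [AB5OfSize.{u, u} A] [∀ T : Scheme.{u}, HasSheafify T.smallEtaleTopology A]
  [hri : (forget A).ReflectsIsomorphisms] [hsc : ∀ T : Scheme.{u}, T.smallEtaleTopology.HasSheafCompose (forget A)]
  [hfl : PreservesFiniteLimits (forget A)]

include hfc hri hsc hfl

theorem exists_isCst_of_mono [IsLocallyNoetherian X] {P P' : A → Prop} {F K : Sheaf X.smallEtaleTopology A}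
    (ι : K ⟶ F) [Mono ι] (hF : LC P F) (hsub : ∀ (M' M : A) (i : M' ⟶ M), Mono i → P M → P' M')
    (hP' : ∀ M, P' M → FG M ∧ Lifts M) (x : X) (hx : ∀ y : X, y ⤳ x → y = x) :
    ∃ (U : X.Etale) (M : A) (η : M ⟶ K.obj.obj (op U)), x ∈ Set.range U.hom.base ∧ P' M ∧ IsCst K U η := by
  obtain ⟨U, y, M, η, hy, hM, hη⟩ := hF x
  obtain ⟨Ω, _, _, ξ, hξ⟩ := exists_geometric_pt x
  obtain ⟨u, -⟩ := exists_fib ξ U y (hy.trans hξ.symm)
  haveI := hη Ω ξ u
  haveI : Mono ((stk ξ).map ι) := inferInstance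
  let i : (stk ξ).obj K ⟶ M := (stk ξ).map ι ≫ inv (η ≫ germ ξ F U u)
  haveI : Mono i := mono_comp _ _
  have hM' : P' ((stk ξ).obj K) := hsub _ _ i inferInstance hM
  obtain ⟨hfg, hl⟩ := hP' _ hM'
  obtain ⟨V, g, v, σ, hv, hσ⟩ := hl K ξ U u (𝟙 _)
  have e : (σ ≫ ι.hom.app (op V)) ≫ germ ξ F V v = (i ≫ η ≫ F.obj.map g.op) ≫ germ ξ F V v := by
    rw [Category.assoc, ← germ_natural, ← Category.assoc, hσ, Category.id_comp]
    simp only [Category.assoc]
    rw [germ_res, hv]
    simp [i]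
  obtain ⟨V₁, k, v₁, hv₁, e⟩ := exists_eq ξ v hfg _ _ e
  haveI : AlgebraicGeometry.Etale V₁.hom := V₁.prop
  haveI : IsLocallyNoetherian V₁.left := LocallyOfFiniteType.isLocallyNoetherian (Y := X) V₁.hom
  obtain ⟨W, hW, hvW, -⟩ := exists_isAffineOpen_mem_and_subset (X := V₁.left) (x := v₁.pt) (U := ⊤) trivial
  haveI : IsAffine W.toScheme := hW
  haveI : CompactSpace W.toScheme := inferInstance
  haveI : IsLocallyNoetherian W.toScheme := LocallyOfFiniteType.isLocallyNoetherian W.ι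
  haveI : IsNoetherian W.toScheme := {}
  haveI : NoetherianSpace W.toScheme := inferInstance
  have hpt : V₁.hom.base v₁.pt = x :=
    (congrArg (fun t : Spec (CommRingCat.of Ω) ⟶ X => t.base default) v₁.w).trans hξ
  have hmax : ∀ w : W.toScheme, w ⤳ (⟨v₁.pt, hvW⟩ : W.toScheme) → w = ⟨v₁.pt, hvW⟩ := fun w hw => by
    have hw' : (w.1 : V₁.left) ⤳ v₁.pt := (subtype_specializes_iff _ _).1 hw
    refine Subtype.ext (eq_of_specializes_of_etale hw' ?_)
    rw [hpt]
    exact hx _ (hpt ▸ hw'.map V₁.hom.continuous)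
  obtain ⟨O, hO, hvO, hOv⟩ := exists_nhds_specializes hmax
  let O' : V₁.left.Opens := ⟨Subtype.val '' O, W.isOpen.isOpenMap_subtype_val O hO⟩
  let V₂ : X.Etale := MorphismProperty.Over.mk ⊤ (O'.ι ≫ V₁.hom)
    (inferInstance : AlgebraicGeometry.Etale (O'.ι ≫ V₁.hom))
  let j : V₂ ⟶ V₁ := MorphismProperty.Over.homMk O'.ι rfl
  have hrange : Set.range (Fib.hom (ξ := ξ) (U := V₁) v₁).base ⊆ Set.range O'.ι.base := by
    rintro _ ⟨a, rfl⟩
    rw [Scheme.Opens.range_ι, Subsingleton.elim a default]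
    exact ⟨⟨v₁.pt, hvW⟩, hvO, rfl⟩
  let v₂ : Fib ξ V₂ := Fib.mk (IsOpenImmersion.lift O'.ι v₁.hom hrange) (by
    show _ ≫ O'.ι ≫ V₁.hom = ξ
    rw [← Category.assoc, IsOpenImmersion.lift_fac]
    exact v₁.w)
  have hv₂ : v₂.map j = v₁ := Fib.ext (IsOpenImmersion.lift_fac _ _ _)
  have hv₂' : (show ↥O'.toScheme from v₂.pt).1 = v₁.pt :=
    congrArg (fun t : Spec (CommRingCat.of Ω) ⟶ V₁.left => t.base default) (IsOpenImmersion.lift_fac O'.ι v₁.hom hrange)
  have hspec : ∀ o : ↥O'.toScheme, (show ↥O'.toScheme from v₂.pt) ⤳ o := fun o => by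
    obtain ⟨o', ho', hoe⟩ := o.2
    refine (subtype_specializes_iff _ _).2 ?_
    show (show ↥O'.toScheme from v₂.pt).1 ⤳ o.1
    rw [hv₂']
    rw [← hoe]
    exact (subtype_specializes_iff _ _).1 (hOv o' ho')
  let σ₂ := σ ≫ K.obj.map ((j ≫ k)).op
  let η₂ := η ≫ F.obj.map ((j ≫ k) ≫ g).op
  have e₂ : σ₂ ≫ ι.hom.app (op V₂) = i ≫ η₂ := by
    have := congrArg (fun t => t ≫ F.obj.map j.op) e
    simpa [σ₂, η₂, op_comp, Functor.map_comp] using this
  have hη₂ : IsCst F V₂ η₂ := hη.map _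
  refine ⟨V₂, _, σ₂, ⟨v₂.pt, (congrArg (fun t : Spec (CommRingCat.of Ω) ⟶ X => t.base default) v₂.w).trans hξ⟩,
    hM', fun Ω' _ _ ξ' z => ?_⟩
  haveI := hη₂ Ω' ξ' z
  haveI : Mono ((stk ξ').map ι) := inferInstance
  have key : ∀ {Ω₀ : Type u} [Field Ω₀] [IsSepClosed Ω₀] (ζ : Spec (CommRingCat.of Ω₀) ⟶ X) (q : Fib ζ V₂)
      (m : ToType ((stk ξ).obj K)),
      (stk ζ).map ι ((σ₂ ≫ germ ζ K V₂ q) m) = (η₂ ≫ germ ζ F V₂ q) (i m) := by
    intro Ω₀ _ _ ζ q m
    rw [← ConcreteCategory.comp_apply, ← ConcreteCategory.comp_apply, Category.assoc, germ_natural,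
      ← Category.assoc, e₂, Category.assoc]
  rw [← isIso_iff_of_reflects_iso _ (forget A), isIso_iff_bijective]
  refine ⟨fun a b hab => ?_, fun p => ?_⟩
  · apply ConcreteCategory.injective_of_mono_of_preservesPullback i
    apply (ConcreteCategory.bijective_of_isIso (η₂ ≫ germ ξ' F V₂ z)).1
    rw [← key ξ' z, ← key ξ' z]
    exact congrArg _ hab
  · obtain ⟨Y, f, w, s, hw, rfl⟩ := exists_germ_below ξ' p V₂ z
    obtain ⟨m, hm⟩ := (ConcreteCategory.bijective_of_isIso (η₂ ≫ germ ξ' F V₂ z)).2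
      ((stk ξ').map ι (germ ξ' K Y w s))
    rw [germ_natural_apply, ConcreteCategory.comp_apply, ← hw, ← germ_res_apply] at hm
    obtain ⟨Y', f', w', hw', he⟩ := (germ_eq_iff ξ' Y w _ _).1 hm
    let h : Y' ⟶ V₂ := f' ≫ f
    haveI : AlgebraicGeometry.Etale h.left := etale_left h
    have hmem : v₂.pt ∈ Set.range h.left.base :=
      ((hspec (h.left.base w'.pt)).mem_open
        (show IsOpen (Set.range h.left.base) from IsOpenMap.isOpen_range h.left.isOpenMap) ⟨_, rfl⟩)
    obtain ⟨y', hy'⟩ := hmem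
    obtain ⟨l, hl, -⟩ := Scheme.exists_fac_of_etale_of_isSepClosed h.left v₂.hom y' hy'
    have hl' : l ≫ Y'.hom = ξ := by
      rw [← MorphismProperty.Over.w h, ← Category.assoc, hl]
      exact v₂.w
    let q : Fib ξ Y' := Fib.mk l hl'
    have hq : q.map h = v₂ := Fib.ext (by rw [Fib.map_hom]; exact hl)
    refine ⟨germ ξ K Y' q (K.obj.map f'.op s), ?_⟩
    apply ConcreteCategory.injective_of_mono_of_preservesPullback ((stk ξ').map ι)
    refine (key ξ' z _).trans ?_
    have hi : i (germ ξ K Y' q (K.obj.map f'.op s)) = m := by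
      haveI := hη₂ Ω ξ v₂
      apply (ConcreteCategory.bijective_of_isIso (η₂ ≫ germ ξ F V₂ v₂)).1
      rw [← key ξ v₂]
      have : (σ₂ ≫ germ ξ K V₂ v₂) = 𝟙 _ := by
        have hvg : v₂.map (j ≫ k) = v := by
          show (pt ξ).fiber.map (j ≫ k) v₂ = v
          rw [Functor.map_comp_apply]
          exact (congrArg (Fib.map k) hv₂).trans hv₁
        simp only [σ₂, Category.assoc]
        rw [germ_res, hvg, hσ]
      rw [this, ConcreteCategory.id_apply, germ_natural_apply, NatTrans.naturality_apply, ← he,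
        ConcreteCategory.comp_apply, ← ConcreteCategory.comp_apply (F.obj.map f.op), ← Functor.map_comp, ← op_comp,
        germ_res_apply, show Fib.map (f' ≫ f) q = v₂ from hq]
      simp [η₂]
    rw [hi, germ_natural_apply, ConcreteCategory.comp_apply, ← hw, ← germ_res_apply]
    exact (germ_eq_iff ξ' Y w _ _).2 ⟨Y', f', w', hw', he⟩

theorem exists_cover_of_mono [IsNoetherian X] {P P' : A → Prop} {F K : Sheaf X.smallEtaleTopology A}
    (ι : K ⟶ F) [Mono ι] (hF : LC P F) (hsub : ∀ (M' M : A) (i : M' ⟶ M), Mono i → P M → P' M')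
    (hP' : ∀ M, P' M → FG M ∧ Lifts M) (Z : Closeds X) :
    ∃ (n : ℕ) (T : Fin n → Scheme.{u}) (g : ∀ i, T i ⟶ X),
      (∀ i, IsImmersion (g i)) ∧ (Z : Set X) ⊆ ⋃ i, Set.range (g i) ∧ ∀ i, PullLC P' K (g i) := by
  induction Z using WellFoundedLT.induction with
  | ind Z ih =>
    by_cases hne : (Z : Set X).Nonempty
    · obtain ⟨Z', z, hz, -, hr⟩ := exists_reduced_immersion (Z.isClosed.isLocallyClosed)
      haveI : IsLocallyNoetherian Z' := LocallyOfFiniteType.isLocallyNoetherian z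
      obtain ⟨z₀⟩ : Nonempty Z' := by
        obtain ⟨a, ha⟩ := hne
        rw [← hr] at ha
        obtain ⟨b, -⟩ := ha
        exact ⟨b⟩
      obtain ⟨x, -, hx⟩ := exists_maximal_generization z₀
      haveI := preservesFiniteLimits_pullA (A := A) z
      haveI : Mono ((pullA z A).map ι) := inferInstance
      obtain ⟨U, M, η, hxU, hM, hη⟩ := exists_isCst_of_mono ((pullA z A).map ι) (LC.pull (f := z) hF) hsub hP' x hx
      let O : Z'.Opens := ⟨Set.range U.hom.base, isOpen_range_etale U⟩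
      have hlc : LC P' ((pullA O.ι A).obj ((pullA z A).obj K)) := fun o => by
        obtain ⟨y, hy⟩ := o.2
        obtain ⟨q, -, hq⟩ := Scheme.Pullback.exists_preimage_pullback (f := U.hom) (g := O.ι) y o hy
        exact ⟨(EtCoh.bc O.ι).obj U, q, M, _, hq, hM, hη.pull⟩
      have hzc : Topology.IsClosedEmbedding z := ⟨z.isEmbedding, hr.symm ▸ Z.isClosed⟩
      let Z₁ : Closeds X := ⟨z '' (O : Set Z')ᶜ, hzc.isClosedMap _ O.isOpen.isClosed_compl⟩
      have hlt : Z₁ < Z := by
        refine lt_of_le_of_ne (fun a ha => ?_) fun h => ?_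
        · obtain ⟨b, -, rfl⟩ := ha
          show z b ∈ (Z : Set X)
          rw [← hr]
          exact ⟨b, rfl⟩
        · have hzx : z x ∈ (Z₁ : Set X) := by
            rw [h, ← hr]
            exact ⟨x, rfl⟩
          obtain ⟨b, hb, hbx⟩ := hzx
          exact hb (z.isEmbedding.injective hbx ▸ hxU)
      obtain ⟨n, T, g, hi, hcov, hl⟩ := ih Z₁ hlt
      refine ⟨n + 1, Fin.cases (O : Scheme.{u}) T,
        fun i => Fin.cases (motive := fun i => (Fin.cases (O : Scheme.{u}) T i : Scheme.{u}) ⟶ X) (O.ι ≫ z) g i,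
        Fin.cases (inferInstanceAs (IsImmersion (O.ι ≫ z))) hi, fun a ha => ?_, Fin.cases (PullLC.of_pull hlc) hl⟩
      rw [← hr] at ha
      obtain ⟨b, rfl⟩ := ha
      by_cases hb : b ∈ O
      · exact Set.mem_iUnion.2 ⟨0, ⟨b, hb⟩, rfl⟩
      · obtain ⟨i, hi⟩ := Set.mem_iUnion.1 (hcov ⟨b, hb, rfl⟩)
        exact Set.mem_iUnion.2 ⟨i.succ, hi⟩
    · exact ⟨0, Fin.elim0, fun i => i.elim0, fun i => i.elim0, fun a ha => absurd ⟨a, ha⟩ hne, fun i => i.elim0⟩

theorem isCons_of_mono [IsNoetherian X] {P P' : A → Prop} {F K : Sheaf X.smallEtaleTopology A}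
    (ι : K ⟶ F) [Mono ι] (hF : IsCons P F) (hsub : ∀ (M' M : A) (i : M' ⟶ M), Mono i → P M → P' M')
    (hP' : ∀ M, P' M → FG M ∧ Lifts M) : IsCons P' K := by
  obtain ⟨n, T, g, hi, -, -, hu, hl⟩ := adapted_univ_of_isCons hF
  have hcov : ∀ j, ∃ (m : ℕ) (E : Fin m → Scheme.{u}) (e : ∀ k, E k ⟶ T j),
      (∀ k, IsImmersion (e k)) ∧ (Set.univ : Set (T j)) ⊆ ⋃ k, Set.range (e k) ∧ ∀ k, PullLC P' K (e k ≫ g j) := by
    intro j
    haveI := hi j
    haveI : IsLocallyNoetherian (T j) := LocallyOfFiniteType.isLocallyNoetherian (g j)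
    haveI : NoetherianSpace (T j) := (g j).isEmbedding.isInducing.noetherianSpace
    haveI : IsNoetherian (T j) := {}
    haveI := preservesFiniteLimits_pullA (A := A) (g j)
    haveI : Mono ((pullA (g j) A).map ι) := inferInstance
    obtain ⟨m, E, e, he, hc, hl'⟩ := exists_cover_of_mono ((pullA (g j) A).map ι) (hl j) hsub hP' ⊤
    exact ⟨m, E, e, he, hc, fun k => PullLC.of_pull (hl' k)⟩
  choose m E e he hc hl' using hcov
  haveI : ∀ q : Σ j, Fin (m j), IsImmersion (e q.1 q.2 ≫ g q.1) := fun q => by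
    haveI := hi q.1
    haveI := he q.1 q.2
    infer_instance
  refine isCons_of_adapted_univ (adapted_of_cover isOpen_univ (fun q : Σ j, Fin (m j) => E q.1 q.2)
    (fun q => e q.1 q.2 ≫ g q.1) (fun q => ?_) (fun a ha => ?_) fun q => hl' q.1 q.2)
  · exact isConstructible_of_isLocallyClosed
      ((Scheme.Hom.isLocallyClosed_range (e q.1 q.2 ≫ g q.1)).preimage continuous_subtype_val)
  · obtain ⟨j, b, rfl⟩ := Set.mem_iUnion.1 (hu.ge ha)
    obtain ⟨k, w, rfl⟩ := Set.mem_iUnion.1 (hc j (Set.mem_univ b))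
    exact Set.mem_iUnion.2 ⟨⟨j, k⟩, w, rfl⟩

end Groth.Agent.EtShLib
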