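import Groth.Agent.EtShLib.RestrNat
import Groth.Agent.EtShLib.CechColim
import Groth.Agent.EtShLib.Strata
import Mathlib.CategoryTheory.Preadditive.Injective.Preserves

/-! Flasque sheaves on the small etale site and their direct images. -/

set_option autoImplicit false
set_option linter.style.haveILetI false
set_option backward.isDefEq.respectTransparency false
set_option backward.isDefEq.respectTransparency.types false
set_option synthInstance.maxHeartbeats 400000
set_option maxHeartbeats 1000000

universe u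

open CategoryTheory CategoryTheory.Limits AlgebraicGeometry Opposite CategoryTheory.Abelian

namespace Groth.Agent.EtShLib

variable {X Y : Scheme.{u}}

theorem pull_exact (f : X ⟶ Y) {S : ShortComplex (EtCoh.Ab Y)} (hS : S.ShortExact) :
    (S.map (pullA f AddCommGrpCat.{u + 1})).ShortExact := by
  haveI := preservesFiniteLimits_pullA (A := AddCommGrpCat.{u + 1}) f
  exact hS.map_of_exact _

theorem injective_pull_etale (j : X ⟶ Y) [AlgebraicGeometry.Etale j] (I : EtCoh.Ab Y) [Injective I] :
    Injective ((pullA j AddCommGrpCat.{u + 1}).obj I) := by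
  haveI := jCont j
  haveI : (EtShriek.extZero j).PreservesMonomorphisms := ⟨fun α _ => mono_extZero_map j α⟩
  exact Injective.of_iso (asIso ((restrTheta j).app I)).symm (Injective.injective_of_adjoint (EtShriek.extZeroAdj j) I)

/-- Sections on an etale object are global sections of the inverse image. -/
theorem exists_natural_topEquiv (W : X.Etale) :
    ∃ (e : ∀ G : EtCoh.Ab X, ((pullA W.hom AddCommGrpCat.{u + 1}).obj G).obj.obj (op (EtCoh.top W.left)) ≃+ G.obj.obj (op W)),
      ∀ (G G' : EtCoh.Ab X) (φ : G ⟶ G') (s : _),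
        φ.hom.app (op W) (e G s) = e G' (((pullA W.hom AddCommGrpCat.{u + 1}).map φ).hom.app (op (EtCoh.top W.left)) s) := by
  haveI : AlgebraicGeometry.Etale W.hom := W.prop
  haveI := jCont W.hom
  let i : W ≅ (EtShriek.compEtale W.hom).obj (EtCoh.top W.left) :=
    { hom := MorphismProperty.Over.homMk (𝟙 W.left) ((Category.id_comp _).trans (Category.id_comp _))
      inv := MorphismProperty.Over.homMk (𝟙 W.left) ((Category.id_comp _).trans (Category.id_comp _).symm)
      hom_inv_id := MorphismProperty.Over.Hom.ext (Category.id_comp _)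
      inv_hom_id := MorphismProperty.Over.Hom.ext (Category.id_comp _) }
  let t : ∀ G : EtCoh.Ab X, ((pullA W.hom AddCommGrpCat.{u + 1}).obj G).obj.obj (op (EtCoh.top W.left)) ≅
      G.obj.obj (op W) := fun G =>
    asIso (((restrTheta W.hom).app G).hom.app (op (EtCoh.top W.left))) ≪≫ G.obj.mapIso i.op
  refine ⟨fun G => (t G).addCommGroupIsoToAddEquiv, fun G G' φ s => ?_⟩
  have h : (t G).hom ≫ φ.hom.app (op W) =
      ((pullA W.hom AddCommGrpCat.{u + 1}).map φ).hom.app (op (EtCoh.top W.left)) ≫ (t G').hom := by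
    show (((restrTheta W.hom).app G).hom.app _ ≫ G.obj.map i.hom.op) ≫ φ.hom.app (op W) =
      ((pullA W.hom AddCommGrpCat.{u + 1}).map φ).hom.app _ ≫ ((restrTheta W.hom).app G').hom.app _ ≫ G'.obj.map i.hom.op
    rw [Category.assoc, φ.hom.naturality, ← Category.assoc (((pullA W.hom AddCommGrpCat.{u + 1}).map φ).hom.app _)]
    have hn := congrArg (fun m => m.hom.app (op (EtCoh.top W.left))) ((restrTheta W.hom).naturality φ)
    exact ((Category.assoc _ _ _).symm.trans (congrArg (· ≫ G'.obj.map i.hom.op) hn.symm) :)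
  exact ConcreteCategory.congr_hom h s

theorem sections_surjective_iff {S : ShortComplex (EtCoh.Ab X)} (hS : S.ShortExact) (W : X.Etale) :
    Function.Surjective (S.g.hom.app (op W)) ↔
      ∀ s : constZ W.left ⟶ (pullA W.hom AddCommGrpCat.{u + 1}).obj S.X₃,
        ∃ t, t ≫ (pullA W.hom AddCommGrpCat.{u + 1}).map S.g = s := by
  obtain ⟨hT⟩ := isTerminal_top W.left
  obtain ⟨e, he⟩ := exists_natural_topEquiv W
  have key : ∀ (G G' : EtCoh.Ab W.left) (φ : G ⟶ G') (t : constZ W.left ⟶ G),
      φ.hom.app (op (EtCoh.top W.left)) (Sheaf.H.equiv₀ G hT (Ext.mk₀ t)) =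
        Sheaf.H.equiv₀ G' hT (Ext.mk₀ (t ≫ φ)) := fun G G' φ t => by
    rw [Sheaf.H.equiv₀_naturality, Sheaf.H.map_apply, Ext.mk₀_comp_mk₀]
  constructor
  · intro h s
    obtain ⟨y, hy⟩ := h (e _ (Sheaf.H.equiv₀ _ hT (Ext.mk₀ s)))
    obtain ⟨z, rfl⟩ := (e _).surjective y
    obtain ⟨z, rfl⟩ := (Sheaf.H.equiv₀ _ hT).surjective z
    obtain ⟨t, rfl⟩ := Ext.addEquiv₀.symm.surjective z
    refine ⟨t, Ext.addEquiv₀.symm.injective ((Sheaf.H.equiv₀ _ hT).injective ((e _).injective ?_))⟩
    rw [Ext.addEquiv₀_symm_apply, Ext.addEquiv₀_symm_apply]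
    exact (congrArg (e _) (key _ _ _ t).symm).trans ((he _ _ S.g _).symm.trans hy)
  · intro h y
    obtain ⟨z, rfl⟩ := (e _).surjective y
    obtain ⟨z, rfl⟩ := (Sheaf.H.equiv₀ _ hT).surjective z
    obtain ⟨s, rfl⟩ := Ext.addEquiv₀.symm.surjective z
    obtain ⟨t, rfl⟩ := h s
    refine ⟨e _ (Sheaf.H.equiv₀ _ hT (Ext.mk₀ t)), ?_⟩
    rw [Ext.addEquiv₀_symm_apply]
    exact (he _ _ S.g _).trans (congrArg (e _) (key _ _ _ t))

/-- Vanishing of higher cohomology on all etale objects. -/
def EtFlasque (F : EtCoh.Ab X) : Prop :=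
  ∀ (W : X.Etale) (q : ℕ), Subsingleton (EtCoh.H W.left ((pullA W.hom AddCommGrpCat.{u + 1}).obj F) (q + 1))

theorem etFlasque_injective (I : EtCoh.Ab X) [Injective I] : EtFlasque I := fun W q => by
  haveI : AlgebraicGeometry.Etale W.hom := W.prop
  haveI := injective_pull_etale W.hom I
  exact CohLib.subsingleton_ext_injective.{u + 1} (constZ W.left) _ q

theorem EtFlasque.surjective {S : ShortComplex (EtCoh.Ab X)} (hS : S.ShortExact) (h : EtFlasque S.X₁) (W : X.Etale) :
    Function.Surjective (S.g.hom.app (op W)) := by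
  refine (sections_surjective_iff hS W).2 fun s => ?_
  haveI : Subsingleton (Ext.{u + 1} (constZ W.left) (S.map (pullA W.hom AddCommGrpCat.{u + 1})).X₁ 1) := h W 0
  exact CohLib.exists_lift_of_subsingleton_ext_one (pull_exact W.hom hS) s

theorem EtFlasque.quotient {S : ShortComplex (EtCoh.Ab X)} (hS : S.ShortExact) (h₁ : EtFlasque S.X₁)
    (h₂ : EtFlasque S.X₂) : EtFlasque S.X₃ := fun W q => by
  haveI : Subsingleton (Ext.{u + 1} (constZ W.left) (S.map (pullA W.hom AddCommGrpCat.{u + 1})).X₂ (q + 1)) := h₂ W q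
  haveI : Subsingleton (Ext.{u + 1} (constZ W.left) (S.map (pullA W.hom AddCommGrpCat.{u + 1})).X₁ (q + 1 + 1)) :=
    h₁ W (q + 1)
  exact CohLib.subsingleton_ext_of_shift' (pull_exact W.hom hS) (n := q + 1)

variable (f : X ⟶ Y)

theorem injective_push (I : EtCoh.Ab X) [Injective I] : Injective ((EtCoh.push f).obj I) := by
  haveI := preservesFiniteLimits_pullA (A := AddCommGrpCat.{u + 1}) f
  haveI : (pullA f AddCommGrpCat.{u + 1}).PreservesMonomorphisms := inferInstance
  exact Injective.injective_of_adjoint (adjA f AddCommGrpCat.{u + 1}) I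

theorem push_shortExact_of_etFlasque {S : ShortComplex (EtCoh.Ab X)} (hS : S.ShortExact) (h : EtFlasque S.X₁) :
    (S.map (EtCoh.push f)).ShortExact := by
  haveI : (EtCoh.push f).IsRightAdjoint := (adjA f AddCommGrpCat.{u + 1}).isRightAdjoint
  haveI : PreservesFiniteLimits (EtCoh.push f) := inferInstance
  haveI : Sheaf.IsLocallySurjective ((EtCoh.push f).map S.g) :=
    Presheaf.isLocallySurjective_of_surjective _ _ fun V => h.surjective hS ((EtCoh.bc f).obj V.unop)
  haveI : Epi ((EtCoh.push f).map S.g) := inferInstance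
  haveI := hS.mono_f
  exact { exact := (hS.exact.map_of_mono_of_preservesKernel (EtCoh.push f) ‹_› inferInstance)
          mono_f := inferInstanceAs (Mono ((EtCoh.push f).map S.f))
          epi_g := ‹Epi ((EtCoh.push f).map S.g)› }

theorem etFlasque_push : ∀ (q : ℕ) (F : EtCoh.Ab X), EtFlasque F → ∀ W' : Y.Etale,
    Subsingleton (EtCoh.H W'.left ((pullA W'.hom AddCommGrpCat.{u + 1}).obj ((EtCoh.push f).obj F)) (q + 1))
  | 0, F, hF, W' => by
    haveI : Injective (CohLib.injSC F).X₂ := inferInstanceAs (Injective (Injective.under F))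
    have hS := push_shortExact_of_etFlasque f (CohLib.injSC_shortExact F) hF
    haveI : Subsingleton (Ext.{u + 1} (constZ W'.left)
        (((CohLib.injSC F).map (EtCoh.push f)).map (pullA W'.hom AddCommGrpCat.{u + 1})).X₂ 1) := by
      haveI : Injective ((CohLib.injSC F).map (EtCoh.push f)).X₂ := injective_push f _
      exact etFlasque_injective _ W' 0
    exact CohLib.subsingleton_ext_one_of_lift (pull_exact W'.hom hS)
      ((sections_surjective_iff hS W').1 (hF.surjective (CohLib.injSC_shortExact F) ((EtCoh.bc f).obj W')))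
  | q + 1, F, hF, W' => by
    haveI : Injective (CohLib.injSC F).X₂ := inferInstanceAs (Injective (Injective.under F))
    have hS := push_shortExact_of_etFlasque f (CohLib.injSC_shortExact F) hF
    haveI : Subsingleton (Ext.{u + 1} (constZ W'.left)
        (((CohLib.injSC F).map (EtCoh.push f)).map (pullA W'.hom AddCommGrpCat.{u + 1})).X₂ (q + 1 + 1)) := by
      haveI : Injective ((CohLib.injSC F).map (EtCoh.push f)).X₂ := injective_push f _
      exact etFlasque_injective _ W' (q + 1)
    haveI : Subsingleton (Ext.{u + 1} (constZ W'.left)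
        (((CohLib.injSC F).map (EtCoh.push f)).map (pullA W'.hom AddCommGrpCat.{u + 1})).X₃ (q + 1)) :=
      etFlasque_push q _ (hF.quotient (CohLib.injSC_shortExact F) (etFlasque_injective _)) W'
    exact CohLib.subsingleton_ext_of_shift (pull_exact W'.hom hS)

end Groth.Agent.EtShLib
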