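import Groth.Agent.EtShLib.FinSplit
import Groth.Agent.EtShLib.Stalk

/-! Traces of sections along finite étale morphisms. -/

set_option autoImplicit false
set_option linter.unusedSectionVars false
set_option linter.style.haveILetI false
set_option backward.isDefEq.respectTransparency false
set_option backward.isDefEq.respectTransparency.types false
set_option synthInstance.maxHeartbeats 400000
set_option maxHeartbeats 1000000

universe u

open CategoryTheory CategoryTheory.Limits AlgebraicGeometry Opposite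

namespace Groth.Agent.EtShLib

variable {X : Scheme.{u}} (F : EtCoh.Ab X)

/-- Every section over a finite étale scheme has a trace: the sum over the lifts. -/
theorem exists_trace {O P : X.Etale} (i : O ⟶ P) [IsFinite i.left] (s : F.obj.obj (op O)) :
    ∃ t : F.obj.obj (op P), ∀ (Ω : Type u) [Field Ω] [IsSepClosed Ω] (ξ : Spec (CommRingCat.of Ω) ⟶ X)
      (z : Fib ξ P), germ (A := AddCommGrpCat.{u + 1}) ξ F P z t =
        ∑ᶠ o : {o : Fib ξ O // o.map i = z}, germ (A := AddCommGrpCat.{u + 1}) ξ F O o.1 s := by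
  classical
  haveI := etale_left i
  let Q : P.left.Etale := MorphismProperty.Over.mk ⊤ i.left (inferInstance : AlgebraicGeometry.Etale i.left)
  haveI : IsFinite (str Q) := inferInstanceAs (IsFinite i.left)
  have hloc : ∀ y : P.left, ∃ (W : X.Etale) (g : W ⟶ P) (t : F.obj.obj (op W)), y ∈ Set.range g.left.base ∧
      ∀ (Ω : Type u) [Field Ω] [IsSepClosed Ω] (ξ : Spec (CommRingCat.of Ω) ⟶ X) (w : Fib ξ W),
        germ (A := AddCommGrpCat.{u + 1}) ξ F W w t =
          ∑ᶠ o : {o : Fib ξ O // o.map i = w.map g}, germ (A := AddCommGrpCat.{u + 1}) ξ F O o.1 s := by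
    intro y
    obtain ⟨Ω₀, _, _, ξ₀, z₀, rfl⟩ := exists_geometric (U := P) y
    obtain ⟨hfin, W₁, w₁, σ, hσ, hb⟩ := exists_split_finite Q z₀.hom
    haveI := hfin
    haveI := Fintype.ofFinite (Fib z₀.hom Q)
    haveI : AlgebraicGeometry.Etale P.hom := P.prop
    haveI : AlgebraicGeometry.Etale W₁.hom := W₁.prop
    let W : X.Etale := MorphismProperty.Over.mk ⊤ (W₁.hom ≫ P.hom)
      (inferInstance : AlgebraicGeometry.Etale (W₁.hom ≫ P.hom))
    let g : W ⟶ P := MorphismProperty.Over.homMk W₁.hom rfl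
    let r : Fib z₀.hom Q → (W ⟶ O) := fun u => MorphismProperty.Over.homMk (σ u).left (by
      show (σ u).left ≫ O.hom = W₁.hom ≫ P.hom
      rw [← MorphismProperty.Over.w (σ u), ← MorphismProperty.Over.w i]
      exact (Category.assoc _ _ _).symm)
    refine ⟨W, g, ∑ u, F.obj.map (r u).op s, ⟨w₁.pt, ?_⟩, fun Ω _ _ ξ w => ?_⟩
    · exact congrArg (fun t : Spec (CommRingCat.of Ω₀) ⟶ P.left => t.base default) w₁.w
    let ζ := (w.map g).hom
    let w' : Fib ζ W₁ := Fib.mk w.hom rfl
    let e : Fib z₀.hom Q → {o : Fib ξ O // o.map i = w.map g} := fun u => ⟨w.map (r u), by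
      refine Fib.ext ?_
      show (w.hom ≫ (σ u).left) ≫ i.left = w.hom ≫ W₁.hom
      rw [Category.assoc]
      exact congrArg (w.hom ≫ ·) (MorphismProperty.Over.w (σ u))⟩
    have he : Function.Bijective e := by
      refine ⟨fun a b h => (hb Ω ζ w').1 (Fib.ext (congrArg (fun o : {o : Fib ξ O // o.map i = w.map g} => o.1.hom) h :)),
        fun o => ?_⟩
      obtain ⟨u, hu⟩ := (hb Ω ζ w').2 (Fib.mk o.1.hom (congrArg (fun o : Fib ξ P => o.hom) o.2))
      exact ⟨u, Subtype.ext (Fib.ext (congrArg (fun q : Fib ζ Q => q.hom) hu :))⟩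
    rw [map_sum, ← finsum_eq_of_bijective (f := fun u => germ (A := AddCommGrpCat.{u + 1}) ξ F O (e u).1 s) e he
      (fun u => rfl), finsum_eq_sum_of_fintype]
    exact Finset.sum_congr rfl fun u _ => germ_res_apply ξ F (r u) w s
  choose W g t hy ht using hloc
  have hmem : Sieve.ofArrows W g ∈ X.smallEtaleTopology P := by
    rw [Scheme.ofArrows_mem_smallEtaleTopology_iff]
    exact Set.eq_univ_of_forall fun y => Set.mem_iUnion.2 ⟨y, hy y⟩
  have hsh : (Presieve.ofArrows W g).IsSheafFor (F.obj ⋙ forget AddCommGrpCat.{u + 1}) := by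
    rw [Presieve.isSheafFor_iff_generate]
    exact ((isSheaf_iff_isSheaf_of_type _ _).1
      (GrothendieckTopology.HasSheafCompose.isSheaf F.obj F.property)) _ hmem
  obtain ⟨T, hT, -⟩ := (Presieve.isSheafFor_arrows_iff _ _).1 hsh t fun a b Z p q h =>
    eq_of_germ (A := AddCommGrpCat.{u + 1}) F _ _ fun Ω _ _ ξ v => by
      show germ (A := AddCommGrpCat.{u + 1}) ξ F Z v (F.obj.map p.op (t a)) =
        germ (A := AddCommGrpCat.{u + 1}) ξ F Z v (F.obj.map q.op (t b))
      rw [germ_res_apply, germ_res_apply, ht, ht]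
      have e : (v.map p).map (g a) = (v.map q).map (g b) := by
        refine Fib.ext ?_
        simp only [Fib.map_hom, Category.assoc]
        exact congrArg (v.hom ≫ ·) (congrArg (fun t => t.left) h)
      rw [e]
  refine ⟨T, fun Ω _ _ ξ z => ?_⟩
  obtain ⟨y, hy'⟩ : ∃ y, z.pt ∈ Set.range (g y).left.base := ⟨_, hy z.pt⟩
  haveI := etale_left (g y)
  obtain ⟨w₀, hw₀⟩ := hy'
  obtain ⟨l, hl, -⟩ := Scheme.exists_fac_of_etale_of_isSepClosed (g y).left z.hom w₀ hw₀
  let w : Fib ξ (W y) := Fib.mk l (by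
    rw [← MorphismProperty.Over.w (g y), ← Category.assoc, hl]
    exact z.w)
  have hw : w.map (g y) = z := Fib.ext hl
  rw [← hw, ← germ_res_apply, show F.obj.map (g y).op T = t y from hT y, ht]

end Groth.Agent.EtShLib
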