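import Groth.Agent.EtShLib.Generate

/-! Sums of extensions by zero of constant sheaves killed by `n`. -/

set_option autoImplicit false
set_option linter.unusedSectionVars false
set_option linter.style.haveILetI false
set_option backward.isDefEq.respectTransparency false
set_option backward.isDefEq.respectTransparency.types false
set_option synthInstance.maxHeartbeats 400000
set_option maxHeartbeats 1000000

universe u

open CategoryTheory CategoryTheory.Limits AlgebraicGeometry Opposite

namespace Groth.Agent.EtShLib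

variable {X : Scheme.{u}}

theorem nsmul_id_extConst (U : X.Etale) (n : ℕ) : n • 𝟙 (EtPBC.extZeroConst U (ZMod n)) = 0 := by
  refine extConst_hom_ext U (ZMod n) ?_
  have h : n • 𝟙 (AddCommGrpCat.of (ULift.{u + 1} (ZMod n))) = 0 := by
    ext ⟨x⟩
    show n • x = 0
    rw [nsmul_eq_mul, ZMod.natCast_self, zero_mul]
  have e : (n • 𝟙 (EtPBC.extZeroConst U (ZMod n))).hom.app (op U) =
      n • (𝟙 (EtPBC.extZeroConst U (ZMod n)) : _ ⟶ _).hom.app (op U) := rfl
  rw [e, Preadditive.comp_nsmul]
  show n • (extConstSec U (ZMod n) ≫ 𝟙 _) = extConstSec U (ZMod n) ≫ 0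
  rw [Category.comp_id, comp_zero, ← Category.id_comp (extConstSec U (ZMod n)), ← Preadditive.nsmul_comp, h, zero_comp]

theorem torsionBy_sum_killed {a : ℕ} (U : Fin a → X.Etale) (n : ℕ) :
    TorsionBy (fun m => m = n) (⨁ fun i => EtPBC.extZeroConst (U i) (ZMod n)) := by
  intro Ω _ _ ξ p
  refine ⟨n, rfl, ?_⟩
  have h : n • 𝟙 (⨁ fun i => EtPBC.extZeroConst (U i) (ZMod n)) = 0 := by
    refine biproduct.hom_ext' _ _ fun i => ?_
    rw [comp_zero, Preadditive.comp_nsmul, Category.comp_id, ← Category.id_comp (biproduct.ι _ i),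
      ← Preadditive.nsmul_comp, nsmul_id_extConst, zero_comp]
  have e : (stk (A := AddCommGrpCat.{u + 1}) ξ).map (n • 𝟙 (⨁ fun i => EtPBC.extZeroConst (U i) (ZMod n))) p = 0 := by
    rw [h, Functor.map_zero]; rfl
  rw [Functor.map_nsmul, CategoryTheory.Functor.map_id] at e
  exact e

end Groth.Agent.EtShLib
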