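import Groth.Agent.EtShLib.TorsionCoh
import Groth.Prelude.Def_EtAcyc
import Groth.Agent.EtShLib.Generate
import Mathlib.CategoryTheory.Abelian.Injective.Ext
import Mathlib.CategoryTheory.Abelian.RightDerived
import Mathlib.Algebra.Category.Grp.Adjunctions
import Mathlib.CategoryTheory.Adjunction.Whiskering

/-! Cohomology of sheaves whose stalks are killed by a multiplicative set of integers. -/

set_option autoImplicit false
set_option linter.unusedSectionVars false
set_option linter.style.haveILetI false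
set_option backward.isDefEq.respectTransparency false
set_option backward.isDefEq.respectTransparency.types false
set_option synthInstance.maxHeartbeats 400000
set_option maxHeartbeats 1000000

universe u

open CategoryTheory CategoryTheory.Limits AlgebraicGeometry Opposite CategoryTheory.Abelian

namespace Groth.Agent.EtShLib

variable {X : Scheme.{u}} {ok : ℕ → Prop}

/-- A multiplicative set of positive integers. -/
structure OkSet (ok : ℕ → Prop) : Prop where
  one : ok 1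
  mul : ∀ {a b : ℕ}, ok a → ok b → ok (a * b)

/-- The integers in a set, ordered by divisibility. -/
structure OkIdx (ok : ℕ → Prop) where
  m : ℕ
  h : ok m

instance : Preorder (OkIdx ok) where
  le a b := a.m ∣ b.m
  le_refl a := dvd_rfl
  le_trans a b c := dvd_trans

theorem okSet_primesIn (L : Set ℕ) : OkSet (EtAcyc.PrimesIn L) :=
  ⟨⟨Nat.one_pos, fun p hp h => absurd h hp.not_dvd_one⟩, fun {a b} ha hb =>
    ⟨Nat.mul_pos ha.1 hb.1, fun p hp h => (hp.dvd_mul.1 h).elim (ha.2 p hp) (hb.2 p hp)⟩⟩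

theorem isLTorsion_iff_torsionBy (L : Set ℕ) (F : EtCoh.Ab X) :
    EtAcyc.IsLTorsion L F ↔ TorsionBy (EtAcyc.PrimesIn L) F := by
  refine ⟨fun h Ω _ _ ξ p => ?_, fun h U s x => ?_⟩
  · obtain ⟨U, u, s, rfl⟩ := exists_germ (A := AddCommGrpCat.{u + 1}) ξ p
    obtain ⟨V, g, m, ⟨y, hy⟩, hm, he⟩ := h U s u.pt
    haveI := etale_left g
    obtain ⟨l, hl, -⟩ := Scheme.exists_fac_of_etale_of_isSepClosed g.left u.hom y hy
    let v : Fib ξ V := Fib.mk l (by
      rw [← (show g.left ≫ U.hom = V.hom from MorphismProperty.Over.w g), ← Category.assoc, hl]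
      exact u.w)
    refine ⟨m, hm, ?_⟩
    rw [← (show v.map g = u from Fib.ext hl), ← germ_res_apply, ← map_nsmul, he, map_zero]
  · obtain ⟨Ω, _, _, ξ, u, hu⟩ := exists_geometric (U := U) x
    obtain ⟨m, hm, he⟩ := h Ω ξ (germ (A := AddCommGrpCat.{u + 1}) ξ F U u s)
    obtain ⟨V, g, v, hv, he'⟩ := (germ_eq_iff (A := AddCommGrpCat.{u + 1}) ξ U u (m • s) 0).1
      (by rw [map_nsmul, map_zero]; exact he)
    refine ⟨V, g, m, ⟨v.pt, ?_⟩, hm, ?_⟩
    · rw [← hu, ← hv]
      rfl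
    · rw [← map_nsmul, he', map_zero]

theorem exists_ok_colimit {F : EtCoh.Ab X} (hok : OkSet ok) (hF : TorsionBy ok F) :
    ∃ (J : Type u) (_ : SmallCategory J) (_ : IsFiltered J) (D : J ⥤ EtCoh.Ab X) (c : Cocone D),
      Nonempty (IsColimit c) ∧ c.pt = F ∧ ∀ j, ∃ m, ok m ∧ m • 𝟙 (D.obj j) = 0 := by
  classical
  let J := ULift.{u} (OkIdx ok)
  haveI : Nonempty J := ⟨⟨⟨1, hok.one⟩⟩⟩
  haveI : IsDirectedOrder J := ⟨fun a b => ⟨⟨⟨a.down.m * b.down.m, hok.mul a.down.h b.down.h⟩⟩,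
    Dvd.intro _ rfl, Dvd.intro_left _ rfl⟩⟩
  have hker : ∀ {i j : J}, i ≤ j → kernel.ι (i.down.m • 𝟙 F) ≫ (j.down.m • 𝟙 F) = 0 := fun h => by
    obtain ⟨r, hr⟩ := (show _ ∣ _ from h)
    rw [hr, mul_comm, mul_smul, Preadditive.comp_nsmul, kernel.condition, smul_zero]
  let D : J ⥤ EtCoh.Ab X := {
    obj := fun j => killedSub F j.down.m
    map := fun {i j} h => kernel.lift _ (kernel.ι _) (hker (leOfHom h))
    map_id := fun i => by rw [← cancel_mono (kernel.ι (i.down.m • 𝟙 F))]; simp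
    map_comp := fun {i j k} f g => by rw [← cancel_mono (kernel.ι (k.down.m • 𝟙 F))]; simp }
  let c : Cocone D := { pt := F, ι := {
    app := fun j => kernel.ι _
    naturality := fun i j h => by simp [D] } }
  haveI : IsIso (colimit.desc D c) := by
    refine isIso_of_stalks (A := AddCommGrpCat.{u + 1}) _ fun Ω _ _ ξ => ?_
    let S := stk (A := AddCommGrpCat.{u + 1}) ξ
    have hι : ∀ j (q : (D ⋙ S).obj j),
        S.map (colimit.desc D c) (S.map (colimit.ι D j) q) = S.map (kernel.ι _) q := fun j q => by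
      rw [← ConcreteCategory.comp_apply, ← S.map_comp, colimit.ι_desc]
    rw [ConcreteCategory.isIso_iff_bijective]
    refine ⟨(injective_iff_map_eq_zero (S.map (colimit.desc D c)).hom).2 fun p hp => ?_, fun p => ?_⟩
    · obtain ⟨j, q, rfl⟩ := Concrete.isColimit_exists_rep (D ⋙ S) (isColimitOfPreserves S (colimit.isColimit D)) p
      have hinj := (AddCommGrpCat.mono_iff_injective _).1
        ((mono_iff_stalks (A := AddCommGrpCat.{u + 1}) (kernel.ι (j.down.m • 𝟙 F))).1 inferInstance Ω ξ)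
      have hq : q = 0 := hinj ((hι j q).symm.trans (hp.trans (map_zero _).symm))
      rw [hq, map_zero]
    · obtain ⟨m, hm, hmp⟩ := hF Ω ξ p
      have he : (ShortComplex.mk (kernel.ι (m • 𝟙 F)) (m • 𝟙 F) (kernel.condition _)).Exact :=
        ShortComplex.exact_of_f_is_kernel _ (kernelIsKernel _)
      have he' := (ShortComplex.ab_exact_iff _).1 ((exact_iff_stalks (A := AddCommGrpCat.{u + 1}) _).1 he Ω ξ)
      obtain ⟨U, u, s, rfl⟩ := exists_germ (A := AddCommGrpCat.{u + 1}) ξ p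
      obtain ⟨q, hq⟩ := he' (germ (A := AddCommGrpCat.{u + 1}) ξ F U u s) (by
        refine (germ_natural_apply (A := AddCommGrpCat.{u + 1}) ξ (m • 𝟙 F) U u s).trans ?_
        have h2 : (m • 𝟙 F).hom.app (op U) s = m • s := by
          show AddCommGrpCat.homAddEquiv (((sheafToPresheaf _ _).map (m • 𝟙 F)).app (op U)) s = _
          rw [Functor.map_nsmul, NatTrans.app_nsmul, map_nsmul, AddMonoidHom.nsmul_apply]
          rfl
        rw [h2, map_nsmul, hmp])
      exact ⟨S.map (colimit.ι D ⟨⟨m, hm⟩⟩) q, (hι ⟨⟨m, hm⟩⟩ q).trans hq⟩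
  haveI : IsIso ((colimit.isColimit D).desc c) := ‹IsIso (colimit.desc D c)›
  refine ⟨J, inferInstance, inferInstance, D, c, ⟨IsColimit.ofPointIso (colimit.isColimit D)⟩, rfl,
    fun j => ⟨_, j.down.h, nsmul_id_killedSub F _⟩⟩

variable {M : EtCoh.Ab X} {W : X.Etale} (R : SectRep M W) (hW : W ∈ qcqsObj X)

include R hW

theorem exists_ok_nsmul_ext {F : EtCoh.Ab X} (hok : OkSet ok) (hF : TorsionBy ok F) (n : ℕ)
    (x : Ext.{u + 1} M F n) : ∃ m, ok m ∧ m • x = 0 := by
  obtain ⟨J, _, _, D, c, ⟨hc⟩, hpt, hk⟩ := exists_ok_colimit hok hF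
  subst hpt
  let eq := AsSmall.equiv.{u, u, u + 1} (C := J)
  let D' : AsSmall.{u + 1} J ⥤ EtCoh.Ab X := eq.inverse ⋙ D
  let φ := ((colimit.isColimit D').coconePointUniqueUpToIso (IsColimit.whiskerEquivalence hc eq.symm))
  obtain ⟨i, z, hz⟩ := (extComm_sectRep R hW n J D').1 (x.comp (Ext.mk₀ φ.inv) (add_zero n))
  obtain ⟨m, hm, hkill⟩ := hk (eq.inverse.obj i)
  have hkill' : m • 𝟙 (D'.obj i) = 0 := hkill
  refine ⟨m, hm, ?_⟩
  let f := colimit.ι D' i ≫ φ.hom
  have hx : x = z.comp (Ext.mk₀ f) (add_zero n) := by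
    rw [← Ext.mk₀_comp_mk₀, ← Ext.comp_assoc_of_third_deg_zero, hz, Ext.comp_assoc_of_third_deg_zero,
      Ext.mk₀_comp_mk₀, Iso.inv_hom_id, Ext.comp_mk₀_id]
  let P : Ext.{u + 1} (D'.obj i) c.pt 0 →+ Ext.{u + 1} M c.pt n :=
    AddMonoidHom.mk' (fun w => z.comp w (add_zero n)) fun a b => Ext.comp_add _ _ _ _
  have hPm : m • P (Ext.mk₀ f) = P (Ext.mk₀ (m • f)) := by rw [ext_mk₀_nsmul, map_nsmul]
  have hf0 : m • f = 0 := by
    rw [← Category.id_comp f, ← Preadditive.nsmul_comp, hkill', zero_comp]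
  rw [hx]
  refine hPm.trans ?_
  rw [hf0, Ext.mk₀_zero, map_zero]

omit R hW

theorem exists_ok_coboundary {F : EtCoh.Ab X} (hok : OkSet ok) (hF : TorsionBy ok F) (hW : W ∈ qcqsObj X)
    (I : InjectiveResolution F) (n : ℕ) (a : (I.cocomplex.X n).obj.obj (op W))
    (ha : (I.cocomplex.d n (n + 1)).hom.app (op W) a = 0) :
    ∃ m : ℕ, ok m ∧ ((n = 0 ∧ m • a = 0) ∨ ∃ (p : ℕ) (_ : p + 1 = n) (b : (I.cocomplex.X p).obj.obj (op W)),
      (I.cocomplex.d p n).hom.app (op W) b = m • a) := by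
  obtain ⟨R⟩ := exists_sectRep_freeAt W
  obtain ⟨f, rfl⟩ := (R.e (I.cocomplex.X n)).surjective a
  have hf : f ≫ I.cocomplex.d n (n + 1) = 0 := (R.e _).injective (by rw [← R.nat, ha, map_zero])
  rcases n with _ | p
  · obtain ⟨g, hg⟩ := KernelFork.IsLimit.lift' I.isLimitKernelFork f hf
    obtain ⟨m, hm, hmg⟩ := exists_ok_nsmul_ext R hW hok hF 0 (Ext.mk₀ g)
    have hmg' : m • g = 0 := Ext.addEquiv₀.symm.injective (by
      rw [Ext.addEquiv₀_symm_apply, Ext.addEquiv₀_symm_apply, ext_mk₀_nsmul, hmg, Ext.mk₀_zero])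
    refine ⟨m, hm, Or.inl ⟨rfl, ?_⟩⟩
    rw [← map_nsmul, ← hg, ← Preadditive.nsmul_comp, hmg', zero_comp, map_zero]
  · obtain ⟨m, hm, hmf⟩ := exists_ok_nsmul_ext R hW hok hF (p + 1)
      (I.extMk f (p + 1 + 1) rfl hf)
    rw [extMk_nsmul I f hf m, I.extMk_eq_zero_iff _ _ _ _ p rfl] at hmf
    obtain ⟨g, hg⟩ := hmf
    refine ⟨m, hm, Or.inr ⟨p, rfl, R.e _ g, ?_⟩⟩
    rw [R.nat, hg, map_nsmul]

theorem torsionBy_of_iso {A B : EtCoh.Ab X} (e : A ≅ B) (h : TorsionBy ok A) : TorsionBy ok B := by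
  intro Ω _ _ ξ p
  let S := stk (A := AddCommGrpCat.{u + 1}) ξ
  obtain ⟨m, hm, h0⟩ := h Ω ξ (S.map e.inv p)
  refine ⟨m, hm, ?_⟩
  have h1 : p = S.map e.hom (S.map e.inv p) := by
    rw [← ConcreteCategory.comp_apply, ← S.map_comp, e.inv_hom_id, S.map_id]
    rfl
  rw [h1, ← map_nsmul, h0, map_zero]

variable {Y : Scheme.{u}} (f : X ⟶ Y)

theorem torsionBy_rightDerived_push [QuasiCompact f] [QuasiSeparated f] {F : EtCoh.Ab X} (hok : OkSet ok)
    (hF : TorsionBy ok F) (n : ℕ) : haveI : (EtCoh.push f).Additive := { }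
    TorsionBy ok (((EtCoh.push f).rightDerived n).obj F) := by
  haveI : (EtCoh.push f).Additive := { }
  let I := injectiveResolution F
  let K := ((EtCoh.push f).mapHomologicalComplex (ComplexShape.up ℕ)).obj I.cocomplex
  refine torsionBy_of_iso (I.isoRightDerivedObj (EtCoh.push f) n).symm ?_
  show TorsionBy ok (K.homology n)
  intro Ω _ _ ξ p'
  obtain ⟨U, v₀, s, rfl⟩ := exists_germ (A := AddCommGrpCat.{u + 1}) ξ p'
  obtain ⟨q, hq⟩ := (AddCommGrpCat.epi_iff_surjective _).1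
    ((epi_iff_stalks (A := AddCommGrpCat.{u + 1}) (K.homologyπ n)).1 inferInstance Ω ξ)
    (germ (A := AddCommGrpCat.{u + 1}) ξ (K.homology n) U v₀ s)
  obtain ⟨V₁, g₁, v₁, z₁, hv₁, rfl⟩ := exists_germ_below (A := AddCommGrpCat.{u + 1}) ξ q U v₀
  rw [germ_natural_apply, ← hv₁, ← germ_res_apply] at hq
  obtain ⟨V₂, g₂, v₂, hv₂, he⟩ := (germ_eq_iff (A := AddCommGrpCat.{u + 1}) ξ V₁ v₁ _ _).1 hq
  obtain ⟨V, g₃, v, hV, hv⟩ := exists_affine_below' ξ V₂ v₂
  let g : V ⟶ V₁ := g₃ ≫ g₂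
  let z := (K.cycles n).obj.map g.op z₁
  have hz : (K.homologyπ n).hom.app (op V) z = (K.homology n).obj.map (g ≫ g₁).op s := by
    refine (NatTrans.naturality_apply (K.homologyπ n).hom g.op z₁).trans ?_
    simp only [g, op_comp, Functor.map_comp, ConcreteCategory.comp_apply]
    exact congrArg ((K.homology n).obj.map g₃.op) he
  let a : (I.cocomplex.X n).obj.obj (op ((EtCoh.bc f).obj V)) := (K.iCycles n).hom.app (op V) z
  have ha : (I.cocomplex.d n (n + 1)).hom.app (op ((EtCoh.bc f).obj V)) a = 0 :=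
    (ConcreteCategory.comp_apply ((K.iCycles n).hom.app (op V)) ((K.d n (n + 1)).hom.app (op V)) z).symm.trans
      (congrArg (fun t : K.cycles n ⟶ K.X (n + 1) => t.hom.app (op V) z) (K.iCycles_d n (n + 1)))
  have hinj : Function.Injective ((K.iCycles n).hom.app (op V)) := by
    haveI : Mono ((sheafToPresheaf Y.smallEtaleTopology AddCommGrpCat.{u + 1} ⋙ (evaluation _ _).obj (op V)).map
      (K.iCycles n)) := inferInstance
    exact (AddCommGrpCat.mono_iff_injective _).1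
      (inferInstanceAs (Mono ((sheafToPresheaf Y.smallEtaleTopology AddCommGrpCat.{u + 1} ⋙
        (evaluation _ _).obj (op V)).map (K.iCycles n))))
  obtain ⟨m, hm, h⟩ := exists_ok_coboundary hok hF (bc_mem_qcqsObj f (V := V)) I n a ha
  refine ⟨m, hm, ?_⟩
  have hgg : v.map (g ≫ g₁) = v₀ := by
    show (pt ξ).fiber.map ((g₃ ≫ g₂) ≫ g₁) v = _
    rw [Functor.map_comp_apply, Functor.map_comp_apply]
    exact (congrArg (Fib.map g₁) ((congrArg (Fib.map g₂) hv).trans hv₂)).trans hv₁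
  rw [← hgg, ← germ_res_apply, ← hz, ← map_nsmul, ← map_nsmul]
  rcases h with ⟨-, h⟩ | ⟨p, hp, b, hb⟩
  · have : m • z = 0 := hinj (by rw [map_zero, map_nsmul]; exact h)
    rw [this, map_zero, map_zero]
  · have : m • z = (K.toCycles p n).hom.app (op V) b := hinj (by
      rw [map_nsmul]
      refine hb.symm.trans ?_
      exact (congrArg (fun t : K.X p ⟶ K.X n => t.hom.app (op V) b) (K.toCycles_i p n)).symm.trans
        (ConcreteCategory.comp_apply ((K.toCycles p n).hom.app (op V)) ((K.iCycles n).hom.app (op V)) b))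
    rw [this]
    refine (congrArg (germ (A := AddCommGrpCat.{u + 1}) ξ (K.homology n) V v) ?_).trans (map_zero _)
    exact (ConcreteCategory.comp_apply ((K.toCycles p n).hom.app (op V)) ((K.homologyπ n).hom.app (op V)) b).symm.trans
      (congrArg (fun t : K.X p ⟶ K.homology n => t.hom.app (op V) b) (K.toCycles_comp_homologyπ p n))

end Groth.Agent.EtShLib
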