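import Groth.Agent.EtShLib.ExtZeroStalk
import Groth.Agent.EtShLib.PushStalk
import Groth.Prelude.Def_EtShriek2
import Mathlib.CategoryTheory.Abelian.GrothendieckAxioms.Colim
import Mathlib.Algebra.Category.Grp.AB
import Mathlib.CategoryTheory.Abelian.GrothendieckCategory.Basic

/-! Extension by zero along étale morphisms. -/

set_option autoImplicit false
set_option linter.unusedSectionVars false
set_option linter.style.haveILetI false
set_option backward.isDefEq.respectTransparency false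
set_option backward.isDefEq.respectTransparency.types false
set_option synthInstance.maxHeartbeats 400000
set_option maxHeartbeats 1000000

universe u

open CategoryTheory CategoryTheory.Limits AlgebraicGeometry Opposite

namespace Groth.Agent.EtShLib

variable {U X : Scheme.{u}} (j : U ⟶ X) [AlgebraicGeometry.Etale j]

/-- A lift in `V → U` is one in `V → U → X`. -/
noncomputable def fibComp {Ω : Type u} [Field Ω] [IsSepClosed Ω] {ξ : Spec (CommRingCat.of Ω) ⟶ X}
    (u : {u : Spec (CommRingCat.of Ω) ⟶ U // u ≫ j = ξ}) :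
    (pt u.1).fiber ⟶ EtShriek.compEtale j ⋙ (pt ξ).fiber where
  app V := TypeCat.ofHom fun v : Fib u.1 V => (Fib.mk (U := (EtShriek.compEtale j).obj V) v.hom (by
    show v.hom ≫ V.hom ≫ j = ξ
    rw [← Category.assoc, v.w, u.2]) : Fib ξ ((EtShriek.compEtale j).obj V))
  naturality V W g := by
    ext v
    exact Fib.ext rfl

theorem fibComp_bijective {Ω : Type u} [Field Ω] [IsSepClosed Ω] (ξ : Spec (CommRingCat.of Ω) ⟶ X) (V : U.Etale) :
    Function.Bijective (fun q : Σ u : {u : Spec (CommRingCat.of Ω) ⟶ U // u ≫ j = ξ}, (pt u.1).fiber.obj V =>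
      (fibComp j q.1).app V q.2) := by
  refine ⟨fun a b h => ?_, fun p => ?_⟩
  · obtain ⟨⟨a, ha⟩, v⟩ := a
    obtain ⟨⟨b, hb⟩, w⟩ := b
    have e : Fib.hom (ξ := a) v = Fib.hom (ξ := b) w :=
      congrArg (fun t : Fib ξ ((EtShriek.compEtale j).obj V) => t.hom) h
    obtain rfl : a = b := (Fib.w (ξ := a) v).symm.trans (e ▸ Fib.w (ξ := b) w)
    obtain rfl : v = w := Fib.ext e
    rfl
  · let u : Spec (CommRingCat.of Ω) ⟶ U := Fib.hom (ξ := ξ) (U := (EtShriek.compEtale j).obj V) p ≫ V.hom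
    have hu : u ≫ j = ξ := (Category.assoc _ _ _).trans (Fib.w (ξ := ξ) (U := (EtShriek.compEtale j).obj V) p)
    exact ⟨⟨⟨u, hu⟩, Fib.mk (Fib.hom (ξ := ξ) (U := (EtShriek.compEtale j).obj V) p) rfl⟩, Fib.ext rfl⟩

variable [EtShriek.JCont j]

/-- The inclusion of a stalk. -/
noncomputable def inclStalk (F : EtCoh.Ab U) {Ω : Type u} [Field Ω] [IsSepClosed Ω]
    (ξ : Spec (CommRingCat.of Ω) ⟶ X) (u : {u : Spec (CommRingCat.of Ω) ⟶ U // u ≫ j = ξ}) :
    (stk (A := AddCommGrpCat.{u + 1}) u.1).obj F ⟶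
      (stk (A := AddCommGrpCat.{u + 1}) ξ).obj ((EtShriek.extZero j).obj F) :=
  extStalkMap ξ U.smallEtaleTopology (EtShriek.compEtale j) (fun u : {u : Spec (CommRingCat.of Ω) ⟶ U // u ≫ j = ξ} => pt u.1) (fibComp j) F u

/-- The stalks of the extension by zero. -/
noncomputable def stalkExtColimit (F : EtCoh.Ab U) {Ω : Type u} [Field Ω] [IsSepClosed Ω]
    (ξ : Spec (CommRingCat.of Ω) ⟶ X) : IsColimit (Cofan.mk _ (inclStalk j F ξ)) :=
  extStalkColimit ξ U.smallEtaleTopology (EtShriek.compEtale j) (fun u : {u : Spec (CommRingCat.of Ω) ⟶ U // u ≫ j = ξ} => pt u.1) (fibComp j)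
    (fibComp_bijective j ξ) F

theorem germ_inclStalk (F : EtCoh.Ab U) {Ω : Type u} [Field Ω] [IsSepClosed Ω]
    (ξ : Spec (CommRingCat.of Ω) ⟶ X) (u : {u : Spec (CommRingCat.of Ω) ⟶ U // u ≫ j = ξ}) (V : U.Etale)
    (v : Fib u.1 V) : germ u.1 F V v ≫ inclStalk j F ξ u =
      ((EtShriek.extZeroAdj j).unit.app F).hom.app (op V) ≫
        germ ξ ((EtShriek.extZero j).obj F) ((EtShriek.compEtale j).obj V) ((fibComp j u).app V v) :=
  toPresheafFiber_extStalkMap ξ U.smallEtaleTopology (EtShriek.compEtale j) (fun u : {u : Spec (CommRingCat.of Ω) ⟶ U // u ≫ j = ξ} => pt u.1) (fibComp j) F u V v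

theorem inclStalk_natural {F G : EtCoh.Ab U} (α : F ⟶ G) {Ω : Type u} [Field Ω] [IsSepClosed Ω]
    (ξ : Spec (CommRingCat.of Ω) ⟶ X) (u : {u : Spec (CommRingCat.of Ω) ⟶ U // u ≫ j = ξ}) :
    inclStalk j F ξ u ≫ (stk (A := AddCommGrpCat.{u + 1}) ξ).map ((EtShriek.extZero j).map α) =
      (stk (A := AddCommGrpCat.{u + 1}) u.1).map α ≫ inclStalk j G ξ u := by
  apply stk_hom_ext
  intro V v
  rw [← Category.assoc, germ_inclStalk, Category.assoc, germ_natural]
  conv_rhs => rw [← Category.assoc, germ_natural, Category.assoc, germ_inclStalk, ← Category.assoc]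
  rw [← Category.assoc]
  refine congrArg (· ≫ _) ?_
  exact (congrArg (fun t : F ⟶ _ => t.hom.app (op V)) ((EtShriek.extZeroAdj j).unit.naturality α)).symm

/-- Stalk of a restriction. -/
noncomputable def restrStalk (G : EtCoh.Ab X) {Ω : Type u} [Field Ω] [IsSepClosed Ω]
    (ξ : Spec (CommRingCat.of Ω) ⟶ X) (u : {u : Spec (CommRingCat.of Ω) ⟶ U // u ≫ j = ξ}) :
    (stk (A := AddCommGrpCat.{u + 1}) u.1).obj ((EtShriek.restrAlong j).obj G) ⟶
      (stk (A := AddCommGrpCat.{u + 1}) ξ).obj G :=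
  inclStalk j ((EtShriek.restrAlong j).obj G) ξ u ≫
    (stk (A := AddCommGrpCat.{u + 1}) ξ).map ((EtShriek.extZeroAdj j).counit.app G)

theorem germ_restrStalk (G : EtCoh.Ab X) {Ω : Type u} [Field Ω] [IsSepClosed Ω]
    (ξ : Spec (CommRingCat.of Ω) ⟶ X) (u : {u : Spec (CommRingCat.of Ω) ⟶ U // u ≫ j = ξ}) (V : U.Etale)
    (v : Fib u.1 V) : germ u.1 ((EtShriek.restrAlong j).obj G) V v ≫ restrStalk j G ξ u =
      germ ξ G ((EtShriek.compEtale j).obj V) ((fibComp j u).app V v) := by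
  rw [restrStalk, ← Category.assoc, germ_inclStalk, Category.assoc, germ_natural, ← Category.assoc]
  refine (congrArg (· ≫ _) ?_).trans (Category.id_comp _)
  exact congrArg (fun t : (EtShriek.restrAlong j).obj G ⟶ _ => t.hom.app (op V))
    ((EtShriek.extZeroAdj j).right_triangle_components G)

theorem isIso_restrStalk (G : EtCoh.Ab X) {Ω : Type u} [Field Ω] [IsSepClosed Ω]
    (ξ : Spec (CommRingCat.of Ω) ⟶ X) (u : {u : Spec (CommRingCat.of Ω) ⟶ U // u ≫ j = ξ}) :
    IsIso (restrStalk j G ξ u) := by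
  let H := (EtShriek.restrAlong j).obj G
  have hg : ∀ (V : U.Etale) (v : Fib u.1 V) (s : H.obj.obj (op V)),
      restrStalk j G ξ u (germ u.1 H V v s) =
        germ ξ G ((EtShriek.compEtale j).obj V) ((fibComp j u).app V v) s := fun V v s =>
    (ConcreteCategory.comp_apply _ _ s).symm.trans
      (congrArg (fun t : H.obj.obj (op V) ⟶ (stk (A := AddCommGrpCat.{u + 1}) ξ).obj G => t s)
        (germ_restrStalk j G ξ u V v))
  rw [← isIso_iff_of_reflects_iso _ (forget AddCommGrpCat.{u + 1}), isIso_iff_bijective]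
  constructor
  · show Function.Injective (restrStalk j G ξ u)
    rw [injective_iff_map_eq_zero]
    intro p hp
    obtain ⟨V, v, s, rfl⟩ := exists_germ (A := AddCommGrpCat.{u + 1}) u.1 p
    rw [hg, ← map_zero (germ ξ G ((EtShriek.compEtale j).obj V) ((fibComp j u).app V v)).hom] at hp
    obtain ⟨W, g, w, hw, he⟩ := (germ_eq_iff ξ _ _ _ _).1 hp
    rw [← map_zero (germ u.1 H V v).hom]
    refine (germ_eq_iff u.1 V v _ _).2 ?_
    let hW : AlgebraicGeometry.Etale (g.left ≫ V.hom) := by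
      haveI := etale_left g
      haveI : AlgebraicGeometry.Etale V.hom := V.prop
      infer_instance
    let V' : U.Etale := MorphismProperty.Over.mk ⊤ (g.left ≫ V.hom) hW
    let g' : V' ⟶ V := MorphismProperty.Over.homMk g.left rfl
    let i : (EtShriek.compEtale j).obj V' ⟶ W := MorphismProperty.Over.homMk (𝟙 _) (by
      show 𝟙 _ ≫ W.hom = (g.left ≫ V.hom) ≫ j
      rw [Category.id_comp, Category.assoc]
      exact (MorphismProperty.Over.w g).symm)
    have hig : i ≫ g = (EtShriek.compEtale j).map g' :=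
      MorphismProperty.Over.Hom.ext (Category.id_comp _)
    have hwg : w.hom ≫ g.left = v.hom := congrArg (fun t => t.hom) hw
    refine ⟨V', g', Fib.mk w.hom (by
      show w.hom ≫ g.left ≫ V.hom = u.1
      rw [← Category.assoc, hwg]
      exact v.w), Fib.ext hwg, ?_⟩
    show G.obj.map ((EtShriek.compEtale j).map g').op s = G.obj.map ((EtShriek.compEtale j).map g').op 0
    rw [← hig, op_comp, Functor.map_comp, ConcreteCategory.comp_apply, ConcreteCategory.comp_apply]
    exact congrArg _ he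
  · intro p
    obtain ⟨W, w, t, rfl⟩ := exists_germ (A := AddCommGrpCat.{u + 1}) ξ p
    haveI : AlgebraicGeometry.Etale W.hom := W.prop
    let V : U.Etale := (EtCoh.bc j).obj W
    let k : (EtShriek.compEtale j).obj V ⟶ W :=
      MorphismProperty.Over.homMk (pullback.fst W.hom j) pullback.condition
    let v : Fib u.1 V := Fib.mk (pullback.lift w.hom u.1 (w.w.trans u.2.symm)) (pullback.lift_snd _ _ _)
    refine ⟨germ u.1 H V v (G.obj.map k.op t), (hg V v _).trans ?_⟩
    rw [germ_res_apply]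
    refine congrArg (fun q => germ ξ G W q t) (Fib.ext ?_)
    exact pullback.lift_fst _ _ _

theorem epi_counit [Surjective j] (G : EtCoh.Ab X) : Epi ((EtShriek.extZeroAdj j).counit.app G) := by
  refine (epi_iff_stalks (A := AddCommGrpCat.{u + 1}) _).2 fun Ω _ _ ξ => ?_
  obtain ⟨y, hy⟩ := j.surjective (ξ.base default)
  obtain ⟨l, hl, -⟩ := Scheme.exists_fac_of_etale_of_isSepClosed j ξ y hy
  haveI := isIso_restrStalk j G ξ ⟨l, hl⟩
  haveI : Epi (restrStalk j G ξ ⟨l, hl⟩) := inferInstance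
  exact epi_of_epi_fac (f := inclStalk j ((EtShriek.restrAlong j).obj G) ξ ⟨l, hl⟩) (h := restrStalk j G ξ ⟨l, hl⟩) rfl

theorem isIso_inclStalk [Mono j] (F : EtCoh.Ab U) {Ω : Type u} [Field Ω] [IsSepClosed Ω]
    (ξ : Spec (CommRingCat.of Ω) ⟶ X) (u : {u : Spec (CommRingCat.of Ω) ⟶ U // u ≫ j = ξ}) :
    IsIso (inclStalk j F ξ u) := by
  haveI : Subsingleton {u : Spec (CommRingCat.of Ω) ⟶ U // u ≫ j = ξ} :=
    ⟨fun a b => Subtype.ext ((cancel_mono j).1 (a.2.trans b.2.symm))⟩
  have hc := stalkExtColimit j F ξ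
  let d : Cofan (fun u : {u : Spec (CommRingCat.of Ω) ⟶ U // u ≫ j = ξ} => (stk (A := AddCommGrpCat.{u + 1}) u.1).obj F) :=
    Cofan.mk _ fun k => eqToHom (congrArg (fun k : {u : Spec (CommRingCat.of Ω) ⟶ U // u ≫ j = ξ} =>
      (stk (A := AddCommGrpCat.{u + 1}) k.1).obj F) (Subsingleton.elim k u))
  have hk : inclStalk j F ξ u ≫ hc.desc d = 𝟙 _ := (hc.fac d ⟨u⟩).trans (by simp [d])
  refine ⟨hc.desc d, hk, hc.hom_ext fun ⟨k⟩ => ?_⟩
  obtain rfl := Subsingleton.elim k u
  show inclStalk j F ξ k ≫ hc.desc d ≫ inclStalk j F ξ k = inclStalk j F ξ k ≫ 𝟙 _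
  rw [← Category.assoc, hk, Category.id_comp, Category.comp_id]

theorem isIso_unit [Mono j] (F : EtCoh.Ab U) : IsIso ((EtShriek.extZeroAdj j).unit.app F) := by
  refine isIso_of_stalks (A := AddCommGrpCat.{u + 1}) _ fun Ω _ _ u => ?_
  let k : {v : Spec (CommRingCat.of Ω) ⟶ U // v ≫ j = u ≫ j} := ⟨u, rfl⟩
  haveI := isIso_inclStalk j F (u ≫ j) k
  haveI := isIso_restrStalk j ((EtShriek.extZero j).obj F) (u ≫ j) k
  have e : (stk (A := AddCommGrpCat.{u + 1}) u).map ((EtShriek.extZeroAdj j).unit.app F) ≫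
      restrStalk j ((EtShriek.extZero j).obj F) (u ≫ j) k = inclStalk j F (u ≫ j) k := by
    apply stk_hom_ext
    intro V v
    refine (Category.assoc _ _ _).symm.trans ((congrArg (· ≫ _) (germ_natural _ _ V v)).trans
      ((Category.assoc _ _ _).trans ((congrArg (_ ≫ ·) (germ_restrStalk j _ (u ≫ j) k V v)).trans
        (germ_inclStalk j F (u ≫ j) k V v).symm)))
  haveI : IsIso ((stk (A := AddCommGrpCat.{u + 1}) u).map ((EtShriek.extZeroAdj j).unit.app F) ≫
      restrStalk j ((EtShriek.extZero j).obj F) (u ≫ j) k) := by rw [e]; infer_instance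
  exact IsIso.of_isIso_comp_right _ (restrStalk j ((EtShriek.extZero j).obj F) (u ≫ j) k)

theorem isZero_stalk_extZero (F : EtCoh.Ab U) {Ω : Type u} [Field Ω] [IsSepClosed Ω]
    (ξ : Spec (CommRingCat.of Ω) ⟶ X) (h : ξ.base default ∉ Set.range j.base) :
    IsZero ((stk (A := AddCommGrpCat.{u + 1}) ξ).obj ((EtShriek.extZero j).obj F)) := by
  rw [IsZero.iff_id_eq_zero]
  refine (stalkExtColimit j F ξ).hom_ext fun ⟨u⟩ => absurd ⟨u.1.base default, ?_⟩ h
  exact congrArg (fun t : Spec (CommRingCat.of Ω) ⟶ X => t.base default) u.2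

theorem isIso_counit_stalk [Mono j] (G : EtCoh.Ab X) {Ω : Type u} [Field Ω] [IsSepClosed Ω]
    (ξ : Spec (CommRingCat.of Ω) ⟶ X) (h : ξ.base default ∈ Set.range j.base) :
    IsIso ((stk (A := AddCommGrpCat.{u + 1}) ξ).map ((EtShriek.extZeroAdj j).counit.app G)) := by
  obtain ⟨y, hy⟩ := h
  obtain ⟨l, hl, -⟩ := Scheme.exists_fac_of_etale_of_isSepClosed j ξ y hy
  haveI := isIso_inclStalk j ((EtShriek.restrAlong j).obj G) ξ ⟨l, hl⟩
  haveI : IsIso (inclStalk j ((EtShriek.restrAlong j).obj G) ξ ⟨l, hl⟩ ≫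
      (stk (A := AddCommGrpCat.{u + 1}) ξ).map ((EtShriek.extZeroAdj j).counit.app G)) :=
    isIso_restrStalk j G ξ ⟨l, hl⟩
  exact IsIso.of_isIso_comp_left (inclStalk j ((EtShriek.restrAlong j).obj G) ξ ⟨l, hl⟩) _

theorem mono_extZero_map {F G : EtCoh.Ab U} (α : F ⟶ G) [Mono α] : Mono ((EtShriek.extZero j).map α) := by
  refine (mono_iff_stalks (A := AddCommGrpCat.{u + 1}) _).2 fun Ω _ _ ξ => ?_
  have hF := stalkExtColimit j F ξ
  have hG := stalkExtColimit j G ξ
  let t : Discrete.functor (fun u : {u : Spec (CommRingCat.of Ω) ⟶ U // u ≫ j = ξ} =>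
      (stk (A := AddCommGrpCat.{u + 1}) u.1).obj F) ⟶ Discrete.functor (fun u : {u : Spec (CommRingCat.of Ω) ⟶ U // u ≫ j = ξ} =>
      (stk (A := AddCommGrpCat.{u + 1}) u.1).obj G) :=
    Discrete.natTrans fun u => (stk (A := AddCommGrpCat.{u + 1}) u.as.1).map α
  haveI : ∀ u, Mono (t.app u) := fun u => inferInstanceAs (Mono ((stk (A := AddCommGrpCat.{u + 1}) u.as.1).map α))
  haveI : Mono t := NatTrans.mono_of_mono_app _
  haveI : HasExactColimitsOfShape (Discrete {u : Spec (CommRingCat.of Ω) ⟶ U // u ≫ j = ξ}) AddCommGrpCat.{u + 1} :=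
    HasExactColimitsOfShape.of_domain_equivalence _ (Discrete.equivalence (Equiv.ulift.{u + 1}))
  haveI : PreservesFiniteLimits (colim (J := Discrete {u : Spec (CommRingCat.of Ω) ⟶ U // u ≫ j = ξ})
      (C := AddCommGrpCat.{u + 1})) := HasExactColimitsOfShape.preservesFiniteLimits
  haveI : Mono (colim.map t) := inferInstance
  have e : colim.map t ≫ (colimit.isoColimitCocone ⟨_, hG⟩).hom =
      (colimit.isoColimitCocone ⟨_, hF⟩).hom ≫
        (stk (A := AddCommGrpCat.{u + 1}) ξ).map ((EtShriek.extZero j).map α) := by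
    apply colimit.hom_ext
    intro u
    show colimit.ι _ u ≫ colimMap t ≫ _ = colimit.ι _ u ≫ _ ≫ _
    rw [← Category.assoc, ι_colimMap, Category.assoc, colimit.isoColimitCocone_ι_hom, ← Category.assoc,
      colimit.isoColimitCocone_ι_hom]
    exact (inclStalk_natural j α ξ u.as).symm
  haveI : Mono ((colimit.isoColimitCocone ⟨_, hF⟩).hom ≫
      (stk (A := AddCommGrpCat.{u + 1}) ξ).map ((EtShriek.extZero j).map α)) := by
    rw [← e]
    exact mono_comp _ _
  have := mono_comp (colimit.isoColimitCocone ⟨_, hF⟩).inv ((colimit.isoColimitCocone ⟨_, hF⟩).hom ≫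
    (stk (A := AddCommGrpCat.{u + 1}) ξ).map ((EtShriek.extZero j).map α))
  rwa [Iso.inv_hom_id_assoc] at this

theorem preservesFiniteLimits_extZero : PreservesFiniteLimits (EtShriek.extZero j) := by
  haveI : (EtShriek.restrAlong j).Additive := { }
  haveI : (EtShriek.extZero j).Additive := (EtShriek.extZeroAdj j).left_adjoint_additive
  haveI : (EtShriek.extZero j).IsLeftAdjoint := (EtShriek.extZeroAdj j).isLeftAdjoint
  haveI : PreservesFiniteColimits (EtShriek.extZero j) := inferInstance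
  haveI : (EtShriek.extZero j).PreservesMonomorphisms := ⟨fun α _ => mono_extZero_map j α⟩
  haveI : (EtShriek.extZero j).PreservesHomology := Functor.preservesHomology_of_preservesMonos_and_cokernels _
  exact Functor.preservesFiniteLimits_of_preservesHomology _

end Groth.Agent.EtShLib

namespace Groth.Agent.EtShLib

theorem nonempty_iso_extZero {U X : Scheme.{u}} (j : U ⟶ X) [IsOpenImmersion j]
    [AlgebraicGeometry.Etale j] [EtShriek.JCont j] (F : EtCoh.Ab U) (G : EtCoh.Ab X)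
    (e : (EtShriek.restrAlong j).obj G ≅ F)
    (hzero : ∀ (Ω : Type u) [Field Ω] [IsSepClosed Ω] (ξ : Spec (CommRingCat.of Ω) ⟶ X),
      Set.range ξ.base ⊆ (Set.range j.base)ᶜ → IsZero ((EtCoh.stalk ξ).obj G)) :
    Nonempty (G ≅ (EtShriek.extZero j).obj F) := by
  let c := (EtShriek.extZeroAdj j).counit.app G
  haveI : IsIso c := isIso_of_stalks (A := AddCommGrpCat.{u + 1}) c fun Ω _ _ ξ => by
    by_cases h : ξ.base default ∈ Set.range j.base
    · exact isIso_counit_stalk j G ξ h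
    · exact isIso_of_source_target_iso_zero ((stk (A := AddCommGrpCat.{u + 1}) ξ).map c)
        (isZero_stalk_extZero j _ ξ h).isoZero
        ((hzero Ω ξ (by rintro _ ⟨a, rfl⟩; rw [Subsingleton.elim a default]; exact h) : IsZero
          ((stk (A := AddCommGrpCat.{u + 1}) ξ).obj G))).isoZero
  exact ⟨(asIso c).symm ≪≫ (EtShriek.extZero j).mapIso e⟩

theorem shortExact_recollement {Z X : Scheme.{u}} (i : Z ⟶ X) [IsClosedImmersion i]
    (U : X.Opens) (hU : (U : Set X) = (Set.range i.base)ᶜ) [AlgebraicGeometry.Etale U.ι] [EtShriek.JCont U.ι]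
    (F : EtCoh.Ab X) :
    ∃ w : (EtShriek.extZeroAdj U.ι).counit.app F ≫ (EtCoh.pullPushAdj i).unit.app F = 0,
      (ShortComplex.mk _ _ w).ShortExact := by
  have hr : Set.range U.ι.base = (Set.range i.base)ᶜ := (Scheme.Opens.range_ι U).trans hU
  have hin : ∀ {Ω : Type u} [Field Ω] [IsSepClosed Ω] (ξ : Spec (CommRingCat.of Ω) ⟶ X),
      ξ.base default ∈ Set.range i.base ∨ ξ.base default ∈ Set.range U.ι.base := fun ξ => by
    rw [hr]; exact Classical.em _
  have hd : ∀ {Ω : Type u} [Field Ω] [IsSepClosed Ω] (ξ : Spec (CommRingCat.of Ω) ⟶ X),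
      ξ.base default ∈ Set.range i.base → ξ.base default ∉ Set.range U.ι.base := fun ξ h h' => by
    rw [hr] at h'; exact h' h
  let a := (EtShriek.extZeroAdj U.ι).counit.app F
  let b := (EtCoh.pullPushAdj i).unit.app F
  have hb0 : ∀ {Ω : Type u} [Field Ω] [IsSepClosed Ω] (ξ : Spec (CommRingCat.of Ω) ⟶ X),
      ξ.base default ∈ Set.range U.ι.base →
      IsZero ((stk (A := AddCommGrpCat.{u + 1}) ξ).obj ((EtCoh.push i).obj ((EtCoh.pull i).obj F))) := fun ξ h => by
    haveI := subsingleton_push_stalk i ((EtCoh.pull i).obj F) ξ fun h' => hd ξ h' h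
    exact AddCommGrpCat.isZero_of_subsingleton _
  have hbi : ∀ {Ω : Type u} [Field Ω] [IsSepClosed Ω] (ξ : Spec (CommRingCat.of Ω) ⟶ X),
      ξ.base default ∈ Set.range i.base → IsIso ((stk (A := AddCommGrpCat.{u + 1}) ξ).map b) := by
    intro Ω _ _ ξ h
    obtain ⟨ζ, rfl⟩ := exists_factor i ξ h
    haveI := isIso_compare (A := AddCommGrpCat.{u + 1}) i ζ (refines_of_closedImmersion i ζ) ((EtCoh.pull i).obj F)
    have e : (stk (ζ ≫ i)).map b ≫ compare i ζ ((EtCoh.pull i).obj F) =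
        (stalkPull i ζ AddCommGrpCat.{u + 1}).hom.app F := by
      apply stk_hom_ext
      intro V v
      rw [← Category.assoc, germ_natural, Category.assoc]
      exact (congrArg (_ ≫ ·) (germ_compare i ζ _ V v)).trans (germ_stalkPull i ζ _ F V v).symm
    haveI : IsIso ((stk (ζ ≫ i)).map b ≫ compare i ζ ((EtCoh.pull i).obj F)) := by rw [e]; infer_instance
    exact IsIso.of_isIso_comp_right _ (compare i ζ ((EtCoh.pull i).obj F))
  have w : a ≫ b = 0 := by
    apply ((EtShriek.extZeroAdj U.ι).homEquiv _ _).injective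
    apply Sheaf.hom_ext
    ext V : 2
    haveI : IsEmpty ((EtCoh.bc i).obj ((EtShriek.compEtale U.ι).obj V.unop)).left := ⟨fun p => by
      have h1 : U.ι.base (V.unop.hom.base ((pullback.fst (V.unop.hom ≫ U.ι) i).base p)) =
          i.base ((pullback.snd (V.unop.hom ≫ U.ι) i).base p) :=
        congrArg (fun t : pullback (V.unop.hom ≫ U.ι) i ⟶ X => t.base p) pullback.condition
      have h2 : U.ι.base (V.unop.hom.base ((pullback.fst (V.unop.hom ≫ U.ι) i).base p)) ∈ Set.range U.ι.base := ⟨_, rfl⟩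
      rw [hr] at h2
      exact h2 ⟨_, h1.symm⟩⟩
    haveI := subsingleton_sect_of_isEmpty ((EtCoh.pull i).obj F)
      ((EtCoh.bc i).obj ((EtShriek.compEtale U.ι).obj V.unop))
    ext s
    exact Subsingleton.elim (α := ((EtCoh.pull i).obj F).obj.obj
      (op ((EtCoh.bc i).obj ((EtShriek.compEtale U.ι).obj V.unop)))) _ _
  refine ⟨w, { exact := (exact_iff_stalks (A := AddCommGrpCat.{u + 1}) _).2 fun Ω _ _ ξ => ?_
               mono_f := (mono_iff_stalks (A := AddCommGrpCat.{u + 1}) _).2 fun Ω _ _ ξ => ?_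
               epi_g := (epi_iff_stalks (A := AddCommGrpCat.{u + 1}) _).2 fun Ω _ _ ξ => ?_ }⟩
  · rcases hin ξ with h | h
    · haveI := hbi ξ h
      refine (ShortComplex.exact_iff_mono _ ?_).2 (inferInstanceAs (Mono ((stk (A := AddCommGrpCat.{u + 1}) ξ).map b)))
      exact (isZero_stalk_extZero U.ι _ ξ (hd ξ h)).eq_of_src _ _
    · haveI := isIso_counit_stalk U.ι F ξ h
      refine (ShortComplex.exact_iff_epi _ ?_).2 (inferInstanceAs (Epi ((stk (A := AddCommGrpCat.{u + 1}) ξ).map a)))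
      exact (hb0 ξ h).eq_of_tgt _ _
  · rcases hin ξ with h | h
    · exact ⟨fun g g' _ => (isZero_stalk_extZero U.ι _ ξ (hd ξ h)).eq_of_tgt g g'⟩
    · haveI := isIso_counit_stalk U.ι F ξ h
      exact inferInstanceAs (Mono ((stk (A := AddCommGrpCat.{u + 1}) ξ).map a))
  · rcases hin ξ with h | h
    · haveI := hbi ξ h
      exact inferInstanceAs (Epi ((stk (A := AddCommGrpCat.{u + 1}) ξ).map b))
    · exact ⟨fun g g' _ => (hb0 ξ h).eq_of_src g g'⟩

end Groth.Agent.EtShLib
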