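import Groth.Agent.EtShLib.Split
import Groth.Agent.EtShLib.Shriek
import Mathlib.AlgebraicGeometry.Morphisms.FlatMono
import Mathlib.AlgebraicGeometry.Morphisms.Finite

/-! The comparison from extension by zero to direct image. -/

set_option autoImplicit false
set_option linter.unusedSectionVars false
set_option linter.style.haveILetI false
set_option backward.isDefEq.respectTransparency false
set_option backward.isDefEq.respectTransparency.types false
set_option synthInstance.maxHeartbeats 400000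
set_option maxHeartbeats 1000000

universe u

open CategoryTheory CategoryTheory.Limits AlgebraicGeometry Opposite

namespace Groth.Agent.EtShLib

section Glue

variable {X : Scheme.{u}}

theorem exists_glue (F : EtCoh.Ab X) {V : X.Etale} {A B : X.Etale} (a : A ⟶ V) (b : B ⟶ V) [IsOpenImmersion a.left]
    [IsOpenImmersion b.left] (hd : Disjoint (Set.range a.left.base) (Set.range b.left.base))
    (hc : Set.range a.left.base ∪ Set.range b.left.base = Set.univ) (s : F.obj.obj (op A)) :
    ∃ t : F.obj.obj (op V), F.obj.map a.op t = s ∧ F.obj.map b.op t = 0 := by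
  let W : Bool → X.Etale := fun i => Bool.rec (motive := fun _ => X.Etale) B A i
  let π : ∀ i, W i ⟶ V := fun i => Bool.rec (motive := fun i => W i ⟶ V) b a i
  let x : ∀ i, (F.obj ⋙ forget AddCommGrpCat.{u + 1}).obj (op (W i)) := fun i =>
    Bool.rec (motive := fun i => (F.obj ⋙ forget AddCommGrpCat.{u + 1}).obj (op (W i))) (0 : F.obj.obj (op B)) s i
  have hmem : Sieve.ofArrows W π ∈ X.smallEtaleTopology V := by
    rw [Scheme.ofArrows_mem_smallEtaleTopology_iff]
    refine Set.eq_univ_of_forall fun y => ?_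
    rcases hc.ge (Set.mem_univ y) with h | h
    · exact Set.mem_iUnion.2 ⟨true, h⟩
    · exact Set.mem_iUnion.2 ⟨false, h⟩
  have hsh : (Presieve.ofArrows W π).IsSheafFor (F.obj ⋙ forget AddCommGrpCat.{u + 1}) := by
    rw [Presieve.isSheafFor_iff_generate]
    exact ((isSheaf_iff_isSheaf_of_type _ _).1
      (GrothendieckTopology.HasSheafCompose.isSheaf F.obj F.property)) _ hmem
  have hempty : ∀ {Z : X.Etale} (p : Z ⟶ A) (q : Z ⟶ B), p ≫ a = q ≫ b → Subsingleton (F.obj.obj (op Z)) := by
    intro Z p q h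
    haveI : IsEmpty Z.left := ⟨fun z => Set.disjoint_left.1 hd ⟨p.left.base z, rfl⟩
      ⟨q.left.base z, (congrArg (fun t : Z ⟶ V => t.left.base z) h).symm⟩⟩
    exact subsingleton_sect_of_isEmpty F Z
  have hmono : ∀ {Z C : X.Etale} (c : C ⟶ V) [IsOpenImmersion c.left] (p q : Z ⟶ C), p ≫ c = q ≫ c → p = q :=
    fun c _ p q h => MorphismProperty.Over.Hom.ext ((cancel_mono c.left).1 (congrArg (fun t => t.left) h))
  obtain ⟨t, ht, -⟩ := (Presieve.isSheafFor_arrows_iff _ _).1 hsh x (fun i j Z p q h => by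
    cases i <;> cases j
    · obtain rfl := hmono b p q h
      rfl
    · haveI := hempty q p h.symm
      exact Subsingleton.elim (α := F.obj.obj (op Z)) _ _
    · haveI := hempty p q h
      exact Subsingleton.elim (α := F.obj.obj (op Z)) _ _
    · obtain rfl := hmono a p q h
      rfl)
  exact ⟨t, ht true, ht false⟩

end Glue

variable {U X : Scheme.{u}} (j : U ⟶ X) [AlgebraicGeometry.Etale j]

/-- The graph of `V → U` in `V ×_X U`. -/
noncomputable def graphHom (V : U.Etale) : V ⟶ (EtCoh.bc j).obj ((EtShriek.compEtale j).obj V) :=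
  MorphismProperty.Over.homMk (pullback.lift (𝟙 V.left) V.hom (Category.id_comp _)) (pullback.lift_snd _ _ _)

theorem isOpenImmersion_graph (V : U.Etale) : IsOpenImmersion (graphHom j V).left := by
  haveI := etale_left (graphHom j V)
  haveI : IsIso ((graphHom j V).left ≫ pullback.fst (V.hom ≫ j) j) := by
    rw [show (graphHom j V).left ≫ pullback.fst (V.hom ≫ j) j = 𝟙 _ from pullback.lift_fst _ _ _]
    infer_instance
  haveI : Mono (graphHom j V).left := ⟨fun a b e => by
    have h1 := congrArg (· ≫ pullback.fst (V.hom ≫ j) j) e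
    simp only [Category.assoc, graphHom] at h1
    simpa using h1⟩
  exact IsOpenImmersion.of_flat_of_mono _

theorem isClosedImmersion_graph [IsSeparated j] (V : U.Etale) : IsClosedImmersion (graphHom j V).left := by
  haveI : IsClosedImmersion ((graphHom j V).left ≫ pullback.fst (V.hom ≫ j) j) := by
    rw [show (graphHom j V).left ≫ pullback.fst (V.hom ≫ j) j = 𝟙 _ from pullback.lift_fst _ _ _]
    infer_instance
  exact IsClosedImmersion.of_comp (graphHom j V).left (pullback.fst (V.hom ≫ j) j)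

theorem mem_range_graph {V : U.Etale} {Ω : Type u} [Field Ω] [IsSepClosed Ω] {ξ : Spec (CommRingCat.of Ω) ⟶ U}
    (z : Fib ξ ((EtCoh.bc j).obj ((EtShriek.compEtale j).obj V)))
    (h : z.pt ∈ Set.range (graphHom j V).left.base) :
    ∃ v : Fib ξ V, v.map (graphHom j V) = z := by
  haveI := isOpenImmersion_graph j V
  have hr : Set.range z.hom.base ⊆ Set.range (graphHom j V).left.base := by
    rintro _ ⟨a, rfl⟩
    rw [Subsingleton.elim a default]
    exact h
  refine ⟨Fib.mk (IsOpenImmersion.lift (graphHom j V).left z.hom hr) ?_, Fib.ext (IsOpenImmersion.lift_fac _ _ _)⟩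
  rw [← MorphismProperty.Over.w (graphHom j V), ← Category.assoc, IsOpenImmersion.lift_fac]
  exact z.w

variable [IsSeparated j] (F : EtCoh.Ab U)

/-- `t` is `s` on the graph and zero elsewhere. -/
def IsExt (V : U.Etale) (s : F.obj.obj (op V))
    (t : F.obj.obj (op ((EtCoh.bc j).obj ((EtShriek.compEtale j).obj V)))) : Prop :=
  F.obj.map (graphHom j V).op t = s ∧
    ∀ (Ω : Type u) [Field Ω] [IsSepClosed Ω] (ξ : Spec (CommRingCat.of Ω) ⟶ U)
      (z : Fib ξ ((EtCoh.bc j).obj ((EtShriek.compEtale j).obj V))),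
      z.pt ∉ Set.range (graphHom j V).left.base → germ (A := AddCommGrpCat.{u + 1}) ξ F _ z t = 0

theorem existsUnique_ext (V : U.Etale) (s : F.obj.obj (op V)) : ∃! t, IsExt j F V s t := by
  haveI := isOpenImmersion_graph j V
  haveI := isClosedImmersion_graph j V
  let P := (EtCoh.bc j).obj ((EtShriek.compEtale j).obj V)
  let O : P.left.Opens := ⟨(Set.range (graphHom j V).left.base)ᶜ,
    (graphHom j V).left.isClosedEmbedding.isClosed_range.isOpen_compl⟩
  haveI : AlgebraicGeometry.Etale P.hom := P.prop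
  let B : U.Etale := MorphismProperty.Over.mk ⊤ (O.ι ≫ P.hom) (inferInstance : AlgebraicGeometry.Etale (O.ι ≫ P.hom))
  let b : B ⟶ P := MorphismProperty.Over.homMk O.ι rfl
  haveI : IsOpenImmersion b.left := inferInstanceAs (IsOpenImmersion O.ι)
  have hb : Set.range b.left.base = (Set.range (graphHom j V).left.base)ᶜ := Scheme.Opens.range_ι O
  obtain ⟨t, ht, ht'⟩ := exists_glue F (graphHom j V) b (by rw [hb]; exact disjoint_compl_right)
    (by rw [hb]; exact Set.union_compl_self _) s
  have hext : IsExt j F V s t := by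
    refine ⟨ht, fun Ω _ _ ξ z hz => ?_⟩
    have hr : Set.range z.hom.base ⊆ Set.range b.left.base := by
      rintro _ ⟨a, rfl⟩
      rw [hb, Subsingleton.elim a default]
      exact hz
    let w : Fib ξ B := Fib.mk (IsOpenImmersion.lift b.left z.hom hr) (by
      show _ ≫ O.ι ≫ P.hom = ξ
      rw [← Category.assoc]
      exact (congrArg (· ≫ P.hom) (IsOpenImmersion.lift_fac b.left z.hom hr)).trans z.w)
    rw [show z = w.map b from Fib.ext (IsOpenImmersion.lift_fac b.left z.hom hr).symm, ← germ_res_apply, ht', map_zero]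
  refine ⟨t, hext, fun t' ht'' => eq_of_germ (A := AddCommGrpCat.{u + 1}) F t' t fun Ω _ _ ξ z => ?_⟩
  by_cases hz : z.pt ∈ Set.range (graphHom j V).left.base
  · obtain ⟨v, rfl⟩ := mem_range_graph j z hz
    rw [← germ_res_apply, ← germ_res_apply, ht''.1, ht]
  · rw [ht''.2 Ω ξ z hz, hext.2 Ω ξ z hz]

/-- Extension by zero off the graph. -/
noncomputable def extSec (V : U.Etale) :
    F.obj.obj (op V) →+ F.obj.obj (op ((EtCoh.bc j).obj ((EtShriek.compEtale j).obj V))) :=
  AddMonoidHom.mk' (fun s => (existsUnique_ext j F V s).choose) fun s t => by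
    refine ((existsUnique_ext j F V (s + t)).choose_spec.2 _ ⟨?_, fun Ω _ _ ξ z hz => ?_⟩).symm
    · rw [map_add, (existsUnique_ext j F V s).choose_spec.1.1, (existsUnique_ext j F V t).choose_spec.1.1]
    · rw [map_add, (existsUnique_ext j F V s).choose_spec.1.2 Ω ξ z hz,
        (existsUnique_ext j F V t).choose_spec.1.2 Ω ξ z hz, add_zero]

theorem extSec_spec (V : U.Etale) (s : F.obj.obj (op V)) : IsExt j F V s (extSec j F V s) :=
  (existsUnique_ext j F V s).choose_spec.1

theorem extSec_eq (V : U.Etale) (s : F.obj.obj (op V)) {t} (ht : IsExt j F V s t) : extSec j F V s = t :=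
  ((existsUnique_ext j F V s).choose_spec.2 t ht).symm

variable [EtShriek.JCont j]

/-- The restriction of the direct image receives `F`. -/
noncomputable def toRestrPush : F ⟶ (EtShriek.restrAlong j).obj ((EtCoh.push j).obj F) :=
  ObjectProperty.homMk
    { app := fun V => AddCommGrpCat.ofHom (extSec j F V.unop)
      naturality := fun V V' g => by
        let φ : V'.unop ⟶ V.unop := g.unop
        let m := (EtCoh.bc j).map ((EtShriek.compEtale j).map φ)
        have hm : graphHom j V'.unop ≫ m = φ ≫ graphHom j V.unop := by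
          apply MorphismProperty.Over.Hom.ext
          apply pullback.hom_ext
          · show (((graphHom j V'.unop).left ≫ m.left) ≫ pullback.fst _ _) = (φ.left ≫ _) ≫ pullback.fst _ _
            rw [Category.assoc, Category.assoc, (EtCoh.isPullback_bc_map j ((EtShriek.compEtale j).map φ)).w]
            exact ((Category.assoc _ _ _).symm.trans ((congrArg (· ≫ φ.left) (pullback.lift_fst _ _ _)).trans
              (Category.id_comp _))).trans
                ((Category.comp_id _).symm.trans (congrArg (φ.left ≫ ·) (pullback.lift_fst _ _ _).symm))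
          · have h1 := MorphismProperty.Over.w (graphHom j V'.unop ≫ m)
            have h2 := MorphismProperty.Over.w (φ ≫ graphHom j V.unop)
            exact h1.trans h2.symm
        ext s
        show extSec j F V'.unop (F.obj.map g s) = F.obj.map m.op (extSec j F V.unop s)
        refine extSec_eq j F V'.unop _ ⟨?_, fun Ω _ _ ξ z hz => ?_⟩
        · rw [← ConcreteCategory.comp_apply, ← Functor.map_comp, ← op_comp, hm, op_comp, Functor.map_comp,
            ConcreteCategory.comp_apply, (extSec_spec j F V.unop s).1]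
          rfl
        · rw [germ_res_apply]
          refine (extSec_spec j F V.unop s).2 Ω ξ _ fun hmem => hz ?_
          obtain ⟨v, hv⟩ := mem_range_graph j _ hmem
          have e1 : z.hom ≫ pullback.fst (V'.unop.hom ≫ j) j ≫ φ.left = v.hom := by
            have h1 := congrArg (fun t => t.hom ≫ pullback.fst (V.unop.hom ≫ j) j) hv
            simp only [Fib.map_hom, Category.assoc, graphHom, pullback.lift_fst] at h1
            rw [show m.left ≫ pullback.fst (V.unop.hom ≫ j) j = pullback.fst (V'.unop.hom ≫ j) j ≫ φ.left from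
              (EtCoh.isPullback_bc_map j ((EtShriek.compEtale j).map φ)).w] at h1
            exact h1.symm.trans (by simp)
          let v' : Fib ξ V'.unop := Fib.mk (z.hom ≫ pullback.fst (V'.unop.hom ≫ j) j) (by
            exact (congrArg (_ ≫ ·) (show φ.left ≫ V.unop.hom = V'.unop.hom from MorphismProperty.Over.w φ).symm).trans
              (((Category.assoc _ _ _).symm.trans (congrArg (· ≫ V.unop.hom) ((Category.assoc _ _ _).trans e1))).trans v.w))
          refine ⟨v'.pt, congrArg (fun t : Fib ξ _ => t.pt) (?_ : v'.map (graphHom j V'.unop) = z)⟩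
          refine Fib.ext (pullback.hom_ext ?_ ?_)
          · rw [Fib.map_hom, Category.assoc]
            exact (congrArg (v'.hom ≫ ·) (pullback.lift_fst _ _ _)).trans (Category.comp_id _)
          · rw [Fib.map_hom, Category.assoc]
            exact ((congrArg (v'.hom ≫ ·) (pullback.lift_snd _ _ _)).trans v'.w).trans z.w.symm }

/-- `j_! F → j_* F`. -/
noncomputable def shriekToPush : (EtShriek.extZero j).obj F ⟶ (EtCoh.push j).obj F :=
  ((EtShriek.extZeroAdj j).homEquiv _ _).symm (toRestrPush j F)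

theorem shriekToPush_natural {G : EtCoh.Ab U} (α : F ⟶ G) :
    (EtShriek.extZero j).map α ≫ shriekToPush j G = shriekToPush j F ≫ (EtCoh.push j).map α := by
  rw [shriekToPush, shriekToPush, ← Adjunction.homEquiv_naturality_left_symm,
    ← Adjunction.homEquiv_naturality_right_symm]
  refine congrArg _ (Sheaf.hom_ext ?_)
  ext V : 2
  ext s
  show extSec j G V.unop (α.hom.app V s) = α.hom.app _ (extSec j F V.unop s)
  refine extSec_eq j G V.unop _ ⟨?_, fun Ω _ _ ξ z hz => ?_⟩
  · exact (congrArg (fun t : F.obj.obj _ ⟶ G.obj.obj V => t (extSec j F V.unop s))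
      (α.hom.naturality (graphHom j V.unop).op)).symm.trans (congrArg (α.hom.app V) (extSec_spec j F V.unop s).1)
  · rw [← germ_natural_apply, (extSec_spec j F V.unop s).2 Ω ξ z hz, map_zero]

/-- The projection of the stalk of `j_* F` to the stalk at a lift. -/
noncomputable def compareAt {Ω : Type u} [Field Ω] [IsSepClosed Ω] (ξ : Spec (CommRingCat.of Ω) ⟶ X)
    (u : {u : Spec (CommRingCat.of Ω) ⟶ U // u ≫ j = ξ}) :
    (stk (A := AddCommGrpCat.{u + 1}) ξ).obj ((EtCoh.push j).obj F) ⟶ (stk (A := AddCommGrpCat.{u + 1}) u.1).obj F :=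
  eqToHom (congrArg (fun t => (stk (A := AddCommGrpCat.{u + 1}) t).obj ((EtCoh.push j).obj F)) u.2.symm) ≫
    compare (A := AddCommGrpCat.{u + 1}) j u.1 F

theorem germ_incl_push {Ω : Type u} [Field Ω] [IsSepClosed Ω] (u₀ : Spec (CommRingCat.of Ω) ⟶ U)
    (u : {u : Spec (CommRingCat.of Ω) ⟶ U // u ≫ j = u₀ ≫ j}) (V : U.Etale) (v : Fib u.1 V) (s : F.obj.obj (op V)) :
    compare (A := AddCommGrpCat.{u + 1}) j u₀ F ((stk (A := AddCommGrpCat.{u + 1}) (u₀ ≫ j)).map (shriekToPush j F)
      (inclStalk j F (u₀ ≫ j) u (germ u.1 F V v s))) =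
    germ (A := AddCommGrpCat.{u + 1}) u₀ F _ (Fib.lift j u₀ ((fibComp j u).app V v)) (extSec j F V s) := by
  have hτ : ((EtShriek.extZeroAdj j).unit.app F).hom.app (op V) ≫
      (shriekToPush j F).hom.app (op ((EtShriek.compEtale j).obj V)) = (toRestrPush j F).hom.app (op V) := by
    refine congrArg (fun t : F ⟶ _ => t.hom.app (op V)) (?_ : (EtShriek.extZeroAdj j).unit.app F ≫
      (EtShriek.restrAlong j).map (shriekToPush j F) = toRestrPush j F)
    exact ((EtShriek.extZeroAdj j).homEquiv_unit (f := shriekToPush j F)).symm.trans (Equiv.apply_symm_apply _ _)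
  have e : germ u.1 F V v ≫ inclStalk j F (u₀ ≫ j) u ≫
      (stk (A := AddCommGrpCat.{u + 1}) (u₀ ≫ j)).map (shriekToPush j F) ≫ compare (A := AddCommGrpCat.{u + 1}) j u₀ F =
      (toRestrPush j F).hom.app (op V) ≫ germ (A := AddCommGrpCat.{u + 1}) u₀ F _ (Fib.lift j u₀ ((fibComp j u).app V v)) := by
    refine (Category.assoc _ _ _).symm.trans ((congrArg (· ≫ _) (germ_inclStalk j F (u₀ ≫ j) u V v)).trans
      ((Category.assoc _ _ _).trans ?_))
    refine (congrArg (_ ≫ ·) ((Category.assoc _ _ _).symm.trans ((congrArg (· ≫ _) (germ_natural _ _ _ _)).trans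
      ((Category.assoc _ _ _).trans (congrArg (_ ≫ ·) (germ_compare j u₀ F _ _)))))).trans ?_
    exact (Category.assoc _ _ _).symm.trans (congrArg (· ≫ _) hτ)
  exact congrArg (fun t : F.obj.obj (op V) ⟶ (stk (A := AddCommGrpCat.{u + 1}) u₀).obj F => t s) e

theorem inclStalk_compareAt {Ω : Type u} [Field Ω] [IsSepClosed Ω] (ξ : Spec (CommRingCat.of Ω) ⟶ X)
    (u : {u : Spec (CommRingCat.of Ω) ⟶ U // u ≫ j = ξ}) :
    inclStalk j F ξ u ≫ (stk (A := AddCommGrpCat.{u + 1}) ξ).map (shriekToPush j F) ≫ compareAt j F ξ u = 𝟙 _ ∧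
    ∀ u', u' ≠ u →
      inclStalk j F ξ u' ≫ (stk (A := AddCommGrpCat.{u + 1}) ξ).map (shriekToPush j F) ≫ compareAt j F ξ u = 0 := by
  obtain ⟨u₀, rfl⟩ := u
  have key : ∀ (u' : {u : Spec (CommRingCat.of Ω) ⟶ U // u ≫ j = u₀ ≫ j}) (V : U.Etale) (v : Fib u'.1 V)
      (s : F.obj.obj (op V)), (inclStalk j F (u₀ ≫ j) u' ≫ (stk (A := AddCommGrpCat.{u + 1}) (u₀ ≫ j)).map
        (shriekToPush j F) ≫ compareAt j F (u₀ ≫ j) ⟨u₀, rfl⟩) (germ u'.1 F V v s) =
      germ (A := AddCommGrpCat.{u + 1}) u₀ F _ (Fib.lift j u₀ ((fibComp j u').app V v)) (extSec j F V s) := fun u' V v s => by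
    rw [show compareAt j F (u₀ ≫ j) ⟨u₀, rfl⟩ = compare (A := AddCommGrpCat.{u + 1}) j u₀ F from Category.id_comp _]
    exact germ_incl_push j F u₀ u' V v s
  refine ⟨stk_hom_ext (A := AddCommGrpCat.{u + 1}) u₀ fun V v => ?_, fun u' hne =>
    stk_hom_ext (A := AddCommGrpCat.{u + 1}) u'.1 fun V v => ?_⟩
  · ext s
    refine (key ⟨u₀, rfl⟩ V v s).trans ?_
    have hz : Fib.lift j u₀ ((fibComp j (ξ := u₀ ≫ j) ⟨u₀, rfl⟩).app V v) = v.map (graphHom j V) := by
      refine Fib.ext (pullback.hom_ext ?_ ?_)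
      · exact (pullback.lift_fst _ _ _).trans ((Category.comp_id _).symm.trans
          ((congrArg (v.hom ≫ ·) (pullback.lift_fst (𝟙 V.left) V.hom (Category.id_comp _)).symm).trans
            (Category.assoc _ _ _).symm))
      · exact (pullback.lift_snd _ _ _).trans (v.w.symm.trans
          ((congrArg (v.hom ≫ ·) (pullback.lift_snd (𝟙 V.left) V.hom (Category.id_comp _)).symm).trans
            (Category.assoc _ _ _).symm))
    rw [hz, ← germ_res_apply, (extSec_spec j F V s).1]
    rfl
  · ext s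
    refine (key u' V v s).trans ?_
    refine ((extSec_spec j F V s).2 Ω u₀ _ fun hmem => hne (Subtype.ext ?_)).trans ?_
    · obtain ⟨w, hw⟩ := mem_range_graph j _ hmem
      have h1 := congrArg (fun t => t.hom ≫ pullback.fst (V.hom ≫ j) j) hw
      simp only [Fib.map_hom, Category.assoc, graphHom] at h1
      have hwv : w.hom = v.hom := (Category.comp_id _).symm.trans
        ((congrArg (w.hom ≫ ·) (pullback.lift_fst (f := V.hom ≫ j) (g := j) (𝟙 V.left) V.hom (Category.id_comp _)).symm).trans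
          (h1.trans (pullback.lift_fst _ _ _)))
      show u'.1 = u₀
      exact v.w.symm.trans ((congrArg (· ≫ V.hom) hwv.symm).trans w.w)
    · rw [comp_zero]; rfl

theorem mono_shriekToPush : Mono (shriekToPush j F) := by
  classical
  refine (mono_iff_stalks (A := AddCommGrpCat.{u + 1}) _).2 fun Ω _ _ ξ => ?_
  rw [AddCommGrpCat.mono_iff_injective]
  refine (injective_iff_map_eq_zero _).2 fun p hp => ?_
  let L := {u : Spec (CommRingCat.of Ω) ⟶ U // u ≫ j = ξ}
  have hspan : ∃ (s : Finset L) (a : ∀ u : L, (stk (A := AddCommGrpCat.{u + 1}) u.1).obj F),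
      ∑ u ∈ s, inclStalk j F ξ u (a u) = p := by
    let N : AddSubgroup ((stk (A := AddCommGrpCat.{u + 1}) ξ).obj ((EtShriek.extZero j).obj F)) :=
      ⨆ u : L, (inclStalk j F ξ u).hom.range
    have hN : N = ⊤ := by
      have e : AddCommGrpCat.ofHom (QuotientAddGroup.mk' N) = 0 := (stalkExtColimit j F ξ).hom_ext fun ⟨u⟩ => by
        ext a
        exact (QuotientAddGroup.eq_zero_iff _).2 (le_iSup (fun u : L => (inclStalk j F ξ u).hom.range) u ⟨a, rfl⟩)
      exact eq_top_iff.2 fun q _ => (QuotientAddGroup.eq_zero_iff q).1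
        (congrArg (fun t : (stk (A := AddCommGrpCat.{u + 1}) ξ).obj ((EtShriek.extZero j).obj F) ⟶
          AddCommGrpCat.of (_ ⧸ N) => t q) e)
    refine AddSubgroup.iSup_induction (C := fun q => ∃ (s : Finset L) (a : ∀ u : L, (stk (A := AddCommGrpCat.{u + 1}) u.1).obj F),
      ∑ u ∈ s, inclStalk j F ξ u (a u) = q) _ (hN.ge trivial : p ∈ N) ?_ ⟨∅, fun _ => 0, Finset.sum_empty⟩ ?_
    · rintro u _ ⟨x, rfl⟩
      refine ⟨{u}, Function.update (fun _ => 0) u x, ?_⟩
      rw [Finset.sum_singleton, Function.update_self]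
    · rintro _ _ ⟨s, a, rfl⟩ ⟨t, b, rfl⟩
      refine ⟨s ∪ t, fun u => (if u ∈ s then a u else 0) + (if u ∈ t then b u else 0), ?_⟩
      simp only [map_add, apply_ite (inclStalk j F ξ _), map_zero, Finset.sum_add_distrib, Finset.sum_ite_mem,
        Finset.union_inter_cancel_left, Finset.union_inter_cancel_right]
  obtain ⟨s, a, rfl⟩ := hspan
  refine Finset.sum_eq_zero fun u hu => ?_
  have h0 := congrArg (compareAt j F ξ u) hp
  rw [map_zero, map_sum, map_sum] at h0
  have h1 : ∑ v ∈ s, (inclStalk j F ξ v ≫ (stk (A := AddCommGrpCat.{u + 1}) ξ).map (shriekToPush j F) ≫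
      compareAt j F ξ u) (a v) = 0 := h0
  rw [Finset.sum_eq_single_of_mem u hu (fun v _ hv => by rw [(inclStalk_compareAt j F ξ u).2 v hv]; rfl),
    (inclStalk_compareAt j F ξ u).1] at h1
  rw [show a u = 0 from h1, map_zero]

theorem compareAt_jointly_injective [UniversallyClosed j] {Ω : Type u} [Field Ω] [IsSepClosed Ω]
    (ξ : Spec (CommRingCat.of Ω) ⟶ X) (p : (stk (A := AddCommGrpCat.{u + 1}) ξ).obj ((EtCoh.push j).obj F))
    (hp : ∀ u, compareAt j F ξ u p = 0) : p = 0 := by
  obtain ⟨W, w, t, rfl⟩ := exists_germ (A := AddCommGrpCat.{u + 1}) ξ p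
  let P := (EtCoh.bc j).obj W
  let Z : Set P.left := {y | ∃ (V : U.Etale) (g : V ⟶ P), y ∈ Set.range g.left.base ∧ F.obj.map g.op t = 0}
  have hZ : IsOpen Z := by
    have e : Z = ⋃ q : {q : Σ V : U.Etale, (V ⟶ P) // F.obj.map q.2.op t = 0}, Set.range q.1.2.left.base :=
      Set.ext fun y => ⟨fun ⟨V, g, hy, hg⟩ => Set.mem_iUnion.2 ⟨⟨⟨V, g⟩, hg⟩, hy⟩,
        fun h => by obtain ⟨⟨⟨V, g⟩, hg⟩, hy⟩ := Set.mem_iUnion.1 h; exact ⟨V, g, hy, hg⟩⟩
    rw [e]
    refine isOpen_iUnion fun q => ?_
    haveI := etale_left q.1.2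
    exact q.1.2.left.isOpenMap.isOpen_range
  let pr : P.left ⟶ W.left := pullback.fst W.hom j
  haveI : AlgebraicGeometry.Etale pr := inferInstanceAs (AlgebraicGeometry.Etale (pullback.fst W.hom j))
  haveI : UniversallyClosed pr := inferInstanceAs (UniversallyClosed (pullback.fst W.hom j))
  have hfib : ∀ y : P.left, pr.base y = w.pt → y ∈ Z := by
    intro y hy
    obtain ⟨l, hl, hly⟩ := Scheme.exists_fac_of_etale_of_isSepClosed pr w.hom y hy
    let u : {u : Spec (CommRingCat.of Ω) ⟶ U // u ≫ j = ξ} := ⟨l ≫ pullback.snd W.hom j, by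
      rw [Category.assoc, ← pullback.condition, ← Category.assoc]
      exact (congrArg (· ≫ W.hom) hl).trans w.w⟩
    obtain ⟨u₀, hu₀⟩ : ∃ u₀, u₀ = u := ⟨u, rfl⟩
    have hu₀' : u₀.1 = l ≫ pullback.snd W.hom j := by rw [hu₀]
    have := hp u₀
    obtain ⟨u₀, rfl⟩ := u₀
    rw [show compareAt j F (u₀ ≫ j) ⟨u₀, rfl⟩ = compare (A := AddCommGrpCat.{u + 1}) j u₀ F from Category.id_comp _,
      ← ConcreteCategory.comp_apply] at this
    have h1 : germ (A := AddCommGrpCat.{u + 1}) u₀ F P (w.lift j u₀) t = 0 :=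
      (congrArg (fun q : ((EtCoh.push j).obj F).obj.obj (op W) ⟶ (stk (A := AddCommGrpCat.{u + 1}) u₀).obj F => q t)
        (germ_compare (A := AddCommGrpCat.{u + 1}) j u₀ F W w)).symm.trans this
    obtain ⟨V, g, v, hv, he⟩ := (germ_eq_iff u₀ P (w.lift j u₀) t 0).1 (by rw [h1, map_zero])
    refine ⟨V, g, ⟨v.pt, ?_⟩, he.trans (map_zero _)⟩
    have e1 : (w.lift j u₀).hom = l := pullback.hom_ext ((pullback.lift_fst _ _ _).trans hl.symm)
      ((pullback.lift_snd _ _ _).trans hu₀')
    rw [← hly, ← e1, ← hv]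
    rfl
  let O : W.left.Opens := ⟨(pr.base '' Zᶜ)ᶜ, (pr.isClosedMap _ hZ.isClosed_compl).isOpen_compl⟩
  obtain ⟨W', e, w', hw', he⟩ := exists_open_below ξ W w O fun ⟨y, hy, hy'⟩ => hy (hfib y hy')
  rw [← hw', ← germ_res_apply]
  have : ((EtCoh.push j).obj F).obj.map e.op t = 0 := by
    refine eq_of_germ (A := AddCommGrpCat.{u + 1}) F (U := (EtCoh.bc j).obj W') _ _ fun Ω' _ _ ζ z => ?_
    show germ ζ F _ z (F.obj.map ((EtCoh.bc j).map e).op t) = _
    rw [germ_res_apply, map_zero]
    obtain ⟨V, g, ⟨y, hy⟩, hg⟩ : (z.map ((EtCoh.bc j).map e)).pt ∈ Z := by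
      by_contra hn
      refine he ⟨(z.hom ≫ pullback.fst W'.hom j).base default, rfl⟩ ⟨_, hn, ?_⟩
      exact congrArg (fun s : Spec (CommRingCat.of Ω') ⟶ W.left => s.base default)
        ((Category.assoc _ _ _).trans ((congrArg (z.hom ≫ ·) (EtCoh.isPullback_bc_map j e).w).trans
          (Category.assoc _ _ _).symm))
    haveI := etale_left g
    obtain ⟨l, hl, -⟩ := Scheme.exists_fac_of_etale_of_isSepClosed g.left (z.map ((EtCoh.bc j).map e)).hom y hy
    let v : Fib ζ V := Fib.mk l (by
      rw [← MorphismProperty.Over.w g, ← Category.assoc, hl]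
      exact (z.map ((EtCoh.bc j).map e)).w)
    rw [← show v.map g = z.map ((EtCoh.bc j).map e) from Fib.ext hl, ← germ_res_apply, hg, map_zero]
  rw [this, map_zero]

theorem isIso_shriekToPush [IsFinite j] : IsIso (shriekToPush j F) := by
  classical
  refine isIso_of_stalks (A := AddCommGrpCat.{u + 1}) _ fun Ω _ _ ξ => ?_
  haveI : Mono (shriekToPush j F) := mono_shriekToPush j F
  haveI : Mono ((stk (A := AddCommGrpCat.{u + 1}) ξ).map (shriekToPush j F)) := inferInstance
  haveI : Finite {u : Spec (CommRingCat.of Ω) ⟶ U // u ≫ j = ξ} := finite_lifts j ξ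
  haveI := Fintype.ofFinite {u : Spec (CommRingCat.of Ω) ⟶ U // u ≫ j = ξ}
  haveI : Epi ((stk (A := AddCommGrpCat.{u + 1}) ξ).map (shriekToPush j F)) := by
    rw [AddCommGrpCat.epi_iff_surjective]
    refine fun p => ⟨∑ u, inclStalk j F ξ u (compareAt j F ξ u p), sub_eq_zero.1
      (compareAt_jointly_injective j F ξ _ fun u => ?_)⟩
    rw [map_sub, sub_eq_zero, map_sum, map_sum]
    show ∑ v, (inclStalk j F ξ v ≫ (stk (A := AddCommGrpCat.{u + 1}) ξ).map (shriekToPush j F) ≫
      compareAt j F ξ u) (compareAt j F ξ v p) = _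
    rw [Finset.sum_eq_single_of_mem u (Finset.mem_univ u)
      (fun v _ hv => by rw [(inclStalk_compareAt j F ξ u).2 v hv]; rfl), (inclStalk_compareAt j F ξ u).1]
    rfl
  exact isIso_of_mono_of_epi _

end Groth.Agent.EtShLib
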