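import Groth.Agent.EtShLib.LqfShriek
import Groth.Agent.EtShLib.ShriekPush
import Groth.Agent.EtShLib.JContAll

/-! Extension by zero is direct image with proper support. -/

set_option autoImplicit false
set_option linter.unusedSectionVars false
set_option linter.style.haveILetI false
set_option backward.isDefEq.respectTransparency false
set_option backward.isDefEq.respectTransparency.types false
set_option synthInstance.maxHeartbeats 400000
set_option maxHeartbeats 1000000

universe u

open CategoryTheory CategoryTheory.Limits AlgebraicGeometry Opposite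

namespace Groth.Agent.EtShLib

variable {U X : Scheme.{u}} (j : U ⟶ X) [AlgebraicGeometry.Etale j] [IsSeparated j] [EtShriek.JCont j]
  (F : EtCoh.Ab U)

theorem extSec_mem (V : U.Etale) (s : F.obj.obj (op V)) :
    extSec j F V s ∈ EtShriek.shriekSubgroup j F ((EtShriek.compEtale j).obj V) := by
  rw [mem_shriekSubgroup_iff]
  haveI := isClosedImmersion_graph j V
  haveI : IsProper ((graphHom j V).left ≫ EtShriek.prV j ((EtShriek.compEtale j).obj V)) := by
    rw [show (graphHom j V).left ≫ EtShriek.prV j ((EtShriek.compEtale j).obj V) = 𝟙 _ from pullback.lift_fst _ _ _]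
    infer_instance
  refine ProperOverLib.of_map (graphHom j V).left _ _ (isClosed_sectSupp F _ _) fun z hz => ?_
  obtain ⟨Ω, _, _, ξ, z', rfl⟩ := exists_geometric (U := (EtCoh.bc j).obj ((EtShriek.compEtale j).obj V)) z
  by_contra hn
  exact notMem_sectSupp_of_germ F _ z' ((extSec_spec j F V s).2 Ω ξ z' hn) hz

/-- `F` maps to the restriction of its direct image with proper support. -/
noncomputable def toRestrPre : F ⟶ (EtShriek.restrAlong j).obj ((preF j).obj F) :=
  ObjectProperty.homMk
    { app := fun V => AddCommGrpCat.ofHom ((extSec j F V.unop).codRestrict _ (extSec_mem j F V.unop))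
      naturality := fun V V' g => by
        ext s
        apply Subtype.ext
        exact congrArg (fun t : F.obj.obj V ⟶ ((EtShriek.restrAlong j).obj ((EtCoh.push j).obj F)).obj.obj V' => t s)
          ((toRestrPush j F).hom.naturality g) }

/-- `j_! F` maps to the sections with proper support. -/
noncomputable def extZeroToPre : (EtShriek.extZero j).obj F ⟶ (preF j).obj F :=
  ((EtShriek.extZeroAdj j).homEquiv _ _).symm (toRestrPre j F)

theorem extZeroToPre_preι : extZeroToPre j F ≫ (preι j).app F = shriekToPush j F := by
  rw [extZeroToPre, shriekToPush, ← Adjunction.homEquiv_naturality_right_symm]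
  refine congrArg _ (Sheaf.hom_ext ?_)
  ext V : 2
  ext s
  rfl

theorem isIso_extZeroToPre : IsIso (extZeroToPre j F) := by
  classical
  haveI : LocallyQuasiFinite j := locallyQuasiFinite_of_etale j
  refine isIso_of_stalks_algClosed _ fun Ω _ _ _ ξ => ?_
  let φ := (stk (A := AddCommGrpCat.{u + 1}) ξ).map (extZeroToPre j F)
  have hcomp : ∀ u, φ ≫ comp' j ξ F u =
      (stk (A := AddCommGrpCat.{u + 1}) ξ).map (shriekToPush j F) ≫ compareAt j F ξ u := fun u => by
    rw [← extZeroToPre_preι, Functor.map_comp, Category.assoc]
    rfl
  have key : ∀ u, inclStalk j F ξ u ≫ φ = injAt j ξ F u := fun u => by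
    ext a
    refine sub_eq_zero.1 (comp'_jointly_injective j ξ F _ fun v => ?_)
    rw [map_sub, sub_eq_zero]
    refine (congrArg (fun t : (stk (A := AddCommGrpCat.{u + 1}) u.1).obj F ⟶ _ => t a)
      (congrArg (inclStalk j F ξ u ≫ ·) (hcomp v))).trans ?_
    by_cases h : v = u
    · subst h
      rw [(inclStalk_compareAt j F ξ v).1, injAt_comp']
      rfl
    · rw [(inclStalk_compareAt j F ξ v).2 u (Ne.symm h), injAt_comp'_ne j ξ F u v h]
      rfl
  have e : φ = ((stalkExtColimit j F ξ).coconePointUniqueUpToIso (isColimitInjAt j ξ F)).hom :=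
    (stalkExtColimit j F ξ).hom_ext fun ⟨u⟩ => (key u).trans
      ((stalkExtColimit j F ξ).comp_coconePointUniqueUpToIso_hom (isColimitInjAt j ξ F) ⟨u⟩).symm
  show IsIso φ
  rw [e]
  infer_instance

/-- `j_! ≅` direct image with proper support. -/
noncomputable def extZeroPreIso : EtShriek.extZero j ≅ preF j :=
  NatIso.ofComponents (fun F => haveI := isIso_extZeroToPre j F; asIso (extZeroToPre j F)) fun {F G} α => by
    show (EtShriek.extZero j).map α ≫ extZeroToPre j G = extZeroToPre j F ≫ (preF j).map α
    rw [← cancel_mono ((preι j).app G), Category.assoc, Category.assoc, extZeroToPre_preι, (preι j).naturality,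
      reassoc_of% (extZeroToPre_preι j F)]
    exact shriekToPush_natural j F α

end Groth.Agent.EtShLib
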