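import Groth.Agent.EtShLib.ShriekComp
import Groth.Agent.EtShLib.ExtZeroLower

/-! Direct images with proper support through compactifications. -/

set_option autoImplicit false
set_option linter.unusedSectionVars false
set_option linter.style.haveILetI false
set_option backward.isDefEq.respectTransparency false
set_option backward.isDefEq.respectTransparency.types false
set_option synthInstance.maxHeartbeats 400000
set_option maxHeartbeats 1000000

universe u

open CategoryTheory CategoryTheory.Limits AlgebraicGeometry Opposite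

namespace Groth.Agent.EtShLib

variable {X Y : Scheme.{u}}

theorem mem_shriekSubgroup_of_proper (f : X ⟶ Y) [IsProper f] (F : EtCoh.Ab X) (V : Y.Etale)
    (s : F.obj.obj (op ((EtCoh.bc f).obj V))) : s ∈ EtShriek.shriekSubgroup f F V := by
  rw [mem_shriekSubgroup_iff]
  haveI : IsProper (EtShriek.prV f V) := MorphismProperty.pullback_fst (P := @IsProper) _ _ ‹_›
  haveI : IsProper (𝟙 _ ≫ EtShriek.prV f V) := by rw [Category.id_comp]; infer_instance
  exact ProperOverLib.of_map (𝟙 _) _ _ (isClosed_sectSupp F _ _) fun z _ => ⟨z, rfl⟩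

theorem isIso_preι_of_proper (f : X ⟶ Y) [IsProper f] : IsIso (preι f) := by
  haveI : ∀ F, IsIso ((preι f).app F) := fun F => by
    haveI : ∀ V, IsIso (((preι f).app F).hom.app V) := fun V =>
      (ConcreteCategory.isIso_iff_bijective _).2
        ⟨Subtype.val_injective, fun s => ⟨⟨s, mem_shriekSubgroup_of_proper f F V.unop s⟩, rfl⟩⟩
    haveI : IsIso ((preι f).app F).hom := NatIso.isIso_of_isIso_app _
    exact (isIso_iff_of_reflects_iso ((preι f).app F) (sheafToPresheaf _ _)).1 ‹_›
  exact NatIso.isIso_of_isIso_app _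

/-- `f_! ≅ f̄_* j_!` for a compactification. -/
noncomputable def preCompactIso {Xb : Scheme.{u}} (j : X ⟶ Xb) [IsOpenImmersion j] [EtShriek.JCont j] (fb : Xb ⟶ Y)
    [IsProper fb] : preF (j ≫ fb) ≅ EtShriek.extZero j ⋙ EtCoh.push fb :=
  haveI := isIso_preι_of_proper fb
  preCompIso j fb ≪≫ Functor.isoWhiskerRight (extZeroPreIso j).symm _ ≪≫ Functor.isoWhiskerLeft _ (asIso (preι fb))

/-- The base change of the terminal object. -/
noncomputable def bcTop (f : X ⟶ Y) : (EtCoh.bc f).obj (EtCoh.top Y) ≅ EtCoh.top X :=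
  haveI : IsIso (pullback.snd (EtCoh.top Y).hom f) := MorphismProperty.pullback_snd
    (P := MorphismProperty.isomorphisms Scheme.{u}) _ _ (inferInstanceAs (IsIso (𝟙 Y)))
  MorphismProperty.Over.isoMk (asIso (pullback.snd (EtCoh.top Y).hom f)) (Category.comp_id _)

theorem bcTop_pr (f : X ⟶ Y) : (bcTop f).hom.left ≫ f = EtShriek.prV f (EtCoh.top Y) :=
  (pullback.condition (f := (EtCoh.top Y).hom) (g := f)).symm.trans (Category.comp_id _)

theorem hasProperSupport_top_iff (f : X ⟶ Y) [LocallyOfFiniteType f] (F : EtCoh.Ab X)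
    (s : F.obj.obj (op (EtCoh.top X))) :
    EtShriek.HasProperSupport F (EtCoh.top X) s f ↔
      F.obj.map (bcTop f).hom.op s ∈ EtShriek.shriekSubgroup f F (EtCoh.top Y) := by
  let e := bcTop f
  haveI : IsIso e.hom.left :=
    ⟨e.inv.left, congrArg (fun t => t.left) e.hom_inv_id, congrArg (fun t => t.left) e.inv_hom_id⟩
  have hs := sectSupp_res_eq F e.hom s
  constructor
  · rintro ⟨Z, hZ, hp⟩
    obtain ⟨T, i, hi, hr, hip⟩ := ProperOverLib.exists_closedImmersion hp
    haveI : IsClosedImmersion (i ≫ inv e.hom.left) :=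
      MorphismProperty.comp_mem @IsClosedImmersion i (inv e.hom.left) hi inferInstance
    haveI : IsProper ((i ≫ inv e.hom.left) ≫ EtShriek.prV f (EtCoh.top Y)) := by
      rw [← bcTop_pr, Category.assoc, IsIso.inv_hom_id_assoc]
      exact hip
    refine (mem_shriekSubgroup_iff F f _ _).2 (ProperOverLib.of_map (i ≫ inv e.hom.left) _ _
      (isClosed_sectSupp F _ _) fun z hz => ?_)
    rw [hs] at hz
    obtain ⟨x, hx⟩ := hr.superset (hZ hz)
    refine ⟨x, e.hom.left.homeomorph.injective ?_⟩
    show e.hom.left.base ((i ≫ inv e.hom.left).base x) = _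
    rw [← Scheme.Hom.comp_apply, Category.assoc, IsIso.inv_hom_id]
    exact hx
  · intro h
    obtain ⟨T, i, hi, hr, hip⟩ := ProperOverLib.exists_closedImmersion ((mem_shriekSubgroup_iff F f _ _).1 h)
    haveI : IsClosedImmersion (i ≫ e.hom.left) :=
      MorphismProperty.comp_mem @IsClosedImmersion i e.hom.left hi inferInstance
    haveI : IsProper ((i ≫ e.hom.left) ≫ f) := by
      rw [Category.assoc, bcTop_pr]
      exact hip
    refine ⟨_, subset_rfl, ProperOverLib.of_map (i ≫ e.hom.left) _ _ (isClosed_sectSupp F _ _) fun z hz => ?_⟩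
    obtain ⟨y, rfl⟩ := e.hom.left.homeomorph.surjective z
    have hy : y ∈ EtShriek.sectSupp F _ (F.obj.map e.hom.op s) := by rw [hs]; exact hz
    obtain ⟨x, rfl⟩ := hr.superset hy
    exact ⟨x, rfl⟩

theorem nonempty_H0c_equiv {k : Type u} [Field k] {Xb : Scheme.{u}} (j : X ⟶ Xb) [IsOpenImmersion j]
    [EtShriek.JCont j] (pb : Xb ⟶ Spec (CommRingCat.of k)) [IsProper pb] (F : EtCoh.Ab X) :
    Nonempty (EtShriek.H0c (j ≫ pb) F ≃+ EtCoh.sect ((EtShriek.extZero j).obj F) (EtCoh.top Xb)) := by
  let V := EtCoh.top (Spec (CommRingCat.of k))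
  let r : F.obj.obj (op (EtCoh.top X)) ≃+ F.obj.obj (op ((EtCoh.bc (j ≫ pb)).obj V)) :=
    (F.obj.mapIso (bcTop (j ≫ pb)).op).addCommGroupIsoToAddEquiv
  have hH : EtShriek.H0c (j ≫ pb) F = (EtShriek.shriekSubgroup (j ≫ pb) F V).comap r.toAddMonoidHom := by
    refine le_antisymm ((AddSubgroup.closure_le _).2 fun s hs => (hasProperSupport_top_iff _ F s).1 hs) fun s hs => ?_
    exact AddSubgroup.subset_closure ((hasProperSupport_top_iff _ F s).2 hs)
  let e₁ : EtShriek.H0c (j ≫ pb) F ≃+ EtShriek.shriekSubgroup (j ≫ pb) F V :=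
    { toFun := fun s => ⟨r s.1, hH.le s.2⟩
      invFun := fun t => ⟨r.symm t.1, hH.ge (by
        show r (r.symm t.1) ∈ EtShriek.shriekSubgroup (j ≫ pb) F V
        rw [r.apply_symm_apply]; exact t.2)⟩
      left_inv := fun s => Subtype.ext (r.symm_apply_apply s.1)
      right_inv := fun t => Subtype.ext (r.apply_symm_apply t.1)
      map_add' := fun s t => Subtype.ext (r.map_add s.1 t.1) }
  let e₂ := (((sheafSections _ AddCommGrpCat.{u + 1}).obj (op V)).mapIso
    ((preCompactIso j pb).app F)).addCommGroupIsoToAddEquiv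
  let e₃ := (((EtShriek.extZero j).obj F).obj.mapIso (bcTop pb).op).addCommGroupIsoToAddEquiv.symm
  exact ⟨(e₁.trans e₂).trans e₃⟩

end Groth.Agent.EtShLib
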