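import Groth.Agent.EtShLib.FinPush
import Groth.Agent.EtShLib.Generate

/-! Extension by zero of constructible sheaves and composition. -/

set_option autoImplicit false
set_option linter.unusedSectionVars false
set_option linter.style.haveILetI false
set_option backward.isDefEq.respectTransparency false
set_option backward.isDefEq.respectTransparency.types false
set_option synthInstance.maxHeartbeats 400000
set_option maxHeartbeats 1000000

universe u

open CategoryTheory CategoryTheory.Limits AlgebraicGeometry Opposite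

namespace Groth.Agent.EtShLib

section

variable {U V X : Scheme.{u}}

theorem nonempty_extComp (a : U ⟶ V) (b : V ⟶ X) (c : U ⟶ X) [AlgebraicGeometry.Etale a] [AlgebraicGeometry.Etale b]
    [AlgebraicGeometry.Etale c] [EtShriek.JCont a] [EtShriek.JCont b] [EtShriek.JCont c] (h : a ≫ b = c) :
    Nonempty (EtShriek.extZero a ⋙ EtShriek.extZero b ≅ EtShriek.extZero c) := by
  let k : ∀ W : U.Etale, (EtShriek.compEtale b).obj ((EtShriek.compEtale a).obj W) ≅ (EtShriek.compEtale c).obj W :=
    fun W => MorphismProperty.Over.isoMk (Iso.refl W.left) (by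
      show 𝟙 _ ≫ W.hom ≫ c = (W.hom ≫ a) ≫ b
      rw [Category.id_comp, Category.assoc, h])
  let e : EtShriek.restrAlong c ≅ EtShriek.restrAlong b ⋙ EtShriek.restrAlong a :=
    NatIso.ofComponents (fun N => (fullyFaithfulSheafToPresheaf _ _).preimageIso
      (NatIso.ofComponents (fun W => N.obj.mapIso (k W.unop).op) fun {W W'} g => by
        show N.obj.map ((EtShriek.compEtale c).map g.unop).op ≫ N.obj.map (k W'.unop).hom.op =
          N.obj.map (k W.unop).hom.op ≫ N.obj.map ((EtShriek.compEtale b).map ((EtShriek.compEtale a).map g.unop)).op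
        rw [← Functor.map_comp, ← Functor.map_comp, ← op_comp, ← op_comp]
        exact congrArg (fun t => N.obj.map (Quiver.Hom.op t))
          (MorphismProperty.Over.Hom.ext ((Category.id_comp _).trans (Category.comp_id _).symm))))
      (fun {N N'} φ => by
        refine Sheaf.hom_ext ?_
        ext W : 2
        exact (φ.hom.naturality (k W.unop).hom.op).symm)
  exact ⟨Adjunction.leftAdjointUniq (((EtShriek.extZeroAdj a).comp (EtShriek.extZeroAdj b)).ofNatIsoRight e.symm)
    (EtShriek.extZeroAdj c)⟩

end

variable {U X : Scheme.{u}} (f : U ⟶ X) [AlgebraicGeometry.Etale f] [EtShriek.JCont f]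

theorem nonempty_extZero_extConst (W : U.Etale) (M : Type) [AddCommGroup M] :
    Nonempty ((EtShriek.extZero f).obj (EtPBC.extZeroConst W M) ≅
      EtPBC.extZeroConst ((EtShriek.compEtale f).obj W) M) :=
  ⟨((Adjunction.leftAdjointUniq
    (((extConstAdj W).comp (EtShriek.extZeroAdj f)).ofNatIsoRight
      (show EtShriek.restrAlong f ⋙ U.smallEtaleTopology.overPullback AddCommGrpCat.{u + 1} W ⋙
          (sheafSections (U.smallEtaleTopology.over W) AddCommGrpCat.{u + 1}).obj (op (Over.mk (𝟙 W))) ≅
        X.smallEtaleTopology.overPullback AddCommGrpCat.{u + 1} ((EtShriek.compEtale f).obj W) ⋙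
          (sheafSections (X.smallEtaleTopology.over ((EtShriek.compEtale f).obj W)) AddCommGrpCat.{u + 1}).obj
            (op (Over.mk (𝟙 ((EtShriek.compEtale f).obj W)))) from
        NatIso.ofComponents (fun N => Iso.refl (N.obj.obj (op ((EtShriek.compEtale f).obj W))))
          fun φ => (Category.comp_id _).trans (Category.id_comp _).symm))
    (extConstAdj ((EtShriek.compEtale f).obj W))).app (AddCommGrpCat.of (ULift.{u + 1} M)) :)⟩

theorem isCons_extZero_cons [CompactSpace X] [QuasiSeparatedSpace X] [CompactSpace U] [QuasiSeparatedSpace U]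
    {F : EtCoh.Ab U} (hF : IsCons (A := AddCommGrpCat.{u + 1}) FinP F) :
    IsCons (A := AddCommGrpCat.{u + 1}) FinP ((EtShriek.extZero f).obj F) := by
  have hfin : ∀ {m : ℕ}, 0 < m → Finite (ZMod m) := fun h => haveI : NeZero _ := ⟨h.ne'⟩; inferInstance
  obtain ⟨a, V, n, hn, π, hπ⟩ := exists_epi_cons hF (torsionBy_of_isCons hF) (fun _ h => h)
  have hV : ∀ i, Finite (ZMod (n i)) ∧ CompactSpace (V i).left ∧ QuasiSeparatedSpace (V i).left := fun i => by
    haveI := (hn i).2
    exact ⟨hfin (hn i).1, inferInstance, inferInstance⟩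
  have hP : IsCons (A := AddCommGrpCat.{u + 1}) FinP (⨁ fun i => EtPBC.extZeroConst (V i) (ZMod (n i))) :=
    isCons_biproduct _ fun i => haveI := (hV i).1; haveI := (hV i).2.1; haveI := (hV i).2.2; isCons_extConst _ _
  obtain ⟨b, W, m, hm, ψ, hψ⟩ := exists_epi_cons (cons_kernel π hP hF)
    ((torsionBy_of_isCons hP).of_mono (kernel.ι π)) (fun _ h => h)
  let φ := ψ ≫ kernel.ι π
  let e : F ≅ cokernel φ := ((Abelian.epiIsCokernelOfKernel _ (kernelIsKernel π)).coconePointUniqueUpToIso
    (cokernelIsCokernel (kernel.ι π))) ≪≫ (cokernelEpiComp ψ (kernel.ι π)).symm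
  haveI : (EtShriek.restrAlong f).Additive := { }
  haveI := (EtShriek.extZeroAdj f).left_adjoint_additive
  haveI := (EtShriek.extZeroAdj f).isLeftAdjoint
  have hb : ∀ {a : ℕ} (V : Fin a → U.Etale) (n : Fin a → ℕ), (∀ i, 0 < n i ∧ IsAffine (V i).left) →
      IsCons (A := AddCommGrpCat.{u + 1}) FinP
        ((EtShriek.extZero f).obj (⨁ fun i => EtPBC.extZeroConst (V i) (ZMod (n i)))) := by
    intro a V n hn
    refine IsCons.of_hom (isCons_biproduct (fun i => (EtShriek.extZero f).obj (EtPBC.extZeroConst (V i) (ZMod (n i))))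
      fun i => ?_) ((EtShriek.extZero f).mapBiproduct _).inv
    haveI := hfin (hn i).1
    haveI := (hn i).2
    haveI : CompactSpace ((EtShriek.compEtale f).obj (V i)).left := inferInstanceAs (CompactSpace (V i).left)
    haveI : QuasiSeparatedSpace ((EtShriek.compEtale f).obj (V i)).left :=
      inferInstanceAs (QuasiSeparatedSpace (V i).left)
    obtain ⟨e'⟩ := nonempty_extZero_extConst f (V i) (ZMod (n i))
    exact IsCons.of_hom (isCons_extConst _ _) e'.inv
  exact IsCons.of_hom (cons_cokernel ((EtShriek.extZero f).map φ) (hb W m hm) (hb V n hn))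
    ((PreservesCokernel.iso (EtShriek.extZero f) φ).symm ≪≫ (EtShriek.extZero f).mapIso e.symm).hom

end Groth.Agent.EtShLib
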