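import Groth.Agent.EtShLib.ShriekComp
import Groth.Agent.EtShLib.ExtZeroLower
import Groth.Agent.EtShLib.FiniteExact

/-! Finite direct images commute with extension by zero. -/

set_option autoImplicit false
set_option linter.unusedSectionVars false
set_option linter.style.haveILetI false
set_option backward.isDefEq.respectTransparency false
set_option backward.isDefEq.respectTransparency.types false
set_option synthInstance.maxHeartbeats 400000
set_option maxHeartbeats 1000000

universe u

open CategoryTheory CategoryTheory.Limits AlgebraicGeometry Opposite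

namespace Groth.Agent.EtShLib

theorem nonempty_preF_congr {X Y : Scheme.{u}} {a b : X ⟶ Y} (h : a = b) [LocallyOfFiniteType a]
    [LocallyOfFiniteType b] : Nonempty (preF a ≅ preF b) := by
  subst h
  exact ⟨Iso.refl _⟩

theorem nonempty_push_extZero {U X V Y : Scheme.{u}} (f : X ⟶ Y) [IsFinite f] (j : V ⟶ Y) [IsOpenImmersion j]
    [AlgebraicGeometry.Etale j] [EtShriek.JCont j] (j' : U ⟶ X) [IsOpenImmersion j']
    [AlgebraicGeometry.Etale j'] [EtShriek.JCont j'] (g : U ⟶ V) (h : IsPullback j' g f j) (F : EtCoh.Ab U) :
    Nonempty ((EtCoh.push f).obj ((EtShriek.extZero j').obj F) ≅ (EtShriek.extZero j).obj ((EtCoh.push g).obj F)) := by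
  haveI : IsFinite g := MorphismProperty.of_isPullback h ‹IsFinite f›
  haveI := isIso_preι f
  haveI := isIso_preι g
  obtain ⟨e⟩ := nonempty_preF_congr h.w
  exact ⟨((asIso (preι f)).app _).symm ≪≫ (preF f).mapIso ((extZeroPreIso j').app F) ≪≫
    ((preCompIso j' f).app F).symm ≪≫ e.app F ≪≫ (preCompIso g j).app F ≪≫
    (preF j).mapIso ((asIso (preι g)).app F) ≪≫ ((extZeroPreIso j).app _).symm⟩

end Groth.Agent.EtShLib
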