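import Groth.Agent.EtShLib.RestrPull
import Groth.Agent.EtShLib.Locus
import Groth.Agent.EtShLib.Constructible
import Mathlib.AlgebraicGeometry.Morphisms.ClosedImmersion

/-! Filtrations of constructible sheaves with locally constant graded pieces. -/

set_option autoImplicit false
set_option linter.unusedSectionVars false
set_option linter.style.haveILetI false
set_option backward.isDefEq.respectTransparency false
set_option backward.isDefEq.respectTransparency.types false
set_option synthInstance.maxHeartbeats 400000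
set_option maxHeartbeats 1000000

universe u

open CategoryTheory CategoryTheory.Limits AlgebraicGeometry Opposite Topology

namespace Groth.Agent.EtShLib

variable {X : Scheme.{u}}

/-- `F` is finite locally constant on the difference of two opens. -/
def DiffLC (F : EtCoh.Ab X) (V V' : X.Opens) : Prop :=
  ∃ (T : Scheme.{u}) (g : T ⟶ X), IsImmersion g ∧ Set.range g = (V' : Set X) \ V ∧
    IsConstructible (Set.range g) ∧ PullLC (A := AddCommGrpCat.{u + 1}) FinP F g

theorem exists_qc_pair [CompactSpace X] [QuasiSeparatedSpace X] {S : Set X} (hS : IsLocallyClosed S)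
    (hc : IsConstructible S) :
    ∃ A B : X.Opens, IsCompact (A : Set X) ∧ IsCompact (B : Set X) ∧ B ≤ A ∧ S = (A : Set X) \ B := by
  obtain ⟨O, Z, hO, hZ, rfl⟩ := hS
  let Q := {V : X.Opens | IsCompact (V : Set X) ∧ (V : Set X) ⊆ O}
  obtain ⟨t, ht⟩ := (isCompact_of_isConstructible hc).elim_finite_subcover (fun V : Q => ((V : X.Opens) : Set X))
    (fun V => (V : X.Opens).isOpen) (fun x hx => by
      obtain ⟨_, ⟨V, hV, rfl⟩, hxV, hVO⟩ :=
        X.isBasis_affineOpens.exists_subset_of_mem_open hx.1 hO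
      exact Set.mem_iUnion.2 ⟨⟨V, IsAffineOpen.isCompact hV, hVO⟩, hxV⟩)
  let A : X.Opens := ⨆ V ∈ t, (V : X.Opens)
  have hA : (A : Set X) = ⋃ V ∈ t, ((V : X.Opens) : Set X) := by simp [A]
  have hAc : IsCompact (A : Set X) := hA ▸ t.finite_toSet.isCompact_biUnion fun V _ => V.2.1
  have hAO : (A : Set X) ⊆ O := hA ▸ Set.iUnion₂_subset fun V _ => V.2.2
  have hAS : (A : Set X) \ (O ∩ Z) = (A : Set X) ∩ Zᶜ := by
    ext x; exact ⟨fun h => ⟨h.1, fun hz => h.2 ⟨hAO h.1, hz⟩⟩, fun h => ⟨h.1, fun h' => h.2 h'.2⟩⟩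
  refine ⟨A, ⟨(A : Set X) ∩ Zᶜ, A.isOpen.inter hZ.isOpen_compl⟩, hAc, ?_, fun x hx => hx.1, ?_⟩
  · show IsCompact ((A : Set X) ∩ Zᶜ)
    rw [← hAS]
    exact isCompact_of_isConstructible ((hAc.isConstructible A.isOpen).sdiff hc)
  · ext x
    exact ⟨fun h => ⟨hA ▸ ht h, fun h' => h'.2 h.2⟩, fun h => ⟨hAO h.1, by_contra fun hz => h.2 ⟨h.1, hz⟩⟩⟩

/-- A chain of quasi-compact opens with finite locally constant differences. -/
def HasChain (F : EtCoh.Ab X) (W : X.Opens) : Prop :=
  ∃ (n : ℕ) (U : ℕ → X.Opens), U 0 = ⊥ ∧ U n = W ∧ (∀ k, IsCompact (U k : Set X)) ∧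
    ∀ k, k < n → U k ≤ U (k + 1) ∧ DiffLC F (U k) (U (k + 1))

theorem HasChain.step {F : EtCoh.Ab X} {V V' : X.Opens} (h : HasChain F V) (hle : V ≤ V')
    (hc : IsCompact (V' : Set X)) (hd : DiffLC F V V') : HasChain F V' := by
  obtain ⟨n, U, h0, hn, hcpt, hs⟩ := h
  refine ⟨n + 1, fun k => if k ≤ n then U k else V', by simp [h0], by simp, fun k => ?_, fun k hk => ?_⟩
  · by_cases hk : k ≤ n
    · simpa [hk] using hcpt k
    · simpa [hk] using hc
  · rcases Nat.lt_succ_iff_lt_or_eq.1 hk with hk' | rfl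
    · simpa [hk'.le, Nat.succ_le_of_lt hk'] using hs k hk'
    · simpa [hn] using ⟨hle, hd⟩

theorem exists_chain [CompactSpace X] [QuasiSeparatedSpace X] {F : EtCoh.Ab X}
    (hF : IsCons (A := AddCommGrpCat.{u + 1}) FinP F) : HasChain F ⊤ := by
  classical
  obtain ⟨n, T, g, hi, hc, -, hu, hl⟩ := adapted_univ_of_isCons hF
  have hc' : ∀ i, IsConstructible (Set.range (g i)) := fun i =>
    IsConstructible.preimage_of_isOpenEmbedding (f := fun x => (⟨x, trivial⟩ : (Set.univ : Set X)))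
      (Homeomorph.Set.univ X).symm.isOpenEmbedding (hc i)
  choose A B hA hB hBA hAB using fun i => (haveI := hi i; exists_qc_pair (g i).isLocallyClosed_range (hc' i))
  let V : Fin n ⊕ Fin n → X.Opens := Sum.elim A B
  have hV : ∀ j, IsCompact (V j : Set X) := fun j => by cases j <;> [exact hA _; exact hB _]
  let M : Finset (Fin n ⊕ Fin n) → X.Opens := fun σ => σ.inf V
  have hM : ∀ σ, IsCompact (M σ : Set X) := fun σ => by
    induction σ using Finset.induction_on with
    | empty => simpa [M] using isCompact_univ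
    | insert a s _ ih =>
      simp only [M, Finset.inf_insert, TopologicalSpace.Opens.coe_inf]
      exact QuasiSeparatedSpace.inter_isCompact _ _ (V a).isOpen (hV a) (s.inf V).isOpen ih
  have key : ∀ s : Finset (Finset (Fin n ⊕ Fin n)), (∀ σ ∈ s, ∀ τ, σ ⊂ τ → τ ∈ s) → HasChain F (s.sup M) := by
    intro s
    induction s using Finset.induction_on_min_value (fun σ : Finset (Fin n ⊕ Fin n) => σ.card) with
    | empty => exact fun _ => ⟨0, fun _ => ⊥, rfl, Finset.sup_empty.symm, fun _ => isCompact_empty, fun k hk => absurd hk k.not_lt_zero⟩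
    | insert a s ha hmin ih =>
      intro hup
      have hs : ∀ σ ∈ s, ∀ τ, σ ⊂ τ → τ ∈ s := fun σ hσ τ hτ => by
        rcases Finset.mem_insert.1 (hup σ (Finset.mem_insert_of_mem hσ) τ hτ) with rfl | h
        · exact absurd (Finset.card_lt_card hτ) (not_lt.2 (hmin σ hσ))
        · exact h
      have hsc : IsCompact ((s.sup M : X.Opens) : Set X) := by
        clear hs hup hmin ha ih
        induction s using Finset.induction_on with
        | empty => simp
        | insert b t _ ih => simp only [Finset.sup_insert, TopologicalSpace.Opens.coe_sup]; exact (hM b).union ih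
      rw [Finset.sup_insert, sup_comm]
      refine (ih hs).step le_sup_left (by simpa using hsc.union (hM a)) ?_
      have hdiff : ((s.sup M ⊔ M a : X.Opens) : Set X) \ (s.sup M : X.Opens) ⊆ {p | ∀ j, p ∈ V j ↔ j ∈ a} := by
        rintro p ⟨hp, hps⟩ j
        have hpa : p ∈ M a := (show p ∈ ((s.sup M : X.Opens) : Set X) ∪ (M a : Set X) from hp).resolve_left hps
        refine ⟨fun hj => by_contra fun hja => hps ?_, fun hj => (Finset.inf_le hj : a.inf V ≤ V j) hpa⟩
        have hmem : insert j a ∈ s :=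
          (Finset.mem_insert.1 (hup a (Finset.mem_insert_self a s) _ (Finset.ssubset_insert hja))).resolve_left
            fun e => hja (e ▸ Finset.mem_insert_self j a)
        exact (Finset.le_sup (f := M) hmem) (show p ∈ M (insert j a) by
          simp only [M, Finset.inf_insert]; exact ⟨hj, hpa⟩)
      obtain ⟨D, d, hd, hDred, hr⟩ := exists_reduced_immersion (X := X)
        (E := ((s.sup M ⊔ M a : X.Opens) : Set X) \ (s.sup M : X.Opens))
        ((s.sup M ⊔ M a).isOpen.isLocallyClosed.inter (s.sup M).isOpen.isClosed_compl.isLocallyClosed)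
      have hcu : IsCompact ((s.sup M ⊔ M a : X.Opens) : Set X) := by simpa using hsc.union (hM a)
      refine ⟨D, d, hd, hr, by
        rw [hr]
        exact (hcu.isConstructible (s.sup M ⊔ M a).isOpen).sdiff (hsc.isConstructible (s.sup M).isOpen), ?_⟩
      refine pullLC_of_cover (S := Set.univ) hu.ge hl (Set.subset_univ _) fun i => ?_
      haveI := hDred
      haveI := hi i
      by_cases h : Sum.inl i ∈ a ∧ Sum.inr i ∉ a
      · refine Or.inl (exists_lift_immersion (g i) d fun p hp => ?_)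
        rw [hAB i]
        have hq := hdiff (hr.subset hp)
        exact ⟨(hq (Sum.inl i)).2 h.1, fun hpB => h.2 ((hq (Sum.inr i)).1 hpB)⟩
      · refine Or.inr (Set.disjoint_left.2 fun p hp hp' => h ?_)
        rw [hAB i] at hp'
        have hq := hdiff (hr.subset hp)
        exact ⟨(hq (Sum.inl i)).1 hp'.1, fun hb => hp'.2 ((hq (Sum.inr i)).2 hb)⟩
  have htop : (Finset.univ : Finset (Finset (Fin n ⊕ Fin n))).sup M = ⊤ :=
    top_le_iff.1 ((show ⊤ ≤ M ∅ by simp [M]).trans (Finset.le_sup (Finset.mem_univ _)))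
  exact htop ▸ key Finset.univ fun _ _ τ _ => Finset.mem_univ τ

/-- The part of `F` over an open. -/
noncomputable abbrev openPart (F : EtCoh.Ab X) (V : X.Opens) : EtCoh.Ab X :=
  (EtShriek.extZero V.ι).obj ((EtShriek.restrAlong V.ι).obj F)

theorem isIso_restr_counit {F : EtCoh.Ab X} {V V' : X.Opens} (h : V ≤ V') :
    IsIso ((EtShriek.restrAlong V.ι).map ((EtShriek.extZeroAdj V'.ι).counit.app F)) :=
  isIso_of_stalks (A := AddCommGrpCat.{u + 1}) _ fun Ω _ _ u => by
    haveI := isIso_restrStalk V.ι (openPart F V') (u ≫ V.ι) ⟨u, rfl⟩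
    haveI := isIso_restrStalk V.ι F (u ≫ V.ι) ⟨u, rfl⟩
    haveI : IsIso ((stk (A := AddCommGrpCat.{u + 1}) (u ≫ V.ι)).map ((EtShriek.extZeroAdj V'.ι).counit.app F)) :=
      isIso_counit_stalk V'.ι F _ (by
        rw [Scheme.Opens.range_ι]
        exact h (u.base default).2)
    have e : (stk (A := AddCommGrpCat.{u + 1}) u).map
        ((EtShriek.restrAlong V.ι).map ((EtShriek.extZeroAdj V'.ι).counit.app F)) ≫ restrStalk V.ι F (u ≫ V.ι) ⟨u, rfl⟩ =
        restrStalk V.ι (openPart F V') (u ≫ V.ι) ⟨u, rfl⟩ ≫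
          (stk (A := AddCommGrpCat.{u + 1}) (u ≫ V.ι)).map ((EtShriek.extZeroAdj V'.ι).counit.app F) := by
      apply stk_hom_ext
      intro W w
      refine (Category.assoc _ _ _).symm.trans ((congrArg (· ≫ _) (germ_natural _ _ W w)).trans
        ((Category.assoc _ _ _).trans ((congrArg (_ ≫ ·) (germ_restrStalk V.ι F (u ≫ V.ι) ⟨u, rfl⟩ W w)).trans ?_)))
      refine Eq.trans ?_ ((congrArg (· ≫ _) (germ_restrStalk V.ι (openPart F V') (u ≫ V.ι) ⟨u, rfl⟩ W w)).symm.trans
        (Category.assoc _ _ _))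
      exact (germ_natural _ ((EtShriek.extZeroAdj V'.ι).counit.app F) _ _).symm
    haveI : IsIso ((stk (A := AddCommGrpCat.{u + 1}) u).map
        ((EtShriek.restrAlong V.ι).map ((EtShriek.extZeroAdj V'.ι).counit.app F)) ≫
          restrStalk V.ι F (u ≫ V.ι) ⟨u, rfl⟩) := by rw [e]; infer_instance
    exact IsIso.of_isIso_comp_right _ (restrStalk V.ι F (u ≫ V.ι) ⟨u, rfl⟩)

/-- One step of the filtration. -/
theorem exists_step {F : EtCoh.Ab X} {V V' : X.Opens} (h : V ≤ V') (hd : DiffLC F V V') :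
    ∃ (ι : openPart F V ⟶ openPart F V') (W : Scheme.{u}) (c : W ⟶ V'.toScheme) (_ : IsClosedImmersion c)
      (G : EtCoh.Ab W) (π : openPart F V' ⟶ (EtShriek.extZero V'.ι).obj ((EtCoh.push c).obj G)) (hz : ι ≫ π = 0),
      IsConstructible (Set.range (c ≫ V'.ι)) ∧ EtCoh.IsFiniteLocallyConstant G ∧
        (ShortComplex.mk ι π hz).ShortExact := by
  obtain ⟨T, g, hg, hr, hc, hl⟩ := hd
  haveI := hg
  let c : T ⟶ V'.toScheme := IsOpenImmersion.lift V'.ι g (by
    rw [hr, Scheme.Opens.range_ι]; exact Set.sdiff_subset)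
  have hcg : c ≫ V'.ι = g := IsOpenImmersion.lift_fac _ _ _
  haveI : IsImmersion (c ≫ V'.ι) := by rw [hcg]; exact hg
  haveI : IsImmersion c := IsImmersion.of_comp c V'.ι
  have hrange : Set.range c.base = V'.ι.base ⁻¹' ((V : Set X)ᶜ) := by
    have e : V'.ι.base '' Set.range c.base = (V' : Set X) \ V := by
      rw [← Set.range_comp, ← hr, ← hcg]; rfl
    have := congrArg (V'.ι.base ⁻¹' ·) e
    rw [Set.preimage_image_eq _ V'.ι.isOpenEmbedding.injective] at this
    rw [this]
    ext p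
    exact ⟨fun h => h.2, fun h => ⟨p.2, h⟩⟩
  haveI : IsClosedImmersion c := IsClosedImmersion.of_isPreimmersion c (by
    rw [hrange]; exact V.isOpen.isClosed_compl.preimage V'.ι.continuous)
  haveI : Mono V'.ι := inferInstance
  let E' := openPart F V'
  let F' := (EtShriek.restrAlong V'.ι).obj F
  let G := (EtCoh.pull c).obj F'
  let π : E' ⟶ (EtShriek.extZero V'.ι).obj ((EtCoh.push c).obj G) :=
    (EtShriek.extZero V'.ι).map ((EtCoh.pullPushAdj c).unit.app F')
  haveI := isIso_restr_counit (F := F) h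
  let ι : openPart F V ⟶ E' :=
    (EtShriek.extZero V.ι).map (inv ((EtShriek.restrAlong V.ι).map ((EtShriek.extZeroAdj V'.ι).counit.app F))) ≫
      (EtShriek.extZeroAdj V.ι).counit.app E'
  have hflc : EtCoh.IsFiniteLocallyConstant G := by
    rw [isFLC_iff]
    obtain ⟨θ⟩ := nonempty_pull_iso_restrAlong V'.ι F
    have h1 : PullLC (A := AddCommGrpCat.{u + 1}) FinP ((pullA V'.ι AddCommGrpCat.{u + 1}).obj F) c :=
      PullLC.pull (g := g) hl (𝟙 T) ((Category.id_comp _).trans hcg.symm)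
    exact LC.of_stalk_iso h1 ((pullA c AddCommGrpCat.{u + 1}).map θ.hom)
  -- stalks
  have hsrc : ∀ {Ω : Type u} [Field Ω] [IsSepClosed Ω] (ξ : Spec (CommRingCat.of Ω) ⟶ X), ξ.base default ∉ V →
      IsZero ((stk (A := AddCommGrpCat.{u + 1}) ξ).obj (openPart F V)) := fun ξ hξ =>
    isZero_stalk_extZero V.ι _ ξ (by rwa [Scheme.Opens.range_ι])
  have hι : ∀ {Ω : Type u} [Field Ω] [IsSepClosed Ω] (ξ : Spec (CommRingCat.of Ω) ⟶ X), ξ.base default ∈ V →
      IsIso ((stk (A := AddCommGrpCat.{u + 1}) ξ).map ι) := fun ξ hξ => by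
    haveI := isIso_counit_stalk V.ι E' ξ (by rwa [Scheme.Opens.range_ι])
    rw [Functor.map_comp]
    infer_instance
  have htgt : ∀ {Ω : Type u} [Field Ω] [IsSepClosed Ω] (ξ : Spec (CommRingCat.of Ω) ⟶ X),
      (ξ.base default ∈ V ∨ ξ.base default ∉ V') →
      IsZero ((stk (A := AddCommGrpCat.{u + 1}) ξ).obj ((EtShriek.extZero V'.ι).obj ((EtCoh.push c).obj G))) := by
    intro Ω _ _ ξ hξ
    by_cases h' : ξ.base default ∈ V'
    · obtain ⟨v, rfl⟩ := exists_factor V'.ι ξ (by rwa [Scheme.Opens.range_ι])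
      haveI := subsingleton_push_stalk c G v fun hm => (hrange.subset hm) (hξ.resolve_right (not_not.2 h'))
      haveI := isIso_inclStalk V'.ι ((EtCoh.push c).obj G) (v ≫ V'.ι) ⟨v, rfl⟩
      exact (AddCommGrpCat.isZero_of_subsingleton _ : IsZero ((stk (A := AddCommGrpCat.{u + 1}) v).obj
        ((EtCoh.push c).obj G))).of_iso (asIso (inclStalk V'.ι ((EtCoh.push c).obj G) (v ≫ V'.ι) ⟨v, rfl⟩)).symm
    · exact isZero_stalk_extZero V'.ι _ ξ (by rwa [Scheme.Opens.range_ι])
  have hπ : ∀ {Ω : Type u} [Field Ω] [IsSepClosed Ω] (ξ : Spec (CommRingCat.of Ω) ⟶ X),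
      ξ.base default ∈ V' → ξ.base default ∉ V → IsIso ((stk (A := AddCommGrpCat.{u + 1}) ξ).map π) := by
    intro Ω _ _ ξ h' hV
    obtain ⟨v, rfl⟩ := exists_factor V'.ι ξ (by rwa [Scheme.Opens.range_ι])
    obtain ⟨ζ, rfl⟩ := exists_factor c v (hrange.ge hV)
    haveI := isIso_unit_stalk_closed c F' ζ
    exact isIso_extZero_map_stalk V'.ι ((EtCoh.pullPushAdj c).unit.app F') (ζ ≫ c)
  have hz : ι ≫ π = 0 := by
    have h0 : ∀ (Ω : Type u) [Field Ω] [IsSepClosed Ω] (ξ : Spec (CommRingCat.of Ω) ⟶ X),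
        (stk (A := AddCommGrpCat.{u + 1}) ξ).map (ι ≫ π) = 0 := fun Ω _ _ ξ => by
      by_cases hV : ξ.base default ∈ V
      · exact (htgt ξ (Or.inl hV)).eq_of_tgt _ _
      · exact (hsrc ξ hV).eq_of_src _ _
    apply Sheaf.hom_ext
    ext W : 2
    ext s
    refine eq_of_germ (A := AddCommGrpCat.{u + 1}) _ _ _ fun Ω _ _ ξ u => ?_
    rw [← germ_natural_apply, h0]
    exact (map_zero _).symm
  refine ⟨ι, T, c, inferInstance, G, π, hz, hcg.symm ▸ hc, hflc,
    { exact := (exact_iff_stalks (A := AddCommGrpCat.{u + 1}) _).2 fun Ω _ _ ξ => ?_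
      mono_f := (mono_iff_stalks (A := AddCommGrpCat.{u + 1}) _).2 fun Ω _ _ ξ => ?_
      epi_g := (epi_iff_stalks (A := AddCommGrpCat.{u + 1}) _).2 fun Ω _ _ ξ => ?_ }⟩
  · by_cases hV : ξ.base default ∈ V
    · haveI := hι ξ hV
      exact (ShortComplex.exact_iff_epi _ ((htgt ξ (Or.inl hV)).eq_of_tgt _ _)).2
        (inferInstanceAs (Epi ((stk (A := AddCommGrpCat.{u + 1}) ξ).map ι)))
    · refine (ShortComplex.exact_iff_mono _ ((hsrc ξ hV).eq_of_src _ _)).2 ?_
      by_cases h' : ξ.base default ∈ V'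
      · haveI := hπ ξ h' hV
        exact inferInstanceAs (Mono ((stk (A := AddCommGrpCat.{u + 1}) ξ).map π))
      · exact ⟨fun a b _ => (isZero_stalk_extZero V'.ι F' ξ (by rwa [Scheme.Opens.range_ι])).eq_of_tgt a b⟩
  · by_cases hV : ξ.base default ∈ V
    · haveI := hι ξ hV
      exact inferInstanceAs (Mono ((stk (A := AddCommGrpCat.{u + 1}) ξ).map ι))
    · exact ⟨fun a b _ => (hsrc ξ hV).eq_of_tgt a b⟩
  · by_cases hcase : ξ.base default ∈ V' ∧ ξ.base default ∉ V
    · haveI := hπ ξ hcase.1 hcase.2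
      exact inferInstanceAs (Epi ((stk (A := AddCommGrpCat.{u + 1}) ξ).map π))
    · refine ⟨fun a b _ => (htgt ξ ?_).eq_of_src a b⟩
      by_cases h' : ξ.base default ∈ V'
      · exact Or.inl (by_contra fun hV => hcase ⟨h', hV⟩)
      · exact Or.inr h'

theorem isZero_openPart_bot (F : EtCoh.Ab X) : IsZero (openPart F ⊥) := by
  haveI : IsIso (0 : openPart F ⊥ ⟶ openPart F ⊥) := isIso_of_stalks (A := AddCommGrpCat.{u + 1}) _
    fun Ω _ _ ξ => by
      have h : IsZero ((stk (A := AddCommGrpCat.{u + 1}) ξ).obj (openPart F ⊥)) :=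
        isZero_stalk_extZero (⊥ : X.Opens).ι _ ξ (by rw [Scheme.Opens.range_ι]; exact id)
      exact ⟨0, h.eq_of_src _ _, h.eq_of_src _ _⟩
  rw [IsZero.iff_id_eq_zero, ← cancel_mono (0 : openPart F ⊥ ⟶ openPart F ⊥)]
  simp

theorem nonempty_openPart_top (F : EtCoh.Ab X) : Nonempty (openPart F ⊤ ≅ F) := by
  haveI : IsIso ((EtShriek.extZeroAdj (⊤ : X.Opens).ι).counit.app F) :=
    isIso_of_stalks (A := AddCommGrpCat.{u + 1}) _ fun Ω _ _ ξ =>
      isIso_counit_stalk (⊤ : X.Opens).ι F ξ (by rw [Scheme.Opens.range_ι]; trivial)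
  exact ⟨asIso ((EtShriek.extZeroAdj (⊤ : X.Opens).ι).counit.app F)⟩

end Groth.Agent.EtShLib
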