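import Groth.Agent.EtShLib.SpecGen
import Mathlib.Data.Finite.Card

/-! Arrows between geometric points over the same point are invertible. -/

set_option autoImplicit false
set_option linter.unusedSectionVars false
set_option linter.style.haveILetI false
set_option backward.isDefEq.respectTransparency false
set_option backward.isDefEq.respectTransparency.types false
set_option synthInstance.maxHeartbeats 400000
set_option maxHeartbeats 1000000

universe u

open CategoryTheory CategoryTheory.Limits AlgebraicGeometry Opposite Topology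

namespace Groth.Agent.EtShLib

variable {X : Scheme.{u}} {Ω Ω' : Type u} [Field Ω] [IsSepClosed Ω] [Field Ω'] [IsSepClosed Ω']
  {ξ : Spec (CommRingCat.of Ω) ⟶ X} {ξ' : Spec (CommRingCat.of Ω') ⟶ X}

theorem arrow_pt (φ : Scheme.pointSmallEtale ξ' ⟶ Scheme.pointSmallEtale ξ) (e : ξ'.base default = ξ.base default)
    (U : X.Etale) (u : Fib ξ U) : (Fib.pt (ξ := ξ') (U := U) (φ.hom.app U u)) = u.pt := by
  haveI := locallyQuasiFinite_of_etale (str U)
  have hspec : (Fib.pt (ξ := ξ') (U := U) (φ.hom.app U u)) ⤳ u.pt := by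
    rw [specializes_iff_forall_open]
    intro O hO hu
    obtain ⟨W, j, w, hw, hj⟩ := exists_open_below ξ U u ⟨O, hO⟩ hu
    have hn : φ.hom.app U u = Fib.map (ξ := ξ') j (φ.hom.app W w) := by
      rw [← hw]
      exact NatTrans.naturality_apply φ.hom j w
    rw [hn]
    exact hj ⟨Fib.pt (ξ := ξ') (φ.hom.app W w), rfl⟩
  let S : Set U.left := (str U).base ⁻¹' {ξ.base default}
  haveI : DiscreteTopology S := (Scheme.Hom.isDiscrete_preimage_singleton (str U) (ξ.base default)).to_subtype
  have h1 : (Fib.pt (ξ := ξ') (U := U) (φ.hom.app U u)) ∈ S :=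
    (congrArg (fun t : Spec (CommRingCat.of Ω') ⟶ X => t.base default) (Fib.w (ξ := ξ') (φ.hom.app U u))).trans e
  have h2 : u.pt ∈ S := congrArg (fun t : Spec (CommRingCat.of Ω) ⟶ X => t.base default) u.w
  have := ((subtype_specializes_iff (⟨_, h1⟩ : S) ⟨_, h2⟩).2 hspec).eq
  exact congrArg Subtype.val this

theorem arrow_injective (φ : Scheme.pointSmallEtale ξ' ⟶ Scheme.pointSmallEtale ξ) (e : ξ'.base default = ξ.base default)
    (U : X.Etale) : Function.Injective (φ.hom.app U) := by
  intro (a : Fib ξ U) (b : Fib ξ U) hab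
  haveI : AlgebraicGeometry.Etale (str U) := inferInstance
  let P : X.Etale := MorphismProperty.Over.mk ⊤ (pullback.fst (str U) (str U) ≫ str U)
    (inferInstance : AlgebraicGeometry.Etale (pullback.fst (str U) (str U) ≫ str U))
  let p₁ : P ⟶ U := MorphismProperty.Over.homMk (pullback.fst (str U) (str U)) rfl
  let p₂ : P ⟶ U := MorphismProperty.Over.homMk (pullback.snd (str U) (str U)) pullback.condition.symm
  let δ : U ⟶ P := MorphismProperty.Over.homMk (pullback.diagonal (str U)) (by
    show pullback.diagonal (str U) ≫ pullback.fst _ _ ≫ str U = str U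
    rw [pullback.diagonal_fst_assoc])
  let c : Fib ξ P := Fib.mk (pullback.lift a.hom b.hom (a.w.trans b.w.symm)) (by
    show pullback.lift _ _ _ ≫ pullback.fst _ _ ≫ str U = ξ
    rw [pullback.lift_fst_assoc]
    exact a.w)
  have hc₁ : c.map p₁ = a := Fib.ext (pullback.lift_fst _ _ _)
  have hc₂ : c.map p₂ = b := Fib.ext (pullback.lift_snd _ _ _)
  let c' : Fib ξ' P := φ.hom.app P c
  let a' : Fib ξ' U := φ.hom.app U a
  have h₁ : c'.map p₁ = a' :=
    (NatTrans.naturality_apply φ.hom p₁ c).symm.trans (congrArg (φ.hom.app U) hc₁)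
  have h₂ : c'.map p₂ = a' := by
    refine ((NatTrans.naturality_apply φ.hom p₂ c).symm.trans ?_)
    exact (congrArg (φ.hom.app U) hc₂).trans hab.symm
  have hδ : c' = a'.map δ := Fib.ext (pullback.hom_ext
    (by
      rw [Fib.map_hom, Category.assoc]
      exact (congrArg (fun t => t.hom) h₁).trans
        ((Category.comp_id _).symm.trans (congrArg (a'.hom ≫ ·) (pullback.diagonal_fst (str U)).symm)))
    (by
      rw [Fib.map_hom, Category.assoc]
      exact (congrArg (fun t => t.hom) h₂).trans
        ((Category.comp_id _).symm.trans (congrArg (a'.hom ≫ ·) (pullback.diagonal_snd (str U)).symm))))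
  have hpt : c.pt ∈ Set.range (pullback.diagonal (str U)).base :=
    ⟨a'.pt, (congrArg (fun t : Fib ξ' P => t.pt) hδ.symm).trans (arrow_pt φ e P c)⟩
  have hr : Set.range c.hom.base ⊆ Set.range (pullback.diagonal (str U)).base := by
    rintro _ ⟨q, rfl⟩
    rw [Subsingleton.elim q default]
    exact hpt
  have hl := IsOpenImmersion.lift_fac (pullback.diagonal (str U)) c.hom hr
  refine Fib.ext ?_
  rw [← hc₁, ← hc₂, Fib.map_hom, Fib.map_hom]
  show c.hom ≫ pullback.fst _ _ = c.hom ≫ pullback.snd _ _
  rw [← hl]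
  simp only [Category.assoc]
  exact congrArg (IsOpenImmersion.lift (pullback.diagonal (str U)) c.hom hr ≫ ·)
    ((pullback.diagonal_fst (str U)).trans (pullback.diagonal_snd (str U)).symm)

theorem arrow_bijective (φ : Scheme.pointSmallEtale ξ' ⟶ Scheme.pointSmallEtale ξ) (e : ξ'.base default = ξ.base default)
    (U : X.Etale) : Function.Bijective (φ.hom.app U) := by
  refine ⟨arrow_injective φ e U, fun v => ?_⟩
  obtain ⟨W, k, w, hW, hw⟩ := exists_small_below ξ' U v
  obtain ⟨ψ⟩ := exists_spec_arrow' ξ' ξ (e ▸ specializes_rfl)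
  haveI := finite_fib_small ξ W hW
  haveI := finite_fib_small ξ' W hW
  obtain ⟨p, hp⟩ := ((Nat.bijective_iff_injective_and_card (φ.hom.app W)).2 ⟨arrow_injective φ e W,
    le_antisymm (Nat.card_le_card_of_injective _ (arrow_injective φ e W))
      (Nat.card_le_card_of_injective _ (arrow_injective ψ e.symm W))⟩).2 w
  refine ⟨Fib.map k p, ?_⟩
  rw [← hw, ← hp]
  exact NatTrans.naturality_apply φ.hom k p

/-- Arrows over a fixed point induce isomorphisms on stalks. -/
theorem isIso_sheafFiber_of_eq {A : Type (u + 2)} [Category.{u + 1} A] [HasColimitsOfSize.{u, u} A]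
    (φ : Scheme.pointSmallEtale ξ' ⟶ Scheme.pointSmallEtale ξ) (e : ξ'.base default = ξ.base default) :
    IsIso (GrothendieckTopology.Point.Hom.sheafFiber (A := A) φ) := by
  haveI : ∀ U, IsIso (φ.hom.app U) := fun U => (isIso_iff_bijective _).2 (arrow_bijective φ e U)
  haveI : IsIso φ.hom := NatIso.isIso_of_isIso_app _
  let ψ : Scheme.pointSmallEtale ξ ⟶ Scheme.pointSmallEtale ξ' := ⟨inv φ.hom⟩
  refine ⟨GrothendieckTopology.Point.Hom.sheafFiber (A := A) ψ, ?_, ?_⟩
  · rw [← GrothendieckTopology.Point.Hom.sheafFiber_comp,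
      show ψ ≫ φ = 𝟙 _ from GrothendieckTopology.Point.hom_ext (IsIso.hom_inv_id φ.hom),
      GrothendieckTopology.Point.Hom.sheafFiber_id]
  · rw [← GrothendieckTopology.Point.Hom.sheafFiber_comp,
      show φ ≫ ψ = 𝟙 _ from GrothendieckTopology.Point.hom_ext (IsIso.inv_hom_id φ.hom),
      GrothendieckTopology.Point.Hom.sheafFiber_id]

theorem nonempty_stk_iso_of_eq {A : Type (u + 2)} [Category.{u + 1} A] [HasColimitsOfSize.{u, u} A]
    (e : ξ'.base default = ξ.base default) : Nonempty (stk (A := A) ξ ≅ stk (A := A) ξ') := by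
  obtain ⟨φ⟩ := exists_spec_arrow' ξ ξ' (e ▸ specializes_rfl)
  haveI := isIso_sheafFiber_of_eq (A := A) φ e
  exact ⟨asIso (GrothendieckTopology.Point.Hom.sheafFiber (A := A) φ)⟩

end Groth.Agent.EtShLib
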