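import Groth.Agent.EtShLib.LqfShriek
import Mathlib.CategoryTheory.Adjunction.AdjointFunctorTheorems
import Mathlib.CategoryTheory.Abelian.Opposite
import Mathlib.CategoryTheory.Abelian.Subobject

/-! `f_!` is exact and a left adjoint for separated locally quasi-finite morphisms. -/

set_option autoImplicit false
set_option linter.unusedSectionVars false
set_option linter.style.haveILetI false
set_option backward.isDefEq.respectTransparency false
set_option backward.isDefEq.respectTransparency.types false
set_option synthInstance.maxHeartbeats 400000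
set_option maxHeartbeats 1000000

universe u

open CategoryTheory CategoryTheory.Limits AlgebraicGeometry Opposite

namespace Groth.Agent.EtShLib

variable {X Y : Scheme.{u}} (f : X ⟶ Y) [LocallyOfFiniteType f] [IsSeparated f] [LocallyQuasiFinite f]

theorem preservesColimits_preF_stk {Ω : Type u} [Field Ω] [IsSepClosed Ω] [IsAlgClosed Ω]
    (ξ : Spec (CommRingCat.of Ω) ⟶ Y) :
    PreservesColimitsOfSize.{u + 1, u + 1} (preF f ⋙ stk (A := AddCommGrpCat.{u + 1}) ξ) := by
  haveI : PreservesColimitsOfSize.{u + 1, u + 1} (liftsFam f ξ) :=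
    ⟨fun {J} _ => ⟨fun {D} => preservesColimit_of_evaluation _ _ fun u =>
      have : PreservesColimitsOfSize.{u + 1, u + 1} (stk (A := AddCommGrpCat.{u + 1}) u.as.1) := inferInstance
      inferInstanceAs (PreservesColimit D (stk (A := AddCommGrpCat.{u + 1}) u.as.1))⟩⟩
  haveI : PreservesColimitsOfSize.{u + 1, u + 1}
      (colim (J := Discrete {u : Spec (CommRingCat.of Ω) ⟶ X // u ≫ f = ξ}) (C := AddCommGrpCat.{u + 1})) :=
    colimConstAdj.leftAdjoint_preservesColimits
  exact preservesColimits_of_natIso (stkPreIso f ξ)

theorem preservesColimits_preF : PreservesColimitsOfSize.{u + 1, u + 1} (preF f) := by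
  refine ⟨fun {J} _ => ⟨fun {D} => ?_⟩⟩
  haveI : IsIso (colimit.post D (preF f)) := isIso_of_stalks_algClosed _ fun Ω _ _ _ ξ => by
    haveI := preservesColimits_preF_stk f ξ
    haveI : IsIso (colimit.post D (preF f ⋙ stk (A := AddCommGrpCat.{u + 1}) ξ)) := inferInstance
    haveI : IsIso (colimit.post (D ⋙ preF f) (stk (A := AddCommGrpCat.{u + 1}) ξ)) := inferInstance
    haveI : IsIso (colimit.post (D ⋙ preF f) (stk (A := AddCommGrpCat.{u + 1}) ξ) ≫
        (stk (A := AddCommGrpCat.{u + 1}) ξ).map (colimit.post D (preF f))) := by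
      rw [colimit.post_post]
      infer_instance
    exact IsIso.of_isIso_comp_left (colimit.post (D ⋙ preF f) (stk (A := AddCommGrpCat.{u + 1}) ξ)) _
  exact preservesColimit_of_isIso_post (preF f) D

theorem preservesColimits_lowerShriek : PreservesColimitsOfSize.{u + 1, u + 1} (EtShriek.lowerShriek f) :=
  haveI := preservesColimits_preF f
  preservesColimits_of_natIso (lowerShriekIso f).symm

theorem preservesFiniteColimits_lowerShriek : PreservesFiniteColimits (EtShriek.lowerShriek f) :=
  haveI := preservesColimits_lowerShriek f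
  PreservesColimitsOfSize.preservesFiniteColimits _

theorem preservesFiniteLimits_lowerShriek : PreservesFiniteLimits (EtShriek.lowerShriek f) := by
  haveI := preservesColimits_preF f
  haveI : PreservesFiniteColimits (preF f) := PreservesColimitsOfSize.preservesFiniteColimits _
  haveI : (preF f).Additive :=
    { map_add := fun {F G α β} => Sheaf.hom_ext (by
        ext V : 2
        ext s
        rfl) }
  haveI := preservesMonomorphisms_preF f
  haveI : (preF f).PreservesHomology := Functor.preservesHomology_of_preservesMonos_and_cokernels _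
  haveI := Functor.preservesFiniteLimits_of_preservesHomology (preF f)
  exact preservesFiniteLimits_of_natIso (lowerShriekIso f).symm

theorem isLeftAdjoint_lowerShriek : (EtShriek.lowerShriek f).IsLeftAdjoint := by
  haveI := preservesColimits_lowerShriek f
  haveI : HasColimitsOfSize.{u + 1, u + 1} (EtCoh.Ab X) := inferInstance
  haveI : WellPowered.{u + 1} (EtCoh.Ab X)ᵒᵖ := inferInstance
  exact isLeftAdjoint_of_preservesColimits_of_isSeparating
    (P := ObjectProperty.singleton (separator (EtCoh.Ab X))) (isSeparator_separator _) _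

theorem stalk_lowerShriek {Ω : Type u} [Field Ω] [IsAlgClosed Ω] (ξ : Spec (CommRingCat.of Ω) ⟶ Y) (F : EtCoh.Ab X) :
    Nonempty ((EtCoh.stalk ξ).obj ((EtShriek.lowerShriek f).obj F) ≅
      ∐ fun u : {u : Spec (CommRingCat.of Ω) ⟶ X // u ≫ f = ξ} => (EtCoh.stalk u.1).obj F) :=
  ⟨(stk (A := AddCommGrpCat.{u + 1}) ξ).mapIso ((lowerShriekIso f).app F) ≪≫
    ((isColimitInjAt f ξ F).coconePointUniqueUpToIso (colimit.isColimit _))⟩

end Groth.Agent.EtShLib
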