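import Groth.Agent.EtShLib.SpecArrow
import Groth.Agent.EtShLib.PushStalk
import Mathlib.AlgebraicGeometry.Morphisms.Separated

/-! Counting geometric points in the fibres of separated étale morphisms. -/

set_option autoImplicit false
set_option linter.unusedSectionVars false
set_option linter.style.haveILetI false
set_option backward.isDefEq.respectTransparency false
set_option backward.isDefEq.respectTransparency.types false
set_option synthInstance.maxHeartbeats 400000
set_option maxHeartbeats 1000000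

universe u

open CategoryTheory CategoryTheory.Limits AlgebraicGeometry Opposite

namespace Groth.Agent.EtShLib

/-- GeomLifts of a field-valued point. -/
abbrev GeomLifts {U X : Scheme.{u}} (f : U ⟶ X) {Ω : Type u} [Field Ω] (ξ : Spec (CommRingCat.of Ω) ⟶ X) : Type u :=
  {v : Spec (CommRingCat.of Ω) ⟶ U // v ≫ f = ξ}

/-- There are at least `n` lifts. -/
def AtLeast {U X : Scheme.{u}} (f : U ⟶ X) {Ω : Type u} [Field Ω] (ξ : Spec (CommRingCat.of Ω) ⟶ X) (n : ℕ) : Prop :=
  ∃ s : Fin n → GeomLifts f ξ, Function.Injective s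

variable {U X : Scheme.{u}} (f : U ⟶ X) [AlgebraicGeometry.Etale f]

theorem finite_lifts [QuasiCompact f] {Ω : Type u} [Field Ω] (ξ : Spec (CommRingCat.of Ω) ⟶ X) :
    Finite (GeomLifts f ξ) := by
  haveI := locallyQuasiFinite_of_etale f
  let S : Set U := f.base ⁻¹' {ξ.base default}
  haveI : Finite S := (f.finite_preimage_singleton (ξ.base default)).to_subtype
  have hfin : ∀ y : S, Finite {p : WeightLib.GPts f ξ // WeightLib.img p.1 = y.1} := by
    intro y
    refine finite_gptsAt f y.1 ξ ?_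
    exact (show f y.1 = ξ.base default from y.2).trans (congrArg ξ.base (Subsingleton.elim _ _))
  let g : GeomLifts f ξ → Σ y : S, {p : WeightLib.GPts f ξ // WeightLib.img p.1 = y.1} := fun v =>
    ⟨⟨WeightLib.img v.1, (WeightLib.img_comp v.1 f).symm.trans
      ((congrArg WeightLib.img v.2).trans (congrArg ξ.base (Subsingleton.elim _ _)))⟩, ⟨v.1, v.2⟩, rfl⟩
  exact Finite.of_injective g fun a b e => Subtype.ext (congrArg (fun t => t.2.1.1) e)

theorem exists_exact_count [QuasiCompact f] {Ω : Type u} [Field Ω] (ξ : Spec (CommRingCat.of Ω) ⟶ X) :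
    ∃ n, AtLeast f ξ n ∧ ¬ AtLeast f ξ (n + 1) := by
  haveI := finite_lifts f ξ
  refine ⟨Nat.card (GeomLifts f ξ), ⟨_, (Finite.equivFin (GeomLifts f ξ)).symm.injective⟩, ?_⟩
  rintro ⟨s, hs⟩
  have := Nat.card_le_card_of_injective s hs
  simp at this

omit [AlgebraicGeometry.Etale f] in
/-- Injections into a set with the same exact count are bijective. -/
theorem surjective_of_count {Ω Ω' : Type u} [Field Ω] [Field Ω'] {ξ : Spec (CommRingCat.of Ω) ⟶ X}
    {ξ' : Spec (CommRingCat.of Ω') ⟶ X} {n : ℕ} (h : AtLeast f ξ n)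
    (h' : ¬ AtLeast f ξ' (n + 1)) (φ : GeomLifts f ξ → GeomLifts f ξ') (hφ : Function.Injective φ) :
    Function.Surjective φ := by
  intro v
  by_contra hv
  obtain ⟨s, hs⟩ := h
  refine h' ⟨Fin.cons v (φ ∘ s), Fin.cons_injective_iff.2 ⟨?_, hφ.comp hs⟩⟩
  rintro ⟨i, hi⟩
  exact hv ⟨s i, hi⟩

/-- The lifts other than a given one, seen on the complement of the diagonal. -/
theorem exists_rest [IsSeparated f] [CompactSpace X] [QuasiSeparatedSpace X] [CompactSpace U]
    [QuasiSeparatedSpace U] :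
    ∃ (U' : Scheme.{u}) (p : U' ⟶ U) (_ : AlgebraicGeometry.Etale p) (_ : IsSeparated p)
      (_ : CompactSpace U') (_ : QuasiSeparatedSpace U'),
      ∀ (Ω : Type u) [Field Ω] (ξ : Spec (CommRingCat.of Ω) ⟶ X) (v : GeomLifts f ξ),
        Nonempty (GeomLifts p v.1 ≃ {w : GeomLifts f ξ // w ≠ v}) := by
  let Δ := pullback.diagonal f
  haveI : IsOpenImmersion Δ := inferInstance
  haveI : IsClosedImmersion Δ := inferInstance
  let O : (pullback f f).Opens := ⟨(Set.range Δ.base)ᶜ, Δ.isClosedEmbedding.isClosed_range.isOpen_compl⟩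
  haveI : QuasiCompact f := quasiCompact_of_compactSpace f
  haveI : CompactSpace ↥(pullback f f) := QuasiCompact.compactSpace_of_compactSpace (pullback.fst f f)
  haveI : QuasiSeparatedSpace ↥(pullback f f) := quasiSeparatedSpace_of_quasiSeparated (pullback.fst f f)
  haveI : CompactSpace ↥O.toScheme :=
    isCompact_iff_compactSpace.1 (Δ.isOpenEmbedding.isOpen_range.isClosed_compl.isCompact)
  haveI : QuasiSeparatedSpace ↥O.toScheme := quasiSeparatedSpace_of_quasiSeparated O.ι
  refine ⟨O.toScheme, O.ι ≫ pullback.fst f f, inferInstance, inferInstance, inferInstance, inferInstance,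
    fun Ω _ ξ v => ?_⟩
  let g : GeomLifts (O.ι ≫ pullback.fst f f) v.1 → {w : GeomLifts f ξ // w ≠ v} := fun t =>
    ⟨⟨t.1 ≫ O.ι ≫ pullback.snd f f, by
      rw [Category.assoc, Category.assoc, ← pullback.condition]
      refine Eq.trans ?_ ((congrArg (· ≫ f) t.2).trans v.2)
      simp⟩, fun e => by
      have e' : t.1 ≫ O.ι ≫ pullback.snd f f = v.1 := congrArg Subtype.val e
      have h : t.1 ≫ O.ι = v.1 ≫ Δ := pullback.hom_ext
        (by simp only [Category.assoc, Δ, pullback.diagonal_fst, Category.comp_id]; exact t.2)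
        (by simp only [Category.assoc, Δ, pullback.diagonal_snd, Category.comp_id]; exact e')
      exact (t.1.base default).2 ⟨v.1.base default,
        (congrArg (fun s : Spec (CommRingCat.of Ω) ⟶ pullback f f => s.base default) h).symm⟩⟩
  refine ⟨Equiv.ofBijective g ⟨fun a b e => ?_, fun w => ?_⟩⟩
  · refine Subtype.ext ((cancel_mono O.ι).1 (pullback.hom_ext ?_ ?_))
    · simp only [Category.assoc]; exact a.2.trans b.2.symm
    · simp only [Category.assoc]; exact congrArg (fun t => t.1.1) e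
  · let z := pullback.lift v.1 w.1.1 (v.2.trans w.1.2.symm)
    have hz : Set.range z.base ⊆ Set.range O.ι.base := by
      rintro _ ⟨a, rfl⟩
      rw [Scheme.Opens.range_ι]
      rintro ⟨b, hb⟩
      refine w.2 (Subtype.ext ?_)
      have hz' : Set.range z.base ⊆ Set.range Δ.base := by
        rintro _ ⟨a', rfl⟩
        rw [Subsingleton.elim a' a]
        exact ⟨b, hb⟩
      have h := IsOpenImmersion.lift_fac Δ z hz'
      have h1 := congrArg (· ≫ pullback.fst f f) h
      have h2 := congrArg (· ≫ pullback.snd f f) h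
      simp only [Category.assoc, Δ, pullback.diagonal_fst, pullback.diagonal_snd, Category.comp_id, z,
        pullback.lift_fst, pullback.lift_snd] at h1 h2
      exact h2.symm.trans h1
    refine ⟨⟨IsOpenImmersion.lift O.ι z hz, ?_⟩, Subtype.ext (Subtype.ext ?_)⟩
    · rw [IsOpenImmersion.lift_fac_assoc, pullback.lift_fst]
    · show IsOpenImmersion.lift O.ι z hz ≫ O.ι ≫ pullback.snd f f = w.1.1
      rw [IsOpenImmersion.lift_fac_assoc, pullback.lift_snd]

theorem exists_countOpen : ∀ (n : ℕ) {U X : Scheme.{u}} (f : U ⟶ X) [AlgebraicGeometry.Etale f] [IsSeparated f]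
    [CompactSpace X] [QuasiSeparatedSpace X] [CompactSpace U] [QuasiSeparatedSpace U],
    ∃ O : Set X, IsOpen O ∧ IsCompact O ∧ ∀ (Ω : Type u) [Field Ω] [IsSepClosed Ω]
      (ξ : Spec (CommRingCat.of Ω) ⟶ X), ξ.base default ∈ O ↔ AtLeast f ξ n := by
  intro n
  induction n with
  | zero =>
    intro U X f _ _ _ _ _ _
    exact ⟨Set.univ, isOpen_univ, isCompact_univ,
      fun Ω _ _ ξ => ⟨fun _ => ⟨fun i => i.elim0, fun i => i.elim0⟩, fun _ => trivial⟩⟩
  | succ n ih =>
    intro U X f _ _ _ _ _ _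
    obtain ⟨U', p, _, _, _, _, e⟩ := exists_rest f
    obtain ⟨O, hO, hc, h⟩ := ih p
    refine ⟨f.base '' O, f.isOpenMap O hO, hc.image f.continuous, fun Ω _ _ ξ => ⟨?_, ?_⟩⟩
    · rintro ⟨y, hy, hfy⟩
      obtain ⟨l, hl, hl'⟩ := Scheme.exists_fac_of_etale_of_isSepClosed f ξ y hfy
      let v : GeomLifts f ξ := ⟨l, hl⟩
      obtain ⟨e⟩ := e Ω ξ v
      obtain ⟨s, hs⟩ := (h Ω l).1 (hl'.symm ▸ hy)
      refine ⟨Fin.cons v (fun i => (e (s i)).1), Fin.cons_injective_iff.2
        ⟨?_, Subtype.val_injective.comp (e.injective.comp hs)⟩⟩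
      rintro ⟨i, hi⟩
      exact (e (s i)).2 hi
    · rintro ⟨s, hs⟩
      obtain ⟨e⟩ := e Ω ξ (s 0)
      refine ⟨(s 0).1.base default, (h Ω (s 0).1).2
        ⟨fun i => e.symm ⟨s i.succ, fun h => Fin.succ_ne_zero i (hs h)⟩, fun i j hij => ?_⟩, ?_⟩
      · exact Fin.succ_injective _ (hs (congrArg Subtype.val (e.symm.injective hij)))
      · exact congrArg (fun t : Spec (CommRingCat.of Ω) ⟶ X => t.base default) (s 0).2

end Groth.Agent.EtShLib
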