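import Groth.Agent.EtShLib.PieceCons
import Groth.Agent.EtShLib.Shriek

/-! Constructibility of extensions by zero. -/

set_option autoImplicit false
set_option linter.unusedSectionVars false
set_option linter.style.haveILetI false
set_option backward.isDefEq.respectTransparency false
set_option backward.isDefEq.respectTransparency.types false
set_option synthInstance.maxHeartbeats 400000
set_option maxHeartbeats 1000000

universe u

open CategoryTheory CategoryTheory.Limits AlgebraicGeometry Opposite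

namespace Groth.Agent.EtShLib

variable {X : Scheme.{u}}

section Const

variable (U : X.Etale) (M : Type) [AddCommGroup M]

/-- Maps out of `j_! M` are sections over `U`. -/
noncomputable def extConstAdj :
    constantSheaf (X.smallEtaleTopology.over U) AddCommGrpCat.{u + 1} ⋙ EtPBC.extZero U ⊣
      X.smallEtaleTopology.overPullback AddCommGrpCat.{u + 1} U ⋙
        (sheafSections (X.smallEtaleTopology.over U) AddCommGrpCat.{u + 1}).obj (op (Over.mk (𝟙 U))) :=
  (adjO (U := U)).comp (EtPBC.extZeroAdj U)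

/-- The tautological sections of `j_! M` over `U`. -/
noncomputable def extConstSec :
    AddCommGrpCat.of (ULift.{u + 1} M) ⟶ (EtPBC.extZeroConst U M).obj.obj (op U) :=
  (extConstAdj U).unit.app (AddCommGrpCat.of (ULift.{u + 1} M))

theorem extConst_hom_ext {N : EtCoh.Ab X} {a b : EtPBC.extZeroConst U M ⟶ N}
    (h : extConstSec U M ≫ a.hom.app (op U) = extConstSec U M ≫ b.hom.app (op U)) : a = b := by
  apply ((extConstAdj U).homEquiv _ N).injective
  rw [Adjunction.homEquiv_unit, Adjunction.homEquiv_unit]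
  exact h

theorem exists_extConst_hom {N : EtCoh.Ab X} (s : AddCommGrpCat.of (ULift.{u + 1} M) ⟶ N.obj.obj (op U)) :
    ∃ a : EtPBC.extZeroConst U M ⟶ N, extConstSec U M ≫ a.hom.app (op U) = s :=
  ⟨((extConstAdj U).homEquiv _ N).symm s,
    ((extConstAdj U).homEquiv_unit (f := ((extConstAdj U).homEquiv _ N).symm s)).symm.trans
      (Equiv.apply_symm_apply _ _)⟩

theorem existsUnique_stalk_extConst {Ω : Type u} [Field Ω] [IsSepClosed Ω] (ξ : Spec (CommRingCat.of Ω) ⟶ X)
    {N : AddCommGrpCat.{u + 1}} (b : Fib ξ U → (AddCommGrpCat.of (ULift.{u + 1} M) ⟶ N)) :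
    ∃! h : (stk (A := AddCommGrpCat.{u + 1}) ξ).obj (EtPBC.extZeroConst U M) ⟶ N,
      ∀ v, extConstSec U M ≫ germ ξ _ U v ≫ h = b v := by
  let sadj := (pt ξ).skyscraperSheafAdjunction (A := AddCommGrpCat.{u + 1})
  have key : ∀ (h : (stk (A := AddCommGrpCat.{u + 1}) ξ).obj (EtPBC.extZeroConst U M) ⟶ N) (v : Fib ξ U),
      extConstSec U M ≫ (sadj.homEquiv _ N h).hom.app (op U) ≫ Pi.π _ v = extConstSec U M ≫ germ ξ _ U v ≫ h :=
    fun h v => congrArg (extConstSec U M ≫ ·)
      ((congrArg (fun (t : (EtPBC.extZeroConst U M).obj ⟶ (pt ξ).skyscraperPresheaf N) => t.app (op U) ≫ Pi.π _ v)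
        ((pt ξ).skyscraperSheafAdjunction_homEquiv_apply_hom h)).trans
          ((pt ξ).skyscraperPresheafHomEquiv_app_π h U v))
  obtain ⟨a, ha⟩ := exists_extConst_hom U M (N := (pt ξ).skyscraperSheafFunctor.obj N) (Pi.lift b)
  refine ⟨(sadj.homEquiv _ N).symm a, fun v => ?_, fun h' hh' => (sadj.homEquiv _ N).injective ?_⟩
  · rw [← key, Equiv.apply_symm_apply, ← Category.assoc, ha]
    exact limit.lift_π _ _
  · rw [Equiv.apply_symm_apply]
    refine extConst_hom_ext U M (Pi.hom_ext _ _ fun v => ?_)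
    rw [ha, Category.assoc, key, hh']
    exact (limit.lift_π (Fan.mk _ b) ⟨v⟩).symm

theorem hasPieces_extConst [Finite M] :
    HasPieces (EtPBC.extZeroConst U M) U (fun p => p = ⟨U, 𝟙 U, AddCommGrpCat.of (ULift.{u + 1} M), extConstSec U M,
      inferInstanceAs (Finite (ULift.{u + 1} M))⟩) where
  cover Ω _ _ ξ u := ⟨_, rfl, u, Fib.ext (Category.comp_id _)⟩
  colim Ω _ _ ξ p hp v hv := by
    obtain rfl : p = fun _ => ⟨U, 𝟙 U, AddCommGrpCat.of (ULift.{u + 1} M), extConstSec U M,
      inferInstanceAs (Finite (ULift.{u + 1} M))⟩ := funext hp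
    obtain rfl : v = fun u => u := funext fun u => by
      have := hv u
      refine Fib.ext ?_
      exact (Category.comp_id _).symm.trans (congrArg (fun t : Fib ξ U => t.hom) this)
    exact ⟨Cofan.IsColimit.mk _ (fun t => (existsUnique_stalk_extConst U M ξ t.inj).choose)
      (fun t u => (Category.assoc _ _ _).trans ((existsUnique_stalk_extConst U M ξ t.inj).choose_spec.1 u))
      (fun t m hm => (existsUnique_stalk_extConst U M ξ t.inj).choose_spec.2 m fun u =>
        (Category.assoc _ _ _).symm.trans (hm u))⟩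

theorem isCons_extConst [CompactSpace X] [QuasiSeparatedSpace X] [CompactSpace U.left]
    [QuasiSeparatedSpace U.left] [Finite M] :
    IsCons (A := AddCommGrpCat.{u + 1}) FinP (EtPBC.extZeroConst U M) :=
  (hasPieces_extConst U M).isCons

end Const

section Etale

variable {V : Scheme.{u}} (f : V ⟶ X) [hf : AlgebraicGeometry.Etale f] [EtShriek.JCont f]

/-- An étale morphism as an object of the site. -/
noncomputable abbrev etaleObj : X.Etale :=
  MorphismProperty.Over.mk ⊤ f hf

theorem hasPieces_extZero {F : EtCoh.Ab V} (hF : LC (A := AddCommGrpCat.{u + 1}) FinP F) :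
    ∃ P, HasPieces ((EtShriek.extZero f).obj F) (etaleObj f) P := by
  let P : Piece ((EtShriek.extZero f).obj F) (etaleObj f) → Prop := fun p =>
    ∃ (W : V.Etale) (M : AddCommGrpCat.{u + 1}) (η : M ⟶ F.obj.obj (op W)) (hM : Finite M), IsCst F W η ∧
      p = ⟨(EtShriek.compEtale f).obj W, MorphismProperty.Over.homMk W.hom rfl, M,
        η ≫ ((EtShriek.extZeroAdj f).unit.app F).hom.app (op W), hM⟩
  refine ⟨P, ⟨fun Ω _ _ ξ u => ?_, fun Ω _ _ ξ p hp v hv => ?_⟩⟩
  · obtain ⟨W, y, M, η, hy, hM, hη⟩ := hF u.pt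
    obtain ⟨w, -⟩ := exists_fib (X := V) (Fib.hom (ξ := ξ) (U := etaleObj f) u) W y hy
    exact ⟨_, ⟨W, M, η, hM, hη, rfl⟩, (fibComp f (ξ := ξ) ⟨_, u.w⟩).app W w, Fib.ext w.w⟩
  · have key : ∀ (u : Fib ξ (etaleObj f)) (q : Piece ((EtShriek.extZero f).obj F) (etaleObj f)) (_ : P q)
        (w : Fib ξ q.V), w.map q.r = u →
        ∃ i : q.M ⟶ (stk (A := AddCommGrpCat.{u + 1}) (Fib.hom (ξ := ξ) (U := etaleObj f) u)).obj F, IsIso i ∧
          q.η ≫ germ ξ _ q.V w = i ≫ inclStalk f F ξ ⟨_, u.w⟩ := by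
      rintro u q ⟨W, M, η, hM, hη, rfl⟩ w rfl
      let w' : Fib (Fib.hom (ξ := ξ) (U := etaleObj f) (Fib.map (MorphismProperty.Over.homMk W.hom rfl :
          (EtShriek.compEtale f).obj W ⟶ etaleObj f) w)) W :=
        Fib.mk (Fib.hom (ξ := ξ) (U := (EtShriek.compEtale f).obj W) w) rfl
      refine ⟨η ≫ germ _ F W w', hη Ω _ w', ?_⟩
      rw [Category.assoc, Category.assoc]
      exact congrArg (η ≫ ·) (germ_inclStalk f F ξ ⟨_, (Fib.map _ w).w⟩ W w').symm
    choose i hi he using fun u => key u (p u) (hp u) (v u) (hv u)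
    let hc := stalkExtColimit f F ξ
    let e : Fib ξ (etaleObj f) ≃ {u : Spec (CommRingCat.of Ω) ⟶ V // u ≫ f = ξ} :=
      { toFun := fun u => ⟨_, u.w⟩
        invFun := fun t => Fib.mk (U := etaleObj f) t.1 t.2
        left_inv := fun u => Fib.ext rfl
        right_inv := fun t => Subtype.ext rfl }
    have := hi
    refine ⟨Cofan.IsColimit.mk _ (fun t => hc.desc (Cofan.mk t.pt fun l => by
        refine ?_ ≫ t.inj (e.symm l)
        exact inv (i (e.symm l)))) (fun t u => ?_) fun t m hm => hc.hom_ext fun ⟨l⟩ => ?_⟩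
    · dsimp only [Cofan.mk_pt]
      show ((p u).η ≫ germ ξ _ (p u).V (v u)) ≫ _ = _
      rw [he, Category.assoc]
      refine (congrArg (i u ≫ ·) (hc.fac _ ⟨e u⟩)).trans ?_
      show i u ≫ inv (i (e.symm (e u))) ≫ t.inj (e.symm (e u)) = _
      exact IsIso.hom_inv_id_assoc (i u) _
    · refine Eq.trans ?_ (hc.fac (Cofan.mk t.pt fun l => inv (i (e.symm l)) ≫ t.inj (e.symm l)) ⟨l⟩).symm
      show inclStalk f F ξ (e (e.symm l)) ≫ m = inv (i (e.symm l)) ≫ t.inj (e.symm l)
      rw [IsIso.eq_inv_comp, ← hm]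
      show i (e.symm l) ≫ inclStalk f F ξ ⟨_, (e.symm l).w⟩ ≫ m = ((p (e.symm l)).η ≫ germ ξ _ _ (v (e.symm l))) ≫ m
      rw [← Category.assoc, he]

theorem isCons_extZero [CompactSpace X] [QuasiSeparatedSpace X] [CompactSpace V] [QuasiSeparatedSpace V]
    {F : EtCoh.Ab V} (hF : LC (A := AddCommGrpCat.{u + 1}) FinP F) :
    IsCons (A := AddCommGrpCat.{u + 1}) FinP ((EtShriek.extZero f).obj F) := by
  obtain ⟨P, hP⟩ := hasPieces_extZero f hF
  haveI : CompactSpace (etaleObj f).left := inferInstanceAs (CompactSpace V)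
  haveI : QuasiSeparatedSpace (etaleObj f).left := inferInstanceAs (QuasiSeparatedSpace V)
  exact hP.isCons

end Etale

end Groth.Agent.EtShLib
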