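import Groth.Agent.EtShLib.Const
import Groth.Prelude.Def_EtRestW
import Groth.Prelude.Def_EtMod2

/-! Locally constant sheaves on small étale sites. -/

set_option autoImplicit false
set_option linter.unusedSectionVars false
set_option linter.style.haveILetI false
set_option backward.isDefEq.respectTransparency false
set_option backward.isDefEq.respectTransparency.types false
set_option synthInstance.maxHeartbeats 400000
set_option maxHeartbeats 1000000

universe u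

open CategoryTheory CategoryTheory.Limits AlgebraicGeometry Opposite

namespace Groth.Agent.EtShLib

variable {X Y : Scheme.{u}}

section Generic

variable {A : Type (u + 2)} [Category.{u + 1} A] [HasColimitsOfSize.{u, u} A]
  {FA : A → A → Type*} {CA : A → Type (u + 1)} [∀ M N, FunLike (FA M N) (CA M) (CA N)]
  [ConcreteCategory.{u + 1} A FA] [hfc : PreservesFilteredColimitsOfSize.{u, u} (forget A)]

/-- Locally constant with values satisfying `P`. -/
def LC (P : A → Prop) (F : Sheaf X.smallEtaleTopology A) : Prop :=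
  ∀ x : X, ∃ (U : X.Etale) (y : U.left) (M : A) (η : M ⟶ F.obj.obj (op U)),
    U.hom.base y = x ∧ P M ∧ IsCst F U η

theorem LC.mono {P Q : A → Prop} {F : Sheaf X.smallEtaleTopology A} (h : LC P F) (hPQ : ∀ M, P M → Q M) :
    LC Q F := fun x => by
  obtain ⟨U, y, M, η, hy, hM, hc⟩ := h x
  exact ⟨U, y, M, η, hy, hPQ M hM, hc⟩

theorem LC.of_stalk_iso {P : A → Prop} {F G : Sheaf X.smallEtaleTopology A} (h : LC P F) (φ : F ⟶ G) [IsIso φ] :
    LC P G := fun x => by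
  obtain ⟨U, y, M, η, hy, hM, hc⟩ := h x
  exact ⟨U, y, M, _, hy, hM, hc.of_stalk_iso φ fun _ _ _ _ _ => inferInstance⟩

theorem LC.pull [HasProducts.{u} A] {f : X ⟶ Y}
    [((EtCoh.bc f).sheafPushforwardContinuous A Y.smallEtaleTopology X.smallEtaleTopology).IsRightAdjoint]
    {P : A → Prop} {F : Sheaf Y.smallEtaleTopology A} (h : LC P F) : LC P ((pullA f A).obj F) := fun x => by
  obtain ⟨U, y, M, η, hy, hM, hc⟩ := h (f.base x)
  obtain ⟨z, -, hz⟩ := Scheme.Pullback.exists_preimage_pullback (f := U.hom) (g := f) y x hy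
  exact ⟨(EtCoh.bc f).obj U, z, M, _, hz, hM, hc.pull⟩

include hfc

theorem exists_common {P Q : A → Prop} {F G : Sheaf X.smallEtaleTopology A} (φ : F ⟶ G) (hF : LC P F) (hG : LC Q G)
    (hP : ∀ M, P M → FG M) (x : X) :
    ∃ (V : X.Etale) (y : V.left) (M N : A) (η : M ⟶ F.obj.obj (op V)) (θ : N ⟶ G.obj.obj (op V)) (h : M ⟶ N),
      V.hom.base y = x ∧ P M ∧ Q N ∧ IsCst F V η ∧ IsCst G V θ ∧ η ≫ φ.hom.app (op V) = h ≫ θ := by
  obtain ⟨U, y, M, η, hy, hM, hη⟩ := hF x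
  obtain ⟨U', y', N, θ, hy', hN, hθ⟩ := hG x
  obtain ⟨Ω, _, _, ξ, hξ⟩ := exists_geometric_pt x
  obtain ⟨a, -⟩ := exists_fib ξ U y (hy.trans hξ.symm)
  obtain ⟨b, -⟩ := exists_fib ξ U' y' (hy'.trans hξ.symm)
  obtain ⟨⟨W, w⟩, g, g', -⟩ := IsCofilteredOrEmpty.cone_objs ((pt ξ).fiber.elementsMk U a) ((pt ξ).fiber.elementsMk U' b)
  obtain ⟨V, k, v, h, -, he⟩ := exists_hom φ (η := η ≫ F.obj.map g.1.op) (hθ.map g'.1) (hP M hM) ξ w
  refine ⟨V, v.pt, M, N, _, _, h, ?_, hM, hN, (hη.map g.1).map k, (hθ.map g'.1).map k, ?_⟩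
  · exact (congrArg (fun t : Spec (CommRingCat.of Ω) ⟶ X => t.base default) v.w).trans hξ
  · simpa using he

theorem LC.kernel [Abelian A] [HasSheafify X.smallEtaleTopology A] [AB5OfSize.{u, u} A] [HasProducts.{u} A]
    {P Q R : A → Prop} {F G : Sheaf X.smallEtaleTopology A} (φ : F ⟶ G) (hF : LC P F) (hG : LC Q G)
    (hP : ∀ M, P M → FG M) (hR : ∀ (M N : A) (h : M ⟶ N), P M → Q N → R (Limits.kernel h)) :
    LC R (Limits.kernel φ) := fun x => by
  obtain ⟨V, y, M, N, η, θ, h, hy, hM, hN, hη, hθ, he⟩ := exists_common φ hF hG hP x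
  obtain ⟨η', hη'⟩ := isCst_kernel φ hη hθ h he
  exact ⟨V, y, _, η', hy, hR M N h hM hN, hη'⟩

theorem LC.cokernel [Abelian A] [HasSheafify X.smallEtaleTopology A] [AB5OfSize.{u, u} A] [HasProducts.{u} A]
    {P Q R : A → Prop} {F G : Sheaf X.smallEtaleTopology A} (φ : F ⟶ G) (hF : LC P F) (hG : LC Q G)
    (hP : ∀ M, P M → FG M) (hR : ∀ (M N : A) (h : M ⟶ N), P M → Q N → R (Limits.cokernel h)) :
    LC R (Limits.cokernel φ) := fun x => by
  obtain ⟨V, y, M, N, η, θ, h, hy, hM, hN, hη, hθ, he⟩ := exists_common φ hF hG hP x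
  obtain ⟨η', hη'⟩ := isCst_cokernel φ hη hθ h he
  exact ⟨V, y, _, η', hy, hR M N h hM hN, hη'⟩

end Generic

section AddCommGrp

theorem exists_isCst_Ab {U : X.Etale} {F : EtCoh.Ab X} {M : AddCommGrpCat.{u + 1}}
    (e : EtCoh.restr F U ≅ (constantSheaf (X.smallEtaleTopology.over U) AddCommGrpCat.{u + 1}).obj M) :
    ∃ η : M ⟶ F.obj.obj (op U), IsCst F U η := exists_isCst_of_iso e

theorem fg_Ab {M : AddCommGrpCat.{u + 1}} [Finite M] : FG M := by
  haveI := Fintype.ofFinite M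
  exact ⟨Finset.univ, fun N a b h => ConcreteCategory.hom_ext _ _ fun x => h x (Finset.mem_univ x)⟩

theorem isFLC_iff (F : EtCoh.Ab X) :
    EtCoh.IsFiniteLocallyConstant F ↔ LC (fun M : AddCommGrpCat.{u + 1} => Finite M) F := by
  constructor
  · rintro ⟨ι, U, hU, h⟩ x
    obtain ⟨i, y, hy⟩ := hU x
    obtain ⟨M, _, hM, ⟨e⟩⟩ := h i
    obtain ⟨η, hη⟩ := exists_isCst_Ab e
    exact ⟨U i, y, _, η, hy, inferInstanceAs (Finite (ULift.{u + 1} M)), hη⟩
  · intro h
    choose U y M η hy hM hη using h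
    refine ⟨X, U, fun x => ⟨x, y x, hy x⟩, fun x => ?_⟩
    haveI : Finite (M x) := hM x
    let e : AddCommGrpCat.of (ULift.{u + 1} (Shrink.{0} (M x))) ≅ M x :=
      ((AddEquiv.ulift (α := Shrink.{0} (M x))).trans (Shrink.addEquiv.{0} (α := M x))).toAddCommGrpIso
    exact ⟨Shrink.{0} (M x), inferInstance, inferInstance, ⟨((hη x).of_hom e.hom).iso⟩⟩

theorem isLC_iff (F : EtCoh.Ab X) :
    EtRest.IsLocallyConstant F ↔ LC (fun _ : AddCommGrpCat.{u + 1} => True) F := by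
  constructor
  · rintro ⟨ι, U, hU, h⟩ x
    obtain ⟨i, y, hy⟩ := hU x
    obtain ⟨M, _, ⟨e⟩⟩ := h i
    obtain ⟨η, hη⟩ := exists_isCst_Ab e
    exact ⟨U i, y, _, η, hy, trivial, hη⟩
  · intro h
    choose U y M η hy _ hη using h
    exact ⟨X, U, fun x => ⟨x, y x, hy x⟩, fun x => ⟨M x, inferInstance, ⟨(hη x).iso⟩⟩⟩

end AddCommGrp

section Mod

variable {Λ : Type (u + 1)} [CommRing Λ]

theorem exists_isCst_Mod {U : X.Etale} {F : EtModW.Mod Λ X} {M : ModuleCat.{u + 1} Λ}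
    (e : EtModW.restr Λ F U ≅ (constantSheaf (X.smallEtaleTopology.over U) (ModuleCat.{u + 1} Λ)).obj M) :
    ∃ η : M ⟶ F.obj.obj (op U), IsCst F U η := exists_isCst_of_iso e

theorem fg_Mod {M : ModuleCat.{u + 1} Λ} (h : Module.Finite Λ M) : FG M := by
  obtain ⟨s, hs⟩ := h.fg_top
  exact ⟨s, fun N a b hab => ModuleCat.hom_ext (LinearMap.ext_on hs fun x hx => hab x hx)⟩

theorem isFTLC_iff (F : EtModW.Mod Λ X) :
    EtModW.IsFTLocConst Λ F ↔ LC (fun M : ModuleCat.{u + 1} Λ => Module.Finite Λ M) F := by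
  constructor
  · rintro ⟨ι, U, hU, h⟩ x
    obtain ⟨i, y, hy⟩ := hU x
    obtain ⟨M, _, _, hM, ⟨e⟩⟩ := h i
    obtain ⟨η, hη⟩ := exists_isCst_Mod e
    exact ⟨U i, y, _, η, hy, hM, hη⟩
  · intro h
    choose U y M η hy hM hη using h
    exact ⟨X, U, fun x => ⟨x, y x, hy x⟩, fun x => ⟨M x, inferInstance, inferInstance, hM x, ⟨(hη x).iso⟩⟩⟩

end Mod

end Groth.Agent.EtShLib
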