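import Groth.Agent.EtShLib.Generate
import Groth.Prelude.Def_EtGm
import Mathlib.RingTheory.AdjoinRoot
import Mathlib.RingTheory.Etale.StandardEtale
import Mathlib.FieldTheory.Separable

/-! The Kummer sequence. -/

set_option autoImplicit false
set_option linter.unusedSectionVars false
set_option linter.style.haveILetI false
set_option backward.isDefEq.respectTransparency false
set_option backward.isDefEq.respectTransparency.types false
set_option maxHeartbeats 1000000

universe u

open CategoryTheory CategoryTheory.Limits AlgebraicGeometry Opposite Polynomial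

namespace Groth.Agent.EtShLib

theorem etale_adjoinRoot_separable {R : Type u} [CommRing R] {f : R[X]} (hm : f.Monic) (hs : f.Separable) :
    Algebra.Etale R (AdjoinRoot f) := by
  obtain ⟨a, b, hab⟩ := hs
  let P : StandardEtalePair R := ⟨f, hm, 1, b, a, 0, by rw [pow_zero]; linear_combination hab⟩
  have hu : IsUnit (AdjoinRoot.mk P.f P.g) := by simp [P]
  let e : AdjoinRoot f ≃ₐ[R] P.Ring :=
    ((IsLocalization.atUnits (AdjoinRoot P.f) (Submonoid.powers (AdjoinRoot.mk P.f P.g))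
      (S := Localization.Away (AdjoinRoot.mk P.f P.g))
      (by rintro _ ⟨n, rfl⟩; exact hu.pow n)).restrictScalars R).trans P.equivAwayAdjoinRoot.symm
  exact Algebra.Etale.of_equiv e.symm

/-- An étale cover where a unit acquires an `n`-th root. -/
theorem exists_root_cover {A : CommRingCat.{u}} (n : ℕ) (hn : IsUnit (n : A)) (a : Aˣ) :
    ∃ (B : CommRingCat.{u}) (φ : A ⟶ B), AlgebraicGeometry.Etale (Spec.map φ) ∧
      Function.Surjective (Spec.map φ).base ∧ ∃ y : Bˣ, y ^ n = Units.map φ.hom.toMonoidHom a := by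
  rcases subsingleton_or_nontrivial A with hA | hA
  · exact ⟨A, 𝟙 A, by rw [Spec.map_id]; infer_instance, by rw [Spec.map_id]; exact Function.surjective_id,
      1, Units.ext (Subsingleton.elim _ _)⟩
  have hn0 : n ≠ 0 := fun h => not_isUnit_zero (M₀ := A) (by simpa [h] using hn)
  let f : A[X] := X ^ n - C (a : A)
  have hm : f.Monic := monic_X_pow_sub_C _ hn0
  haveI := etale_adjoinRoot_separable hm (separable_X_pow_sub_C_unit a hn)
  haveI : Module.Free A (AdjoinRoot f) := hm.free_adjoinRoot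
  haveI : Module.Finite A (AdjoinRoot f) := hm.finite_adjoinRoot
  haveI : Nontrivial (AdjoinRoot f) := nontrivial_of_ne _ 0
    ((AdjoinRoot.powerBasis' hm).basis.ne_zero ⟨0, by
      rw [AdjoinRoot.powerBasis'_dim, natDegree_X_pow_sub_C]
      exact Nat.pos_of_ne_zero hn0⟩)
  haveI : Module.FaithfullyFlat A (AdjoinRoot f) := inferInstance
  have hroot : AdjoinRoot.root f ^ n = algebraMap A (AdjoinRoot f) a := by
    have h := AdjoinRoot.eval₂_root f
    simp only [f, eval₂_sub, eval₂_pow, eval₂_X, eval₂_C, sub_eq_zero] at h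
    exact h
  have hu : IsUnit (AdjoinRoot.root f) := (isUnit_pow_iff hn0).1 (hroot ▸ a.isUnit.map _)
  refine ⟨CommRingCat.of (AdjoinRoot f), CommRingCat.ofHom (algebraMap A (AdjoinRoot f)), ?_, ?_,
    hu.unit, Units.ext hroot⟩
  · exact (HasRingHomProperty.Spec_iff (P := @AlgebraicGeometry.Etale)).2 (RingHom.etale_algebraMap.2 ‹_›)
  · exact PrimeSpectrum.comap_surjective_of_faithfullyFlat

theorem epi_powMap (S : Scheme.{u}) (n : ℕ) (hn : IsUnit (n : Γ(S, ⊤))) : Epi (EtCoh.powMap S n) := by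
  refine (epi_iff_stalks _).2 fun Ω _ _ ξ => (AddCommGrpCat.epi_iff_surjective _).2 fun p => ?_
  obtain ⟨U, u, x₀, rfl⟩ := exists_germ (A := AddCommGrpCat.{u + 1}) ξ p
  obtain ⟨W, g, w, hW, rfl⟩ := exists_affine_below' ξ U u
  haveI := hW
  rw [← germ_res_apply]
  generalize (EtCoh.Gm S).obj.map g.op x₀ = x
  let x' : Γ(W.left, ⊤)ˣ := Additive.toMul x.down
  have hn' : IsUnit (n : Γ(W.left, ⊤)) := map_natCast W.hom.appTop.hom n ▸ hn.map W.hom.appTop.hom
  obtain ⟨B, φ, hφ, hsurj, y, hy⟩ := exists_root_cover n hn' x'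
  haveI : AlgebraicGeometry.Etale W.hom := W.prop
  haveI := hφ
  let j : Spec B ⟶ W.left := Spec.map φ ≫ W.left.isoSpec.inv
  let V : S.Etale := MorphismProperty.Over.mk ⊤ (j ≫ W.hom) (inferInstance : AlgebraicGeometry.Etale (j ≫ W.hom))
  let e : V ⟶ W := MorphismProperty.Over.homMk j rfl
  obtain ⟨z, hz⟩ : ∃ z, j.base z = w.pt := by
    obtain ⟨z, hz⟩ := hsurj (W.left.isoSpec.hom.base w.pt)
    refine ⟨z, ?_⟩
    show W.left.isoSpec.inv.base ((Spec.map φ).base z) = _
    rw [hz]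
    exact congrArg (fun t : W.left ⟶ W.left => t.base w.pt) W.left.isoSpec.hom_inv_id
  obtain ⟨l, hl, -⟩ := Scheme.exists_fac_of_etale_of_isSepClosed j w.hom z hz
  let v : Fib ξ V := Fib.mk l (by
    show l ≫ j ≫ W.hom = ξ
    rw [← Category.assoc, hl]
    exact w.w)
  have hv : v.map e = w := Fib.ext hl
  let y' : Γ(V.left, ⊤)ˣ := Units.map (Scheme.ΓSpecIso B).inv.hom.toMonoidHom y
  refine ⟨germ (A := AddCommGrpCat.{u + 1}) ξ (EtCoh.Gm S) V v (ULift.up (Additive.ofMul y')), ?_⟩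
  rw [germ_natural_apply, ← hv, ← germ_res_apply]
  refine congrArg _ ?_
  show n • (ULift.up (Additive.ofMul y') : ULift.{u + 1} (Additive (Γ(V.left, ⊤))ˣ)) =
    ULift.up (Additive.ofMul (Units.map j.appTop.hom.toMonoidHom x'))
  refine ULift.ext _ _ (congrArg Additive.ofMul (Units.ext ?_))
  show ((Scheme.ΓSpecIso B).inv.hom (y : B)) ^ n = j.appTop.hom (x' : Γ(W.left, ⊤))
  rw [← map_pow, ← Units.val_pow_eq_pow_val, hy]
  show (φ ≫ (Scheme.ΓSpecIso B).inv).hom (x' : Γ(W.left, ⊤)) = _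
  rw [Scheme.ΓSpecIso_inv_naturality]
  have hiso : W.left.isoSpec.inv.appTop = (Scheme.ΓSpecIso Γ(W.left, ⊤)).inv := by
    rw [← cancel_epi (Scheme.ΓSpecIso Γ(W.left, ⊤)).hom, Iso.hom_inv_id, ← Scheme.toSpecΓ_appTop]
    exact (Scheme.Hom.comp_appTop _ _).symm.trans (congrArg Scheme.Hom.appTop W.left.isoSpec.inv_hom_id)
  rw [← hiso]
  rfl

end Groth.Agent.EtShLib
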