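import Groth.Agent.EtShLib.LqfShriek

/-! Composition of direct images with proper support. -/

set_option autoImplicit false
set_option linter.unusedSectionVars false
set_option linter.style.haveILetI false
set_option backward.isDefEq.respectTransparency false
set_option backward.isDefEq.respectTransparency.types false
set_option synthInstance.maxHeartbeats 400000
set_option maxHeartbeats 1000000

universe u

open CategoryTheory CategoryTheory.Limits AlgebraicGeometry Opposite

namespace Groth.Agent.EtShLib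

theorem sectSupp_res_eq {X : Scheme.{u}} (F : EtCoh.Ab X) {U V : X.Etale} (g : V ⟶ U) (s : F.obj.obj (op U)) :
    EtShriek.sectSupp F V (F.obj.map g.op s) = g.left.base ⁻¹' EtShriek.sectSupp F U s := by
  refine (sectSupp_res F g s).antisymm fun x hx => by_contra fun hn => ?_
  obtain ⟨W, h, ⟨w, hw⟩, h0⟩ := (notMem_sectSupp_iff F V _ x).1 hn
  refine hx W (h ≫ g) ⟨w, (congrArg g.left.base hw :)⟩ ?_
  rw [op_comp, F.obj.map_comp, ConcreteCategory.comp_apply]
  exact h0

theorem sectSupp_of_mono {X : Scheme.{u}} {F G : EtCoh.Ab X} (α : F ⟶ G) (U : X.Etale) (s : F.obj.obj (op U))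
    (hα : ∀ W, Function.Injective (α.hom.app (op W))) :
    EtShriek.sectSupp G U (α.hom.app (op U) s) = EtShriek.sectSupp F U s := by
  refine (EtShriek.sectSupp_map_subset α U s).antisymm fun x hx W g hw h0 => hx W g hw (hα W ?_)
  rw [map_zero, ← h0]
  exact NatTrans.naturality_apply α.hom g.op s

variable {X Y : Scheme.{u}} (f : X ⟶ Y) [LocallyOfFiniteType f] (F : EtCoh.Ab X)

theorem sectSupp_pre (A : Y.Etale) (t : EtShriek.shriekSubgroup f F A) :
    EtShriek.sectSupp ((preF f).obj F) A t =
      (EtShriek.prV f A).base '' EtShriek.sectSupp F ((EtCoh.bc f).obj A) t.1 := by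
  rw [← sectSupp_of_mono ((preι f).app F) A t fun W => Subtype.val_injective]
  obtain ⟨T, i, hi, hr, hp⟩ := ProperOverLib.exists_closedImmersion ((mem_shriekSubgroup_iff F f A t.1).1 t.2)
  refine Set.Subset.antisymm (fun a ha => by_contra fun hn => ?_) ?_
  · obtain ⟨Ω, _, _, ξ, w, rfl⟩ := exists_geometric (U := A) a
    refine notMem_sectSupp_of_germ _ _ w ?_ ha
    let O : A.left.Opens := ⟨(Set.range (i ≫ EtShriek.prV f A).base)ᶜ,
      (i ≫ EtShriek.prV f A).isClosedMap.isClosed_range.isOpen_compl⟩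
    obtain ⟨W', j, w', hw', hj⟩ := exists_open_below ξ A w O (by
      rintro ⟨x, hx⟩
      exact hn ⟨i.base x, hr.subset ⟨x, rfl⟩, hx⟩)
    have h : ((EtCoh.push f).obj F).obj.map j.op (t.1) = 0 := by
      refine eq_of_germ (A := AddCommGrpCat.{u + 1}) F (U := (EtCoh.bc f).obj W') _ _ fun Ω' _ _ ζ z => ?_
      show germ ζ F _ z (F.obj.map ((EtCoh.bc f).map j).op t.1) = _
      rw [map_zero]
      refine germ_eq_zero_of_notMem F _ z fun hz => ?_
      obtain ⟨x, hx⟩ := hr.superset (sectSupp_res F ((EtCoh.bc f).map j) t.1 hz)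
      refine hj ⟨(EtShriek.prV f W').base z.pt, rfl⟩ ⟨x, ?_⟩
      show (EtShriek.prV f A).base (i.base x) = j.left.base ((EtShriek.prV f W').base z.pt)
      rw [hx]
      exact congrArg (fun t : ((EtCoh.bc f).obj W').left ⟶ A.left => t.base z.pt) (EtCoh.isPullback_bc_map f j).w
    rw [← hw', ← germ_res_apply]
    exact (congrArg (germ (A := AddCommGrpCat.{u + 1}) ξ ((EtCoh.push f).obj F) W' w') h).trans (map_zero _)
  · rintro _ ⟨z, hz, rfl⟩ W g ⟨w, hw⟩ h0
    obtain ⟨z', hz1, -⟩ := Scheme.Pullback.exists_preimage_pullback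
      (f := EtShriek.prV f A) (g := g.left) z w hw.symm
    let z'' := (EtCoh.isPullback_bc_map f g).isoPullback.inv.base z'
    have hm : ((EtCoh.bc f).map g).left.base z'' = z := by
      rw [← hz1, ← Scheme.Hom.comp_apply, IsPullback.isoPullback_inv_fst]
    have : z'' ∈ EtShriek.sectSupp F _ (F.obj.map ((EtCoh.bc f).map g).op t.1) := by
      rw [sectSupp_res_eq]
      show ((EtCoh.bc f).map g).left.base z'' ∈ EtShriek.sectSupp F ((EtCoh.bc f).obj A) t.1
      rw [hm]
      exact hz
    rw [show F.obj.map ((EtCoh.bc f).map g).op t.1 = 0 from h0, sectSupp_zero] at this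
    exact this

variable {Z : Scheme.{u}} (g : Y ⟶ Z) [LocallyOfFiniteType g]

/-- Base change in two steps. -/
noncomputable def bcComp : EtCoh.bc g ⋙ EtCoh.bc f ≅ EtCoh.bc (f ≫ g) :=
  (MorphismProperty.Over.pullbackComp (P := EtCoh.etaleMP) (Q := ⊤) f g).symm

theorem bcComp_pr (V : Z.Etale) :
    ((bcComp f g).hom.app V).left ≫ EtShriek.prV (f ≫ g) V =
      EtShriek.prV f ((EtCoh.bc g).obj V) ≫ EtShriek.prV g V := by
  simp [bcComp, EtShriek.prV, MorphismProperty.Over.pullbackComp]
  rfl

variable [IsSeparated g]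

theorem mem_comp_iff (V : Z.Etale) (s : F.obj.obj (op ((EtCoh.bc (f ≫ g)).obj V))) :
    s ∈ EtShriek.shriekSubgroup (f ≫ g) F V ↔
      ∃ h : F.obj.map ((bcComp f g).hom.app V).op s ∈ EtShriek.shriekSubgroup f F ((EtCoh.bc g).obj V),
        (⟨_, h⟩ : EtShriek.shriekSubgroup f F ((EtCoh.bc g).obj V)) ∈
          EtShriek.shriekSubgroup g ((preF f).obj F) V := by
  let A := (EtCoh.bc g).obj V
  let e := (bcComp f g).app V
  haveI : IsIso e.hom.left :=
    ⟨e.inv.left, congrArg (fun t => t.left) e.hom_inv_id, congrArg (fun t => t.left) e.inv_hom_id⟩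
  haveI : IsSeparated (EtShriek.prV g V) := MorphismProperty.pullback_fst (P := @IsSeparated) _ _ ‹_›
  have hs := sectSupp_res_eq F e.hom s
  constructor
  · intro h
    obtain ⟨T, i, hi, hr, hp⟩ := ProperOverLib.exists_closedImmersion ((mem_shriekSubgroup_iff F (f ≫ g) V s).1 h)
    let k := i ≫ inv e.hom.left
    haveI : IsClosedImmersion k := inferInstanceAs (IsClosedImmersion (i ≫ inv e.hom.left))
    haveI : IsProper ((k ≫ EtShriek.prV f A) ≫ EtShriek.prV g V) := by
      rw [Category.assoc, ← bcComp_pr f g V, show k ≫ ((bcComp f g).hom.app V).left ≫ EtShriek.prV (f ≫ g) V =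
        i ≫ EtShriek.prV (f ≫ g) V by simp [k, e]]
      exact hp
    haveI : IsProper (k ≫ EtShriek.prV f A) := IsProper.of_comp _ (EtShriek.prV g V)
    have hk : EtShriek.sectSupp F _ (F.obj.map e.hom.op s) ⊆ Set.range k.base := by
      intro z hz
      rw [hs] at hz
      obtain ⟨x, hx⟩ := hr.superset hz
      refine ⟨x, e.hom.left.homeomorph.injective ?_⟩
      show e.hom.left.base (k.base x) = _
      rw [← Scheme.Hom.comp_apply, show k ≫ e.hom.left = i by simp [k]]
      exact hx
    have h1 : F.obj.map e.hom.op s ∈ EtShriek.shriekSubgroup f F A :=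
      (mem_shriekSubgroup_iff F f A _).2 (ProperOverLib.of_map k _ _ (isClosed_sectSupp F _ _) hk)
    refine ⟨h1, (mem_shriekSubgroup_iff _ g V _).2 (ProperOverLib.of_map (k ≫ EtShriek.prV f A) _ _
      (isClosed_sectSupp _ _ _) ?_)⟩
    rw [sectSupp_pre]
    rintro _ ⟨z, hz, rfl⟩
    obtain ⟨x, rfl⟩ := hk hz
    exact ⟨x, rfl⟩
  · rintro ⟨h1, h2⟩
    obtain ⟨T, i, hi, hr, hp⟩ := ProperOverLib.exists_closedImmersion ((mem_shriekSubgroup_iff F f A _).1 h1)
    obtain ⟨T', i', hi', hr', hp'⟩ := ProperOverLib.exists_closedImmersion ((mem_shriekSubgroup_iff _ g V _).1 h2)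
    let q := i ≫ EtShriek.prV f A
    haveI : IsProper q := hp
    haveI : IsProper (pullback.snd q i' ≫ i' ≫ EtShriek.prV g V) :=
      MorphismProperty.comp_mem _ _ _ (MorphismProperty.pullback_snd _ _ inferInstance) hp'
    let k := (pullback.fst q i' ≫ i) ≫ e.hom.left
    haveI : IsClosedImmersion k := inferInstanceAs (IsClosedImmersion ((pullback.fst q i' ≫ i) ≫ e.hom.left))
    haveI : IsProper (k ≫ EtShriek.prV (f ≫ g) V) := by
      have : k ≫ EtShriek.prV (f ≫ g) V = pullback.snd q i' ≫ i' ≫ EtShriek.prV g V := by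
        simp only [k, e, Category.assoc, Iso.app_hom, bcComp_pr]
        exact ((Category.assoc _ _ _).symm.trans ((Category.assoc _ _ _).symm.trans
          (congrArg (· ≫ EtShriek.prV g V) ((Category.assoc _ _ _).trans pullback.condition)))).trans (Category.assoc _ _ _)
      rw [this]
      infer_instance
    refine (mem_shriekSubgroup_iff F (f ≫ g) V s).2 (ProperOverLib.of_map k _ _ (isClosed_sectSupp F _ _) fun z hz => ?_)
    obtain ⟨y, rfl⟩ := e.hom.left.homeomorph.surjective z
    have hy : y ∈ EtShriek.sectSupp F _ (F.obj.map e.hom.op s) := by rw [hs]; exact hz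
    obtain ⟨x, rfl⟩ := hr.superset hy
    obtain ⟨x', hx'⟩ := hr'.superset ((sectSupp_pre f F A ⟨_, h1⟩).ge ⟨_, hy, rfl⟩)
    obtain ⟨p, hp1, -⟩ := Scheme.Pullback.exists_preimage_pullback (f := q) (g := i') x x' hx'.symm
    refine ⟨p, ?_⟩
    show e.hom.left.base (i.base ((pullback.fst q i').base p)) = _
    rw [hp1]
    rfl

/-- Composition of the functors of sections with proper support. -/
noncomputable def preCompIso : preF (f ≫ g) ≅ preF f ⋙ preF g := by
  refine NatIso.ofComponents (fun F => (fullyFaithfulSheafToPresheaf _ _).preimageIso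
    (NatIso.ofComponents (fun V => AddEquiv.toAddCommGrpIso
      { toFun := fun s => ⟨⟨_, ((mem_comp_iff f F g V.unop s.1).1 s.2).choose⟩,
          ((mem_comp_iff f F g V.unop s.1).1 s.2).choose_spec⟩
        invFun := fun t => ⟨F.obj.map ((bcComp f g).inv.app V.unop).op t.1.1, by
          have key : F.obj.map ((bcComp f g).hom.app V.unop).op
              (F.obj.map ((bcComp f g).inv.app V.unop).op t.1.1) = t.1.1 := by
            rw [← ConcreteCategory.comp_apply, ← F.obj.map_comp, ← op_comp, Iso.hom_inv_id_app, op_id, F.obj.map_id]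
            rfl
          exact (mem_comp_iff f F g V.unop _).2 ⟨key.symm ▸ t.1.2, by simp only [key]; exact t.2⟩⟩
        left_inv := fun s => by
          apply Subtype.ext
          show F.obj.map ((bcComp f g).inv.app V.unop).op (F.obj.map ((bcComp f g).hom.app V.unop).op s.1) = s.1
          rw [← ConcreteCategory.comp_apply, ← F.obj.map_comp, ← op_comp, Iso.inv_hom_id_app, op_id, F.obj.map_id]
          rfl
        right_inv := fun t => by
          apply Subtype.ext
          apply Subtype.ext
          show F.obj.map ((bcComp f g).hom.app V.unop).op (F.obj.map ((bcComp f g).inv.app V.unop).op t.1.1) = t.1.1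
          rw [← ConcreteCategory.comp_apply, ← F.obj.map_comp, ← op_comp, Iso.hom_inv_id_app, op_id, F.obj.map_id]
          rfl
        map_add' := fun s t => Subtype.ext (Subtype.ext (map_add (F.obj.map _).hom s.1 t.1)) })
      fun {V V'} φ => ?_)) fun {F G} α => ?_
  · ext s
    apply Subtype.ext
    apply Subtype.ext
    show F.obj.map ((bcComp f g).hom.app V'.unop).op (F.obj.map ((EtCoh.bc (f ≫ g)).map φ.unop).op s.1) =
      F.obj.map ((EtCoh.bc f).map ((EtCoh.bc g).map φ.unop)).op (F.obj.map ((bcComp f g).hom.app V.unop).op s.1)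
    refine congrArg (fun t : F.obj.obj (op ((EtCoh.bc (f ≫ g)).obj V.unop)) ⟶
      F.obj.obj (op ((EtCoh.bc f).obj ((EtCoh.bc g).obj V'.unop))) => t s.1) (?_ : F.obj.map _ ≫ F.obj.map _ =
        F.obj.map _ ≫ F.obj.map _)
    rw [← F.obj.map_comp, ← F.obj.map_comp, ← op_comp, ← op_comp]
    exact congrArg (fun t => F.obj.map (Quiver.Hom.op t)) ((bcComp f g).hom.naturality φ.unop).symm
  · refine Sheaf.hom_ext ?_
    ext V : 2
    ext s
    apply Subtype.ext
    apply Subtype.ext
    exact NatTrans.naturality_apply α.hom ((bcComp f g).hom.app V.unop).op _ |>.symm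

end Groth.Agent.EtShLib
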