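import Groth.Agent.EtShLib.StrictLocal
import Groth.Agent.EtShLib.FiniteExact
import Groth.Prelude.Def_EtCore

/-! Cohomology of schemes finite over a strictly henselian local ring. -/

set_option autoImplicit false
set_option linter.unusedSectionVars false
set_option linter.style.haveILetI false
set_option backward.isDefEq.respectTransparency false
set_option backward.isDefEq.respectTransparency.types false
set_option synthInstance.maxHeartbeats 400000
set_option maxHeartbeats 1000000

universe u

open CategoryTheory CategoryTheory.Limits AlgebraicGeometry Opposite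

namespace Groth.Agent.EtShLib

theorem subsingleton_H_of_finite (R : Type u) [CommRing R] [HenselianLocalRing R]
    [IsSepClosed (IsLocalRing.ResidueField R)] (X : Scheme.{u}) (f : X ⟶ Spec (CommRingCat.of R)) [IsFinite f]
    (F : EtCoh.Ab X) (j : ℕ) (hj : 1 ≤ j) : Subsingleton (EtCoh.H X F j) := by
  have hT : IsTerminal (EtCoh.top X) := MorphismProperty.Over.mkIdTerminal EtCoh.etaleMP X
  haveI : Projective ((constantSheaf X.smallEtaleTopology AddCommGrpCat.{u + 1}).obj
      (AddCommGrpCat.of (ULift ℤ))) := by
    haveI : Projective (AddCommGrpCat.of (ULift.{u + 1} ℤ)) :=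
      ⟨fun {E X} f e he => by
        obtain ⟨x, hx⟩ := (AddCommGrpCat.epi_iff_surjective e).1 he (f (ULift.up 1))
        refine ⟨AddCommGrpCat.ofHom ((zmultiplesHom _ x).comp AddEquiv.ulift.toAddMonoidHom), ?_⟩
        ext n
        show e (n.down • x) = f n
        rw [map_zsmul, hx, ← map_zsmul]
        exact congrArg f (ULift.ext _ _ (by simp))⟩
    haveI : ((sheafSections X.smallEtaleTopology AddCommGrpCat.{u + 1}).obj (op (EtCoh.top X))).PreservesEpimorphisms :=
      ⟨fun {A B} α hα => (AddCommGrpCat.epi_iff_surjective _).2 fun y => by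
        haveI := hα
        haveI := preservesHomology_push_finite f
        haveI : Epi ((EtCoh.push f).map α) := Functor.map_epi _ _
        let e := EtCore.bcTopIso f
        obtain ⟨x, hx⟩ := surjective_sections_of_epi R ((EtCoh.push f).map α) (B.obj.map e.hom.op y)
        refine ⟨A.obj.map e.inv.op x, ?_⟩
        show α.hom.app (op (EtCoh.top X)) (A.obj.map e.inv.op x) = y
        rw [NatTrans.naturality_apply,
          show α.hom.app (op ((EtCoh.bc f).obj (EtCoh.top _))) x = B.obj.map e.hom.op y from hx,
          ← ConcreteCategory.comp_apply, ← Functor.map_comp, ← op_comp, Iso.inv_hom_id, op_id,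
          CategoryTheory.Functor.map_id]
        rfl⟩
    exact Adjunction.map_projective (constantSheafAdj _ _ hT) _ inferInstance
  obtain ⟨n, rfl⟩ : ∃ n, j = n + 1 := ⟨j - 1, by omega⟩
  exact subsingleton_of_forall_eq 0 Abelian.Ext.eq_zero_of_projective

end Groth.Agent.EtShLib
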