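import Groth.Agent.EtShLib.TorsionColim
import Groth.Agent.EtShLib.NoethCons
import Groth.Agent.EtShLib.Locus
import Groth.Agent.ProConsLib.Sch
import Mathlib.CategoryTheory.Filtered.Final

/-! Torsion sheaves with support conditions as filtered colimits of constructible sheaves. -/

set_option autoImplicit false
set_option linter.unusedSectionVars false
set_option linter.style.haveILetI false
set_option backward.isDefEq.respectTransparency false
set_option backward.isDefEq.respectTransparency.types false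
set_option synthInstance.maxHeartbeats 400000
set_option maxHeartbeats 1000000

universe u

open CategoryTheory CategoryTheory.Limits AlgebraicGeometry Opposite

namespace Groth.Agent.EtShLib

variable {X : Scheme.{u}}

theorem supp_subset_of_stalk_zero {F : EtCoh.Ab X} {S : Set X}
    (h : ∀ (Ω : Type u) [Field Ω] [IsSepClosed Ω] (ξ : Spec (CommRingCat.of Ω) ⟶ X), ξ.base default ∉ S →
      IsZero ((stk (A := AddCommGrpCat.{u + 1}) ξ).obj F)) : EtPBC.supp F ⊆ S := by
  rintro x ⟨Ω, _, _, ξ, hr, hne⟩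
  by_contra hx
  refine hne (h Ω ξ ?_)
  have : ξ.base default ∈ ({x} : Set X) := hr.le ⟨default, rfl⟩
  rwa [Set.mem_singleton_iff.1 this]

theorem isZero_stalk_of_notMem_supp {F : EtCoh.Ab X} {Ω : Type u} [Field Ω] [IsSepClosed Ω]
    (ξ : Spec (CommRingCat.of Ω) ⟶ X) (h : ξ.base default ∉ EtPBC.supp F) :
    IsZero ((stk (A := AddCommGrpCat.{u + 1}) ξ).obj F) := by
  by_contra hne
  exact h ⟨Ω, inferInstance, inferInstance, ξ, range_eq_singleton _, hne⟩

theorem supp_subset_of_mono {G F : EtCoh.Ab X} (ι : G ⟶ F) [Mono ι] : EtPBC.supp G ⊆ EtPBC.supp F :=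
  supp_subset_of_stalk_zero fun _ _ _ ξ h =>
    IsZero.of_mono ((stk (A := AddCommGrpCat.{u + 1}) ξ).map ι) (isZero_stalk_of_notMem_supp ξ h)

theorem exists_specializes_supp {F : EtCoh.Ab X} (hF : IsCons (A := AddCommGrpCat.{u + 1}) FinP F) {x : X}
    (hx : x ∈ closure (EtPBC.supp F)) : ∃ y ∈ EtPBC.supp F, y ⤳ x :=
  Groth.Agent.ProConsLib.exists_specializes_of_mem_closure_sch
    (Groth.Agent.ProConsLib.isLocallyConstructible_iff_ind_and_pro.1
      (isLocallyConstructible_supp ((isConstructible_iff F).2 hF))).2 hx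

theorem supp_eq_of_iso {F G : EtCoh.Ab X} (e : F ≅ G) : EtPBC.supp F = EtPBC.supp G :=
  subset_antisymm (supp_subset_of_mono e.hom) (supp_subset_of_mono e.inv)

theorem exists_supported_colimit [CompactSpace X] [QuasiSeparatedSpace X] (F : EtCoh.Ab X) (hF : EtCoh.IsTorsion F)
    (Q : Set X → Prop)
    (h : ∀ (G : EtCoh.Ab X) (g : G ⟶ F), IsCons (A := AddCommGrpCat.{u + 1}) FinP G →
      ∃ (G' : EtCoh.Ab X) (π : G ⟶ G') (g' : G' ⟶ F), IsCons (A := AddCommGrpCat.{u + 1}) FinP G' ∧
        π ≫ g' = g ∧ Q (EtPBC.supp G')) :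
    ∃ (J : Type (u + 1)) (_ : SmallCategory J) (_ : IsFiltered J) (D : J ⥤ EtCoh.Ab X) (c : Cocone D)
      (_ : IsColimit c), Nonempty (c.pt ≅ F) ∧ ∀ j, EtPBC.IsConstructible (D.obj j) ∧ Q (EtPBC.supp (D.obj j)) := by
  let P : ObjectProperty (ConsOver F) := fun p => Q (EtPBC.supp ((consDiagram F).obj p))
  have hex : ∀ p : ConsOver F, ∃ q : P.FullSubcategory, Nonempty (p ⟶ P.ι.obj q) := fun p => by
    obtain ⟨G', π, g', hG', hg, hQ⟩ := h _ (PresOver.toOver (F := F) p).hom (PresOver.isCons (F := F) p)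
    obtain ⟨r, e, he⟩ := exists_presOver (F := F) hG' g'
    have hr : P r := by
      show Q (EtPBC.supp r.toOver.left)
      rwa [← supp_eq_of_iso e]
    exact ⟨⟨r, hr⟩, ⟨InducedCategory.homMk (Over.homMk (π ≫ e.hom)
      ((Category.assoc _ _ _).trans ((congrArg (π ≫ ·) he).trans hg)))⟩⟩
  haveI := isFiltered_consOver F
  haveI : IsFiltered P.FullSubcategory := IsFiltered.of_exists_of_isFiltered_of_fullyFaithful P.ι hex
  haveI : Functor.Final P.ι := Functor.final_of_exists_of_isFiltered_of_fullyFaithful P.ι hex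
  obtain ⟨hc⟩ := nonempty_isColimit_consCocone F (torsionBy_of_isTorsion hF)
  exact ⟨P.FullSubcategory, inferInstance, inferInstance, P.ι ⋙ consDiagram F, (consCocone F).whisker P.ι,
    (Functor.Final.isColimitWhiskerEquiv P.ι (consCocone F)).symm hc, ⟨Iso.refl _⟩,
    fun j => ⟨(isConstructible_iff _).2 (PresOver.isCons (F := F) j.obj), j.property⟩⟩

theorem exists_image_supported [IsNoetherian X] {E : Set X} (hE : StableUnderSpecialization E) {F : EtCoh.Ab X}
    (hsupp : EtPBC.supp F ⊆ E) (G : EtCoh.Ab X) (g : G ⟶ F) (hG : IsCons (A := AddCommGrpCat.{u + 1}) FinP G) :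
    ∃ (G' : EtCoh.Ab X) (π : G ⟶ G') (g' : G' ⟶ F), IsCons (A := AddCommGrpCat.{u + 1}) FinP G' ∧
      π ≫ g' = g ∧ ∃ Z : Set X, IsClosed Z ∧ Z ⊆ E ∧ EtPBC.supp G' ⊆ Z := by
  have hI := cons_of_epi (Abelian.factorThruImage g) hG
  refine ⟨Abelian.image g, Abelian.factorThruImage g, Abelian.image.ι g, hI, Abelian.image.fac g,
    closure (EtPBC.supp (Abelian.image g)), isClosed_closure, fun x hx => ?_, subset_closure⟩
  obtain ⟨y, hy, hyx⟩ := exists_specializes_supp hI hx
  exact hE hyx (hsupp (supp_subset_of_mono (Abelian.image.ι g) hy))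

theorem exists_generic_supported [CompactSpace X] [QuasiSeparatedSpace X] [IrreducibleSpace X] {F : EtCoh.Ab X}
    (hη : genericPoint X ∉ EtPBC.supp F) (G : EtCoh.Ab X) (g : G ⟶ F) (hG : IsCons (A := AddCommGrpCat.{u + 1}) FinP G) :
    ∃ (G' : EtCoh.Ab X) (π : G ⟶ G') (g' : G' ⟶ F), IsCons (A := AddCommGrpCat.{u + 1}) FinP G' ∧
      π ≫ g' = g ∧ ∃ Z : Set X, IsClosed Z ∧ genericPoint X ∉ Z ∧ EtPBC.supp G' ⊆ Z := by
  classical
  obtain ⟨Ω, _, _, ξ, hξ⟩ := exists_geometric_pt (genericPoint X)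
  let S := stk (A := AddCommGrpCat.{u + 1}) ξ
  haveI := finite_stalk_Ab hG ξ
  let N := Nat.card (S.obj G)
  let E := Finite.equivFin (S.obj G)
  have hFz : IsZero (S.obj F) := isZero_stalk_of_notMem_supp ξ (by rw [hξ]; exact hη)
  have hker : ∀ p : S.obj G, ∃ z : S.obj (kernel g), S.map (kernel.ι g) z = p := fun p => by
    refine (ShortComplex.ab_exact_iff _).1 (((ShortComplex.exact_of_f_is_kernel
      (ShortComplex.mk (kernel.ι g) g (kernel.condition _)) (kernelIsKernel g))).map S) p ?_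
    exact @Subsingleton.elim _ (AddCommGrpCat.subsingleton_of_isZero hFz) _ _
  choose z hz using hker
  choose U hU n a hn q hq using fun i : Fin N =>
    exists_gen ((torsionBy_of_isCons hG).of_mono (kernel.ι g)) ξ (z (E.symm i))
  let ψ : (⨁ fun i => EtPBC.extZeroConst (U i) (ZMod (n i))) ⟶ G := biproduct.desc fun i => a i ≫ kernel.ι g
  have hψ : ψ ≫ g = 0 := biproduct.hom_ext' _ _ fun i => by
    rw [comp_zero, biproduct.ι_desc_assoc, Category.assoc, kernel.condition, comp_zero]
  have hG' : IsCons (A := AddCommGrpCat.{u + 1}) FinP (cokernel ψ) :=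
    cons_cokernel ψ (isCons_biproduct _ fun i => by
      haveI := hU i
      haveI : NeZero (n i) := ⟨(hn i).ne'⟩
      exact isCons_extConst _ _) hG
  have hzero : IsZero (S.obj (cokernel ψ)) := isZero_stalk_coker_of_epi ψ ξ fun p => by
    obtain ⟨i, rfl⟩ := E.symm.surjective p
    refine ⟨S.map (biproduct.ι (fun i => EtPBC.extZeroConst (U i) (ZMod (n i))) i) (q i), ?_⟩
    rw [← ConcreteCategory.comp_apply, ← S.map_comp, biproduct.ι_desc, S.map_comp, ConcreteCategory.comp_apply,
      hq i, hz]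
  refine ⟨cokernel ψ, cokernel.π ψ, cokernel.desc ψ g hψ, hG', cokernel.π_desc _ _ _,
    closure (EtPBC.supp (cokernel ψ)), isClosed_closure, fun hx => ?_, subset_closure⟩
  obtain ⟨y, hy, hyη⟩ := exists_specializes_supp hG' hx
  have hyeq : y = genericPoint X := (hyη.antisymm (genericPoint_specializes y)).eq
  obtain ⟨Ω', _, _, ξ', hr, hne⟩ := hy
  have h' : ξ'.base default = y := hr.le ⟨default, rfl⟩
  exact hne (isZero_stalk_congr hG' (hξ.trans (hyeq.symm.trans h'.symm)) hzero)

end Groth.Agent.EtShLib
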