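import Groth.Agent.EtShLib.Stalk
import Groth.Agent.ProperOverLib.Basic
import Groth.Prelude.Def_EtShriek2
import Mathlib.AlgebraicGeometry.Morphisms.UniversallyOpen
import Mathlib.AlgebraicGeometry.Morphisms.FlatMono

/-! Supports of sections and sections with proper support. -/

set_option autoImplicit false
set_option linter.unusedSectionVars false
set_option linter.style.haveILetI false
set_option backward.isDefEq.respectTransparency false
set_option backward.isDefEq.respectTransparency.types false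
set_option synthInstance.maxHeartbeats 400000
set_option maxHeartbeats 1000000

universe u

open CategoryTheory CategoryTheory.Limits AlgebraicGeometry Opposite

namespace Groth.Agent.EtShLib

variable {X Y : Scheme.{u}} (F : EtCoh.Ab X)

theorem notMem_sectSupp_iff (U : X.Etale) (s : F.obj.obj (op U)) (x : U.left) :
    x ∉ EtShriek.sectSupp F U s ↔
      ∃ (W : X.Etale) (g : W ⟶ U), x ∈ Set.range g.left.base ∧ F.obj.map g.op s = 0 := by
  constructor
  · intro h
    by_contra h'
    exact h fun W g hw h0 => h' ⟨W, g, hw, h0⟩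
  · rintro ⟨W, g, hw, h0⟩ h
    exact h W g hw h0

theorem isClosed_sectSupp (U : X.Etale) (s : F.obj.obj (op U)) : IsClosed (EtShriek.sectSupp F U s) := by
  rw [← isOpen_compl_iff, isOpen_iff_forall_mem_open]
  intro x hx
  obtain ⟨W, g, hw, h0⟩ := (notMem_sectSupp_iff F U s x).1 hx
  haveI := etale_left g
  exact ⟨Set.range g.left.base, fun y hy => (notMem_sectSupp_iff F U s y).2 ⟨W, g, hy, h0⟩,
    g.left.isOpenMap.isOpen_range, hw⟩

theorem germ_eq_zero_of_notMem {U : X.Etale} (s : F.obj.obj (op U)) {Ω : Type u} [Field Ω] [IsSepClosed Ω]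
    {ξ : Spec (CommRingCat.of Ω) ⟶ X} (z : Fib ξ U) (h : z.pt ∉ EtShriek.sectSupp F U s) :
    germ (A := AddCommGrpCat.{u + 1}) ξ F U z s = 0 := by
  obtain ⟨W, g, ⟨y, hy⟩, h0⟩ := (notMem_sectSupp_iff F U s z.pt).1 h
  haveI := etale_left g
  obtain ⟨l, hl, -⟩ := Scheme.exists_fac_of_etale_of_isSepClosed g.left z.hom y hy
  let v : Fib ξ W := Fib.mk l (by
    rw [← MorphismProperty.Over.w g, ← Category.assoc, hl]
    exact z.w)
  rw [← (show v.map g = z from Fib.ext hl), ← germ_res_apply, h0, map_zero]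

theorem notMem_sectSupp_of_germ {U : X.Etale} (s : F.obj.obj (op U)) {Ω : Type u} [Field Ω] [IsSepClosed Ω]
    {ξ : Spec (CommRingCat.of Ω) ⟶ X} (z : Fib ξ U) (h : germ (A := AddCommGrpCat.{u + 1}) ξ F U z s = 0) :
    z.pt ∉ EtShriek.sectSupp F U s := by
  obtain ⟨W, g, w, hw, he⟩ := (germ_eq_iff ξ U z s 0).1 (by rw [h, map_zero])
  exact (notMem_sectSupp_iff F U s z.pt).2 ⟨W, g, ⟨w.pt, congrArg (fun t : Fib ξ U => t.pt) hw⟩,
    he.trans (map_zero _)⟩

theorem sectSupp_zero (U : X.Etale) : EtShriek.sectSupp F U (0 : F.obj.obj (op U)) = ∅ :=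
  Set.eq_empty_iff_forall_notMem.2 fun x hx => hx U (𝟙 U) ⟨x, rfl⟩ (map_zero _)

theorem sectSupp_neg (U : X.Etale) (s : F.obj.obj (op U)) :
    EtShriek.sectSupp F U (-s) ⊆ EtShriek.sectSupp F U s :=
  fun x hx W g hw h0 => hx W g hw ((map_neg _ _).trans (by rw [h0, neg_zero]))

theorem sectSupp_add (U : X.Etale) (s t : F.obj.obj (op U)) :
    EtShriek.sectSupp F U (s + t) ⊆ EtShriek.sectSupp F U s ∪ EtShriek.sectSupp F U t := by
  intro x hx
  obtain ⟨Ω, _, _, ξ, z, rfl⟩ := exists_geometric (U := U) x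
  by_contra hn
  rw [Set.mem_union, not_or] at hn
  exact notMem_sectSupp_of_germ F (s + t) z (by
    rw [map_add, germ_eq_zero_of_notMem F s z hn.1, germ_eq_zero_of_notMem F t z hn.2, add_zero]) hx

theorem sectSupp_res {U V : X.Etale} (g : V ⟶ U) (s : F.obj.obj (op U)) :
    EtShriek.sectSupp F V (F.obj.map g.op s) ⊆ g.left.base ⁻¹' EtShriek.sectSupp F U s := by
  intro x hx
  obtain ⟨Ω, _, _, ξ, z, rfl⟩ := exists_geometric (U := V) x
  by_contra hn
  refine notMem_sectSupp_of_germ F _ z ?_ hx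
  rw [germ_res_apply]
  exact germ_eq_zero_of_notMem F s (z.map g) hn

theorem isProperOver_mono {S T : Scheme.{u}} {p : T ⟶ S} [LocallyOfFiniteType p] {Z Z' : Set T}
    (h : ClSub.IsProperOver p Z) (hZ' : IsClosed Z') (hle : Z' ⊆ Z) : ClSub.IsProperOver p Z' :=
  ⟨hZ', ProperOverLib.isProper_comp_closedImmersion h _
    (by rw [ProperOverLib.range_subschemeι_vanishingIdeal]; exact hle)⟩

variable (f : X ⟶ Y) [LocallyOfFiniteType f]

instance (V : Y.Etale) : LocallyOfFiniteType (EtShriek.prV f V) :=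
  MorphismProperty.pullback_fst (P := @LocallyOfFiniteType) _ _ ‹_›

theorem isProperOver_preimage {V V' : Y.Etale} (φ : V' ⟶ V) {Z : Set ((EtCoh.bc f).obj V).left}
    (h : ClSub.IsProperOver (EtShriek.prV f V) Z) :
    ClSub.IsProperOver (EtShriek.prV f V') (((EtCoh.bc f).map φ).left.base ⁻¹' Z) := by
  have hsq : IsPullback ((EtCoh.bc f).map φ).left (EtShriek.prV f V') (EtShriek.prV f V) φ.left :=
    EtCoh.isPullback_bc_map f φ
  obtain ⟨T, i, hi, hr, hp⟩ := ProperOverLib.exists_closedImmersion h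
  let m := ((EtCoh.bc f).map φ).left
  have h1 : IsPullback (pullback.fst i m) (pullback.snd i m) i m := IsPullback.of_hasPullback i m
  haveI : IsProper (pullback.snd i m ≫ EtShriek.prV f V') :=
    MorphismProperty.of_isPullback (P := @IsProper) (h1.paste_vert hsq) hp
  haveI : IsClosedImmersion (pullback.snd i m) := MorphismProperty.pullback_snd _ _ hi
  refine ProperOverLib.of_map (pullback.snd i m) _ _ (h.1.preimage m.continuous) ?_
  rw [Scheme.Pullback.range_snd, hr]

theorem shriekPred_iff (V : Y.Etale) (s : F.obj.obj (op ((EtCoh.bc f).obj V))) :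
    EtShriek.ShriekPred f F V s ↔
      EtShriek.HasProperSupport F ((EtCoh.bc f).obj V) s (EtShriek.prV f V) := by
  constructor
  · intro h
    have := h V (𝟙 V)
    rwa [CategoryTheory.Functor.map_id, op_id, F.obj.map_id, ConcreteCategory.id_apply] at this
  · rintro ⟨Z, hs, hZ⟩ V' φ
    exact ⟨_, (sectSupp_res F _ s).trans (Set.preimage_mono hs), isProperOver_preimage f φ hZ⟩

theorem mem_shriekSubgroup_iff (V : Y.Etale) (s : F.obj.obj (op ((EtCoh.bc f).obj V))) :
    s ∈ EtShriek.shriekSubgroup f F V ↔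
      ClSub.IsProperOver (EtShriek.prV f V) (EtShriek.sectSupp F ((EtCoh.bc f).obj V) s) := by
  refine ⟨fun h => ?_, fun h => AddSubgroup.subset_closure ((shriekPred_iff F f V s).2 ⟨_, subset_rfl, h⟩)⟩
  induction h using AddSubgroup.closure_induction with
  | mem t ht =>
    obtain ⟨Z, hs, hZ⟩ := (shriekPred_iff F f V t).1 ht
    exact isProperOver_mono hZ (isClosed_sectSupp F _ _) hs
  | zero =>
    rw [sectSupp_zero]
    exact ProperOverLib.empty _
  | add a b _ _ ha hb =>
    exact isProperOver_mono (ProperOverLib.union ha hb) (isClosed_sectSupp F _ _) (sectSupp_add F _ a b)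
  | neg a _ ha => exact isProperOver_mono ha (isClosed_sectSupp F _ _) (sectSupp_neg F _ a)

end Groth.Agent.EtShLib
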