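import Groth.Prelude.Def_EtBase
import Mathlib.CategoryTheory.Sites.Point.Category
import Mathlib.CategoryTheory.Sites.Point.Comap
import Mathlib.Algebra.Category.Grp.AB
import Mathlib.Algebra.Category.ModuleCat.AB
import Mathlib.Algebra.Category.Grp.FilteredColimits
import Mathlib.Algebra.Category.ModuleCat.FilteredColimits

/-! Geometric stalks of sheaves on small étale sites: germs, points over a point, stalks of inverse images. -/

set_option autoImplicit false
set_option linter.unusedSectionVars false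
set_option backward.isDefEq.respectTransparency false
set_option backward.isDefEq.respectTransparency.types false

universe u

open CategoryTheory CategoryTheory.Limits AlgebraicGeometry Opposite

namespace Groth.Agent.EtShLib

variable {X Y : Scheme.{u}} {Ω : Type u} [Field Ω] [IsSepClosed Ω]

theorem etale_left {U V : X.Etale} (g : V ⟶ U) : AlgebraicGeometry.Etale g.left := by
  have h1 : AlgebraicGeometry.Etale (g.left ≫ U.hom) := by rw [MorphismProperty.Over.w g]; exact V.prop
  exact MorphismProperty.of_postcomp (@AlgebraicGeometry.Etale) g.left U.hom U.prop h1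

/-- The point of the étale site attached to a geometric point. -/
noncomputable abbrev pt (ξ : Spec (CommRingCat.of Ω) ⟶ X) : X.smallEtaleTopology.Point :=
  Scheme.pointSmallEtale ξ

/-- Étale neighbourhood structures on `U` at `ξ`. -/
abbrev Fib (ξ : Spec (CommRingCat.of Ω) ⟶ X) (U : X.Etale) : Type u := (pt ξ).fiber.obj U

/-- The lift to `U` as a morphism of schemes. -/
noncomputable abbrev Fib.hom {ξ : Spec (CommRingCat.of Ω) ⟶ X} {U : X.Etale} (u : Fib ξ U) :
    Spec (CommRingCat.of Ω) ⟶ U.left := (show Over.mk ξ ⟶ (Scheme.Etale.forget X).obj U from u).left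

theorem Fib.w {ξ : Spec (CommRingCat.of Ω) ⟶ X} {U : X.Etale} (u : Fib ξ U) : u.hom ≫ U.hom = ξ :=
  Over.w (show Over.mk ξ ⟶ (Scheme.Etale.forget X).obj U from u)

/-- Constructor. -/
noncomputable def Fib.mk {ξ : Spec (CommRingCat.of Ω) ⟶ X} {U : X.Etale} (v : Spec (CommRingCat.of Ω) ⟶ U.left)
    (hv : v ≫ U.hom = ξ) : Fib ξ U := Over.homMk v hv

@[simp] theorem Fib.mk_hom {ξ : Spec (CommRingCat.of Ω) ⟶ X} {U : X.Etale} (v : Spec (CommRingCat.of Ω) ⟶ U.left)
    (hv : v ≫ U.hom = ξ) : (Fib.mk v hv).hom = v := rfl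

theorem Fib.ext {ξ : Spec (CommRingCat.of Ω) ⟶ X} {U : X.Etale} {u v : Fib ξ U} (h : u.hom = v.hom) : u = v :=
  Over.OverMorphism.ext h

/-- Functoriality. -/
noncomputable abbrev Fib.map {ξ : Spec (CommRingCat.of Ω) ⟶ X} {U V : X.Etale} (g : V ⟶ U) (v : Fib ξ V) :
    Fib ξ U := (pt ξ).fiber.map g v

theorem Fib.map_hom {ξ : Spec (CommRingCat.of Ω) ⟶ X} {U V : X.Etale} (g : V ⟶ U) (v : Fib ξ V) :
    (v.map g).hom = v.hom ≫ g.left := rfl

/-- The point of `U` under the lift. -/
noncomputable abbrev Fib.pt {ξ : Spec (CommRingCat.of Ω) ⟶ X} {U : X.Etale} (u : Fib ξ U) : U.left :=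
  u.hom.base default

theorem exists_geometric_pt (x : X) :
    ∃ (Ω : Type u) (_ : Field Ω) (_ : IsSepClosed Ω) (ξ : Spec (CommRingCat.of Ω) ⟶ X), ξ.base default = x :=
  ⟨SeparableClosure (X.residueField x), inferInstance, inferInstance,
    (Scheme.SpecToEquivOfField (SeparableClosure (X.residueField x)) X).2
      ⟨x, CommRingCat.ofHom (algebraMap (X.residueField x) _)⟩, by simp [Scheme.SpecToEquivOfField]⟩

theorem exists_fib (ξ : Spec (CommRingCat.of Ω) ⟶ X) (U : X.Etale) (y : U.left) (hy : U.hom.base y = ξ.base default) :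
    ∃ u : Fib ξ U, u.pt = y := by
  obtain ⟨l, hl, hl'⟩ := Scheme.exists_fac_of_etale_of_isSepClosed U.hom ξ y hy
  exact ⟨Fib.mk l hl, hl'⟩

theorem exists_geometric {U : X.Etale} (y : U.left) :
    ∃ (Ω : Type u) (_ : Field Ω) (_ : IsSepClosed Ω) (ξ : Spec (CommRingCat.of Ω) ⟶ X) (u : Fib ξ U),
      u.pt = y := by
  obtain ⟨Ω, i1, i2, ξ, hξ⟩ := exists_geometric_pt (U.hom.base y)
  obtain ⟨u, hu⟩ := exists_fib ξ U y hξ.symm
  exact ⟨Ω, i1, i2, ξ, u, hu⟩

section Germ

variable {A : Type (u + 2)} [Category.{u + 1} A] [HasColimitsOfSize.{u, u} A]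
  (ξ : Spec (CommRingCat.of Ω) ⟶ X)

/-- The stalk functor. -/
noncomputable abbrev stk : Sheaf X.smallEtaleTopology A ⥤ A := (pt ξ).sheafFiber

/-- The germ map. -/
noncomputable def germ (F : Sheaf X.smallEtaleTopology A) (U : X.Etale) (u : Fib ξ U) :
    F.obj.obj (op U) ⟶ (stk ξ).obj F := (pt ξ).toPresheafFiber U u F.obj

@[reassoc]
theorem germ_res (F : Sheaf X.smallEtaleTopology A) {U V : X.Etale} (g : V ⟶ U) (v : Fib ξ V) :
    F.obj.map g.op ≫ germ ξ F V v = germ ξ F U (v.map g) := (pt ξ).toPresheafFiber_w g v F.obj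

@[reassoc]
theorem germ_natural {F G : Sheaf X.smallEtaleTopology A} (φ : F ⟶ G) (U : X.Etale) (u : Fib ξ U) :
    germ ξ F U u ≫ (stk ξ).map φ = φ.hom.app (op U) ≫ germ ξ G U u :=
  (pt ξ).toPresheafFiber_naturality φ.hom U u

theorem stk_hom_ext {F : Sheaf X.smallEtaleTopology A} {M : A} {a b : (stk ξ).obj F ⟶ M}
    (h : ∀ (U : X.Etale) (u : Fib ξ U), germ ξ F U u ≫ a = germ ξ F U u ≫ b) : a = b :=
  (pt ξ).presheafFiber_hom_ext fun U u => h U u

end Germ

section Elements

variable {A : Type (u + 2)} [Category.{u + 1} A] [HasColimitsOfSize.{u, u} A]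
  {FA : A → A → Type*} {CA : A → Type (u + 1)} [∀ M N, FunLike (FA M N) (CA M) (CA N)]
  [ConcreteCategory.{u + 1} A FA] [PreservesFilteredColimitsOfSize.{u, u} (forget A)]
  (ξ : Spec (CommRingCat.of Ω) ⟶ X)

theorem germ_res_apply (F : Sheaf X.smallEtaleTopology A) {U V : X.Etale} (g : V ⟶ U) (v : Fib ξ V)
    (x : ToType (F.obj.obj (op U))) : germ ξ F V v (F.obj.map g.op x) = germ ξ F U (v.map g) x := by
  rw [← ConcreteCategory.comp_apply, germ_res]

theorem germ_natural_apply {F G : Sheaf X.smallEtaleTopology A} (φ : F ⟶ G) (U : X.Etale) (u : Fib ξ U)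
    (x : ToType (F.obj.obj (op U))) : (stk ξ).map φ (germ ξ F U u x) = germ ξ G U u (φ.hom.app (op U) x) := by
  rw [← ConcreteCategory.comp_apply, germ_natural, ConcreteCategory.comp_apply]

theorem exists_germ {F : Sheaf X.smallEtaleTopology A} (p : ToType ((stk ξ).obj F)) :
    ∃ (U : X.Etale) (u : Fib ξ U) (x : ToType (F.obj.obj (op U))), germ ξ F U u x = p := by
  exact (pt ξ).toPresheafFiber_jointly_surjective p

theorem germ_eq_iff {F : Sheaf X.smallEtaleTopology A} (U : X.Etale) (u : Fib ξ U)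
    (x y : ToType (F.obj.obj (op U))) :
    germ ξ F U u x = germ ξ F U u y ↔
      ∃ (V : X.Etale) (g : V ⟶ U) (v : Fib ξ V), v.map g = u ∧ F.obj.map g.op x = F.obj.map g.op y :=
  (pt ξ).toPresheafFiber_eq_iff' U u x y

/-- Finitely many elements of the stalk are germs over a common neighbourhood refining a given one. -/
theorem exists_germ_below {F : Sheaf X.smallEtaleTopology A} (p : ToType ((stk ξ).obj F)) (U : X.Etale)
    (u : Fib ξ U) : ∃ (V : X.Etale) (g : V ⟶ U) (v : Fib ξ V) (x : ToType (F.obj.obj (op V))),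
      v.map g = u ∧ germ ξ F V v x = p := by
  obtain ⟨W, w, x, rfl⟩ := exists_germ ξ p
  obtain ⟨⟨V, v⟩, g, h, -⟩ := IsCofilteredOrEmpty.cone_objs ((pt ξ).fiber.elementsMk U u) ((pt ξ).fiber.elementsMk W w)
  exact ⟨V, g.1, v, F.obj.map h.1.op x, g.2, by rw [germ_res_apply, show Fib.map h.1 v = w from h.2]⟩

theorem exists_below_list {κ : Type*} (s : Finset κ) (U : X.Etale) (u : Fib ξ U)
    (P : ∀ {V : X.Etale}, (V ⟶ U) → κ → Prop)
    (hmono : ∀ {V W : X.Etale} (g : V ⟶ U) (h : W ⟶ V) (k : κ), P g k → P (h ≫ g) k)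
    (hP : ∀ k ∈ s, ∃ (V : X.Etale) (g : V ⟶ U) (v : Fib ξ V), v.map g = u ∧ P g k) :
    ∃ (V : X.Etale) (g : V ⟶ U) (v : Fib ξ V), v.map g = u ∧ ∀ k ∈ s, P g k := by
  classical
  induction s using Finset.induction_on with
  | empty => exact ⟨U, 𝟙 U, u, by simp [Fib.map], by simp⟩
  | insert a t ha IH =>
    obtain ⟨V, g, v, hv, hV⟩ := IH fun k hk => hP k (Finset.mem_insert_of_mem hk)
    obtain ⟨W, h, w, hw, hW⟩ := hP a (Finset.mem_insert_self a t)
    obtain ⟨⟨T, t'⟩, a', b', hab⟩ := IsCofiltered.cospan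
      (show (pt ξ).fiber.elementsMk V v ⟶ (pt ξ).fiber.elementsMk U u from ⟨g, hv⟩)
      (show (pt ξ).fiber.elementsMk W w ⟶ (pt ξ).fiber.elementsMk U u from ⟨h, hw⟩)
    have hab' : a'.1 ≫ g = b'.1 ≫ h := congrArg Subtype.val hab
    refine ⟨T, a'.1 ≫ g, t', ?_, fun k hk => ?_⟩
    · show (pt ξ).fiber.map (a'.1 ≫ g) t' = u
      rw [Functor.map_comp_apply, a'.2]
      exact hv
    · rcases Finset.mem_insert.1 hk with rfl | hk
      · rw [hab']
        exact hmono h b'.1 k hW
      · exact hmono g a'.1 k (hV k hk)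

end Elements

section Pull

variable (f : X ⟶ Y) (ξ : Spec (CommRingCat.of Ω) ⟶ X)

/-- Lift along base change. -/
noncomputable def Fib.lift {U : Y.Etale} (u : Fib (ξ ≫ f) U) : Fib ξ ((EtCoh.bc f).obj U) :=
  Fib.mk (U := (EtCoh.bc f).obj U) (pullback.lift u.hom ξ u.w) (by
    dsimp [EtCoh.bc]
    exact pullback.lift_snd _ _ _)

/-- Projection along base change. -/
noncomputable def Fib.proj {U : Y.Etale} (u : Fib ξ ((EtCoh.bc f).obj U)) : Fib (ξ ≫ f) U :=
  Fib.mk (u.hom ≫ (pullback.fst U.hom f : ((EtCoh.bc f).obj U).left ⟶ U.left)) (by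
    rw [Category.assoc]
    refine (congrArg (u.hom ≫ ·) (pullback.condition (f := U.hom) (g := f))).trans ?_
    rw [← Category.assoc]
    exact congrArg (· ≫ f) u.w)

theorem Fib.proj_lift {U : Y.Etale} (u : Fib (ξ ≫ f) U) : (u.lift f ξ).proj f ξ = u :=
  Fib.ext (pullback.lift_fst _ _ _)

theorem Fib.lift_proj {U : Y.Etale} (u : Fib ξ ((EtCoh.bc f).obj U)) : (u.proj f ξ).lift f ξ = u := by
  apply Fib.ext
  apply pullback.hom_ext
  · exact pullback.lift_fst _ _ _
  · exact (pullback.lift_snd _ _ _).trans u.w.symm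

theorem Fib.proj_map {U V : Y.Etale} (g : V ⟶ U) (v : Fib ξ ((EtCoh.bc f).obj V)) :
    (Fib.map ((EtCoh.bc f).map g) v).proj f ξ = (v.proj f ξ).map g := by
  apply Fib.ext
  show (v.hom ≫ ((EtCoh.bc f).map g).left) ≫ pullback.fst U.hom f = (v.hom ≫ pullback.fst V.hom f) ≫ g.left
  rw [Category.assoc, Category.assoc, (EtCoh.isPullback_bc_map f g).w]

/-- The fibre functors agree. -/
noncomputable def fiberIso : EtCoh.bc f ⋙ (pt ξ).fiber ≅ (pt (ξ ≫ f)).fiber :=
  NatIso.ofComponents (fun U => Equiv.toIso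
    { toFun := fun u => Fib.proj f ξ u
      invFun := fun u => Fib.lift f ξ u
      left_inv := fun u => Fib.lift_proj f ξ u
      right_inv := fun u => Fib.proj_lift f ξ u })
    (fun {V U} g => by
      ext v
      exact Fib.proj_map f ξ g v)

noncomputable instance : InitiallySmall.{u} (EtCoh.bc f ⋙ (pt ξ).fiber).Elements :=
  initiallySmall_of_initial_of_initiallySmall
    ((CategoryOfElements.structuredArrowEquivalence _).trans ((StructuredArrow.mapNatIso (fiberIso f ξ)).trans (CategoryOfElements.structuredArrowEquivalence _).symm)).inverse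

/-- The induced point of the étale site of the target. -/
noncomputable abbrev comapPt : Y.smallEtaleTopology.Point :=
  (pt ξ).comap (EtCoh.bc f) (EtCoh.coverPreserving_bc f)

variable (A : Type (u + 2)) [Category.{u + 1} A] [HasColimitsOfSize.{u, u} A] [HasProducts.{u} A]
  [((EtCoh.bc f).sheafPushforwardContinuous A Y.smallEtaleTopology X.smallEtaleTopology).IsRightAdjoint]

/-- Inverse image with values in `A`. -/
noncomputable abbrev pullA : Sheaf Y.smallEtaleTopology A ⥤ Sheaf X.smallEtaleTopology A :=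
  (EtCoh.bc f).sheafPullback A Y.smallEtaleTopology X.smallEtaleTopology

/-- Its adjunction. -/
noncomputable abbrev adjA : pullA f A ⊣ (EtCoh.bc f).sheafPushforwardContinuous A _ _ :=
  (EtCoh.bc f).sheafAdjunctionContinuous A Y.smallEtaleTopology X.smallEtaleTopology

/-- Stalks of inverse images. -/
noncomputable def stalkPull : stk (A := A) (ξ ≫ f) ≅ pullA f A ⋙ stk ξ :=
  let h : comapPt f ξ ⟶ pt (ξ ≫ f) := ⟨(fiberIso f ξ).inv⟩
  let h' : pt (ξ ≫ f) ⟶ comapPt f ξ := ⟨(fiberIso f ξ).hom⟩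
  { hom := h.sheafFiber
    inv := h'.sheafFiber
    hom_inv_id := by
      rw [← GrothendieckTopology.Point.Hom.sheafFiber_comp,
        show h' ≫ h = 𝟙 _ from GrothendieckTopology.Point.hom_ext (fiberIso f ξ).inv_hom_id,
        GrothendieckTopology.Point.Hom.sheafFiber_id]
    inv_hom_id := by
      rw [← GrothendieckTopology.Point.Hom.sheafFiber_comp,
        show h ≫ h' = 𝟙 _ from GrothendieckTopology.Point.hom_ext (fiberIso f ξ).hom_inv_id,
        GrothendieckTopology.Point.Hom.sheafFiber_id] } ≪≫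
    (pt ξ).sheafFiberComapIso (EtCoh.bc f) (EtCoh.coverPreserving_bc f) A

@[reassoc]
theorem germ_comap (F : Sheaf Y.smallEtaleTopology A) (U : Y.Etale) (u : Fib ξ ((EtCoh.bc f).obj U)) :
    (comapPt f ξ).toPresheafFiber U u F.obj ≫
      ((pt ξ).sheafFiberComapIso (EtCoh.bc f) (EtCoh.coverPreserving_bc f) A).hom.app F =
    ((adjA f A).unit.app F).hom.app (op U) ≫ germ ξ ((pullA f A).obj F) ((EtCoh.bc f).obj U) u := by
  let adj₁ := (adjA f A).comp (pt ξ).skyscraperSheafAdjunction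
  let adj₂ := (comapPt f ξ).skyscraperSheafAdjunction (A := A)
  let β := (pt ξ).skyscraperSheafFunctorCompSheafPushforwardContinuous (EtCoh.bc f) (EtCoh.coverPreserving_bc f) A
  have e := unit_conjugateEquiv_symm adj₁ adj₂ β.hom F
  have e' : adj₁.unit.app F = adj₂.homEquiv _ _
      (((pt ξ).sheafFiberComapIso (EtCoh.bc f) (EtCoh.coverPreserving_bc f) A).hom.app F) := by
    rw [Adjunction.homEquiv_unit]
    exact (Category.comp_id _).symm.trans e
  have e'' := congrArg (fun t => t.hom.app (op U) ≫ Pi.π _ u) e'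
  have r : (adj₂.homEquiv _ _
      (((pt ξ).sheafFiberComapIso (EtCoh.bc f) (EtCoh.coverPreserving_bc f) A).hom.app F)).hom.app (op U) ≫ Pi.π _ u =
      (comapPt f ξ).toPresheafFiber U u F.obj ≫
      ((pt ξ).sheafFiberComapIso (EtCoh.bc f) (EtCoh.coverPreserving_bc f) A).hom.app F :=
    (congrArg (fun (t : F.obj ⟶ (comapPt f ξ).skyscraperPresheaf _) => t.app (op U) ≫ Pi.π _ u)
      ((comapPt f ξ).skyscraperSheafAdjunction_homEquiv_apply_hom (F := F)
        (((pt ξ).sheafFiberComapIso (EtCoh.bc f) (EtCoh.coverPreserving_bc f) A).hom.app F))).trans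
      ((comapPt f ξ).skyscraperPresheafHomEquiv_app_π _ U u)
  rw [← r]
  refine e''.symm.trans ?_
  have s : ∀ (G : Sheaf X.smallEtaleTopology A) (V : X.Etale) (v : Fib ξ V),
      (((pt ξ).skyscraperSheafAdjunction (A := A)).unit.app G).hom.app (op V) ≫ Pi.π _ v = germ ξ G V v := by
    intro G V v
    rw [← Adjunction.homEquiv_id]
    exact ((congrArg (fun (t : G.obj ⟶ (pt ξ).skyscraperPresheaf _) => t.app (op V) ≫ Pi.π _ v)
      ((pt ξ).skyscraperSheafAdjunction_homEquiv_apply_hom (F := G) (𝟙 ((stk ξ).obj G)))).trans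
      ((pt ξ).skyscraperPresheafHomEquiv_app_π _ V v)).trans (Category.comp_id _)
  rw [← s]
  show (adj₁.unit.app F).hom.app (op U) ≫ _ = _
  rw [Adjunction.comp_unit_app]
  exact Category.assoc _ _ _

@[reassoc]
theorem germ_stalkPull (F : Sheaf Y.smallEtaleTopology A) (U : Y.Etale) (u : Fib (ξ ≫ f) U) :
    germ (ξ ≫ f) F U u ≫ (stalkPull f ξ A).hom.app F =
    ((adjA f A).unit.app F).hom.app (op U) ≫ germ ξ ((pullA f A).obj F) ((EtCoh.bc f).obj U) (u.lift f ξ) := by
  rw [← germ_comap]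
  dsimp [stalkPull, germ]
  rw [← Category.assoc]
  refine congrArg (· ≫ _) ?_
  rw [GrothendieckTopology.Point.Hom.presheafFiber_app]
  exact (pt (ξ ≫ f)).toPresheafFiber_presheafFiberDesc (P := F.obj) _ _ U u

end Pull

end Groth.Agent.EtShLib
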