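import Groth.Agent.EtShLib.ShriekSupp
import Groth.Agent.S0086
import Mathlib.AlgebraicGeometry.Morphisms.FlatDescent
import Mathlib.AlgebraicGeometry.Cover.Sigma

/-! Proper support is étale local on the base. -/

set_option autoImplicit false
set_option linter.unusedSectionVars false
set_option linter.style.haveILetI false
set_option backward.isDefEq.respectTransparency false
set_option backward.isDefEq.respectTransparency.types false
set_option synthInstance.maxHeartbeats 400000
set_option maxHeartbeats 1000000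

universe u

open CategoryTheory CategoryTheory.Limits AlgebraicGeometry Opposite

namespace Groth.Agent.EtShLib

theorem isProper_of_etale_cover {T V : Scheme.{u}} (p : T ⟶ V) {κ : Type u} (W : κ → Scheme.{u})
    (g : ∀ k, W k ⟶ V) [∀ k, AlgebraicGeometry.Etale (g k)] (hc : ∀ v : V, ∃ k, v ∈ Set.range (g k).base)
    (h : ∀ k, IsProper (pullback.snd p (g k))) : IsProper p := by
  haveI := Groth.Agent.S0086.result.{u}
  let d := Sigma.desc g
  haveI : AlgebraicGeometry.Etale d := IsZariskiLocalAtSource.sigmaDesc fun k => inferInstance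
  haveI : Surjective d := ⟨fun v => by
    obtain ⟨k, w, hw⟩ := hc v
    exact ⟨(Sigma.ι W k).base w, (congrArg (fun t : W k ⟶ V => t.base w) (Sigma.ι_desc g k)).trans hw⟩⟩
  refine MorphismProperty.of_pullback_snd_of_descendsAlong (P := @IsProper)
    (Q := @Surjective ⊓ @Flat ⊓ @LocallyOfFinitePresentation) (f := p) (g := d)
    ⟨⟨inferInstance, inferInstance⟩, inferInstance⟩ ?_
  refine (IsZariskiLocalAtTarget.iff_of_openCover (P := @IsProper) (sigmaOpenCover W)).2 fun k => ?_
  have h1 := (IsPullback.of_hasPullback (pullback.snd p d) (Sigma.ι W k)).flip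
  have h2 := (IsPullback.of_hasPullback p d).flip
  have h3 : IsPullback (pullback.snd (pullback.snd p d) (Sigma.ι W k))
      (pullback.fst (pullback.snd p d) (Sigma.ι W k) ≫ pullback.fst p d) (g k) p := by
    have := h1.paste_vert h2
    rwa [show Sigma.ι W k ≫ d = g k from Sigma.ι_desc g k] at this
  exact (MorphismProperty.cancel_left_of_respectsIso @IsProper h3.flip.isoPullback.inv _).1
    (by
      show IsProper (h3.flip.isoPullback.inv ≫ pullback.snd (pullback.snd p d) (Sigma.ι W k))
      rw [IsPullback.isoPullback_inv_snd]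
      exact h k)

variable {X Y : Scheme.{u}} (F : EtCoh.Ab X) (f : X ⟶ Y) [LocallyOfFiniteType f]

theorem mem_shriekSubgroup_of_cover (V : Y.Etale) (t : F.obj.obj (op ((EtCoh.bc f).obj V))) {κ : Type u}
    (W : κ → Y.Etale) (g : ∀ k, W k ⟶ V) (hc : ∀ v : V.left, ∃ k, v ∈ Set.range (g k).left.base)
    (h : ∀ k, F.obj.map ((EtCoh.bc f).map (g k)).op t ∈ EtShriek.shriekSubgroup f F (W k)) :
    t ∈ EtShriek.shriekSubgroup f F V := by
  rw [mem_shriekSubgroup_iff]
  let S := EtShriek.sectSupp F ((EtCoh.bc f).obj V) t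
  have hS : IsClosed S := isClosed_sectSupp F _ _
  refine ⟨hS, ?_⟩
  set i := (Scheme.IdealSheafData.vanishingIdeal ⟨S, hS⟩).subschemeι
  haveI : ∀ k, AlgebraicGeometry.Etale (g k).left := fun k => etale_left (g k)
  refine isProper_of_etale_cover (i ≫ EtShriek.prV f V) (fun k => (W k).left) (fun k => (g k).left) hc fun k => ?_
  let m := ((EtCoh.bc f).map (g k)).left
  have h1 : IsPullback (pullback.fst i m) (pullback.snd i m) i m := IsPullback.of_hasPullback i m
  have h2 := h1.paste_vert (EtCoh.isPullback_bc_map f (g k))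
  haveI : IsClosedImmersion (pullback.snd i m) := MorphismProperty.pullback_snd _ _ inferInstance
  haveI : IsProper (pullback.snd i m ≫ EtShriek.prV f (W k)) := by
    refine ProperOverLib.isProper_comp_closedImmersion ((mem_shriekSubgroup_iff F f (W k) _).1 (h k)) _ ?_
    rw [Scheme.Pullback.range_snd, ProperOverLib.range_subschemeι_vanishingIdeal]
    intro z hz
    obtain ⟨Ω, _, _, ξ, u, rfl⟩ := exists_geometric (U := (EtCoh.bc f).obj (W k)) z
    by_contra hn
    refine notMem_sectSupp_of_germ F t (u.map ((EtCoh.bc f).map (g k))) ?_ hz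
    rw [← germ_res_apply]
    exact germ_eq_zero_of_notMem F _ u hn
  exact (MorphismProperty.cancel_left_of_respectsIso @IsProper h2.isoPullback.hom _).1
    (by rw [IsPullback.isoPullback_hom_snd]; infer_instance)

theorem isSheaf_lowerShriekPre :
    Presheaf.IsSheaf Y.smallEtaleTopology (EtShriek.lowerShriekPre f F) := by
  rw [Presheaf.isSheaf_iff_isSheaf_forget _ _ (forget AddCommGrpCat.{u + 1}), isSheaf_iff_isSheaf_of_type]
  intro V S hS x hx
  have hP := (isSheaf_iff_isSheaf_of_type _ _).1
    (GrothendieckTopology.HasSheafCompose.isSheaf (F := forget AddCommGrpCat.{u + 1})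
      ((EtCoh.push f).obj F).obj ((EtCoh.push f).obj F).property) S hS
  let x' : Presieve.FamilyOfElements (((EtCoh.push f).obj F).obj ⋙ forget AddCommGrpCat.{u + 1}) (S : Presieve V) :=
    fun W g hg => (x g hg).1
  have hx' : x'.Compatible := fun _ _ _ g₁ g₂ _ _ h₁ h₂ e =>
    congrArg Subtype.val (hx g₁ g₂ h₁ h₂ e)
  obtain ⟨t, ht, ht'⟩ := hP x' hx'
  have hcov : ∀ v : V.left, ∃ (W : Y.Etale) (g : W ⟶ V), S g ∧ v ∈ Set.range g.left.base := by
    have hS' : S ∈ (Y.smallPretopology (P := EtCoh.etaleMP) (Q := EtCoh.etaleMP)).toGrothendieck V := by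
      rw [← Scheme.smallGrothendieckTopology_eq_toGrothendieck_smallPretopology Y le_rfl]
      exact hS
    intro v
    obtain ⟨W, g, w, hg, -, hw⟩ := (Scheme.mem_toGrothendieck_smallPretopology V S).1 hS' v
    exact ⟨W, g, hg, w, hw⟩
  choose W g hg hw using hcov
  refine ⟨⟨t, mem_shriekSubgroup_of_cover F f V t W g (fun v => ⟨v, hw v⟩) fun v => ?_⟩,
    fun Z q hq => Subtype.ext (ht q hq), fun s hs => Subtype.ext (ht' s.1 fun Z q hq => congrArg Subtype.val (hs q hq))⟩
  have := ht (g v) (hg v)
  exact this.symm ▸ (x (g v) (hg v)).2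

end Groth.Agent.EtShLib
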