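import Groth.Agent.EtShLib.LqfStalk
import Groth.Agent.EtShLib.ShriekSheaf
import Groth.Agent.EtShLib.SamePoint
import Groth.Agent.EtShLib.Constructible
import Mathlib.CategoryTheory.Limits.FunctorCategory.Basic

/-! The functor `f_!` for separated locally quasi-finite morphisms. -/

set_option autoImplicit false
set_option linter.unusedSectionVars false
set_option linter.style.haveILetI false
set_option backward.isDefEq.respectTransparency false
set_option backward.isDefEq.respectTransparency.types false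
set_option synthInstance.maxHeartbeats 400000
set_option maxHeartbeats 1000000

universe u

open CategoryTheory CategoryTheory.Limits AlgebraicGeometry Opposite

namespace Groth.Agent.EtShLib

/-- Geometric stalks over algebraically closed fields detect isomorphisms. -/
theorem isIso_of_stalks_algClosed {X : Scheme.{u}} {F G : EtCoh.Ab X} (φ : F ⟶ G)
    (h : ∀ (Ω : Type u) [Field Ω] [IsSepClosed Ω] [IsAlgClosed Ω] (ξ : Spec (CommRingCat.of Ω) ⟶ X),
      IsIso ((stk (A := AddCommGrpCat.{u + 1}) ξ).map φ)) : IsIso φ :=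
  isIso_of_stalks (A := AddCommGrpCat.{u + 1}) φ fun Ω _ _ ξ => by
    let ξ' := Spec.map (CommRingCat.ofHom (algebraMap Ω (AlgebraicClosure Ω))) ≫ ξ
    obtain ⟨e⟩ := nonempty_stk_iso_of_eq (A := AddCommGrpCat.{u + 1}) (ξ := ξ) (ξ' := ξ') (by
      show ξ.base ((Spec.map (CommRingCat.ofHom (algebraMap Ω (AlgebraicClosure Ω)))).base default) = _
      exact congrArg ξ.base (Subsingleton.elim (α := Spec (CommRingCat.of Ω)) _ _))
    exact (NatIso.isIso_map_iff e φ).2 (h _ ξ')

variable {X Y : Scheme.{u}} (f : X ⟶ Y) [LocallyOfFiniteType f]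

/-- The sheaf of sections with proper support, as a functor. -/
noncomputable def preF : EtCoh.Ab X ⥤ EtCoh.Ab Y where
  obj F := ⟨EtShriek.lowerShriekPre f F, isSheaf_lowerShriekPre F f⟩
  map α := ObjectProperty.homMk ((EtShriek.lowerShriekPreFunctor f).map α)
  map_id F := Sheaf.hom_ext ((EtShriek.lowerShriekPreFunctor f).map_id F)
  map_comp α β := Sheaf.hom_ext ((EtShriek.lowerShriekPreFunctor f).map_comp α β)

/-- Sheafifying sections with proper support changes nothing. -/
noncomputable def lowerShriekIso : EtShriek.lowerShriek f ≅ preF f :=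
  Functor.isoWhiskerLeft (preF f)
    (asIso (sheafificationAdjunction Y.smallEtaleTopology AddCommGrpCat.{u + 1}).counit)

/-- The inclusion into the direct image. -/
noncomputable def preι : preF f ⟶ EtCoh.push f where
  app F := ObjectProperty.homMk (EtShriek.lowerShriekPreι f F)
  naturality F G α := by
    refine Sheaf.hom_ext ?_
    ext V : 2
    ext s
    rfl

instance (F : EtCoh.Ab X) : Mono ((preι f).app F) := by
  haveI : Mono ((preι f).app F).hom := by
    haveI : ∀ V, Mono (((preι f).app F).hom.app V) := fun V =>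
      (AddCommGrpCat.mono_iff_injective _).2 Subtype.val_injective
    exact NatTrans.mono_of_mono_app _
  exact (sheafToPresheaf _ _).mono_of_mono_map ‹_›

theorem preservesMonomorphisms_preF : (preF f).PreservesMonomorphisms :=
  ⟨fun {F G} α _ => by
    haveI : Mono ((EtCoh.push f).map α) := by
      haveI : (EtCoh.push f).IsRightAdjoint := (EtCoh.pullPushAdj f).isRightAdjoint
      infer_instance
    haveI : Mono ((preF f).map α ≫ (preι f).app G) := by rw [(preι f).naturality α]; exact mono_comp _ _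
    exact mono_of_mono _ ((preι f).app G)⟩

variable {Ω : Type u} [Field Ω] [IsSepClosed Ω] (ξ : Spec (CommRingCat.of Ω) ⟶ Y)

/-- The component at a lift of a stalk of sections with proper support. -/
noncomputable def comp' (F : EtCoh.Ab X) (u : {u : Spec (CommRingCat.of Ω) ⟶ X // u ≫ f = ξ}) :
    (stk (A := AddCommGrpCat.{u + 1}) ξ).obj ((preF f).obj F) ⟶ (stk (A := AddCommGrpCat.{u + 1}) u.1).obj F :=
  (stk (A := AddCommGrpCat.{u + 1}) ξ).map ((preι f).app F) ≫ liftGerm f F ξ u

theorem comp'_germ (F : EtCoh.Ab X) (u : {u : Spec (CommRingCat.of Ω) ⟶ X // u ≫ f = ξ}) (W : Y.Etale)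
    (w : Fib ξ W) (t : EtShriek.shriekSubgroup f F W) :
    comp' f ξ F u (germ (A := AddCommGrpCat.{u + 1}) ξ ((preF f).obj F) W w t) =
      germ (A := AddCommGrpCat.{u + 1}) u.1 F _ (Fib.liftU f u w) t.1 := by
  show liftGerm f F ξ u ((stk (A := AddCommGrpCat.{u + 1}) ξ).map ((preι f).app F) _) = _
  rw [germ_natural_apply]
  exact liftGerm_germ f F ξ u W w t.1

theorem comp'_natural {F G : EtCoh.Ab X} (α : F ⟶ G) (u : {u : Spec (CommRingCat.of Ω) ⟶ X // u ≫ f = ξ})
    (p : (stk (A := AddCommGrpCat.{u + 1}) ξ).obj ((preF f).obj F)) :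
    comp' f ξ G u ((stk (A := AddCommGrpCat.{u + 1}) ξ).map ((preF f).map α) p) =
      (stk (A := AddCommGrpCat.{u + 1}) u.1).map α (comp' f ξ F u p) := by
  obtain ⟨W, w, t, rfl⟩ := exists_germ (A := AddCommGrpCat.{u + 1}) ξ p
  rw [germ_natural_apply, comp'_germ, comp'_germ, germ_natural_apply]
  rfl

variable [LocallyQuasiFinite f] [IsAlgClosed Ω] (F : EtCoh.Ab X)

theorem comp'_jointly_injective (p : (stk (A := AddCommGrpCat.{u + 1}) ξ).obj ((preF f).obj F))
    (h : ∀ u, comp' f ξ F u p = 0) : p = 0 := by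
  obtain ⟨W, w, t, rfl⟩ := exists_germ (A := AddCommGrpCat.{u + 1}) ξ p
  apply (AddCommGrpCat.mono_iff_injective ((stk (A := AddCommGrpCat.{u + 1}) ξ).map ((preι f).app F))).1 inferInstance
  rw [map_zero, germ_natural_apply]
  exact germ_eq_zero_of_lifts f F W w t.1 t.2 (fun z _ hz => exists_lift_of_mem f W w z hz)
    fun u => (comp'_germ f ξ F u W w t).symm.trans (h u)

theorem finite_support_comp' (p : (stk (A := AddCommGrpCat.{u + 1}) ξ).obj ((preF f).obj F)) :
    {u | comp' f ξ F u p ≠ 0}.Finite := by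
  obtain ⟨W, w, t, rfl⟩ := exists_germ (A := AddCommGrpCat.{u + 1}) ξ p
  obtain ⟨T, i, hi, hr, hp⟩ := ProperOverLib.exists_closedImmersion ((mem_shriekSubgroup_iff F f W t.1).1 t.2)
  haveI : LocallyQuasiFinite (EtShriek.prV f W) :=
    MorphismProperty.pullback_fst (P := @LocallyQuasiFinite) _ _ ‹_›
  let π : T ⟶ W.left := i ≫ EtShriek.prV f W
  haveI : LocallyQuasiFinite π := inferInstanceAs (LocallyQuasiFinite (i ≫ EtShriek.prV f W))
  haveI : Finite (WeightLib.GPts π w.hom) := WeightLib.finite_gpts π w.hom (π.finite_preimage_singleton _)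
  let G : WeightLib.GPts π w.hom → {u : Spec (CommRingCat.of Ω) ⟶ X // u ≫ f = ξ} := fun q =>
    ⟨q.1 ≫ i ≫ pullback.snd W.hom f, by
      rw [Category.assoc, Category.assoc, ← pullback.condition, ← Category.assoc, ← Category.assoc]
      exact (congrArg (· ≫ W.hom) ((Category.assoc _ _ _).trans q.2)).trans w.w⟩
  refine (Set.finite_range G).subset fun u hu => ?_
  rw [Set.mem_setOf_eq, comp'_germ] at hu
  have hz : (Fib.liftU f u w).pt ∈ Set.range i.base := by
    rw [hr]
    exact by_contra fun hn => hu (germ_eq_zero_of_notMem F t.1 _ hn)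
  obtain ⟨x, hx⟩ := hz
  obtain ⟨⟨q, hq⟩, -⟩ := WeightLib.exists_gpt i x (Fib.hom (ξ := u.1) (U := (EtCoh.bc f).obj W) (Fib.liftU f u w))
    (hx.trans (congrArg (Fib.hom (ξ := u.1) (U := (EtCoh.bc f).obj W) (Fib.liftU f u w)).base (Subsingleton.elim _ _)))
  refine ⟨⟨q, ?_⟩, Subtype.ext ?_⟩
  · show q ≫ i ≫ EtShriek.prV f W = w.hom
    rw [← Category.assoc, hq]
    exact pullback.lift_fst _ _ _
  · show q ≫ i ≫ pullback.snd W.hom f = u.1
    rw [← Category.assoc, hq]
    exact pullback.lift_snd _ _ _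

variable [IsSeparated f]

theorem exists_inj (u : {u : Spec (CommRingCat.of Ω) ⟶ X // u ≫ f = ξ}) :
    ∃ j : (stk (A := AddCommGrpCat.{u + 1}) u.1).obj F ⟶ (stk (A := AddCommGrpCat.{u + 1}) ξ).obj ((preF f).obj F),
      j ≫ comp' f ξ F u = 𝟙 _ ∧ ∀ u', u' ≠ u → j ≫ comp' f ξ F u' = 0 := by
  classical
  have h : ∀ a, ∃ p, comp' f ξ F u p = a ∧ ∀ u', u' ≠ u → comp' f ξ F u' p = 0 := fun a => by
    obtain ⟨W, w, t, ht, h1, h2⟩ := exists_section_of_lift f F u a
    exact ⟨germ (A := AddCommGrpCat.{u + 1}) ξ ((preF f).obj F) W w ⟨t, ht⟩,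
      (comp'_germ f ξ F u W w ⟨t, ht⟩).trans h1, fun u' hu' => (comp'_germ f ξ F u' W w ⟨t, ht⟩).trans (h2 u' hu')⟩
  choose j h1 h2 using h
  refine ⟨AddCommGrpCat.ofHom (AddMonoidHom.mk' j fun a b => sub_eq_zero.1
    (comp'_jointly_injective f ξ F _ fun u' => ?_)), ?_, fun u' hu' => ?_⟩
  · rw [map_sub, map_add]
    by_cases hu' : u' = u
    · subst hu'
      rw [h1, h1, h1, sub_self]
    · rw [h2 _ u' hu', h2 _ u' hu', h2 _ u' hu', add_zero, sub_zero]
  · ext a
    exact h1 a
  · ext a
    exact h2 a u' hu'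

/-- The inclusion at a lift. -/
noncomputable def injAt (u : {u : Spec (CommRingCat.of Ω) ⟶ X // u ≫ f = ξ}) :
    (stk (A := AddCommGrpCat.{u + 1}) u.1).obj F ⟶ (stk (A := AddCommGrpCat.{u + 1}) ξ).obj ((preF f).obj F) :=
  (exists_inj f ξ F u).choose

theorem injAt_comp' (u : {u : Spec (CommRingCat.of Ω) ⟶ X // u ≫ f = ξ}) (a) :
    comp' f ξ F u (injAt f ξ F u a) = a :=
  congrArg (fun t : (stk (A := AddCommGrpCat.{u + 1}) u.1).obj F ⟶ _ => t a) (exists_inj f ξ F u).choose_spec.1

theorem injAt_comp'_ne (u u' : {u : Spec (CommRingCat.of Ω) ⟶ X // u ≫ f = ξ}) (h : u' ≠ u) (a) :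
    comp' f ξ F u' (injAt f ξ F u a) = 0 :=
  congrArg (fun t : (stk (A := AddCommGrpCat.{u + 1}) u.1).obj F ⟶ _ => t a) ((exists_inj f ξ F u).choose_spec.2 u' h)

theorem sum_injAt (p : (stk (A := AddCommGrpCat.{u + 1}) ξ).obj ((preF f).obj F)) :
    ∑ u ∈ (finite_support_comp' f ξ F p).toFinset, injAt f ξ F u (comp' f ξ F u p) = p := by
  classical
  refine sub_eq_zero.1 (comp'_jointly_injective f ξ F _ fun u => ?_)
  rw [map_sub, map_sum, sub_eq_zero, Finset.sum_eq_single u (fun v _ hv => injAt_comp'_ne f ξ F v u hv.symm _)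
    (fun hu => ?_), injAt_comp']
  have h0 : comp' f ξ F u p = 0 := by_contra fun h => hu ((Set.Finite.mem_toFinset _).2 h)
  rw [h0, map_zero, map_zero]

/-- The stalk is the sum over the lifts. -/
noncomputable def isColimitInjAt : IsColimit (Cofan.mk _ (injAt f ξ F)) := by
  classical
  refine Cofan.IsColimit.mk _ (fun s => AddCommGrpCat.ofHom (AddMonoidHom.mk'
    (fun p => ∑ᶠ u, s.inj u (comp' f ξ F u p)) fun p q => ?_)) (fun s u => ?_) (fun s m hm => ?_)
  · simp only [map_add]
    exact finsum_add_distrib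
      ((finite_support_comp' f ξ F p).subset fun v hv hv' => hv (show s.inj v _ = 0 by rw [hv', map_zero]))
      ((finite_support_comp' f ξ F q).subset fun v hv hv' => hv (show s.inj v _ = 0 by rw [hv', map_zero]))
  · ext a
    show ∑ᶠ v, s.inj v (comp' f ξ F v (injAt f ξ F u a)) = s.inj u a
    rw [finsum_eq_single _ u fun v hv => by rw [injAt_comp'_ne f ξ F u v hv, map_zero], injAt_comp']
  · ext p
    show m p = ∑ᶠ u, s.inj u (comp' f ξ F u p)
    rw [finsum_eq_sum_of_support_subset _ (s := (finite_support_comp' f ξ F p).toFinset)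
      (fun v hv => (Set.Finite.mem_toFinset _).2 fun hv' => hv (show s.inj v _ = 0 by rw [hv', map_zero]))]
    conv_lhs => rw [← sum_injAt f ξ F p, map_sum]
    exact Finset.sum_congr rfl fun u _ =>
      congrArg (fun t : (stk (A := AddCommGrpCat.{u + 1}) u.1).obj F ⟶ s.pt => t (comp' f ξ F u p)) (hm u)

theorem injAt_natural {G : EtCoh.Ab X} (α : F ⟶ G) (u : {u : Spec (CommRingCat.of Ω) ⟶ X // u ≫ f = ξ}) :
    injAt f ξ F u ≫ (stk (A := AddCommGrpCat.{u + 1}) ξ).map ((preF f).map α) =
      (stk (A := AddCommGrpCat.{u + 1}) u.1).map α ≫ injAt f ξ G u := by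
  ext a
  refine sub_eq_zero.1 (comp'_jointly_injective f ξ G _ fun v => ?_)
  rw [map_sub, sub_eq_zero, ConcreteCategory.comp_apply, ConcreteCategory.comp_apply, comp'_natural]
  by_cases h : v = u
  · subst h
    rw [injAt_comp', injAt_comp']
  · rw [injAt_comp'_ne f ξ F u v h, injAt_comp'_ne f ξ G u v h, map_zero]

/-- The family of stalks at the lifts. -/
noncomputable def liftsFam : EtCoh.Ab X ⥤
    (Discrete {u : Spec (CommRingCat.of Ω) ⟶ X // u ≫ f = ξ} ⥤ AddCommGrpCat.{u + 1}) :=
  (Discrete.functor fun u : {u : Spec (CommRingCat.of Ω) ⟶ X // u ≫ f = ξ} =>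
    stk (A := AddCommGrpCat.{u + 1}) u.1).flip

/-- The stalk functor of sections with proper support. -/
noncomputable def stkPreIso : liftsFam f ξ ⋙ colim ≅ preF f ⋙ stk (A := AddCommGrpCat.{u + 1}) ξ :=
  NatIso.ofComponents (fun F => (HasColimit.isoOfNatIso (Discrete.natIso fun u => Iso.refl _ :
      (liftsFam f ξ).obj F ≅ Discrete.functor fun u : {u : Spec (CommRingCat.of Ω) ⟶ X // u ≫ f = ξ} =>
        (stk (A := AddCommGrpCat.{u + 1}) u.1).obj F)) ≪≫
    (colimit.isColimit _).coconePointUniqueUpToIso (isColimitInjAt f ξ F)) (fun {F G} α => by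
    refine colimit.hom_ext fun u => ?_
    simp only [Functor.comp_map, colim_map, Iso.trans_hom, ι_colimMap_assoc, HasColimit.isoOfNatIso_ι_hom_assoc,
      Category.assoc, Discrete.natIso_hom_app, Iso.refl_hom, Category.id_comp,
      IsColimit.comp_coconePointUniqueUpToIso_hom, colimit.cocone_x, colimit.isoColimitCocone_ι_hom_assoc,
      IsColimit.comp_coconePointUniqueUpToIso_hom_assoc]
    refine ((congrArg ((stk (A := AddCommGrpCat.{u + 1}) u.as.1).map α ≫ ·)
      ((colimit.isColimit _).comp_coconePointUniqueUpToIso_hom (isColimitInjAt f ξ G) u)).trans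
      (injAt_natural f ξ F α u.as).symm).trans ((congrArg (· ≫ (stk (A := AddCommGrpCat.{u + 1}) ξ).map ((preF f).map α))
      ((colimit.isColimit _).comp_coconePointUniqueUpToIso_hom (isColimitInjAt f ξ F) u).symm).trans
      (Category.assoc _ _ _)))

end Groth.Agent.EtShLib
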