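import Groth.Agent.EtShLib.ShriekColim
import Groth.Agent.EtShLib.LqfShriek
import Mathlib.Algebra.Homology.ShortComplex.ExactFunctor
import Mathlib.CategoryTheory.Limits.Constructions.Filtered

/-! `f_!` is left exact and commutes with filtered colimits and direct sums. -/

set_option autoImplicit false
set_option linter.unusedSectionVars false
set_option linter.style.haveILetI false
set_option backward.isDefEq.respectTransparency false
set_option backward.isDefEq.respectTransparency.types false
set_option synthInstance.maxHeartbeats 400000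
set_option maxHeartbeats 1000000

universe u

open CategoryTheory CategoryTheory.Limits AlgebraicGeometry Opposite

namespace Groth.Agent.EtShLib

theorem injective_of_mono {X : Scheme.{u}} {F G : EtCoh.Ab X} (α : F ⟶ G) [Mono α] (W : X.Etale) :
    Function.Injective (α.hom.app (op W)) := by
  haveI : Mono α.hom := inferInstanceAs (Mono ((sheafToPresheaf _ _).map α))
  exact (AddCommGrpCat.mono_iff_injective _).1 inferInstance

variable {X Y : Scheme.{u}} (f : X ⟶ Y) [LocallyOfFiniteType f]

instance : (preF f).Additive :=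
  { map_add := fun {F G α β} => Sheaf.hom_ext (by
      ext V : 2
      ext s
      rfl) }

theorem preservesFiniteLimits_preF : PreservesFiniteLimits (preF f) := by
  refine ((Functor.preservesFiniteLimits_tfae (preF f)).out 0 3).1 fun S hS => ?_
  haveI := hS.mono_f
  haveI : (EtCoh.push f).IsRightAdjoint := (EtCoh.pullPushAdj f).isRightAdjoint
  haveI := preservesMonomorphisms_preF f
  haveI : Mono (S.map (preF f)).f := show Mono ((preF f).map S.f) from Functor.map_mono _ _
  refine ⟨?_, (inferInstance : Mono (S.map (preF f)).f)⟩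
  have hker : IsLimit (KernelFork.ofι ((EtCoh.push f).map S.f)
      (by rw [← Functor.map_comp, S.zero, Functor.map_zero])) :=
    KernelFork.mapIsLimit _ hS.exact.fIsKernel (EtCoh.push f)
  refine ShortComplex.exact_of_f_is_kernel _ (KernelFork.IsLimit.ofι' _ _ fun {T} g hg => ?_)
  suffices h : ∃ l', l' ≫ (S.map (preF f)).f = g from ⟨h.choose, h.choose_spec⟩
  obtain ⟨l, hl⟩ : ∃ l, l ≫ (EtCoh.push f).map S.f = g ≫ (preι f).app S.X₂ :=
    ⟨_, (KernelFork.IsLimit.lift' hker (g ≫ (preι f).app S.X₂) (by
      rw [Category.assoc, ← (preι f).naturality, ← Category.assoc]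
      erw [hg]
      exact zero_comp)).2⟩
  have hmem : ∀ (W : Y.Etale) (t : T.obj.obj (op W)),
      l.hom.app (op W) t ∈ EtShriek.shriekSubgroup f S.X₁ W := fun W t => by
    have h1 : S.f.hom.app (op ((EtCoh.bc f).obj W)) (l.hom.app (op W) t) = (g.hom.app (op W) t).1 :=
      congrArg (fun q : T ⟶ (EtCoh.push f).obj S.X₂ => q.hom.app (op W) t) hl
    rw [mem_shriekSubgroup_iff, ← sectSupp_of_mono S.f _ _ (injective_of_mono S.f), h1]
    exact (mem_shriekSubgroup_iff _ f W _).1 (g.hom.app (op W) t).2
  refine ⟨ObjectProperty.homMk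
    { app := fun W => AddCommGrpCat.ofHom ((l.hom.app W).hom.codRestrict _ (hmem W.unop))
      naturality := fun W W' a => by
        ext t
        refine Subtype.ext ?_
        exact congrArg (fun q : T.obj.obj W ⟶ ((EtCoh.push f).obj S.X₁).obj.obj W' => q t) (l.hom.naturality a) }, ?_⟩
  rw [← cancel_mono ((preι f).app S.X₂), ← hl]
  refine Sheaf.hom_ext ?_
  ext W t
  rfl

variable [IsSeparated f] {J : Type u} [SmallCategory J] [IsFiltered J] (D : J ⥤ EtCoh.Ab X)

theorem bijective_post_stk {Ω : Type u} [Field Ω] [IsSepClosed Ω] (ξ : Spec (CommRingCat.of Ω) ⟶ Y) :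
    Function.Bijective ((stk (A := AddCommGrpCat.{u + 1}) ξ).map (colimit.post D (preF f))) := by
  have hc := colimit.isColimit D
  have hc' := colimit.isColimit (D ⋙ preF f)
  constructor
  · rw [injective_iff_map_eq_zero]
    intro q hq
    obtain ⟨i, q₀, hq₀⟩ := Concrete.isColimit_exists_rep _ (isColimitOfPreserves (stk (A := AddCommGrpCat.{u + 1}) ξ) hc') q
    obtain ⟨W, w, t, rfl⟩ := exists_germ (A := AddCommGrpCat.{u + 1}) ξ q₀
    have hι : (stk (A := AddCommGrpCat.{u + 1}) ξ).map ((preF f).map (colimit.ι D i))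
        (germ (A := AddCommGrpCat.{u + 1}) ξ _ W w t) = 0 := by
      rw [← colimit.ι_post D (preF f) i, Functor.map_comp, ConcreteCategory.comp_apply]
      erw [hq₀]
      exact hq
    rw [germ_natural_apply] at hι
    obtain ⟨V₁, g₁, v₁, hv₁, he₁⟩ := (germ_eq_iff ξ W w _ 0).1 (hι.trans (map_zero _).symm)
    obtain ⟨V, g₂, v, hV, hv⟩ := exists_affine_below' ξ V₁ v₁
    haveI := hV
    obtain ⟨k, a, ha⟩ := exists_proper_stage_zero f hc V (((preF f).obj (D.obj i)).obj.map (g₂ ≫ g₁).op t).1
      (((preF f).obj (D.obj i)).obj.map (g₂ ≫ g₁).op t).2 (by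
      refine (congrArg Subtype.val (NatTrans.naturality_apply ((preF f).map (colimit.ι D i)).hom (g₂ ≫ g₁).op t) :).trans ?_
      rw [op_comp, Functor.map_comp, ConcreteCategory.comp_apply]
      erw [he₁]
      rw [map_zero, map_zero]
      rfl)
    have hz : (stk (A := AddCommGrpCat.{u + 1}) ξ).map ((preF f).map (D.map a))
        (germ (A := AddCommGrpCat.{u + 1}) ξ _ W w t) = 0 := by
      rw [germ_natural_apply, ← hv₁, ← hv, (Fib.ext (Category.assoc _ _ _) : (v.map g₂).map g₁ = v.map (g₂ ≫ g₁)), ← germ_res_apply]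
      refine (congrArg _ (Subtype.ext ?_)).trans (map_zero _)
      exact (congrArg Subtype.val (NatTrans.naturality_apply ((preF f).map (D.map a)).hom (g₂ ≫ g₁).op t) :).symm.trans ha
    rw [← hq₀]
    refine Eq.trans ?_ (map_zero (ConcreteCategory.hom ((stk (A := AddCommGrpCat.{u + 1}) ξ).map (colimit.ι (D ⋙ preF f) k))))
    rw [← hz]
    exact (ConcreteCategory.congr_hom
      (((congrArg (stk (A := AddCommGrpCat.{u + 1}) ξ).map (colimit.w (D ⋙ preF f) a).symm)).trans
        (Functor.map_comp _ _ _)) _).trans (ConcreteCategory.comp_apply _ _ _)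
  · intro p
    obtain ⟨W, w, t, rfl⟩ := exists_germ (A := AddCommGrpCat.{u + 1}) ξ p
    obtain ⟨V, g, v, hV, rfl⟩ := exists_affine_below' ξ W w
    haveI := hV
    obtain ⟨k, s, hs, hst⟩ := exists_proper_stage_lift f hc V (((preF f).obj _).obj.map g.op t).1
      (((preF f).obj _).obj.map g.op t).2
    refine ⟨(stk (A := AddCommGrpCat.{u + 1}) ξ).map (colimit.ι (D ⋙ preF f) k)
      (germ (A := AddCommGrpCat.{u + 1}) ξ ((preF f).obj (D.obj k)) V v ⟨s, hs⟩), ?_⟩
    rw [← ConcreteCategory.comp_apply, ← Functor.map_comp, colimit.ι_post]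
    erw [germ_natural_apply]
    rw [← germ_res_apply]
    exact congrArg _ (Subtype.ext hst)

theorem preservesColimit_preF_filtered : PreservesColimit D (preF f) := by
  haveI : IsIso (colimit.post D (preF f)) := isIso_of_stalks (A := AddCommGrpCat.{u + 1}) _ fun Ω _ _ ξ =>
    (ConcreteCategory.isIso_iff_bijective _).2 (bijective_post_stk f D ξ)
  exact preservesColimit_of_isIso_post (preF f) D

omit D in
theorem preservesFilteredColimits_lowerShriek :
    PreservesFilteredColimitsOfSize.{u, u} (EtShriek.lowerShriek f) :=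
  ⟨fun K _ _ => ⟨fun {D} =>
    haveI := preservesColimit_preF_filtered f D
    preservesColimit_of_natIso D (lowerShriekIso f).symm⟩⟩

omit D in
theorem preservesFiniteLimits_lowerShriek' : PreservesFiniteLimits (EtShriek.lowerShriek f) :=
  haveI := preservesFiniteLimits_preF f
  preservesFiniteLimits_of_natIso (lowerShriekIso f).symm

omit D in
theorem preservesCoproducts_lowerShriek (ι : Type u) :
    PreservesColimitsOfShape (Discrete ι) (EtShriek.lowerShriek f) := by
  classical
  haveI : PreservesColimitsOfShape (Discrete ι) (preF f) := ⟨fun {F} =>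
    preservesColimit_of_preserves_colimit_cocone (CoproductsFromFiniteFiltered.liftToFinsetColimitCocone F).isColimit (by
    let L := CoproductsFromFiniteFiltered.liftToFinsetObj F
    haveI := preservesColimit_preF_filtered f L
    have hS : ∀ S : Finset (Discrete ι), PreservesColimit (Discrete.functor fun x : S => F.obj x) (preF f) := fun S =>
      haveI : PreservesFiniteCoproducts (preF f) := inferInstance
      inferInstance
    let hs : ∀ S : Finset (Discrete ι), IsColimit ((preF f).mapCocone (colimit.cocone (Discrete.functor fun x : S => F.obj x))) :=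
      fun S => haveI := hS S; isColimitOfPreserves (preF f) (colimit.isColimit _)
    have hL := isColimitOfPreserves (preF f) (colimit.isColimit L)
    let d : ∀ (s : Cocone (F ⋙ preF f)) (S : Finset (Discrete ι)), (preF f).obj (L.obj S) ⟶ s.pt := fun s S =>
      (hs S).desc ⟨s.pt, Discrete.natTrans fun x => s.ι.app x.as.1⟩
    have hd : ∀ (s : Cocone (F ⋙ preF f)) (S : Finset (Discrete ι)) (x : S),
        (preF f).map (Sigma.ι (fun x : S => F.obj x) x) ≫ d s S = s.ι.app x.1 := fun s S x =>
      (hs S).fac ⟨s.pt, Discrete.natTrans fun x => s.ι.app x.as.1⟩ ⟨x⟩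
    refine
      { desc := fun s => hL.desc ⟨s.pt, { app := d s, naturality := fun S S' h => ?_ }⟩
        fac := fun s j => ?_
        uniq := fun s m hm => ?_ }
    · refine (hs S).hom_ext fun x => ?_
      show (preF f).map (Sigma.ι (fun x : S => F.obj x) x.as) ≫ (preF f).map (L.map h) ≫ d s S' =
        (preF f).map (Sigma.ι (fun x : S => F.obj x) x.as) ≫ d s S ≫ 𝟙 _
      rw [← Category.assoc, ← Functor.map_comp, Category.comp_id, hd]
      show (preF f).map (Sigma.ι _ x.as ≫ Sigma.desc _) ≫ _ = _
      rw [Sigma.ι_desc, hd]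
    · show (preF f).map (Sigma.ι _ _ ≫ colimit.ι L {j}) ≫ _ = _
      rw [Functor.map_comp, Category.assoc]
      refine (congrArg (_ ≫ ·) (hL.fac _ ({j} : Finset (Discrete ι)))).trans ?_
      exact hd s {j} ⟨j, Finset.mem_singleton_self j⟩
    · refine hL.hom_ext fun S => (hs S).hom_ext fun x => ?_
      rw [hL.fac]
      refine Eq.trans ?_ (hd s S x.as).symm
      show (preF f).map (Sigma.ι (fun x : S => F.obj x) x.as) ≫ (preF f).map (colimit.ι L S) ≫ m = _
      rw [← hm x.as.1, ← Category.assoc, ← Functor.map_comp]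
      refine congrArg (fun q => (preF f).map q ≫ m) ?_
      show _ = Sigma.ι (fun y : ({x.as.1} : Finset (Discrete ι)) => F.obj y) ⟨x.as.1, Finset.mem_singleton_self _⟩ ≫ colimit.ι L _
      rw [← colimit.w L (homOfLE (Finset.singleton_subset_iff.2 x.as.2) : ({x.as.1} : Finset (Discrete ι)) ⟶ S), ← Category.assoc]
      refine congrArg (· ≫ colimit.ι L S) ?_
      exact ((Sigma.ι_desc (fun y : ({x.as.1} : Finset (Discrete ι)) => Sigma.ι (fun z : S => F.obj z) ⟨y, Finset.singleton_subset_iff.2 x.as.2 y.2⟩) ⟨x.as.1, Finset.mem_singleton_self _⟩).symm :))⟩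
  exact preservesColimitsOfShape_of_natIso (lowerShriekIso f).symm

end Groth.Agent.EtShLib
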