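import Groth.Agent.EtShLib.CardCons
import Groth.Agent.EtShLib.SamePoint
import Groth.Agent.EtShLib.SpecLC

/-! The loci of given stalk cardinality. -/

set_option autoImplicit false
set_option linter.unusedSectionVars false
set_option linter.style.haveILetI false
set_option backward.isDefEq.respectTransparency false
set_option backward.isDefEq.respectTransparency.types false
set_option synthInstance.maxHeartbeats 400000
set_option maxHeartbeats 1000000

universe u

open CategoryTheory CategoryTheory.Limits AlgebraicGeometry Opposite Topology TopologicalSpace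

namespace Groth.Agent.EtShLib

theorem isConstructible_of_locally_stable {Y : Type*} [TopologicalSpace Y] [NoetherianSpace Y] [QuasiSober Y] [T0Space Y]
    (S : Set Y) (h : ∀ x : Y, ∃ O : Set Y, IsOpen O ∧ x ∈ O ∧
      ∀ y ∈ O ∩ closure {x}, (y ∈ S ↔ x ∈ S)) : IsConstructible S := by
  have key : ∀ Z : Closeds Y, IsConstructible (S ∩ Z) := by
    intro Z
    induction Z using WellFoundedLT.induction with
    | ind Z ih =>
      by_cases hne : (Z : Set Y).Nonempty
      · obtain ⟨a, ha⟩ := hne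
        haveI : QuasiSober (Z : Set Y) := Z.isClosed.isClosedEmbedding_subtypeVal.quasiSober
        haveI : NoetherianSpace (Z : Set Y) := IsEmbedding.subtypeVal.isInducing.noetherianSpace
        obtain ⟨x, -, hx⟩ := exists_maximal_generization (⟨a, ha⟩ : (Z : Set Y))
        obtain ⟨O', hO', hxO', hs⟩ := exists_nhds_specializes hx
        obtain ⟨O₁, hO₁, rfl⟩ := isOpen_induced_iff.1 hO'
        obtain ⟨O, hO, hxO, hOS⟩ := h x.1
        let Z₁ : Closeds Y := ⟨(Z : Set Y) ∩ (O₁ ∩ O)ᶜ, Z.isClosed.inter (hO₁.inter hO).isClosed_compl⟩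
        have hlt : Z₁ < Z := lt_of_le_of_ne (fun b hb => hb.1) fun e => by
          have : x.1 ∈ (Z₁ : Set Y) := by rw [e]; exact x.2
          exact this.2 ⟨hxO', hxO⟩
        have hiff : ∀ y ∈ (Z : Set Y) ∩ (O₁ ∩ O), (y ∈ S ↔ x.1 ∈ S) := fun y hy =>
          hOS y ⟨hy.2.2, specializes_iff_mem_closure.1 ((subtype_specializes_iff _ _).1 (hs ⟨y, hy.1⟩ hy.2.1))⟩
        have hE : IsConstructible (S ∩ ((Z : Set Y) ∩ (O₁ ∩ O))) := by
          by_cases hxS : x.1 ∈ S
          · rw [Set.inter_eq_right.2 fun y hy => (hiff y hy).2 hxS]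
            exact isConstructible_of_isLocallyClosed (Z.isClosed.isLocallyClosed.inter (hO₁.inter hO).isLocallyClosed)
          · convert IsConstructible.empty using 1
            exact Set.eq_empty_of_forall_notMem fun y hy => hxS ((hiff y hy.2).1 hy.1)
        have : S ∩ (Z : Set Y) = (S ∩ ((Z : Set Y) ∩ (O₁ ∩ O))) ∪ (S ∩ (Z₁ : Set Y)) := by
          ext y
          show y ∈ S ∧ y ∈ (Z : Set Y) ↔ (y ∈ S ∧ y ∈ (Z : Set Y) ∧ y ∈ O₁ ∩ O) ∨ (y ∈ S ∧ y ∈ (Z : Set Y) ∧ y ∉ O₁ ∩ O)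
          tauto
        rw [this]
        exact hE.union (ih Z₁ hlt)
      · rw [Set.not_nonempty_iff_eq_empty.1 hne, Set.inter_empty]
        exact IsConstructible.empty
  simpa using key ⊤

variable {X : Scheme.{u}}

theorem card_congr_of_eq (F : EtCoh.Ab X) {Ω Ω' : Type u} [Field Ω] [IsSepClosed Ω] [Field Ω'] [IsSepClosed Ω']
    {ξ : Spec (CommRingCat.of Ω) ⟶ X} {ξ' : Spec (CommRingCat.of Ω') ⟶ X} (e : ξ'.base default = ξ.base default) :
    Nat.card ((EtCoh.stalk ξ).obj F) = Nat.card ((EtCoh.stalk ξ').obj F) := by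
  obtain ⟨i⟩ := nonempty_stk_iso_of_eq (A := AddCommGrpCat.{u + 1}) e
  exact Nat.card_congr (i.app F).addCommGroupIsoToAddEquiv.toEquiv

/-- Points over which the stalks have `n` elements. -/
def cardLocus (F : EtCoh.Ab X) (n : ℕ) : Set X :=
  {x : X | ∃ (Ω : Type u) (_ : Field Ω) (_ : IsSepClosed Ω) (ξ : Spec (CommRingCat.of Ω) ⟶ X),
    Set.range ξ = {x} ∧ Nat.card ((EtCoh.stalk ξ).obj F) = n}

theorem card_eq_of_mem {F : EtCoh.Ab X} {n : ℕ} {Ω : Type u} [Field Ω] [IsSepClosed Ω]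
    {ξ : Spec (CommRingCat.of Ω) ⟶ X} (h : ξ.base default ∈ cardLocus F n) :
    Nat.card ((EtCoh.stalk ξ).obj F) = n := by
  obtain ⟨Ω', _, _, ξ', hr, hn⟩ := h
  exact (card_congr_of_eq F (hr.subset ⟨default, rfl⟩)).trans hn

theorem mem_cardLocus {F : EtCoh.Ab X} {n : ℕ} {Ω : Type u} [Field Ω] [IsSepClosed Ω]
    {ξ : Spec (CommRingCat.of Ω) ⟶ X} (h : Nat.card ((EtCoh.stalk ξ).obj F) = n) :
    ξ.base default ∈ cardLocus F n :=
  ⟨Ω, inferInstance, inferInstance, ξ, range_eq_singleton _, h⟩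

theorem isLocallyConstructible_cardLocus [IsLocallyNoetherian X] {F : EtCoh.Ab X}
    (hF : IsCons (A := AddCommGrpCat.{u + 1}) FinP F) (n : ℕ) : IsLocallyConstructible (cardLocus F n) := by
  intro x
  obtain ⟨U, hU, hxU, -⟩ := exists_isAffineOpen_mem_and_subset (X := X) (x := x) (U := ⊤) trivial
  refine ⟨U, U.isOpen.mem_nhds hxU, U.isOpen, ?_⟩
  haveI : IsAffine U.toScheme := hU
  haveI : IsLocallyNoetherian U.toScheme := LocallyOfFiniteType.isLocallyNoetherian U.ι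
  haveI : IsNoetherian U.toScheme := {}
  show IsConstructible (U.ι.base ⁻¹' cardLocus F n)
  refine isConstructible_of_locally_stable _ fun y => ?_
  obtain ⟨V, T, g, hg, hyV, hr, hl⟩ := exists_closure_lc hF (U.ι.base y)
  haveI := hg
  refine ⟨U.ι.base ⁻¹' V, V.isOpen.preimage U.ι.continuous, hyV, fun z hz => ?_⟩
  have hzcl : U.ι.base y ⤳ U.ι.base z := (specializes_iff_mem_closure.2 hz.2).map U.ι.continuous
  obtain ⟨t, ht⟩ : U.ι.base z ∈ Set.range g.base := hr ▸ ⟨hz.1, specializes_iff_mem_closure.1 hzcl⟩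
  obtain ⟨s, hs⟩ : U.ι.base y ∈ Set.range g.base := hr ▸ ⟨hyV, subset_closure rfl⟩
  obtain ⟨Ω, _, _, ζ, rfl⟩ := exists_geometric_pt t
  obtain ⟨Ω', _, _, ζ', rfl⟩ := exists_geometric_pt s
  have hsp : ζ'.base default ⤳ ζ.base default := by
    rw [← g.isEmbedding.isInducing.specializes_iff, hs, ht]
    exact hzcl
  obtain ⟨φ⟩ := exists_spec_arrow' ζ ζ' hsp
  obtain ⟨W, w, M, η, hw, -, hη⟩ := hl (ζ.base default)
  obtain ⟨a, -⟩ := exists_fib ζ W w hw
  haveI := isIso_spec_of_isCst hη φ a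
  have hc : Nat.card ((EtCoh.stalk (ζ ≫ g)).obj F) = Nat.card ((EtCoh.stalk (ζ' ≫ g)).obj F) :=
    Nat.card_congr ((stalkPull g ζ AddCommGrpCat.{u + 1}).app F ≪≫
      asIso ((GrothendieckTopology.Point.Hom.sheafFiber (A := AddCommGrpCat.{u + 1}) φ).app
        ((pullA g AddCommGrpCat.{u + 1}).obj F)) ≪≫
      ((stalkPull g ζ' AddCommGrpCat.{u + 1}).app F).symm).addCommGroupIsoToAddEquiv.toEquiv
  show U.ι.base z ∈ cardLocus F n ↔ U.ι.base y ∈ cardLocus F n
  rw [← ht, ← hs]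
  exact ⟨fun h => mem_cardLocus (ξ := ζ' ≫ g) (hc.symm.trans (card_eq_of_mem (ξ := ζ ≫ g) h)),
    fun h => mem_cardLocus (ξ := ζ ≫ g) (hc.trans (card_eq_of_mem (ξ := ζ' ≫ g) h))⟩

theorem isCons_of_cardLocus [IsLocallyNoetherian X] (F : EtCoh.Ab X)
    (hfin : ∀ (Ω : Type u) [Field Ω] [IsSepClosed Ω] (ξ : Spec (CommRingCat.of Ω) ⟶ X),
      Finite ((EtCoh.stalk ξ).obj F))
    (h : ∀ n, IsLocallyConstructible (cardLocus F n)) : IsCons (A := AddCommGrpCat.{u + 1}) FinP F := by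
  refine isCons_of_closures F fun x => ?_
  obtain ⟨Ω, _, _, ξ, rfl⟩ := exists_geometric_pt x
  let n := Nat.card ((EtCoh.stalk ξ).obj F)
  obtain ⟨U, hU, hxU, -⟩ := exists_isAffineOpen_mem_and_subset (X := X) (x := ξ.base default) (U := ⊤) trivial
  haveI : IsAffine U.toScheme := hU
  haveI : IsLocallyNoetherian U.toScheme := LocallyOfFiniteType.isLocallyNoetherian U.ι
  haveI : IsNoetherian U.toScheme := {}
  let E : Set U.toScheme := (U.ι.base ⁻¹' cardLocus F n)ᶜ ∩ closure {(⟨_, hxU⟩ : U.toScheme)}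
  have hE : IsConstructible E := (((h n).preimage_of_isOpenEmbedding U.ι.isOpenEmbedding).isConstructible).compl.inter
    (isConstructible_of_isLocallyClosed isClosed_closure.isLocallyClosed)
  have hxE : (⟨_, hxU⟩ : U.toScheme) ∉ closure E := fun hcl => by
    obtain ⟨e, ⟨he, hec⟩, hex⟩ := exists_mem_specializes_of_mem_closure hE hcl
    obtain rfl : e = ⟨_, hxU⟩ := (hex.antisymm (specializes_iff_mem_closure.2 hec)).eq
    exact he (mem_cardLocus (ξ := ξ) rfl)
  let O : Set X := U.ι.base '' (closure E)ᶜ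
  refine exists_lc_open_of_card F hfin _ O (U.ι.isOpenEmbedding.isOpenMap _ isClosed_closure.isOpen_compl)
    ⟨⟨_, hxU⟩, hxE, rfl⟩ n fun Ω' _ _ ξ' hO hsp => card_eq_of_mem ?_
  obtain ⟨z, hz, hzξ⟩ := hO
  rw [← hzξ]
  refine by_contra fun hn => hz (subset_closure ⟨hn, ?_⟩)
  rw [← specializes_iff_mem_closure, ← U.ι.isOpenEmbedding.isInducing.specializes_iff]
  show U.ι.base ⟨_, hxU⟩ ⤳ U.ι.base z
  rw [hzξ]
  exact hsp

end Groth.Agent.EtShLib
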