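import Groth.Agent.EtShLib.FibCount
import Groth.Agent.EtShLib.StrataTop
import Groth.Agent.EtShLib.Locus

/-! Strata over which a quasi-compact quasi-separated étale scheme splits étale locally. -/

set_option autoImplicit false
set_option linter.unusedSectionVars false
set_option linter.style.haveILetI false
set_option backward.isDefEq.respectTransparency false
set_option backward.isDefEq.respectTransparency.types false
set_option synthInstance.maxHeartbeats 400000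
set_option maxHeartbeats 1000000

universe u

open CategoryTheory CategoryTheory.Limits AlgebraicGeometry Opposite Topology

namespace Groth.Agent.EtShLib

variable {X : Scheme.{u}}

/-- Near every geometric point of `T` the scheme `U ×_X T` is a finite disjoint union of sections. -/
def Splits {T : Scheme.{u}} (g : T ⟶ X) (U : X.Etale) : Prop :=
  ∀ (Ω : Type u) [Field Ω] [IsSepClosed Ω] (ζ : Spec (CommRingCat.of Ω) ⟶ T),
    Finite (Fib (ζ ≫ g) U) ∧
      ∃ (W : T.Etale) (w : Fib ζ W) (s : Fib (ζ ≫ g) U → (W ⟶ (EtCoh.bc g).obj U)),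
        (∀ u, w.map (s u) = u.lift g ζ) ∧
          ∀ (Ω' : Type u) [Field Ω'] [IsSepClosed Ω'] (ζ' : Spec (CommRingCat.of Ω') ⟶ T) (w' : Fib ζ' W),
            Function.Bijective fun u => (w'.map (s u)).proj g ζ'

/-- The structure morphism of an étale scheme over `X`. -/
abbrev str (U : X.Etale) : U.left ⟶ X := U.hom

instance (U : X.Etale) : AlgebraicGeometry.Etale (str U) := U.prop

theorem exists_open_below {Ω : Type u} [Field Ω] [IsSepClosed Ω] (ξ : Spec (CommRingCat.of Ω) ⟶ X)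
    (W : X.Etale) (w : Fib ξ W) (O : W.left.Opens) (h : w.pt ∈ O) :
    ∃ (W' : X.Etale) (j : W' ⟶ W) (w' : Fib ξ W'), w'.map j = w ∧ Set.range j.left.base ⊆ (O : Set W.left) := by
  haveI : AlgebraicGeometry.Etale W.hom := W.prop
  have hr : Set.range (Fib.hom (ξ := ξ) (U := W) w).base ⊆ Set.range O.ι.base := by
    rintro _ ⟨a, rfl⟩
    rw [Scheme.Opens.range_ι, Subsingleton.elim a default]
    exact h
  refine ⟨MorphismProperty.Over.mk ⊤ (O.ι ≫ W.hom) (inferInstance : AlgebraicGeometry.Etale (O.ι ≫ W.hom)),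
    MorphismProperty.Over.homMk O.ι rfl, Fib.mk (IsOpenImmersion.lift O.ι w.hom hr) (by
      show _ ≫ O.ι ≫ W.hom = ξ
      rw [← Category.assoc, IsOpenImmersion.lift_fac]
      exact w.w), Fib.ext (IsOpenImmersion.lift_fac _ _ _), ?_⟩
  exact (Scheme.Opens.range_ι O).subset

variable {U : X.Etale} (O : U.left.Opens)

/-- Lifts into an open part are lifts with image there. -/
noncomputable def openLifts {Ω : Type u} [Field Ω] [IsSepClosed Ω] (ξ : Spec (CommRingCat.of Ω) ⟶ X) :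
    GeomLifts (O.ι ≫ str U) ξ ≃ {u : Fib ξ U // u.pt ∈ O} where
  toFun t := ⟨Fib.mk (t.1 ≫ O.ι) ((Category.assoc _ _ _).trans t.2), by
    show (t.1 ≫ O.ι).base default ∈ O
    exact (O.ι_apply _).symm ▸ (t.1.base default).2⟩
  invFun u := ⟨IsOpenImmersion.lift O.ι (Fib.hom (ξ := ξ) (U := U) u.1) (by
    rintro _ ⟨a, rfl⟩
    rw [Scheme.Opens.range_ι, Subsingleton.elim a default]
    exact u.2), by rw [IsOpenImmersion.lift_fac_assoc]; exact u.1.w⟩
  left_inv t := Subtype.ext ((cancel_mono O.ι).1 (IsOpenImmersion.lift_fac _ _ _))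
  right_inv u := Subtype.ext (Fib.ext (IsOpenImmersion.lift_fac _ _ _))

theorem exists_split_strata [CompactSpace X] [QuasiSeparatedSpace X] (U : X.Etale) [CompactSpace U.left]
    [QuasiSeparatedSpace U.left] (x : X) :
    ∃ (T : Scheme.{u}) (g : T ⟶ X), IsImmersion g ∧ x ∈ Set.range g ∧ IsConstructible (Set.range g) ∧
      Splits g U := by
  classical
  obtain ⟨t, ht⟩ := (isCompact_univ (X := U.left)).elim_finite_subcover
    (fun V : U.left.affineOpens => ((V : U.left.Opens) : Set U.left)) (fun V => (V : U.left.Opens).isOpen)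
    (fun y _ => by
      obtain ⟨V, hV, hy, -⟩ := exists_isAffineOpen_mem_and_subset (X := U.left) (x := y) (U := ⊤) trivial
      exact Set.mem_iUnion.2 ⟨⟨V, hV⟩, hy⟩)
  let A : t → U.left.Opens := fun k => k.1.1
  have hcov : ∀ y : U.left, ∃ k, y ∈ A k := fun y => by
    obtain ⟨V, hV, hy⟩ := Set.mem_iUnion₂.1 (ht (Set.mem_univ y))
    exact ⟨⟨V, hV⟩, hy⟩
  let B : t × t → U.left.Opens := fun p => A p.1 ⊓ A p.2
  haveI : ∀ k, IsAffine (A k).toScheme := fun k => k.1.2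
  haveI : ∀ p, CompactSpace (B p).toScheme := fun p =>
    isCompact_iff_compactSpace.1 (QuasiSeparatedSpace.inter_isCompact _ _ (A p.1).isOpen p.1.1.2.isCompact
      (A p.2).isOpen p.2.1.2.isCompact)
  haveI : ∀ p, QuasiSeparatedSpace (B p).toScheme := fun p => quasiSeparatedSpace_of_quasiSeparated (B p).ι
  haveI hsep : ∀ p, IsSeparated ((B p).ι ≫ str U) := fun p => by
    haveI : IsSeparated ((A p.1).ι ≫ str U) := IsSeparated.of_comp _ (terminal.from X)
    rw [← U.left.homOfLE_ι (inf_le_left : B p ≤ A p.1), Category.assoc]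
    infer_instance
  haveI : ∀ p, QuasiCompact ((B p).ι ≫ str U) := fun p => quasiCompact_of_compactSpace _
  obtain ⟨Ω₀, _, _, ξ₀, rfl⟩ := exists_geometric_pt x
  choose n hn hn' using fun p => exists_exact_count ((B p).ι ≫ str U) ξ₀
  choose P hP hPc hPn using fun p => exists_countOpen (n p) ((B p).ι ≫ str U)
  choose Q hQ hQc hQn using fun p => exists_countOpen (n p + 1) ((B p).ι ≫ str U)
  let C : Set X := (⋂ p, P p) \ ⋃ p, Q p
  have hxC : ξ₀.base default ∈ C := ⟨Set.mem_iInter.2 fun p => (hPn p Ω₀ ξ₀).2 (hn p),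
    fun h => by obtain ⟨p, hp⟩ := Set.mem_iUnion.1 h; exact hn' p ((hQn p Ω₀ ξ₀).1 hp)⟩
  have hC : IsConstructible C := (IsConstructible.iInter fun p => (hPc p).isConstructible (hP p)).sdiff
    (IsConstructible.iUnion fun p => (hQc p).isConstructible (hQ p))
  obtain ⟨T, g, hg, -, hr⟩ := exists_reduced_immersion (X := X) (E := C)
    ((isOpen_iInter_of_finite hP).isLocallyClosed.inter (isOpen_iUnion hQ).isClosed_compl.isLocallyClosed)
  refine ⟨T, g, hg, hr.symm ▸ hxC, hr.symm ▸ hC, fun Ω _ _ ζ => ?_⟩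
  have hmem : ∀ {Ω : Type u} [Field Ω] (ζ : Spec (CommRingCat.of Ω) ⟶ T), (ζ ≫ g).base default ∈ C := fun ζ =>
    hr.subset ⟨ζ.base default, rfl⟩
  have count : ∀ {Ω : Type u} [Field Ω] [IsSepClosed Ω] (ζ : Spec (CommRingCat.of Ω) ⟶ T) (p : t × t),
      AtLeast ((B p).ι ≫ str U) (ζ ≫ g) (n p) ∧ ¬ AtLeast ((B p).ι ≫ str U) (ζ ≫ g) (n p + 1) :=
    fun ζ p => ⟨(hPn p _ _).1 (Set.mem_iInter.1 (hmem ζ).1 p),
      fun h => (hmem ζ).2 (Set.mem_iUnion.2 ⟨p, (hQn p _ _).2 h⟩)⟩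
  let ξ := ζ ≫ g
  haveI hK : Finite (Fib ξ U) := by
    haveI : ∀ p : t × t, Finite (GeomLifts ((B p).ι ≫ str U) ξ) := fun p => finite_lifts _ ξ
    refine Finite.of_surjective (fun q : Σ p : t × t, GeomLifts ((B p).ι ≫ str U) ξ => (openLifts (B q.1) ξ q.2).1)
      fun u => ?_
    obtain ⟨k, hk⟩ := hcov u.pt
    exact ⟨⟨(k, k), (openLifts (B (k, k)) ξ).symm ⟨u, hk, hk⟩⟩,
      congrArg Subtype.val ((openLifts (B (k, k)) ξ).apply_symm_apply _)⟩
  refine ⟨hK, ?_⟩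
  haveI := Fintype.ofFinite (Fib ξ U)
  obtain ⟨W₀, hW₀⟩ := IsCofiltered.inf_objs_exists
    ((Set.finite_range fun u : Fib ξ U => (pt ζ).fiber.elementsMk ((EtCoh.bc g).obj U) (u.lift g ζ)).toFinset)
  have hs₀ : ∀ u : Fib ξ U, Nonempty (W₀ ⟶ (pt ζ).fiber.elementsMk ((EtCoh.bc g).obj U) (u.lift g ζ)) :=
    fun u => hW₀ (by simp)
  let s₀ : Fib ξ U → (W₀.1 ⟶ (EtCoh.bc g).obj U) := fun u => (hs₀ u).some.1
  have hs₀' : ∀ u, Fib.map (s₀ u) W₀.2 = u.lift g ζ := fun u => (hs₀ u).some.2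
  let q₀ : Fib ξ U → (W₀.1.left ⟶ U.left) := fun u => (s₀ u).left ≫ pullback.fst U.hom g
  have hq₀ : ∀ {Ω' : Type u} [Field Ω'] [IsSepClosed Ω'] (ζ' : Spec (CommRingCat.of Ω') ⟶ T) (w' : Fib ζ' W₀.1) (u),
      ((w'.map (s₀ u)).proj g ζ').hom = w'.hom ≫ q₀ u := fun ζ' w' u => Category.assoc _ _ _
  have hq₀w : ∀ u, (Fib.hom (ξ := ζ) (U := W₀.1) W₀.2) ≫ q₀ u = u.hom := fun u => by
    rw [← hq₀, hs₀', Fib.proj_lift]
  let O₁ : W₀.1.left.Opens := ⟨⋂ i : {i : t × Fib ξ U // i.2.pt ∈ A i.1}, (q₀ i.1.2).base ⁻¹' (A i.1.1),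
    isOpen_iInter_of_finite fun i => (A i.1.1).isOpen.preimage (q₀ i.1.2).continuous⟩
  obtain ⟨W₁, j₁, w₁, hw₁, hj₁⟩ := exists_open_below ζ W₀.1 W₀.2 O₁ (Set.mem_iInter.2 fun i => by
    show (Fib.hom (ξ := ζ) (U := W₀.1) W₀.2 ≫ q₀ i.1.2).base default ∈ A i.1.1
    rw [hq₀w]
    exact i.2)
  have hin : ∀ (k : t) (u : Fib ξ U), u.pt ∈ A k → Set.range (j₁.left ≫ q₀ u).base ⊆ Set.range (A k).ι.base := by
    rintro k u hu _ ⟨a, rfl⟩
    rw [Scheme.Opens.range_ι]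
    exact Set.mem_iInter.1 (hj₁ ⟨a, rfl⟩) ⟨(k, u), hu⟩
  have hover : ∀ u, (j₁.left ≫ q₀ u) ≫ str U = W₁.hom ≫ g := fun u => by
    have e1 : j₁.left ≫ (s₀ u).left ≫ pullback.snd U.hom g = W₁.hom := by
      rw [show (s₀ u).left ≫ pullback.snd U.hom g = W₀.1.hom from MorphismProperty.Over.w (s₀ u)]
      exact MorphismProperty.Over.w j₁
    rw [← e1]
    simp [q₀, pullback.condition]
  let I := {i : t × Fib ξ U × Fib ξ U // i.2.1.pt ∈ A i.1 ∧ i.2.2.pt ∈ A i.1 ∧ i.2.1 ≠ i.2.2}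
  let f : ∀ k : t, (A k).toScheme ⟶ X := fun k => (A k).ι ≫ str U
  let m : ∀ i : I, W₁.left ⟶ pullback (f i.1.1) (f i.1.1) := fun i =>
    pullback.lift (IsOpenImmersion.lift (A i.1.1).ι _ (hin i.1.1 i.1.2.1 i.2.1))
      (IsOpenImmersion.lift (A i.1.1).ι _ (hin i.1.1 i.1.2.2 i.2.2.1)) (by
        simp only [f, IsOpenImmersion.lift_fac_assoc]
        exact (hover _).trans (hover _).symm)
  haveI : ∀ k, IsSeparated (f k) := fun k => IsSeparated.of_comp _ (terminal.from X)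
  haveI : ∀ k, AlgebraicGeometry.Etale (f k) := fun k => inferInstanceAs (AlgebraicGeometry.Etale ((A k).ι ≫ str U))
  let O₂ : W₁.left.Opens := ⟨⋂ i : I, (m i).base ⁻¹' (Set.range (pullback.diagonal (f i.1.1)).base)ᶜ,
    isOpen_iInter_of_finite fun i =>
      (pullback.diagonal (f i.1.1)).isClosedEmbedding.isClosed_range.isOpen_compl.preimage (m i).continuous⟩
  obtain ⟨W, j₂, w, hw, hj₂⟩ := exists_open_below ζ W₁ w₁ O₂ (Set.mem_iInter.2 fun i hi => by
    let z := w₁.hom ≫ m i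
    have hz : Set.range z.base ⊆ Set.range (pullback.diagonal (f i.1.1)).base := by
      rintro _ ⟨a, rfl⟩
      rw [Subsingleton.elim a default]
      exact hi
    have h := IsOpenImmersion.lift_fac (pullback.diagonal (f i.1.1)) z hz
    have h0 : z ≫ pullback.fst (f i.1.1) (f i.1.1) = z ≫ pullback.snd (f i.1.1) (f i.1.1) := by
      rw [← h, Category.assoc, Category.assoc, pullback.diagonal_fst, pullback.diagonal_snd]
    have h1 := congrArg (· ≫ (A i.1.1).ι) h0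
    simp only [Category.assoc, z, m, pullback.lift_fst_assoc, pullback.lift_snd_assoc,
      IsOpenImmersion.lift_fac] at h1
    refine i.2.2.2 (Fib.ext ?_)
    rw [← hq₀w, ← hq₀w i.1.2.2, ← hw₁]
    simp only [Fib.map_hom, Category.assoc]
    exact h1)
  refine ⟨W, w, fun u => j₂ ≫ j₁ ≫ s₀ u, fun u => ?_, fun Ω' _ _ ζ' w' => ?_⟩
  · show (pt ζ).fiber.map (j₂ ≫ j₁ ≫ s₀ u) w = _
    rw [Functor.map_comp_apply, Functor.map_comp_apply, ← hs₀' u]
    exact congrArg (Fib.map (s₀ u)) ((congrArg (Fib.map j₁) hw).trans hw₁)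
  let ξ' := ζ' ≫ g
  let w₁' := w'.map j₂
  let φ : Fib ξ U → Fib ξ' U := fun u => (Fib.map (s₀ u) (w₁'.map j₁)).proj g ζ'
  have hφ : (fun u => (w'.map (j₂ ≫ j₁ ≫ s₀ u)).proj g ζ') = φ := funext fun u => by
    refine congrArg (Fib.proj g ζ') ?_
    show (pt ζ').fiber.map (j₂ ≫ j₁ ≫ s₀ u) w' = _
    rw [Functor.map_comp_apply, Functor.map_comp_apply]
  rw [hφ]
  have hφh : ∀ u, (φ u).hom = w₁'.hom ≫ j₁.left ≫ q₀ u := fun u =>
    (hq₀ ζ' (w₁'.map j₁) u).trans (Category.assoc _ _ _)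
  have hφA : ∀ (k : t) (u : Fib ξ U), u.pt ∈ A k → (φ u).pt ∈ A k := fun k u hu => by
    obtain ⟨b, hb⟩ := hin k u hu ⟨w₁'.pt, rfl⟩
    show (φ u).hom.base default ∈ A k
    rw [hφh]
    exact ((Scheme.Opens.range_ι (A k)).subset ⟨b, hb⟩)
  have hinj : ∀ (k : t) (u v : Fib ξ U), u.pt ∈ A k → v.pt ∈ A k → φ u = φ v → u = v := fun k u v hu hv e => by
    by_contra hne
    let i : I := ⟨(k, u, v), hu, hv, hne⟩
    refine Set.mem_iInter.1 (hj₂ ⟨w'.pt, rfl⟩) i ⟨(w₁'.hom ≫ IsOpenImmersion.lift (A k).ι _ (hin k u hu)).base default, ?_⟩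
    have : (w₁'.hom ≫ IsOpenImmersion.lift (A k).ι _ (hin k u hu)) ≫ pullback.diagonal (f k) = w₁'.hom ≫ m i := by
      refine pullback.hom_ext (by simp [m, i]) ((cancel_mono (A k).ι).1 ?_)
      simp only [Category.assoc, pullback.diagonal_snd_assoc, m, i, pullback.lift_snd_assoc,
        IsOpenImmersion.lift_fac]
      exact (hφh u).symm.trans ((congrArg (fun t : Fib ξ' U => t.hom) e).trans (hφh v))
    exact congrArg (fun t : Spec (CommRingCat.of Ω') ⟶ _ => t.base default) this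
  have hsurj : ∀ (p : t × t) (v : Fib ξ' U), v.pt ∈ B p → ∃ u, u.pt ∈ B p ∧ φ u = v := by
    intro p v hv
    let ψ : {u : Fib ξ U // u.pt ∈ B p} → {v : Fib ξ' U // v.pt ∈ B p} := fun u =>
      ⟨φ u.1, hφA p.1 u.1 u.2.1, hφA p.2 u.1 u.2.2⟩
    have hψ : Function.Injective ψ := fun a b e =>
      Subtype.ext (hinj p.1 a.1 b.1 a.2.1 b.2.1 (congrArg Subtype.val e))
    obtain ⟨l, hl⟩ := surjective_of_count ((B p).ι ≫ str U) (count ζ p).1 (count ζ' p).2
      ((openLifts (B p) ξ').symm ∘ ψ ∘ openLifts (B p) ξ)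
      ((openLifts (B p) ξ').symm.injective.comp (hψ.comp (openLifts (B p) ξ).injective))
      ((openLifts (B p) ξ').symm ⟨v, hv⟩)
    exact ⟨(openLifts (B p) ξ l).1, (openLifts (B p) ξ l).2,
      congrArg Subtype.val ((openLifts (B p) ξ').symm.injective hl)⟩
  refine ⟨fun u u' e => ?_, fun v => ?_⟩
  · obtain ⟨k, hk⟩ := hcov u.pt
    obtain ⟨l, hl⟩ := hcov u'.pt
    obtain ⟨r, hr, hre⟩ := hsurj (k, l) (φ u) ⟨hφA k u hk, (show φ u = φ u' from e) ▸ hφA l u' hl⟩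
    exact ((hinj k r u hr.1 hk hre).symm).trans (hinj l r u' hr.2 hl (hre.trans e))
  · obtain ⟨k, hk⟩ := hcov v.pt
    obtain ⟨u, -, hu⟩ := hsurj (k, k) v ⟨hk, hk⟩
    exact ⟨u, hu⟩

end Groth.Agent.EtShLib
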