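import Groth.Agent.EtShLib.FibCount
import Groth.Agent.EtShLib.Split

/-! Specialisation arrows on arbitrary schemes. -/

set_option autoImplicit false
set_option linter.unusedSectionVars false
set_option linter.style.haveILetI false
set_option backward.isDefEq.respectTransparency false
set_option backward.isDefEq.respectTransparency.types false
set_option synthInstance.maxHeartbeats 400000
set_option maxHeartbeats 1000000

universe u

open CategoryTheory CategoryTheory.Limits AlgebraicGeometry Opposite TopologicalSpace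

namespace Groth.Agent.EtShLib

variable {X : Scheme.{u}}

/-- An affine étale scheme lying over an affine open. -/
def Small' (W : X.Etale) : Prop :=
  IsAffine W.left ∧ ∃ O : X.Opens, IsAffineOpen O ∧ Set.range W.hom.base ⊆ (O : Set X)

theorem finite_fib_small {Ω : Type u} [Field Ω] [IsSepClosed Ω] (ξ : Spec (CommRingCat.of Ω) ⟶ X) (W : X.Etale)
    (hW : Small' W) : Finite (Fib ξ W) := by
  obtain ⟨hA, O, hO, hr⟩ := hW
  rcases isEmpty_or_nonempty (Fib ξ W) with h | ⟨⟨w₀⟩⟩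
  · infer_instance
  haveI := hA
  haveI : IsAffine O.toScheme := hO
  have hξ : Set.range ξ.base ⊆ Set.range O.ι.base := by
    rintro _ ⟨a, rfl⟩
    rw [Scheme.Opens.range_ι, Subsingleton.elim a default,
      ← congrArg (fun t : Spec (CommRingCat.of Ω) ⟶ X => t.base default) w₀.w]
    exact hr ⟨_, rfl⟩
  let q : W.left ⟶ O.toScheme := IsOpenImmersion.lift O.ι (str W) (by rw [Scheme.Opens.range_ι]; exact hr)
  have hq : q ≫ O.ι = str W := IsOpenImmersion.lift_fac _ _ _
  haveI : AlgebraicGeometry.Etale (q ≫ O.ι) := by rw [hq]; infer_instance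
  haveI : AlgebraicGeometry.Etale q := EtCoh.etaleMP.of_postcomp (W' := EtCoh.etaleMP) q O.ι
    (inferInstanceAs (AlgebraicGeometry.Etale O.ι)) ‹_›
  haveI : QuasiCompact q := quasiCompact_of_compactSpace q
  haveI := finite_lifts q (IsOpenImmersion.lift O.ι ξ hξ)
  refine Finite.of_injective (fun w : Fib ξ W => (⟨w.hom, (cancel_mono O.ι).1 (by
    rw [Category.assoc, hq, IsOpenImmersion.lift_fac]; exact w.w)⟩ :
      GeomLifts q (IsOpenImmersion.lift O.ι ξ hξ))) fun a b e => Fib.ext (congrArg Subtype.val e)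

theorem exists_small_below {Ω : Type u} [Field Ω] [IsSepClosed Ω] (ζ : Spec (CommRingCat.of Ω) ⟶ X)
    (U : X.Etale) (u : Fib ζ U) :
    ∃ (W : X.Etale) (g : W ⟶ U) (w : Fib ζ W), Small' W ∧ w.map g = u := by
  obtain ⟨O, hO, hxO, -⟩ := exists_isAffineOpen_mem_and_subset (X := X) (x := (str U).base u.pt) (U := ⊤) trivial
  obtain ⟨A, hA, huA, hAO⟩ := exists_isAffineOpen_mem_and_subset (X := U.left) (x := u.pt) (U := str U ⁻¹ᵁ O) hxO
  have hrange : Set.range (Fib.hom (ξ := ζ) (U := U) u).base ⊆ Set.range A.ι.base := by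
    rintro _ ⟨a, rfl⟩
    rw [Scheme.Opens.range_ι, Subsingleton.elim a default]
    exact huA
  refine ⟨MorphismProperty.Over.mk ⊤ (A.ι ≫ str U) (inferInstance : AlgebraicGeometry.Etale (A.ι ≫ str U)),
    MorphismProperty.Over.homMk A.ι rfl, Fib.mk (IsOpenImmersion.lift A.ι u.hom hrange) (by
      show _ ≫ A.ι ≫ str U = ζ
      rw [← Category.assoc, IsOpenImmersion.lift_fac]
      exact u.w), ⟨hA, O, hO, ?_⟩, Fib.ext (IsOpenImmersion.lift_fac _ _ _)⟩
  rintro _ ⟨a, rfl⟩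
  exact hAO a.2

theorem exists_spec_arrow' {Ω Ω' : Type u} [Field Ω] [IsSepClosed Ω] [Field Ω'] [IsSepClosed Ω']
    (ζ : Spec (CommRingCat.of Ω) ⟶ X) (ξ : Spec (CommRingCat.of Ω') ⟶ X)
    (h : ξ.base default ⤳ ζ.base default) :
    Nonempty (Scheme.pointSmallEtale ξ ⟶ Scheme.pointSmallEtale ζ) := by
  let E := (pt ζ).fiber.Elements
  let P : ObjectProperty E := fun e => Small' e.1
  haveI : IsCofilteredOrEmpty P.FullSubcategory :=
    { cone_objs := fun a b => by
        obtain ⟨c, f, g, -⟩ := IsCofilteredOrEmpty.cone_objs a.obj b.obj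
        obtain ⟨W, k, w, hW, hw⟩ := exists_small_below ζ c.1 c.2
        let c' : E := (pt ζ).fiber.elementsMk W w
        let k' : c' ⟶ c := ⟨k, hw⟩
        exact ⟨⟨c', hW⟩, ⟨k' ≫ f⟩, ⟨k' ≫ g⟩, trivial⟩
      cone_maps := fun a b f g => by
        obtain ⟨c, e, he⟩ := IsCofilteredOrEmpty.cone_maps f.hom g.hom
        obtain ⟨W, k, w, hW, hw⟩ := exists_small_below ζ c.1 c.2
        let c' : E := (pt ζ).fiber.elementsMk W w
        let k' : c' ⟶ c := ⟨k, hw⟩
        refine ⟨⟨c', hW⟩, ⟨k' ≫ e⟩, ?_⟩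
        apply ObjectProperty.hom_ext
        show (k' ≫ e) ≫ f.hom = (k' ≫ e) ≫ g.hom
        rw [Category.assoc, he, Category.assoc] }
  let D : P.FullSubcategory ⥤ Type u := P.ι ⋙ CategoryOfElements.π _ ⋙ (pt ξ).fiber
  haveI : ∀ j, Finite (D.obj j) := fun j => finite_fib_small ξ j.obj.1 j.property
  haveI : ∀ j, Nonempty (D.obj j) := fun j => by
    refine exists_fib_of_range ξ (U := j.obj.1) ?_
    exact h.mem_open (isOpen_range_etale _) ⟨Fib.pt (ξ := ζ) j.obj.2,
      congrArg (fun t : Spec (CommRingCat.of Ω) ⟶ X => t.base default) (Fib.w (ξ := ζ) j.obj.2)⟩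
  obtain ⟨s, hs⟩ := nonempty_sections_of_finite_cofiltered_system D
  choose W k w hW hw using fun (U : X.Etale) (u : Fib ζ U) => exists_small_below ζ U u
  let app : ∀ U : X.Etale, Fib ζ U → Fib ξ U := fun U u =>
    Fib.map (ξ := ξ) (k U u) (s ⟨(pt ζ).fiber.elementsMk (W U u) (w U u), hW U u⟩)
  have hindep : ∀ (U : X.Etale) (u : Fib ζ U) (W' : X.Etale) (hW' : Small' W') (k' : W' ⟶ U) (w' : Fib ζ W'),
      w'.map k' = u → Fib.map (ξ := ξ) k' (s ⟨(pt ζ).fiber.elementsMk W' w', hW'⟩) = app U u := by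
    intro U u W' hW' k' w' hw'
    let a : E := (pt ζ).fiber.elementsMk W' w'
    let b : E := (pt ζ).fiber.elementsMk (W U u) (w U u)
    let t : E := (pt ζ).fiber.elementsMk U u
    let fa : a ⟶ t := ⟨k', hw'⟩
    let fb : b ⟶ t := ⟨k U u, hw U u⟩
    obtain ⟨c, ga, gb, hc⟩ := IsCofiltered.cospan fa fb
    obtain ⟨Wc, kc, wc, hWc, hwc⟩ := exists_small_below ζ c.1 c.2
    let c' : E := (pt ζ).fiber.elementsMk Wc wc
    let q : c' ⟶ c := ⟨kc, hwc⟩
    let ma : (⟨c', hWc⟩ : P.FullSubcategory) ⟶ ⟨a, hW'⟩ := ⟨q ≫ ga⟩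
    let mb : (⟨c', hWc⟩ : P.FullSubcategory) ⟶ ⟨b, hW U u⟩ := ⟨q ≫ gb⟩
    show Fib.map k' (s ⟨a, hW'⟩) = Fib.map (k U u) (s ⟨b, hW U u⟩)
    rw [← hs ma, ← hs mb]
    show (pt ξ).fiber.map k' ((pt ξ).fiber.map (q ≫ ga).1 (s ⟨c', hWc⟩)) =
      (pt ξ).fiber.map (k U u) ((pt ξ).fiber.map (q ≫ gb).1 (s ⟨c', hWc⟩))
    rw [← Functor.map_comp_apply, ← Functor.map_comp_apply]
    congr 3
    have := congrArg Subtype.val hc
    exact (congrArg (kc ≫ ·) this |> fun e => (Category.assoc _ _ _).trans (e.trans (Category.assoc _ _ _).symm))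
  refine ⟨⟨{ app := fun U => TypeCat.ofHom (app U), naturality := fun U U' g => ?_ }⟩⟩
  ext u
  show app U' ((pt ζ).fiber.map g u) = (pt ξ).fiber.map g (app U u)
  rw [← hindep U' _ (W U u) (hW U u) (k U u ≫ g) (w U u) (by
    show (pt ζ).fiber.map (k U u ≫ g) (w U u) = _
    rw [Functor.map_comp_apply]
    exact congrArg ((pt ζ).fiber.map g) (hw U u))]
  exact Functor.map_comp_apply (pt ξ).fiber (k U u) g _

end Groth.Agent.EtShLib
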