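import Groth.Agent.EtShLib.SpecLC
import Groth.Agent.EtShLib.SamePoint
import Groth.Agent.EtShLib.Generate
import Mathlib.AlgebraicGeometry.Morphisms.FinitePresentation

/-! Constructibility descends along surjective morphisms. -/

set_option autoImplicit false
set_option linter.unusedSectionVars false
set_option linter.style.haveILetI false
set_option backward.isDefEq.respectTransparency false
set_option backward.isDefEq.respectTransparency.types false
set_option synthInstance.maxHeartbeats 400000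
set_option maxHeartbeats 1000000

universe u

open CategoryTheory CategoryTheory.Limits AlgebraicGeometry Opposite Topology

namespace Groth.Agent.EtShLib

theorem isConstructible_of_preimage {P W : Scheme.{u}} (f : P ⟶ W) [Surjective f] [CompactSpace P]
    [QuasiSeparatedSpace P] [CompactSpace W] [QuasiSeparatedSpace W] {S : Set W}
    (h : IsConstructible (f.base ⁻¹' S)) : IsConstructible S := by
  haveI : QuasiCompact f := quasiCompact_of_compactSpace f
  have sep : ∀ w w' : W, w' ≠ w → ∃ D : Set W, IsConstructible D ∧ w ∈ D ∧ w' ∉ D := fun w w' hne => by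
    by_cases hs : w' ⤳ w
    · have hns : ¬ w ⤳ w' := fun h' => hne (hs.antisymm h').eq
      obtain ⟨O, hO, hw'O, hwO⟩ := not_specializes_iff_exists_open.1 hns
      obtain ⟨_, ⟨V, hV, rfl⟩, hw'V, hVO⟩ := W.isBasis_affineOpens.exists_subset_of_mem_open hw'O hO
      exact ⟨(V : Set W)ᶜ, ((IsAffineOpen.isCompact hV).isConstructible V.isOpen).compl, fun h' => hwO (hVO h'),
        fun h' => h' hw'V⟩
    · obtain ⟨O, hO, hwO, hw'O⟩ := not_specializes_iff_exists_open.1 hs
      obtain ⟨_, ⟨V, hV, rfl⟩, hwV, hVO⟩ := W.isBasis_affineOpens.exists_subset_of_mem_open hwO hO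
      exact ⟨V, (IsAffineOpen.isCompact hV).isConstructible V.isOpen, hwV, fun h' => hw'O (hVO h')⟩
  have key : ∀ S' : Set W, IsConstructible (f.base ⁻¹' S') → ∀ w ∈ S',
      ∃ D : Set W, IsConstructible D ∧ w ∈ D ∧ D ⊆ S' := by
    intro S' hS' w hw
    obtain ⟨t, ht⟩ := exists_finite_subcover_constructible
      (fun o : Option {D : Set W // IsConstructible D ∧ w ∈ D} =>
        o.elim (f.base ⁻¹' S') fun D => (f.base ⁻¹' D.1)ᶜ)
      (fun o => match o with
        | none => hS'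
        | some D => (f.isConstructible_preimage D.2.1).compl)
      (Set.eq_univ_of_forall fun p => by
        by_cases hp : f.base p = w
        · exact Set.mem_iUnion.2 ⟨none, show f.base p ∈ S' from hp ▸ hw⟩
        · obtain ⟨D, hD, hwD, hpD⟩ := sep w (f.base p) hp
          exact Set.mem_iUnion.2 ⟨some ⟨D, hD, hwD⟩, hpD⟩)
    refine ⟨⋂ o ∈ t, o.elim Set.univ fun D : {D : Set W // IsConstructible D ∧ w ∈ D} => D.1,
      IsConstructible.biInter t.finite_toSet fun o _ => ?_, Set.mem_iInter₂.2 fun o _ => ?_, fun v hv => ?_⟩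
    · cases o with
      | none => exact IsConstructible.univ
      | some D => exact D.2.1
    · cases o with
      | none => trivial
      | some D => exact D.2.2
    · obtain ⟨p, rfl⟩ := f.surjective v
      obtain ⟨o, ho, hp⟩ := Set.mem_iUnion₂.1 (ht.ge (Set.mem_univ p))
      cases o with
      | none => exact hp
      | some D => exact absurd (Set.mem_iInter₂.1 hv _ ho) hp
  obtain ⟨t, ht⟩ := exists_finite_subcover_constructible
    (fun D : {D : Set W // IsConstructible D ∧ (D ⊆ S ∨ D ⊆ Sᶜ)} => D.1) (fun D => D.2.1)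
    (Set.eq_univ_of_forall fun w => by
      by_cases hw : w ∈ S
      · obtain ⟨D, hD, hwD, hDS⟩ := key S h w hw
        exact Set.mem_iUnion.2 ⟨⟨D, hD, Or.inl hDS⟩, hwD⟩
      · obtain ⟨D, hD, hwD, hDS⟩ := key Sᶜ (by rw [Set.preimage_compl]; exact h.compl) w hw
        exact Set.mem_iUnion.2 ⟨⟨D, hD, Or.inr hDS⟩, hwD⟩)
  classical
  have e : S = ⋃ D ∈ t.filter (fun D => D.1 ⊆ S), D.1 := by
    refine subset_antisymm (fun w hw => ?_) (Set.iUnion₂_subset fun D hD => (Finset.mem_filter.1 hD).2)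
    obtain ⟨D, hD, hwD⟩ := Set.mem_iUnion₂.1 (ht.ge (Set.mem_univ w))
    exact Set.mem_biUnion (Finset.mem_filter.2 ⟨hD, D.2.2.resolve_right fun h' => h' hwD hw⟩) hwD
  rw [e]
  exact IsConstructible.biUnion (Finset.finite_toSet _) fun D _ => D.2.1

variable {X Y : Scheme.{u}}

/-- The points near which a section of a sheaf on `Y` over `W` is an isomorphism on stalks. -/
def isoLocus {F : EtCoh.Ab Y} (W : Y.Etale) {M : AddCommGrpCat.{u + 1}} (σ : M ⟶ F.obj.obj (op W)) : Set W.left :=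
  {z | ∀ (Ω : Type u) [Field Ω] [IsSepClosed Ω] (ξ : Spec (CommRingCat.of Ω) ⟶ Y) (a : Fib ξ W),
    a.pt = z → IsIso (σ ≫ germ ξ F W a)}

theorem isIso_germ_congr {F : EtCoh.Ab Y} {W : Y.Etale} {M : AddCommGrpCat.{u + 1}} (σ : M ⟶ F.obj.obj (op W))
    {Ω Ω' : Type u} [Field Ω] [IsSepClosed Ω] [Field Ω'] [IsSepClosed Ω']
    {ξ : Spec (CommRingCat.of Ω) ⟶ Y} {ξ' : Spec (CommRingCat.of Ω') ⟶ Y} (a : Fib ξ W) (b : Fib ξ' W)
    (e : b.pt = a.pt) (h : IsIso (σ ≫ germ ξ F W a)) : IsIso (σ ≫ germ ξ' F W b) := by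
  obtain ⟨φ, hφ⟩ := exists_arrow_fib' W a b (e ▸ specializes_rfl)
  have e' : ξ'.base default = ξ.base default := by
    rw [← congrArg (fun t : Spec (CommRingCat.of Ω') ⟶ Y => t.base default) b.w,
      ← congrArg (fun t : Spec (CommRingCat.of Ω) ⟶ Y => t.base default) a.w]
    exact congrArg (fun z => W.hom.base z) e
  haveI := isIso_sheafFiber_of_eq (A := AddCommGrpCat.{u + 1}) φ e'
  rw [← hφ, ← germ_spec, ← Category.assoc]
  infer_instance

theorem isConstructible_isoLocus [CompactSpace X] [QuasiSeparatedSpace X] {G : EtCoh.Ab X}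
    (hG : IsCons (A := AddCommGrpCat.{u + 1}) FinP G) (M : AddCommGrpCat.{u + 1}) [Finite M]
    (τ : M ⟶ G.obj.obj (op (EtCoh.top X))) :
    IsConstructible {z : X | ∀ (Ω : Type u) [Field Ω] [IsSepClosed Ω] (ζ : Spec (CommRingCat.of Ω) ⟶ X)
      (t : Fib ζ (EtCoh.top X)), ζ.base default = z → IsIso (τ ≫ germ ζ G (EtCoh.top X) t)} := by
  have hterm : IsTerminal (EtCoh.top X) :=
    IsTerminal.ofUniqueHom (fun V => MorphismProperty.Over.homMk V.hom (Category.comp_id _)) fun V m =>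
      MorphismProperty.Over.Hom.ext ((Category.comp_id _).symm.trans (MorphismProperty.Over.w m))
  let C := (constantSheaf X.smallEtaleTopology AddCommGrpCat.{u + 1}).obj M
  let φ : C ⟶ G := ((constantSheafAdj X.smallEtaleTopology AddCommGrpCat.{u + 1} hterm).homEquiv M G).symm τ
  have hφ : cstUnit X M ≫ φ.hom.app (op (EtCoh.top X)) = τ := by
    have h := ((constantSheafAdj X.smallEtaleTopology AddCommGrpCat.{u + 1} hterm).homEquiv M G).apply_symm_apply τ
    rw [Adjunction.homEquiv_unit] at h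
    refine Eq.trans ?_ h
    simp [cstUnit, φ, constantSheafAdj, constantPresheafAdj]
  have hC : IsCons (A := AddCommGrpCat.{u + 1}) FinP C := isCons_const M
  have hiso : ∀ {Ω : Type u} [Field Ω] [IsSepClosed Ω] (ζ : Spec (CommRingCat.of Ω) ⟶ X) (t : Fib ζ (EtCoh.top X)),
      IsIso (τ ≫ germ ζ G (EtCoh.top X) t) ↔ IsIso ((stk (A := AddCommGrpCat.{u + 1}) ζ).map φ) := by
    intro Ω _ _ ζ t
    haveI := isCst_cstUnit M Ω ζ t
    have e : (cstUnit X M ≫ germ ζ C (EtCoh.top X) t) ≫ (stk (A := AddCommGrpCat.{u + 1}) ζ).map φ =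
        τ ≫ germ ζ G (EtCoh.top X) t := by
      rw [Category.assoc, germ_natural, ← Category.assoc, hφ]
    rw [← e]
    exact ⟨fun _ => IsIso.of_isIso_comp_left (cstUnit X M ≫ germ ζ C (EtCoh.top X) t) _, fun _ => inferInstance⟩
  have hset : {z : X | ∀ (Ω : Type u) [Field Ω] [IsSepClosed Ω] (ζ : Spec (CommRingCat.of Ω) ⟶ X)
      (t : Fib ζ (EtCoh.top X)), ζ.base default = z → IsIso (τ ≫ germ ζ G (EtCoh.top X) t)} =
      (EtPBC.supp (kernel φ) ∪ EtPBC.supp (cokernel φ))ᶜ := by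
    ext z
    constructor
    · intro h hs
      rcases hs with hs | hs <;> obtain ⟨Ω, _, _, ζ, hr, hne⟩ := hs <;>
        obtain ⟨t⟩ := exists_fib_of_range ζ (U := EtCoh.top X) ⟨ζ.base default, rfl⟩ <;>
        haveI := (hiso ζ t).1 (h Ω ζ t (hr.subset ⟨default, rfl⟩)) <;> apply hne
      · exact (isZero_kernel_of_mono _).of_iso (PreservesKernel.iso (stk (A := AddCommGrpCat.{u + 1}) ζ) φ)
      · exact (isZero_cokernel_of_epi _).of_iso (PreservesCokernel.iso (stk (A := AddCommGrpCat.{u + 1}) ζ) φ)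
    · intro hz Ω _ _ ζ t hζ
      rw [hiso]
      have hker : IsZero ((stk (A := AddCommGrpCat.{u + 1}) ζ).obj (kernel φ)) :=
        by_contra fun hne => hz (Or.inl ⟨Ω, inferInstance, inferInstance, ζ, hζ ▸ range_eq_singleton _, hne⟩)
      have hcok : IsZero ((stk (A := AddCommGrpCat.{u + 1}) ζ).obj (cokernel φ)) :=
        by_contra fun hne => hz (Or.inr ⟨Ω, inferInstance, inferInstance, ζ, hζ ▸ range_eq_singleton _, hne⟩)
      haveI : Mono ((stk (A := AddCommGrpCat.{u + 1}) ζ).map φ) :=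
        Preadditive.mono_of_kernel_zero ((hker.of_iso (PreservesKernel.iso _ φ).symm).eq_of_src _ _)
      haveI : Epi ((stk (A := AddCommGrpCat.{u + 1}) ζ).map φ) :=
        Preadditive.epi_of_cokernel_zero ((hcok.of_iso (PreservesCokernel.iso _ φ).symm).eq_of_tgt _ _)
      exact isIso_of_mono_of_epi _
  rw [hset]
  exact (((isLocallyConstructible_supp ((isConstructible_iff _).2 (cons_kernel φ hC hG))).isConstructible).union
    ((isLocallyConstructible_supp ((isConstructible_iff _).2 (cons_cokernel φ hC hG))).isConstructible)).compl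

theorem isCons_of_isoLocus [CompactSpace Y] [QuasiSeparatedSpace Y] {F : EtCoh.Ab Y}
    (hfin : ∀ (Ω : Type u) [Field Ω] [IsSepClosed Ω] (ξ : Spec (CommRingCat.of Ω) ⟶ Y),
      Finite ((stk (A := AddCommGrpCat.{u + 1}) ξ).obj F))
    (h : ∀ (W : Y.Etale) [CompactSpace W.left] [QuasiSeparatedSpace W.left] (M : AddCommGrpCat.{u + 1}) [Finite M]
      (σ : M ⟶ F.obj.obj (op W)), IsConstructible (isoLocus W σ)) :
    IsCons (A := AddCommGrpCat.{u + 1}) FinP F := by
  classical
  have key : ∀ y : Y, ∃ (T : Scheme.{u}) (g : T ⟶ Y), IsImmersion g ∧ y ∈ Set.range g ∧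
      IsConstructible (Set.range g) ∧ PullLC (A := AddCommGrpCat.{u + 1}) FinP F g := by
    intro y
    obtain ⟨Ω, _, _, ξ, rfl⟩ := exists_geometric_pt y
    haveI := hfin Ω ξ
    obtain ⟨u₀⟩ := exists_fib_of_range ξ (U := EtCoh.top Y) ⟨ξ.base default, rfl⟩
    obtain ⟨V₁, -, v₁, σ, -, hσ⟩ := lifts_Ab (M := (stk (A := AddCommGrpCat.{u + 1}) ξ).obj F) F ξ (EtCoh.top Y) u₀ (𝟙 _)
    obtain ⟨W₀, k, w₀, ⟨hW₀, hW₀'⟩, hw₀⟩ := exists_small_below ξ V₁ v₁
    haveI := hW₀
    haveI := locallyQuasiFinite_of_etale (str W₀)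
    haveI : QuasiCompact (str W₀) := quasiCompact_of_compactSpace _
    let S₀ : Set W₀.left := (str W₀).base ⁻¹' {ξ.base default}
    have hS₀ : S₀.Finite := (str W₀).finite_preimage_singleton (ξ.base default)
    haveI : DiscreteTopology S₀ := (Scheme.Hom.isDiscrete_preimage_singleton (str W₀) (ξ.base default)).to_subtype
    have hw₀S : w₀.pt ∈ S₀ := congrArg (fun t : Spec (CommRingCat.of Ω) ⟶ Y => t.base default) w₀.w
    obtain ⟨O, hO, hOe⟩ := isOpen_induced_iff.1 (isOpen_discrete ({⟨_, hw₀S⟩} : Set S₀))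
    have hw₀O : w₀.pt ∈ O := (hOe.ge (Set.mem_singleton (⟨_, hw₀S⟩ : S₀)) :)
    obtain ⟨B, hB, hwB, hBO⟩ := exists_isAffineOpen_mem_and_subset (X := W₀.left) (x := w₀.pt) (U := ⟨O, hO⟩) hw₀O
    obtain ⟨W₁, j, w₁, hw₁, hj⟩ := exists_open_below ξ W₀ w₀ B hwB
    obtain ⟨W, e, w, ⟨hW, hW'⟩, hw⟩ := exists_small_below ξ W₁ w₁
    haveI := hW
    let σ' := σ ≫ F.obj.map (e ≫ j ≫ k).op
    haveI : QuasiCompact (str W) := quasiCompact_of_compactSpace _
    let S := isoLocus W σ'
    have hS : IsConstructible S := h W _ σ'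
    have hfib : ∀ z : W.left, (str W).base z = ξ.base default → (e ≫ j).left.base z = w₀.pt := fun z hz => by
      have h1 : (e ≫ j).left.base z ∈ S₀ := by
        show (str W₀).base ((e ≫ j).left.base z) = ξ.base default
        rw [← hz]
        exact congrArg (fun t : W.left ⟶ Y => t.base z) (MorphismProperty.Over.w (e ≫ j))
      have h2 : (e ≫ j).left.base z ∈ O := hBO (hj ⟨e.left.base z, rfl⟩)
      exact congrArg Subtype.val (hOe.le (show (⟨_, h1⟩ : S₀) ∈ Subtype.val ⁻¹' O from h2))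
    have hσ' : ∀ (Ω' : Type u) [Field Ω'] [IsSepClosed Ω'] (ξ' : Spec (CommRingCat.of Ω') ⟶ Y) (a : Fib ξ' W),
        a.pt ∈ (str W).base ⁻¹' {ξ.base default} → IsIso (σ' ≫ germ ξ' F W a) := by
      intro Ω' _ _ ξ' a ha
      rw [Category.assoc, germ_res, show a.map (e ≫ j ≫ k) = (a.map (e ≫ j)).map k from by
        rw [← Category.assoc]; exact Functor.map_comp_apply (pt ξ').fiber (e ≫ j) k a, ← germ_res, ← Category.assoc]
      refine isIso_germ_congr (σ ≫ F.obj.map k.op) w₀ (a.map (e ≫ j)) (hfib a.pt ha) ?_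
      rw [Category.assoc, germ_res, hw₀, hσ]
      infer_instance
    let C : Set Y := (str W).base '' Sᶜ
    have hC : IsConstructible C := (str W).isConstructible_image hS.compl
    have hyC : ξ.base default ∉ C := by
      rintro ⟨z, hz, hzy⟩
      exact hz fun Ω' _ _ ξ' a ha => hσ' Ω' ξ' a (ha ▸ hzy)
    have hR : IsConstructible (Set.range (str W).base) := by
      rw [← Set.image_univ]; exact (str W).isConstructible_image IsConstructible.univ
    obtain ⟨n, A, hAc, hAl, -, hAu, hAC⟩ := exists_atoms (fun _ : Unit => Set.range (str W).base \ C)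
      (fun _ => hR.sdiff hC)
    obtain ⟨i, hi⟩ := Set.mem_iUnion.1 (hAu.ge (Set.mem_univ (ξ.base default)))
    have hyR : ξ.base default ∈ Set.range (str W).base :=
      ⟨w.pt, congrArg (fun t : Spec (CommRingCat.of Ω) ⟶ Y => t.base default) w.w⟩
    have hsub : A i ⊆ Set.range (str W).base \ C :=
      (hAC i ()).resolve_right fun hd => Set.disjoint_left.1 hd hi ⟨hyR, hyC⟩
    obtain ⟨T, g, hg, -, hr⟩ := exists_reduced_immersion (hAl i)
    refine ⟨T, g, hg, hr.symm ▸ hi, hr.symm ▸ hAc i, fun t => ?_⟩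
    obtain ⟨z, hz⟩ := (hsub (hr.subset ⟨t, rfl⟩)).1
    obtain ⟨q, -, hq⟩ := Scheme.Pullback.exists_preimage_pullback (f := str W) (g := g) z t hz
    refine ⟨(EtCoh.bc g).obj W, q, _, σ' ≫ ((adjA g AddCommGrpCat.{u + 1}).unit.app F).hom.app (op W), hq,
      inferInstance, fun Ω' _ _ ζ a => ?_⟩
    let b : Fib (ζ ≫ g) W := a.proj g ζ
    haveI : IsIso (σ' ≫ germ (ζ ≫ g) F W b) := by
      by_contra hne
      refine (hsub (hr.subset ⟨ζ.base default, rfl⟩)).2 ⟨b.pt, fun hS' => hne (hS' Ω' (ζ ≫ g) b rfl), ?_⟩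
      exact congrArg (fun t : Spec (CommRingCat.of Ω') ⟶ Y => t.base default) b.w
    have e := germ_stalkPull g ζ AddCommGrpCat.{u + 1} F W b
    rw [show b.lift g ζ = a from Fib.lift_proj g ζ a] at e
    rw [Category.assoc, ← e, ← Category.assoc]
    infer_instance
  choose T g hi hy hc hl using key
  obtain ⟨t, ht⟩ := exists_finite_subcover_constructible (fun y => Set.range (g y)) hc
    (Set.eq_univ_of_forall fun y => Set.mem_iUnion.2 ⟨y, hy y⟩)
  haveI : ∀ i : t, IsImmersion (g i.1) := fun i => hi i.1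
  refine isCons_of_adapted_univ (adapted_of_cover isOpen_univ (fun i : t => T i.1) (fun i => g i.1)
    (fun i => (hc i.1).preimage_of_isOpenEmbedding isOpen_univ.isOpenEmbedding_subtypeVal) (fun x _ => ?_)
    fun i => hl i.1)
  obtain ⟨i, hi', hxi⟩ := Set.mem_iUnion₂.1 (ht.ge (Set.mem_univ x))
  exact Set.mem_iUnion.2 ⟨⟨i, hi'⟩, hxi⟩

theorem isCons_of_pull_surjective [CompactSpace X] [QuasiSeparatedSpace X] [CompactSpace Y] [QuasiSeparatedSpace Y]
    (f : X ⟶ Y) [Surjective f] {F : EtCoh.Ab Y}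
    (hF : IsCons (A := AddCommGrpCat.{u + 1}) FinP ((pullA f AddCommGrpCat.{u + 1}).obj F)) :
    IsCons (A := AddCommGrpCat.{u + 1}) FinP F := by
  refine isCons_of_isoLocus (fun Ω _ _ ξ => ?_) fun W _ _ M _ σ => ?_
  · obtain ⟨x, hx⟩ := f.surjective (ξ.base default)
    obtain ⟨Ω', _, _, ζ, rfl⟩ := exists_geometric_pt x
    haveI : Finite ((pullA f AddCommGrpCat.{u + 1} ⋙ stk (A := AddCommGrpCat.{u + 1}) ζ).obj F) := finite_stalk_Ab hF ζ
    obtain ⟨i⟩ := nonempty_stk_iso_of_eq (A := AddCommGrpCat.{u + 1}) (ξ := ξ) (ξ' := ζ ≫ f) hx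
    exact Finite.of_equiv _ (i.app F ≪≫ (stalkPull f ζ AddCommGrpCat.{u + 1}).app F).symm.addCommGroupIsoToAddEquiv.toEquiv
  · let p₁ : pullback (str W) f ⟶ W.left := pullback.fst (str W) f
    let p₂ : pullback (str W) f ⟶ X := pullback.snd (str W) f
    haveI : QuasiCompact (str W) := quasiCompact_of_compactSpace _
    haveI : QuasiSeparated (str W) := .of_quasiSeparatedSpace _
    haveI : CompactSpace ↥(pullback (str W) f) := QuasiCompact.compactSpace_of_compactSpace p₂
    haveI : QuasiSeparatedSpace ↥(pullback (str W) f) := quasiSeparatedSpace_of_quasiSeparated p₂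
    let π := p₂ ≫ f
    let G := (pullA π AddCommGrpCat.{u + 1}).obj F
    have hG : IsCons (A := AddCommGrpCat.{u + 1}) FinP G :=
      (hF.pull (f := p₂)).of_hom ((pullCompA AddCommGrpCat.{u + 1} p₂ f).hom.app F)
    let δ : EtCoh.top (pullback (str W) f) ⟶ (EtCoh.bc π).obj W :=
      MorphismProperty.Over.homMk (pullback.lift p₁ (𝟙 _) (pullback.condition.trans (Category.id_comp _).symm))
        (pullback.lift_snd _ _ _)
    let τ : M ⟶ G.obj.obj (op (EtCoh.top (pullback (str W) f))) :=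
      σ ≫ ((adjA π AddCommGrpCat.{u + 1}).unit.app F).hom.app (op W) ≫ G.obj.map δ.op
    have hτ := isConstructible_isoLocus hG M τ
    refine isConstructible_of_preimage p₁ ?_
    convert hτ using 1
    ext z
    have hgerm : ∀ {Ω : Type u} [Field Ω] [IsSepClosed Ω] (ζ : Spec (CommRingCat.of Ω) ⟶ pullback (str W) f)
        (t : Fib ζ (EtCoh.top (pullback (str W) f))),
        τ ≫ germ ζ G _ t = (σ ≫ germ (ζ ≫ π) F W (Fib.mk (ζ ≫ p₁) (by
          show (ζ ≫ p₁) ≫ str W = ζ ≫ p₂ ≫ f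
          rw [Category.assoc, pullback.condition]))) ≫
          (stalkPull π ζ AddCommGrpCat.{u + 1}).hom.app F := by
      intro Ω _ _ ζ t
      rw [Category.assoc σ (germ (ζ ≫ π) F W _), germ_stalkPull]
      simp only [τ, Category.assoc]
      rw [germ_res]
      refine congrArg (fun q => σ ≫ _ ≫ germ ζ G _ q) (Fib.ext ?_)
      show t.hom ≫ pullback.lift p₁ (𝟙 _) _ = pullback.lift _ ζ _
      have ht : t.hom = ζ := (Category.comp_id _).symm.trans t.w
      apply pullback.hom_ext <;> simp [ht]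
    constructor
    · intro hz Ω _ _ ζ t hζ
      rw [hgerm ζ t]
      haveI := hz Ω (ζ ≫ π) (Fib.mk (ζ ≫ p₁) (by
        show (ζ ≫ p₁) ≫ str W = ζ ≫ p₂ ≫ f
        rw [Category.assoc, pullback.condition])) (congrArg p₁.base hζ)
      infer_instance
    · intro hz Ω _ _ ξ a ha
      obtain ⟨Ω', _, _, ζ, hζ⟩ := exists_geometric_pt z
      obtain ⟨t⟩ := exists_fib_of_range ζ (U := EtCoh.top (pullback (str W) f)) ⟨ζ.base default, rfl⟩
      have h1 := hz Ω' ζ t hζ
      rw [hgerm ζ t] at h1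
      haveI := h1
      have hp : (ζ ≫ p₁) ≫ str W = ζ ≫ π := by
        show (ζ ≫ p₁) ≫ str W = ζ ≫ p₂ ≫ f
        rw [Category.assoc, pullback.condition]
      refine isIso_germ_congr σ (Fib.mk (ξ := ζ ≫ π) (U := W) (ζ ≫ p₁) hp) a ?_
        (IsIso.of_isIso_comp_right _ ((stalkPull π ζ AddCommGrpCat.{u + 1}).hom.app F))
      exact ha.trans (congrArg p₁.base hζ).symm

end Groth.Agent.EtShLib
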