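import Groth.Prelude.Def_EtShriek2
import Mathlib.CategoryTheory.Adjunction.Unique

/-! Extension by zero commutes with inverse images. -/

set_option autoImplicit false
set_option linter.unusedSectionVars false
set_option linter.style.haveILetI false
set_option backward.isDefEq.respectTransparency false
set_option backward.isDefEq.respectTransparency.types false
set_option maxHeartbeats 1000000

universe u

open CategoryTheory CategoryTheory.Limits AlgebraicGeometry Opposite

namespace Groth.Agent.EtShLib

variable {V' V Y X : Scheme.{u}} {j : V ⟶ X} [AlgebraicGeometry.Etale j] {f : Y ⟶ X} {j' : V' ⟶ Y}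
  [AlgebraicGeometry.Etale j'] {f' : V' ⟶ V} (h : IsPullback j' f' f j)

include h in
theorem isPullback_bc_comp (W : V.Etale) :
    IsPullback (pullback.fst W.hom f') (pullback.snd W.hom f' ≫ j') (W.hom ≫ j) f :=
  (IsPullback.of_hasPullback W.hom f').paste_vert h.flip

/-- Composition and base change commute. -/
noncomputable def bcCompEtale :
    EtCoh.bc f' ⋙ EtShriek.compEtale j' ≅ EtShriek.compEtale j ⋙ EtCoh.bc f :=
  NatIso.ofComponents (fun W => MorphismProperty.Over.isoMk (isPullback_bc_comp h W).isoPullback
      (isPullback_bc_comp h W).isoPullback_hom_snd) fun {W W'} a => by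
    refine MorphismProperty.Over.Hom.ext ?_
    show ((EtCoh.bc f').map a).left ≫ (isPullback_bc_comp h W').isoPullback.hom =
      (isPullback_bc_comp h W).isoPullback.hom ≫ ((EtCoh.bc f).map ((EtShriek.compEtale j).map a)).left
    apply pullback.hom_ext
    · rw [Category.assoc, IsPullback.isoPullback_hom_fst, (EtCoh.isPullback_bc_map f' a).w, Category.assoc]
      refine Eq.trans ?_ (congrArg ((isPullback_bc_comp h W).isoPullback.hom ≫ ·)
        (EtCoh.isPullback_bc_map f ((EtShriek.compEtale j).map a)).w).symm
      exact ((Category.assoc _ _ _).symm.trans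
        (congrArg (· ≫ a.left) (isPullback_bc_comp h W).isoPullback_hom_fst)).symm
    · rw [Category.assoc, IsPullback.isoPullback_hom_snd, Category.assoc]
      refine Eq.trans ?_ ((congrArg ((isPullback_bc_comp h W).isoPullback.hom ≫ ·) (pullback.lift_snd _ _ _)).trans
        (isPullback_bc_comp h W).isoPullback_hom_snd).symm
      rw [← Category.assoc]
      exact congrArg (· ≫ j') (pullback.lift_snd _ _ _)

include h in
theorem nonempty_extZero_bc [EtShriek.JCont j] [EtShriek.JCont j'] :
    Nonempty (EtCoh.pull f' ⋙ EtShriek.extZero j' ≅ EtShriek.extZero j ⋙ EtCoh.pull f) := by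
  let e : EtShriek.restrAlong j' ⋙ EtCoh.push f' ≅ EtCoh.push f ⋙ EtShriek.restrAlong j := by
    letI := Functor.isContinuous_comp (EtCoh.bc f') (EtShriek.compEtale j') V.smallEtaleTopology
      V'.smallEtaleTopology Y.smallEtaleTopology
    letI := Functor.isContinuous_comp (EtShriek.compEtale j) (EtCoh.bc f) V.smallEtaleTopology
      X.smallEtaleTopology Y.smallEtaleTopology
    exact Functor.sheafPushforwardContinuousComp' (bcCompEtale h) AddCommGrpCat.{u + 1} V.smallEtaleTopology
        V'.smallEtaleTopology Y.smallEtaleTopology (FG := EtShriek.compEtale j ⋙ EtCoh.bc f) ≪≫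
      (Functor.sheafPushforwardContinuousComp (EtShriek.compEtale j) (EtCoh.bc f) AddCommGrpCat.{u + 1}
        V.smallEtaleTopology X.smallEtaleTopology Y.smallEtaleTopology).symm
  exact ⟨Adjunction.leftAdjointUniq (((EtCoh.pullPushAdj f').comp (EtShriek.extZeroAdj j')).ofNatIsoRight e)
    ((EtShriek.extZeroAdj j).comp (EtCoh.pullPushAdj f))⟩

end Groth.Agent.EtShLib
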