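import Groth.Agent.EtShLib.Split
import Mathlib.AlgebraicGeometry.Morphisms.FlatMono
import Mathlib.AlgebraicGeometry.Morphisms.Finite

/-! Finite étale schemes split étale-locally. -/

set_option autoImplicit false
set_option linter.unusedSectionVars false
set_option linter.style.haveILetI false
set_option backward.isDefEq.respectTransparency false
set_option backward.isDefEq.respectTransparency.types false
set_option synthInstance.maxHeartbeats 400000
set_option maxHeartbeats 1000000

universe u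

open CategoryTheory CategoryTheory.Limits AlgebraicGeometry Opposite

namespace Groth.Agent.EtShLib

variable {T : Scheme.{u}}

theorem exists_split_finite (P : T.Etale) [IsFinite (str P)] {Ω : Type u} [Field Ω] [IsSepClosed Ω]
    (ζ : Spec (CommRingCat.of Ω) ⟶ T) :
    Finite (Fib ζ P) ∧ ∃ (W : T.Etale) (w : Fib ζ W) (s : Fib ζ P → (W ⟶ P)), (∀ u, w.map (s u) = u) ∧
      ∀ (Ω' : Type u) [Field Ω'] [IsSepClosed Ω'] (ζ' : Spec (CommRingCat.of Ω') ⟶ T) (w' : Fib ζ' W),
        Function.Bijective fun u => w'.map (s u) := by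
  classical
  haveI : Finite (GeomLifts (str P) ζ) := finite_lifts (str P) ζ
  haveI hK : Finite (Fib ζ P) := Finite.of_surjective
    (fun t : GeomLifts (str P) ζ => (Fib.mk t.1 t.2 : Fib ζ P)) fun v => ⟨⟨v.hom, v.w⟩, Fib.ext rfl⟩
  refine ⟨hK, ?_⟩
  haveI := Fintype.ofFinite (Fib ζ P)
  obtain ⟨W₀, hW₀⟩ := IsCofiltered.inf_objs_exists
    ((Set.finite_range fun u : Fib ζ P => (pt ζ).fiber.elementsMk P u).toFinset)
  have hs₀ : ∀ u : Fib ζ P, Nonempty (W₀ ⟶ (pt ζ).fiber.elementsMk P u) := fun u => hW₀ (by simp)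
  let s₀ : Fib ζ P → (W₀.1 ⟶ P) := fun u => (hs₀ u).some.1
  let w₀ : Fib ζ W₀.1 := W₀.2
  have hs₀' : ∀ u, w₀.map (s₀ u) = u := fun u => (hs₀ u).some.2
  haveI : AlgebraicGeometry.Etale (str W₀.1) := inferInstance
  let pr : pullback (str W₀.1) (str P) ⟶ W₀.1.left := pullback.fst (str W₀.1) (str P)
  haveI : IsFinite pr := MorphismProperty.pullback_fst _ _ inferInstance
  haveI : AlgebraicGeometry.Etale pr := MorphismProperty.pullback_fst _ _ inferInstance
  let gr : Fib ζ P → (W₀.1.left ⟶ pullback (str W₀.1) (str P)) := fun u =>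
    pullback.lift (𝟙 _) (s₀ u).left ((Category.id_comp _).trans (MorphismProperty.Over.w (s₀ u)).symm)
  have hgr : ∀ u, gr u ≫ pr = 𝟙 _ := fun u => pullback.lift_fst _ _ _
  haveI : ∀ u, IsOpenImmersion (gr u) := fun u => by
    haveI : AlgebraicGeometry.Etale (gr u ≫ pr) := by rw [hgr]; infer_instance
    haveI : AlgebraicGeometry.Etale (gr u) := AlgebraicGeometry.Etale.of_comp (gr u) pr
    haveI : Mono (gr u) := mono_of_mono_fac (hgr u)
    exact IsOpenImmersion.of_flat_of_mono _
  let G : Set ↥(pullback (str W₀.1) (str P)) := ⋃ u, Set.range (gr u).base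
  have hG : IsOpen G := isOpen_iUnion fun u => (gr u).isOpenEmbedding.isOpen_range
  let I := {q : Fib ζ P × Fib ζ P // q.1 ≠ q.2}
  let d : I → (W₀.1.left ⟶ pullback (str P) (str P)) := fun q => pullback.lift (s₀ q.1.1).left (s₀ q.1.2).left
    ((MorphismProperty.Over.w (s₀ q.1.1)).trans (MorphismProperty.Over.w (s₀ q.1.2)).symm)
  have hd : ∀ (q : I) {S : Scheme.{u}} [Subsingleton ↥S] (a : S ⟶ W₀.1.left) (x : ↥S),
      (d q).base (a.base x) ∈ Set.range (pullback.diagonal (str P)).base →
        a ≫ (s₀ q.1.1).left = a ≫ (s₀ q.1.2).left := by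
    intro q S _ a x hx
    have hr : Set.range (a ≫ d q).base ⊆ Set.range (pullback.diagonal (str P)).base := by
      rintro _ ⟨y, rfl⟩
      rw [Subsingleton.elim y x]
      exact hx
    have h := IsOpenImmersion.lift_fac (pullback.diagonal (str P)) (a ≫ d q) hr
    have h0 : (a ≫ d q) ≫ pullback.fst (str P) (str P) = (a ≫ d q) ≫ pullback.snd (str P) (str P) := by
      rw [← h, Category.assoc, Category.assoc, pullback.diagonal_fst, pullback.diagonal_snd]
    simpa [d] using h0
  let O : W₀.1.left.Opens := ⟨(pr.base '' Gᶜ)ᶜ ∩ ⋂ q : I, (d q).base ⁻¹' (Set.range (pullback.diagonal (str P)).base)ᶜ,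
    (pr.isClosedMap _ hG.isClosed_compl).isOpen_compl.inter (isOpen_iInter_of_finite fun q =>
      (pullback.diagonal (str P)).isClosedEmbedding.isClosed_range.isOpen_compl.preimage (d q).continuous)⟩
  have hO : w₀.pt ∈ O := by
    refine ⟨?_, Set.mem_iInter.2 fun q hq => q.2 ?_⟩
    · rintro ⟨z, hz, hze⟩
      obtain ⟨l, hl, hlz⟩ := Scheme.exists_fac_of_etale_of_isSepClosed pr w₀.hom z hze
      let u : Fib ζ P := Fib.mk (l ≫ pullback.snd (str W₀.1) (str P)) ((Category.assoc _ _ _).trans
        ((congrArg (l ≫ ·) (pullback.condition (f := str W₀.1) (g := str P)).symm).trans ((Category.assoc _ _ _).symm.trans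
          ((congrArg (· ≫ str W₀.1) hl).trans w₀.w))))
      refine hz (Set.mem_iUnion.2 ⟨u, w₀.pt, ?_⟩)
      have e : w₀.hom ≫ gr u = l := pullback.hom_ext
        ((Category.assoc _ _ _).trans ((congrArg (w₀.hom ≫ ·) (hgr u)).trans ((Category.comp_id _).trans hl.symm)))
        ((Category.assoc _ _ _).trans ((congrArg (w₀.hom ≫ ·) (pullback.lift_snd _ _ _)).trans
          (congrArg (fun t : Fib ζ P => t.hom) (hs₀' u))))
      rw [← hlz, ← e]
      rfl
    · rw [← hs₀' q.1.1, ← hs₀' q.1.2]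
      exact Fib.ext (hd q w₀.hom default hq)
  obtain ⟨W, j, w, hw, hj⟩ := exists_open_below ζ W₀.1 w₀ O hO
  refine ⟨W, w, fun u => j ≫ s₀ u, fun u => ?_, fun Ω' _ _ ζ' w' => ?_⟩
  · show (pt ζ).fiber.map (j ≫ s₀ u) w = _
    rw [Functor.map_comp_apply]
    exact (congrArg (Fib.map (s₀ u)) hw).trans (hs₀' u)
  let a : Fib ζ' W₀.1 := w'.map j
  have ha : a.pt ∈ O := hj ⟨w'.pt, rfl⟩
  have hmap : (fun u => w'.map (j ≫ s₀ u)) = fun u => a.map (s₀ u) := funext fun u => by
    show (pt ζ').fiber.map (j ≫ s₀ u) w' = _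
    rw [Functor.map_comp_apply]
  rw [hmap]
  refine ⟨fun u v e => by_contra fun hne => ?_, fun v => ?_⟩
  · let q : I := ⟨(u, v), hne⟩
    refine Set.mem_iInter.1 ha.2 q ⟨(a.hom ≫ (s₀ u).left).base default, ?_⟩
    refine congrArg (fun t : Spec (CommRingCat.of Ω') ⟶ _ => t.base default)
      (?_ : (a.hom ≫ (s₀ u).left) ≫ pullback.diagonal (str P) = a.hom ≫ d q)
    refine pullback.hom_ext (by simp [d, q]) ?_
    simp only [Category.assoc, pullback.diagonal_snd, Category.comp_id, d, q, pullback.lift_snd]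
    exact congrArg (fun t : Fib ζ' P => t.hom) e
  · let z : Spec (CommRingCat.of Ω') ⟶ pullback (str W₀.1) (str P) := pullback.lift a.hom v.hom (a.w.trans v.w.symm)
    have hz : z.base default ∈ G := by
      by_contra hn
      exact ha.1 ⟨_, hn, congrArg (fun t : Spec (CommRingCat.of Ω') ⟶ _ => t.base default)
        (pullback.lift_fst a.hom v.hom (a.w.trans v.w.symm))⟩
    obtain ⟨u, hu⟩ := Set.mem_iUnion.1 hz
    have hr : Set.range z.base ⊆ Set.range (gr u).base := by
      rintro _ ⟨y, rfl⟩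
      rw [Subsingleton.elim y default]
      exact hu
    have h := IsOpenImmersion.lift_fac (gr u) z hr
    have h1 : IsOpenImmersion.lift (gr u) z hr = a.hom := by
      have := congrArg (· ≫ pr) h
      simp only [Category.assoc, hgr, Category.comp_id] at this
      exact this.trans (pullback.lift_fst _ _ _)
    refine ⟨u, Fib.ext ?_⟩
    have := congrArg (· ≫ pullback.snd (str W₀.1) (str P)) h
    rw [h1, Category.assoc] at this
    exact ((congrArg (a.hom ≫ ·) (pullback.lift_snd _ _ _).symm).trans this).trans (pullback.lift_snd _ _ _)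

theorem splits_of_isFinite {X : Scheme.{u}} (g : T ⟶ X) (U : X.Etale) [IsFinite (str U)] : Splits g U := by
  intro Ω _ _ ζ
  haveI : IsFinite (str ((EtCoh.bc g).obj U)) := MorphismProperty.pullback_snd (P := @IsFinite) _ _ inferInstance
  obtain ⟨hfin, W, w, s, hs, hb⟩ := exists_split_finite ((EtCoh.bc g).obj U) ζ
  refine ⟨?_, W, w, fun u => s (u.lift g ζ), fun u => hs _, fun Ω' _ _ ζ' w' => ?_⟩
  · exact Finite.of_injective (fun u : Fib (ζ ≫ g) U => u.lift g ζ) fun a b e => by
      have := congrArg (Fib.proj g ζ) e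
      rwa [Fib.proj_lift, Fib.proj_lift] at this
  · refine ((?_ : Function.Bijective (Fib.proj g ζ')).comp (hb Ω' ζ' w')).comp (?_ : Function.Bijective _)
    · exact Function.bijective_iff_has_inverse.2 ⟨_, fun z => Fib.lift_proj g ζ' z, fun z => Fib.proj_lift g ζ' z⟩
    · exact Function.bijective_iff_has_inverse.2 ⟨_, fun z => Fib.proj_lift g ζ z, fun z => Fib.lift_proj g ζ z⟩

end Groth.Agent.EtShLib
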