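import Groth.Agent.EtShLib.Stalk
import Mathlib.CategoryTheory.Sites.ConstantSheaf
import Mathlib.CategoryTheory.Sites.LocallyBijective
import Mathlib.CategoryTheory.Sites.CompatibleSheafification
import Mathlib.CategoryTheory.Limits.Preserves.Shapes.Kernels

/-! Sheaves constant over an étale neighbourhood, in terms of germs. -/

set_option autoImplicit false
set_option linter.unusedSectionVars false
set_option linter.style.haveILetI false
set_option backward.isDefEq.respectTransparency false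
set_option backward.isDefEq.respectTransparency.types false
set_option synthInstance.maxHeartbeats 200000
set_option maxHeartbeats 1000000

universe u

open CategoryTheory CategoryTheory.Limits AlgebraicGeometry Opposite

namespace Groth.Agent.EtShLib

variable {X Y : Scheme.{u}}
variable {A : Type (u + 2)} [Category.{u + 1} A] [HasColimitsOfSize.{u, u} A]
  {FA : A → A → Type*} {CA : A → Type (u + 1)} [∀ M N, FunLike (FA M N) (CA M) (CA N)]
  [ConcreteCategory.{u + 1} A FA] [hfc : PreservesFilteredColimitsOfSize.{u, u} (forget A)]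

/-- `η` makes `F` constant over `U`: it is bijective on all stalks over `U`. -/
def IsCst (F : Sheaf X.smallEtaleTopology A) (U : X.Etale) {M : A} (η : M ⟶ F.obj.obj (op U)) : Prop :=
  ∀ (Ω : Type u) [Field Ω] [IsSepClosed Ω] (ξ : Spec (CommRingCat.of Ω) ⟶ X) (u : Fib ξ U),
    IsIso (η ≫ germ ξ F U u)

/-- `M` is finitely generated: morphisms out of it are detected on finitely many elements. -/
def FG (M : A) : Prop :=
  ∃ s : Finset (ToType M), ∀ ⦃N : A⦄ (a b : M ⟶ N), (∀ x ∈ s, a x = b x) → a = b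

theorem IsCst.map {F : Sheaf X.smallEtaleTopology A} {U V : X.Etale} {M : A} {η : M ⟶ F.obj.obj (op U)}
    (h : IsCst F U η) (g : V ⟶ U) : IsCst F V (η ≫ F.obj.map g.op) := by
  intro Ω _ _ ξ v
  haveI := h Ω ξ (v.map g)
  rw [Category.assoc, germ_res]
  infer_instance

theorem IsCst.of_hom {F : Sheaf X.smallEtaleTopology A} {U : X.Etale} {M N : A} {η : M ⟶ F.obj.obj (op U)}
    (h : IsCst F U η) (e : N ⟶ M) [IsIso e] : IsCst F U (e ≫ η) := by
  intro Ω _ _ ξ v
  haveI := h Ω ξ v
  rw [Category.assoc]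
  infer_instance

theorem IsCst.of_stalk_iso {F G : Sheaf X.smallEtaleTopology A} {U : X.Etale} {M : A} {η : M ⟶ F.obj.obj (op U)}
    (h : IsCst F U η) (φ : F ⟶ G)
    (hφ : ∀ (Ω : Type u) [Field Ω] [IsSepClosed Ω] (ξ : Spec (CommRingCat.of Ω) ⟶ X) (_ : Fib ξ U),
      IsIso ((stk ξ).map φ)) : IsCst G U (η ≫ φ.hom.app (op U)) := by
  intro Ω _ _ ξ v
  haveI := h Ω ξ v
  haveI := hφ Ω ξ v
  rw [Category.assoc, ← germ_natural, ← Category.assoc]
  infer_instance

theorem IsCst.pull [HasProducts.{u} A] {f : X ⟶ Y}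
    [((EtCoh.bc f).sheafPushforwardContinuous A Y.smallEtaleTopology X.smallEtaleTopology).IsRightAdjoint]
    {F : Sheaf Y.smallEtaleTopology A} {U : Y.Etale} {M : A} {η : M ⟶ F.obj.obj (op U)} (h : IsCst F U η) :
    IsCst ((pullA f A).obj F) ((EtCoh.bc f).obj U) (η ≫ ((adjA f A).unit.app F).hom.app (op U)) := by
  intro Ω _ _ ξ v
  haveI := h Ω (ξ ≫ f) (v.proj f ξ)
  have e := germ_stalkPull f ξ A F U (v.proj f ξ)
  rw [Fib.lift_proj] at e
  haveI : IsIso ((stalkPull f ξ A).hom.app F) := inferInstance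
  rw [Category.assoc, ← e, ← Category.assoc]
  infer_instance

section Over

variable {U : X.Etale} [HasSheafify (X.smallEtaleTopology.over U) A]

/-- The adjunction defining constant sheaves over `U`. -/
noncomputable abbrev adjO : constantSheaf (X.smallEtaleTopology.over U) A ⊣
    (sheafSections (X.smallEtaleTopology.over U) A).obj (op (Over.mk (𝟙 U))) :=
  constantSheafAdj (X.smallEtaleTopology.over U) A (Over.mkIdTerminal (X := U))

/-- The map out of the constant sheaf. -/
noncomputable def cmap (F : Sheaf X.smallEtaleTopology A) {M : A} (η : M ⟶ F.obj.obj (op U)) :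
    (constantSheaf (X.smallEtaleTopology.over U) A).obj M ⟶ F.over U :=
  ((adjO (U := U)).homEquiv M (F.over U)).symm η

theorem cmap_naturality {F G : Sheaf X.smallEtaleTopology A} {M N : A} {η : M ⟶ F.obj.obj (op U)}
    {θ : N ⟶ G.obj.obj (op U)} (φ : F ⟶ G) (h : M ⟶ N) (e : η ≫ φ.hom.app (op U) = h ≫ θ) :
    cmap F η ≫ (X.smallEtaleTopology.overPullback A U).map φ =
      (constantSheaf (X.smallEtaleTopology.over U) A).map h ≫ cmap G θ := by
  rw [cmap, cmap, ← Adjunction.homEquiv_naturality_left_symm, ← Adjunction.homEquiv_naturality_right_symm]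
  exact congrArg ((adjO (U := U)).homEquiv M (G.over U)).symm e

theorem toSheafify_cmap (F : Sheaf X.smallEtaleTopology A) {M : A} (η : M ⟶ F.obj.obj (op U)) (Z : Over U) :
    (toSheafify (X.smallEtaleTopology.over U) ((Functor.const (Over U)ᵒᵖ).obj M)).app (op Z) ≫
      (cmap F η).hom.app (op Z) = η ≫ F.obj.map Z.hom.op := by
  let ψ := toSheafify (X.smallEtaleTopology.over U) ((Functor.const (Over U)ᵒᵖ).obj M) ≫ (cmap F η).hom
  have h1 : ψ.app (op (Over.mk (𝟙 U))) = η := by
    have h := ((adjO (U := U)).homEquiv M (F.over U)).apply_symm_apply η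
    rw [Adjunction.homEquiv_unit] at h
    refine Eq.trans ?_ h
    simp [ψ, cmap, adjO, constantSheafAdj, constantPresheafAdj]
  have n := ψ.naturality (Over.homMk Z.hom (Category.comp_id _) : Z ⟶ Over.mk (𝟙 U)).op
  refine (Category.id_comp _).symm.trans (n.trans ?_)
  exact congrArg (· ≫ F.obj.map Z.hom.op) h1

theorem toSheafify_cmap_apply (F : Sheaf X.smallEtaleTopology A) {M : A} (η : M ⟶ F.obj.obj (op U)) (Z : Over U)
    (m : ToType M) :
    (cmap F η).hom.app (op Z)
      ((toSheafify (X.smallEtaleTopology.over U) ((Functor.const (Over U)ᵒᵖ).obj M)).app (op Z) m) =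
        F.obj.map Z.hom.op (η m) :=
  (ConcreteCategory.comp_apply ((toSheafify (X.smallEtaleTopology.over U) ((Functor.const (Over U)ᵒᵖ).obj M)).app (op Z))
    ((cmap F η).hom.app (op Z)) m).symm.trans
    ((congrArg (fun t : M ⟶ F.obj.obj (op Z.left) => t m) (toSheafify_cmap F η Z)).trans
      (ConcreteCategory.comp_apply η (F.obj.map Z.hom.op) m))

variable [hW : (X.smallEtaleTopology.over U).WEqualsLocallyBijective A]
  [hri : (forget A).ReflectsIsomorphisms] [hsc : (X.smallEtaleTopology.over U).HasSheafCompose (forget A)]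

include hfc hW hri hsc

theorem isCst_of_isIso {F : Sheaf X.smallEtaleTopology A} {M : A} {η : M ⟶ F.obj.obj (op U)} [IsIso (cmap F η)] :
    IsCst F U η := by
  let ψ := toSheafify (X.smallEtaleTopology.over U) ((Functor.const (Over U)ᵒᵖ).obj M) ≫ (cmap F η).hom
  haveI : IsIso (cmap F η).hom := inferInstanceAs (IsIso ((sheafToPresheaf _ A).map (cmap F η)))
  haveI : Presheaf.IsLocallySurjective (X.smallEtaleTopology.over U) ψ := inferInstance
  haveI : Presheaf.IsLocallyInjective (X.smallEtaleTopology.over U) ψ := inferInstance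
  have key : ∀ (Z : Over U) (m : ToType M), ψ.app (op Z) m = F.obj.map Z.hom.op (η m) := fun Z m =>
    (ConcreteCategory.comp_apply _ _ m).trans (toSheafify_cmap_apply F η Z m)
  intro Ω _ _ ξ u
  rw [← isIso_iff_of_reflects_iso _ (forget A), isIso_iff_bijective]
  constructor
  · intro m m' e
    have e' : germ ξ F U u (η m) = germ ξ F U u (η m') :=
      (ConcreteCategory.comp_apply η (germ ξ F U u) m).symm.trans
        (Eq.trans e (ConcreteCategory.comp_apply η (germ ξ F U u) m'))
    obtain ⟨V, g, v, hv, he⟩ := (germ_eq_iff ξ U u _ _).1 e'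
    have hs := (GrothendieckTopology.mem_over_iff _ _).1 (Presheaf.equalizerSieve_mem (X.smallEtaleTopology.over U) ψ
      (X := op (Over.mk g)) m m' (by rw [key, key]; exact he))
    obtain ⟨W, k, hk, w, hw⟩ := (pt ξ).jointly_surjective _ hs v
    have h2 : ((Functor.const (Over U)ᵒᵖ).obj M).map (Over.homMk k : Over.mk (k ≫ g) ⟶ Over.mk g).op m =
        ((Functor.const (Over U)ᵒᵖ).obj M).map (Over.homMk k : Over.mk (k ≫ g) ⟶ Over.mk g).op m' :=
      (Sieve.overEquiv_iff _ _).1 hk
    simpa using h2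
  · intro p
    obtain ⟨V, g, v, x, hv, rfl⟩ := exists_germ_below ξ p U u
    have hs := (GrothendieckTopology.mem_over_iff _ _).1
      (Presheaf.imageSieve_mem (X.smallEtaleTopology.over U) ψ (U := op (Over.mk g)) x)
    obtain ⟨W, k, hk, w, hw⟩ := (pt ξ).jointly_surjective _ hs v
    obtain ⟨m, hm⟩ := (Sieve.overEquiv_iff _ _).1 hk
    refine ⟨m, (ConcreteCategory.comp_apply η (germ ξ F U u) m).trans ?_⟩
    have hw' : Fib.map k w = v := hw
    rw [← hv, ← hw', ← germ_res_apply, ← germ_res_apply, ← germ_res_apply]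
    refine congrArg (germ ξ F W w) ?_
    rw [← ConcreteCategory.comp_apply (F.obj.map g.op), ← F.obj.map_comp, ← op_comp]
    exact (key _ m).symm.trans hm

theorem isIso_cmap {F : Sheaf X.smallEtaleTopology A} {M : A} {η : M ⟶ F.obj.obj (op U)} (h : IsCst F U η) :
    IsIso (cmap F η) := by
  let ψ := toSheafify (X.smallEtaleTopology.over U) ((Functor.const (Over U)ᵒᵖ).obj M) ≫ (cmap F η).hom
  have key : ∀ (Z : Over U) (m : ToType M), ψ.app (op Z) m = F.obj.map Z.hom.op (η m) := fun Z m =>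
    (ConcreteCategory.comp_apply _ _ m).trans (toSheafify_cmap_apply F η Z m)
  have hbij : ∀ (Ω : Type u) [Field Ω] [IsSepClosed Ω] (ξ : Spec (CommRingCat.of Ω) ⟶ X) (u : Fib ξ U),
      Function.Bijective fun m : ToType M => germ ξ F U u (η m) := fun Ω _ _ ξ u => by
    haveI := h Ω ξ u
    have := ConcreteCategory.bijective_of_isIso (η ≫ germ ξ F U u)
    simpa [Function.Bijective, Function.Injective, Function.Surjective, ConcreteCategory.comp_apply] using this
  haveI : Presheaf.IsLocallySurjective (X.smallEtaleTopology.over U) ψ := ⟨fun {Z} x => by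
    rw [GrothendieckTopology.mem_over_iff]
    have hloc : ∀ y : Z.left.left, ∃ (W : X.Etale) (k : W ⟶ Z.left) (m : ToType M),
        (∃ w : W.left, k.left.base w = y) ∧ F.obj.map (k ≫ Z.hom).op (η m) = F.obj.map k.op x := by
      intro y
      obtain ⟨Ω, _, _, ξ, z, hz⟩ := exists_geometric y
      obtain ⟨m, hm⟩ := (hbij Ω ξ (z.map Z.hom)).2 (germ ξ F Z.left z x)
      obtain ⟨W, k, w, hw, he⟩ := (germ_eq_iff ξ Z.left z (F.obj.map Z.hom.op (η m)) x).1
        ((germ_res_apply ξ F Z.hom z (η m)).trans hm)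
      refine ⟨W, k, m, ⟨w.pt, by rw [← hz, ← hw]; rfl⟩, ?_⟩
      rw [op_comp, F.obj.map_comp, ConcreteCategory.comp_apply]
      exact he
    choose W k m hk hm using hloc
    refine GrothendieckTopology.superset_covering _ (S := Sieve.ofArrows W k) ?_ ?_
    · intro T q hq
      obtain ⟨T', a, b, ⟨y⟩, rfl⟩ := hq
      rw [Sieve.overEquiv_iff]
      refine ⟨m y, (key _ _).trans ?_⟩
      show F.obj.map ((a ≫ k y) ≫ Z.hom).op (η (m y)) = F.obj.map (a ≫ k y).op x
      rw [Category.assoc, op_comp (f := a), op_comp (f := a), F.obj.map_comp, F.obj.map_comp,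
        ConcreteCategory.comp_apply, ConcreteCategory.comp_apply, hm]
    · rw [Scheme.ofArrows_mem_smallEtaleTopology_iff]
      exact Set.eq_univ_of_forall fun y => Set.mem_iUnion.2 ⟨y, hk y⟩⟩
  haveI : Presheaf.IsLocallyInjective (X.smallEtaleTopology.over U) ψ := ⟨fun {Z} m m' e => by
    rw [GrothendieckTopology.mem_over_iff]
    by_cases hm : m = m'
    · subst hm
      convert X.smallEtaleTopology.top_mem Z.unop.left using 1
      ext T q
      simp
    · haveI : IsEmpty Z.unop.left.left := ⟨fun y => hm (by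
        obtain ⟨Ω, _, _, ξ, z, -⟩ := exists_geometric (U := Z.unop.left) y
        apply (hbij Ω ξ (z.map Z.unop.hom)).1
        show germ ξ F U (z.map Z.unop.hom) (η m) = germ ξ F U (z.map Z.unop.hom) (η m')
        rw [← germ_res_apply, ← germ_res_apply]
        exact congrArg (germ ξ F Z.unop.left z) ((key Z.unop m).symm.trans (e.trans (key Z.unop m'))))⟩
      refine GrothendieckTopology.superset_covering _
        (S := Sieve.ofArrows (fun i : PEmpty.{u + 1} => (i.elim : X.Etale)) fun i => i.elim) ?_ ?_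
      · rintro T q ⟨_, _, _, ⟨i⟩, _⟩
        exact i.elim
      · rw [Scheme.ofArrows_mem_smallEtaleTopology_iff]
        exact Set.eq_univ_of_forall fun y => isEmptyElim y⟩
  let P := (Functor.const (Over U)ᵒᵖ).obj M
  haveI : Presheaf.IsLocallySurjective (X.smallEtaleTopology.over U) (cmap F η).hom :=
    Presheaf.isLocallySurjective_of_isLocallySurjective _ (toSheafify (X.smallEtaleTopology.over U) P) (cmap F η).hom
  haveI : Presheaf.IsLocallyInjective (X.smallEtaleTopology.over U) (cmap F η).hom :=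
    Presheaf.isLocallyInjective_of_isLocallyInjective_of_isLocallySurjective_fac _
      (f₁ := toSheafify (X.smallEtaleTopology.over U) P) (f₂ := (cmap F η).hom) (f₃ := ψ) rfl
  exact (Sheaf.isLocallyBijective_iff_isIso (A := A) _).1 ⟨‹_›, ‹_›⟩

theorem exists_isCst_of_iso {F : Sheaf X.smallEtaleTopology A} {M : A}
    (e : F.over U ≅ (constantSheaf (X.smallEtaleTopology.over U) A).obj M) :
    ∃ η : M ⟶ F.obj.obj (op U), IsCst F U η := by
  let η : M ⟶ F.obj.obj (op U) := (adjO (A := A) (U := U)).homEquiv M (F.over U) e.inv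
  refine ⟨η, ?_⟩
  have h : cmap F η = e.inv := ((adjO (A := A) (U := U)).homEquiv M (F.over U)).symm_apply_apply e.inv
  haveI : IsIso (cmap F η) := by rw [h]; infer_instance
  exact isCst_of_isIso

/-- The isomorphism with the constant sheaf. -/
noncomputable def IsCst.iso {F : Sheaf X.smallEtaleTopology A} {M : A} {η : M ⟶ F.obj.obj (op U)} (h : IsCst F U η) :
    F.over U ≅ (constantSheaf (X.smallEtaleTopology.over U) A).obj M :=
  haveI := isIso_cmap h
  (asIso (cmap F η)).symm

end Over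

section Hom

include hfc

theorem exists_hom {F G : Sheaf X.smallEtaleTopology A} (φ : F ⟶ G) {U : X.Etale} {M N : A}
    {η : M ⟶ F.obj.obj (op U)} {θ : N ⟶ G.obj.obj (op U)} (hθ : IsCst G U θ) (hM : FG M) {Ω : Type u}
    [Field Ω] [IsSepClosed Ω] (ξ : Spec (CommRingCat.of Ω) ⟶ X) (u : Fib ξ U) :
    ∃ (V : X.Etale) (g : V ⟶ U) (v : Fib ξ V) (h : M ⟶ N), v.map g = u ∧
      (η ≫ F.obj.map g.op) ≫ φ.hom.app (op V) = h ≫ θ ≫ G.obj.map g.op := by
  obtain ⟨s, hs⟩ := hM
  haveI := hθ Ω ξ u
  let h : M ⟶ N := (η ≫ germ ξ F U u ≫ (stk ξ).map φ) ≫ inv (θ ≫ germ ξ G U u)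
  have hh : h ≫ θ ≫ germ ξ G U u = (η ≫ φ.hom.app (op U)) ≫ germ ξ G U u := by
    simp [h, germ_natural]
  obtain ⟨V, g, v, hv, he⟩ := exists_equalizer G ξ u s (fun x => (η ≫ φ.hom.app (op U)) x) (fun x => (h ≫ θ) x)
    (fun x _ => by
      rw [← ConcreteCategory.comp_apply, ← ConcreteCategory.comp_apply]
      exact (congrArg (fun t : M ⟶ (stk ξ).obj G => t x) ((Category.assoc h θ (germ ξ G U u)).trans hh)).symm)
  refine ⟨V, g, v, h, hv, hs _ _ fun x hx => ?_⟩
  rw [Category.assoc, NatTrans.naturality, ← Category.assoc, ← Category.assoc h, ConcreteCategory.comp_apply,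
    ConcreteCategory.comp_apply (h ≫ θ)]
  exact he x hx

end Hom

section Kernel

variable [Abelian A] [HasSheafify X.smallEtaleTopology A] [AB5OfSize.{u, u} A] [HasProducts.{u} A]

/-- Sections over `U`. -/
noncomputable abbrev secA (U : X.Etale) : Sheaf X.smallEtaleTopology A ⥤ A :=
  sheafToPresheaf X.smallEtaleTopology A ⋙ (evaluation _ A).obj (op U)

theorem isCst_kernel {F G : Sheaf X.smallEtaleTopology A} (φ : F ⟶ G) {V : X.Etale} {M N : A}
    {η : M ⟶ F.obj.obj (op V)} {θ : N ⟶ G.obj.obj (op V)} (hη : IsCst F V η) (hθ : IsCst G V θ)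
    (h : M ⟶ N) (e : η ≫ φ.hom.app (op V) = h ≫ θ) :
    ∃ η' : kernel h ⟶ (kernel φ).obj.obj (op V), IsCst (kernel φ) V η' := by
  have e0 : (kernel.ι h ≫ η) ≫ (secA V).map φ = 0 := by
    show (kernel.ι h ≫ η) ≫ φ.hom.app (op V) = 0
    rw [Category.assoc, e, ← Category.assoc, kernel.condition, zero_comp]
  let η' : kernel h ⟶ (secA V).obj (kernel φ) :=
    kernel.lift _ (kernel.ι h ≫ η) e0 ≫ (PreservesKernel.iso (secA V) φ).inv
  have hη' : η' ≫ (kernel.ι φ).hom.app (op V) = kernel.ι h ≫ η := by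
    show η' ≫ (secA V).map (kernel.ι φ) = _
    rw [Category.assoc, PreservesKernel.iso_inv_ι, kernel.lift_ι]
  clear_value η'
  refine ⟨η', fun Ω _ _ ξ v => ?_⟩
  haveI := hη Ω ξ v
  haveI := hθ Ω ξ v
  have hc : h ≫ θ ≫ germ ξ G V v = (η ≫ germ ξ F V v) ≫ (stk ξ).map φ := by
    rw [Category.assoc, germ_natural, ← Category.assoc, ← Category.assoc, e]
  have : η' ≫ germ ξ (kernel φ) V v =
      kernel.map h ((stk ξ).map φ) (η ≫ germ ξ F V v) (θ ≫ germ ξ G V v) hc ≫
        (PreservesKernel.iso (stk ξ) φ).inv := by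
    rw [← cancel_mono (PreservesKernel.iso (stk ξ) φ).hom]
    apply equalizer.hom_ext
    simp only [Category.assoc, Iso.inv_hom_id_assoc]
    refine Eq.trans ?_ (kernel.lift_ι _ _ _).symm
    rw [PreservesKernel.iso_hom]
    refine (congrArg (fun t => η' ≫ germ ξ (kernel φ) V v ≫ t) (kernelComparison_comp_ι φ (stk ξ))).trans ?_
    rw [germ_natural, reassoc_of% hη']
  rw [this]
  infer_instance

theorem isCst_cokernel {F G : Sheaf X.smallEtaleTopology A} (φ : F ⟶ G) {V : X.Etale} {M N : A}
    {η : M ⟶ F.obj.obj (op V)} {θ : N ⟶ G.obj.obj (op V)} (hη : IsCst F V η) (hθ : IsCst G V θ)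
    (h : M ⟶ N) (e : η ≫ φ.hom.app (op V) = h ≫ θ) :
    ∃ θ' : cokernel h ⟶ (cokernel φ).obj.obj (op V), IsCst (cokernel φ) V θ' := by
  have hz : h ≫ θ ≫ (cokernel.π φ).hom.app (op V) = 0 := by
    rw [← Category.assoc, ← e, Category.assoc]
    have : φ.hom.app (op V) ≫ (cokernel.π φ).hom.app (op V) = 0 := by
      show (secA V).map φ ≫ (secA V).map (cokernel.π φ) = 0
      rw [← Functor.map_comp, cokernel.condition, Functor.map_zero]
    exact (congrArg (η ≫ ·) this).trans comp_zero
  refine ⟨cokernel.desc h (θ ≫ (cokernel.π φ).hom.app (op V)) hz, fun Ω _ _ ξ v => ?_⟩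
  · haveI := hη Ω ξ v
    haveI := hθ Ω ξ v
    have hc : h ≫ θ ≫ germ ξ G V v = (η ≫ germ ξ F V v) ≫ (stk ξ).map φ := by
      rw [Category.assoc, germ_natural, ← Category.assoc, ← Category.assoc, e]
    have : cokernel.desc h (θ ≫ (cokernel.π φ).hom.app (op V)) hz ≫ germ ξ (cokernel φ) V v =
        cokernel.map h ((stk ξ).map φ) (η ≫ germ ξ F V v) (θ ≫ germ ξ G V v) hc ≫
          (PreservesCokernel.iso (stk ξ) φ).inv := by
      apply coequalizer.hom_ext
      simp [germ_natural, PreservesCokernel.iso_inv]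
    rw [this]
    infer_instance

end Kernel

end Groth.Agent.EtShLib
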