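import Groth.Agent.EtShLib.ConsCriterion
import Mathlib.CategoryTheory.Subobject.Basic

/-! Ascending chains of subsheaves of constructible sheaves. -/

set_option autoImplicit false
set_option linter.unusedSectionVars false
set_option linter.style.haveILetI false
set_option backward.isDefEq.respectTransparency false
set_option backward.isDefEq.respectTransparency.types false
set_option synthInstance.maxHeartbeats 400000
set_option maxHeartbeats 1000000

universe u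

open CategoryTheory CategoryTheory.Limits AlgebraicGeometry Opposite Topology TopologicalSpace

namespace Groth.Agent.EtShLib

variable {X : Scheme.{u}}

/-- The image of a stalk map. -/
noncomputable def stkRange {K F : EtCoh.Ab X} (ι : K ⟶ F) {Ω : Type u} [Field Ω] [IsSepClosed Ω]
    (ξ : Spec (CommRingCat.of Ω) ⟶ X) : Set ((stk (A := AddCommGrpCat.{u + 1}) ξ).obj F) :=
  Set.range ((stk (A := AddCommGrpCat.{u + 1}) ξ).map ι)

theorem stkRange_mono {K K' F : EtCoh.Ab X} {ι : K ⟶ F} {ι' : K' ⟶ F} (φ : K ⟶ K') (h : φ ≫ ι' = ι)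
    {Ω : Type u} [Field Ω] [IsSepClosed Ω] (ξ : Spec (CommRingCat.of Ω) ⟶ X) :
    stkRange ι ξ ⊆ stkRange ι' ξ := by
  rintro _ ⟨k, rfl⟩
  refine ⟨(stk (A := AddCommGrpCat.{u + 1}) ξ).map φ k, ?_⟩
  rw [← ConcreteCategory.comp_apply, ← Functor.map_comp, h]

theorem exists_stable_near [IsLocallyNoetherian X] {F : EtCoh.Ab X} (hF : LC (A := AddCommGrpCat.{u + 1}) FinP F)
    (K : ℕ → EtCoh.Ab X) (ι : ∀ n, K n ⟶ F) (φ : ∀ {n m : ℕ}, n ≤ m → (K n ⟶ K m))
    (hφ : ∀ {n m : ℕ} (h : n ≤ m), φ h ≫ ι m = ι n) (x : X) (hx : ∀ y : X, y ⤳ x → y = x) :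
    ∃ (O : X.Opens) (N : ℕ), x ∈ O ∧ ∀ m, N ≤ m → ∀ (Ω : Type u) [Field Ω] [IsSepClosed Ω]
      (ξ : Spec (CommRingCat.of Ω) ⟶ X), ξ.base default ∈ O → stkRange (ι m) ξ ⊆ stkRange (ι N) ξ := by
  classical
  obtain ⟨U, y, M, η, hy, hM, hη⟩ := hF x
  obtain ⟨Ω, _, _, ξ, hξ⟩ := exists_geometric_pt x
  obtain ⟨u, -⟩ := exists_fib ξ U y (hy.trans hξ.symm)
  haveI := hη Ω ξ u
  haveI : Finite M := hM
  haveI : Finite ((stk (A := AddCommGrpCat.{u + 1}) ξ).obj F) :=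
    Finite.of_surjective _ (ConcreteCategory.bijective_of_isIso (η ≫ germ ξ F U u)).2
  haveI : Fintype ((stk (A := AddCommGrpCat.{u + 1}) ξ).obj F) := Fintype.ofFinite _
  have hmono : ∀ {n m : ℕ}, n ≤ m → stkRange (ι n) ξ ⊆ stkRange (ι m) ξ := fun h => stkRange_mono (φ h) (hφ h) ξ
  let lev : ((stk (A := AddCommGrpCat.{u + 1}) ξ).obj F) → ℕ := fun p =>
    if h : ∃ n, p ∈ stkRange (ι n) ξ then h.choose else 0
  let N := Finset.univ.sup lev
  have hN : ∀ n, stkRange (ι n) ξ ⊆ stkRange (ι N) ξ := fun n p hp => by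
    have h : ∃ n, p ∈ stkRange (ι n) ξ := ⟨n, hp⟩
    have h2 : lev p ≤ N := Finset.le_sup (f := lev) (Finset.mem_univ p)
    have h3 : lev p = h.choose := dif_pos h
    exact hmono (h3 ▸ h2) h.choose_spec
  let s : Finset ((stk (A := AddCommGrpCat.{u + 1}) ξ).obj F) := Finset.univ.filter fun p => p ∈ stkRange (ι N) ξ
  have hlift : ∀ p : s, ∃ k, (stk (A := AddCommGrpCat.{u + 1}) ξ).map (ι N) k = p.1 := fun p =>
    (Finset.mem_filter.1 p.2).2
  choose k hk using hlift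
  obtain ⟨V, g, v, t, hv, ht⟩ := exists_germs (A := AddCommGrpCat.{u + 1}) ξ U u k
  choose a ha using fun p : s => (ConcreteCategory.bijective_of_isIso (η ≫ germ ξ F U u)).2 p.1
  obtain ⟨V₁, g₁, v₁, hv₁, he⟩ := exists_equalizer (A := AddCommGrpCat.{u + 1}) F ξ v Finset.univ
    (fun p : s => (ι N).hom.app (op V) (t p)) (fun p => F.obj.map g.op (η (a p))) (fun p _ => by
      rw [← germ_natural_apply, ht, germ_res_apply, hv, hk]
      exact (ha p).symm)
  obtain ⟨V₂, j, v₂, hv₂, hq⟩ := exists_specializing_closure ξ V₁ v₁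
  obtain ⟨W, hWo, hxW, hWs⟩ : ∃ W : Set X, IsOpen W ∧ x ∈ W ∧ ∀ z ∈ W, x ⤳ z := by
    obtain ⟨A₀, hA, hxA, -⟩ := exists_isAffineOpen_mem_and_subset (X := X) (x := x) (U := ⊤) trivial
    haveI : IsAffine A₀.toScheme := hA
    haveI : IsLocallyNoetherian A₀.toScheme := LocallyOfFiniteType.isLocallyNoetherian A₀.ι
    haveI : IsNoetherian A₀.toScheme := {}
    haveI : NoetherianSpace A₀.toScheme := inferInstance
    obtain ⟨O, hO, hxO, hOs⟩ := exists_nhds_specializes (X := A₀.toScheme) (v := (⟨x, hxA⟩ : A₀.toScheme)) fun w hw =>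
      Subtype.ext (hx _ ((subtype_specializes_iff _ _).1 hw))
    exact ⟨Subtype.val '' O, A₀.isOpen.isOpenMap_subtype_val O hO, ⟨_, hxO, rfl⟩,
      fun z ⟨o, ho, hoz⟩ => hoz ▸ (subtype_specializes_iff _ _).1 (hOs o ho)⟩
  refine ⟨⟨W ∩ Set.range V₂.hom.base, hWo.inter (isOpen_range_etale V₂)⟩, N,
    ⟨hxW, v₂.pt, (congrArg (fun t : Spec (CommRingCat.of Ω) ⟶ X => t.base default) v₂.w).trans hξ⟩,
    fun m _ Ω' _ _ ζ hζ p hp => ?_⟩
  obtain ⟨z⟩ := exists_fib_of_range ζ (U := V₂) hζ.2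
  let G := (j ≫ g₁) ≫ g
  have hG₂ : v₂.map G = u := by
    show (pt ξ).fiber.map ((j ≫ g₁) ≫ g) v₂ = u
    rw [Functor.map_comp_apply, Functor.map_comp_apply]
    exact (congrArg (fun q => Fib.map g (Fib.map g₁ q)) hv₂).trans ((congrArg (Fib.map g) hv₁).trans hv)
  obtain ⟨q₀, rfl⟩ := hp
  obtain ⟨Y, f, w, r, hw, rfl⟩ := exists_germ_below (A := AddCommGrpCat.{u + 1}) ζ q₀ V₂ z
  haveI := hη Ω' ζ (z.map G)
  obtain ⟨b, hb⟩ := (ConcreteCategory.bijective_of_isIso (η ≫ germ ζ F U (z.map G))).2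
    ((stk (A := AddCommGrpCat.{u + 1}) ζ).map (ι m) (germ ζ (K m) Y w r))
  have hb' : germ ζ F Y w (F.obj.map (f ≫ G).op (η b)) = germ ζ F Y w ((ι m).hom.app (op Y) r) := by
    rw [germ_res_apply, ← germ_natural_apply, show w.map (f ≫ G) = (w.map f).map G from
      Functor.map_comp_apply (pt ζ).fiber f G w, hw]
    exact hb
  obtain ⟨Y', f', w', hw', he'⟩ := (germ_eq_iff ζ Y w _ _).1 hb'
  obtain ⟨q, hq'⟩ := hq Y' (f' ≫ f) w'.pt (by
    rw [show Y'.hom.base w'.pt = ζ.base default from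
      congrArg (fun t : Spec (CommRingCat.of Ω') ⟶ X => t.base default) w'.w, hξ]
    exact hWs _ hζ.1)
  let p₀ := (η ≫ germ ξ F U u) b
  have hp₀ : p₀ ∈ stkRange (ι N) ξ := hN m ⟨germ ξ (K m) Y' q ((K m).obj.map f'.op r), by
    rw [germ_natural_apply, NatTrans.naturality_apply, ← he', germ_res_apply, germ_res_apply]
    refine congrArg (fun w => germ ξ F U w (η b)) ?_
    show (pt ξ).fiber.map (f ≫ G) ((pt ξ).fiber.map f' q) = u
    rw [← Functor.map_comp_apply, ← Category.assoc, Functor.map_comp_apply]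
    exact (congrArg (Fib.map G) hq').trans hG₂⟩
  let P : s := ⟨p₀, Finset.mem_filter.2 ⟨Finset.mem_univ _, hp₀⟩⟩
  refine ⟨germ ζ (K N) V₂ z ((K N).obj.map (j ≫ g₁).op (t P)), ?_⟩
  have hab : a P = b := (ConcreteCategory.bijective_of_isIso (η ≫ germ ξ F U u)).1 (ha P)
  rw [germ_natural_apply, NatTrans.naturality_apply, op_comp, Functor.map_comp, ConcreteCategory.comp_apply,
    he P (Finset.mem_univ P), hab]
  rw [germ_res_apply, germ_res_apply, germ_res_apply, ← hb]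
  refine congrArg (fun w => germ ζ F U w (η b)) ?_
  show _ = (pt ζ).fiber.map ((j ≫ g₁) ≫ g) z
  rw [Functor.map_comp_apply, Functor.map_comp_apply]

theorem stkRange_pull {K F : EtCoh.Ab X} (ι : K ⟶ F) {T : Scheme.{u}} (g : T ⟶ X) {Ω : Type u} [Field Ω]
    [IsSepClosed Ω] (ζ : Spec (CommRingCat.of Ω) ⟶ T) :
    stkRange ((pullA g AddCommGrpCat.{u + 1}).map ι) ζ =
      (stalkPull g ζ AddCommGrpCat.{u + 1}).hom.app F '' stkRange ι (ζ ≫ g) := by
  have hn := (stalkPull g ζ AddCommGrpCat.{u + 1}).hom.naturality ι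
  ext p
  constructor
  · rintro ⟨q, rfl⟩
    obtain ⟨q', rfl⟩ := (ConcreteCategory.bijective_of_isIso ((stalkPull g ζ AddCommGrpCat.{u + 1}).hom.app K)).2 q
    exact ⟨_, ⟨q', rfl⟩, congrArg (fun t : (stk (A := AddCommGrpCat.{u + 1}) (ζ ≫ g)).obj K ⟶
      (pullA g AddCommGrpCat.{u + 1} ⋙ stk (A := AddCommGrpCat.{u + 1}) ζ).obj F => t q') hn⟩
  · rintro ⟨_, ⟨q', rfl⟩, rfl⟩
    exact ⟨(stalkPull g ζ AddCommGrpCat.{u + 1}).hom.app K q', (congrArg (fun t : (stk (A := AddCommGrpCat.{u + 1}) (ζ ≫ g)).obj K ⟶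
      (pullA g AddCommGrpCat.{u + 1} ⋙ stk (A := AddCommGrpCat.{u + 1}) ζ).obj F => t q') hn).symm⟩

theorem exists_stable [IsNoetherian X] {F : EtCoh.Ab X} (hF : IsCons (A := AddCommGrpCat.{u + 1}) FinP F)
    (K : ℕ → EtCoh.Ab X) (ι : ∀ n, K n ⟶ F) (φ : ∀ {n m : ℕ}, n ≤ m → (K n ⟶ K m))
    (hφ : ∀ {n m : ℕ} (h : n ≤ m), φ h ≫ ι m = ι n) (Z : Closeds X) :
    ∃ N, ∀ m, N ≤ m → ∀ (Ω : Type u) [Field Ω] [IsSepClosed Ω] (ξ : Spec (CommRingCat.of Ω) ⟶ X),
      ξ.base default ∈ (Z : Set X) → stkRange (ι m) ξ ⊆ stkRange (ι N) ξ := by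
  induction Z using WellFoundedLT.induction with
  | ind Z ih =>
    by_cases hne : (Z : Set X).Nonempty
    · obtain ⟨a, ha⟩ := hne
      haveI : QuasiSober (Z : Set X) := Z.isClosed.isClosedEmbedding_subtypeVal.quasiSober
      haveI : NoetherianSpace (Z : Set X) := IsEmbedding.subtypeVal.isInducing.noetherianSpace
      obtain ⟨x, -, hx⟩ := exists_maximal_generization (⟨a, ha⟩ : (Z : Set X))
      obtain ⟨V, T, g, hg, hxV, hr, hl⟩ := exists_closure_lc hF x.1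
      haveI := hg
      haveI : IsLocallyNoetherian T := LocallyOfFiniteType.isLocallyNoetherian g
      obtain ⟨t, ht⟩ : x.1 ∈ Set.range g.base := hr ▸ ⟨hxV, subset_closure rfl⟩
      have hT : ∀ b : T, g.base b ∈ (V : Set X) ∩ closure {x.1} := fun b => hr ▸ ⟨b, rfl⟩
      have htmax : ∀ b : T, b ⤳ t → b = t := fun b hb => g.isEmbedding.injective <|
        ((ht ▸ hb.map g.continuous).antisymm (specializes_iff_mem_closure.2 (hT b).2)).eq.trans ht.symm
      obtain ⟨O, N₀, htO, hN₀⟩ := exists_stable_near hl (fun n => (pullA g AddCommGrpCat.{u + 1}).obj (K n))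
        (fun n => (pullA g AddCommGrpCat.{u + 1}).map (ι n)) (fun h => (pullA g AddCommGrpCat.{u + 1}).map (φ h))
        (fun h => by rw [← Functor.map_comp, hφ h]) t htmax
      obtain ⟨W, hW, hgW⟩ := g.isEmbedding.isOpen_iff.1 O.isOpen
      obtain ⟨O₁, hO₁, hxO₁, hOs⟩ : ∃ O₁ : Set X, IsOpen O₁ ∧ x.1 ∈ O₁ ∧ ∀ b ∈ (Z : Set X) ∩ O₁, x.1 ⤳ b := by
        obtain ⟨O', hO', hxO', hs⟩ := exists_nhds_specializes hx
        obtain ⟨O₁, hO₁, rfl⟩ := isOpen_induced_iff.1 hO'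
        exact ⟨O₁, hO₁, hxO', fun b hb => (subtype_specializes_iff _ _).1 (hs ⟨b, hb.1⟩ hb.2)⟩
      let Z₁ : Closeds X := ⟨(Z : Set X) ∩ (O₁ ∩ V ∩ W)ᶜ,
        Z.isClosed.inter ((hO₁.inter V.isOpen).inter hW).isClosed_compl⟩
      have hlt : Z₁ < Z := lt_of_le_of_ne (fun b hb => hb.1) fun e => by
        have : x.1 ∈ (Z₁ : Set X) := by rw [e]; exact x.2
        refine this.2 ⟨⟨hxO₁, hxV⟩, ?_⟩
        rw [← ht]
        exact (hgW ▸ htO : t ∈ g.base ⁻¹' W)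
      obtain ⟨N₁, hN₁⟩ := ih Z₁ hlt
      refine ⟨max N₀ N₁, fun m hm Ω _ _ ξ hξ => ?_⟩
      by_cases hξ' : ξ.base default ∈ O₁ ∩ V ∩ W
      · have hmem : ξ.base default ∈ Set.range g.base :=
          hr ▸ ⟨hξ'.1.2, specializes_iff_mem_closure.1 (hOs _ ⟨hξ, hξ'.1.1⟩)⟩
        obtain ⟨ζ, rfl⟩ := exists_factor g ξ hmem
        have := hN₀ m ((le_max_left _ _).trans hm) Ω ζ (hgW ▸ hξ'.2 : ζ.base default ∈ (O : Set T))
        rw [stkRange_pull, stkRange_pull,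
          Set.image_subset_image_iff (ConcreteCategory.bijective_of_isIso ((stalkPull g ζ AddCommGrpCat.{u + 1}).hom.app F)).1] at this
        exact this.trans (stkRange_mono (φ (le_max_left _ _)) (hφ _) _)
      · exact (hN₁ m ((le_max_right _ _).trans hm) Ω ξ ⟨hξ, hξ'⟩).trans
          (stkRange_mono (φ (le_max_right _ _)) (hφ _) _)
    · exact ⟨0, fun m _ Ω _ _ ξ h => absurd ⟨_, h⟩ hne⟩

theorem subobject_stationary [IsNoetherian X] {F : EtCoh.Ab X} (hF : IsCons (A := AddCommGrpCat.{u + 1}) FinP F)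
    (c : ℕ →o Subobject F) : ∃ N, ∀ m, N ≤ m → c m = c N := by
  obtain ⟨N, hN⟩ := exists_stable hF (fun n => (c n : EtCoh.Ab X)) (fun n => (c n).arrow)
    (fun h => Subobject.ofLE _ _ (c.monotone h)) (fun h => Subobject.ofLE_arrow _) ⊤
  refine ⟨N, fun m hm => (le_antisymm (c.monotone hm) ?_).symm⟩
  let i := Subobject.ofLE _ _ (c.monotone hm)
  haveI : IsIso i := isIso_of_stalks (A := AddCommGrpCat.{u + 1}) i fun Ω _ _ ξ => by
    haveI : Mono ((stk (A := AddCommGrpCat.{u + 1}) ξ).map i) := inferInstance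
    rw [← isIso_iff_of_reflects_iso _ (forget AddCommGrpCat.{u + 1}), isIso_iff_bijective]
    refine ⟨(AddCommGrpCat.mono_iff_injective _).1 inferInstance, fun q => ?_⟩
    obtain ⟨q', hq'⟩ := hN m hm Ω ξ trivial ⟨q, rfl⟩
    refine ⟨q', ?_⟩
    haveI : Mono ((stk (A := AddCommGrpCat.{u + 1}) ξ).map (c m).arrow) := inferInstance
    apply (AddCommGrpCat.mono_iff_injective _).1 ‹Mono ((stk (A := AddCommGrpCat.{u + 1}) ξ).map (c m).arrow)›
    rw [← hq']
    show (stk (A := AddCommGrpCat.{u + 1}) ξ).map (c m).arrow ((stk (A := AddCommGrpCat.{u + 1}) ξ).map i q') = _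
    rw [← ConcreteCategory.comp_apply, ← Functor.map_comp, Subobject.ofLE_arrow]
  exact Subobject.le_of_comm (inv i) (by rw [IsIso.inv_comp_eq, Subobject.ofLE_arrow])

end Groth.Agent.EtShLib
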