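import Groth.Agent.EtShLib.AdicCover
import Groth.Agent.EpsLib.PushMod
import Groth.Agent.EpsLib.AdicLim

/-! Adic pro-étale sheaves with constructible members. -/

set_option autoImplicit false
set_option linter.unusedSectionVars false
set_option linter.style.haveILetI false
set_option backward.isDefEq.respectTransparency false
set_option synthInstance.maxHeartbeats 400000
set_option maxHeartbeats 1000000

universe u

open CategoryTheory CategoryTheory.Limits AlgebraicGeometry Opposite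

namespace Groth.Agent.EtShLib

open Groth.Agent.EpsLib in
theorem nonempty_epsPull_pull {Λ : Type (u + 1)} [CommRing Λ] {T X : Scheme.{u}} (g : T ⟶ X) [ProEtS.PCont g]
    [ProEtS.EpsCont T] [ProEtS.EpsCont X] (E : EtModW.Mod Λ X) :
    Nonempty ((EtModW.epsPullMod Λ T).obj ((EtModW.pull Λ g).obj E) ≅
      ((ProEtS.bcP g).sheafPullback (ModuleCat.{u + 1} Λ) (Scheme.ProEt.topology X) (Scheme.ProEt.topology T)).obj
        ((EtModW.epsPullMod Λ X).obj E)) :=
  ⟨((Adjunction.leftAdjointUniq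
    ((((EtCoh.bc g).sheafAdjunctionContinuous (ModuleCat.{u + 1} Λ) X.smallEtaleTopology T.smallEtaleTopology).comp
      (epsAdjMod Λ T)).ofNatIsoRight (pushEpsIsoMod Λ g))
    ((epsAdjMod Λ X).comp ((ProEtS.bcP g).sheafAdjunctionContinuous (ModuleCat.{u + 1} Λ)
      (Scheme.ProEt.topology X) (Scheme.ProEt.topology T)))).app E)⟩

theorem isQuot_tr_of_tower {C : Type*} [Category C] {Λ : Type*} [CommRing Λ] [Preadditive C] [Linear Λ C]
    {J J' : Ideal Λ} (hJ : J' ≤ J) {F A B : C} {p : F ⟶ A} {q : F ⟶ B} {t : A ⟶ B} (ht : p ≫ t = q)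
    (hp : ARSys.IsQuot J' p) (hq : ARSys.IsQuot J q) : ARSys.IsQuot J t := by
  have hepi : ∀ {Z : C} (g h : A ⟶ Z), p ≫ g = p ≫ h → g = h := fun {Z} g h e => by
    obtain ⟨ψ, -, hu⟩ := hp.2 Z (p ≫ g) fun a ha => by
      rw [← Linear.smul_comp, ← Category.comp_id p, ← Linear.comp_smul, hp.1 a ha, comp_zero, zero_comp]
    exact (hu g rfl).trans (hu h e.symm).symm
  refine ⟨hq.1, fun Y φ hφ => ?_⟩
  obtain ⟨ψ, hψ, hu⟩ := hq.2 Y (p ≫ φ) fun a ha => by rw [← Linear.comp_smul, hφ a ha, comp_zero]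
  refine ⟨ψ, hepi _ _ (by rw [← Category.assoc, ht, hψ]), fun ψ' hψ' => hu ψ' ?_⟩
  show q ≫ ψ' = p ≫ φ
  rw [← ht, Category.assoc, hψ']

variable {Λ : Type (u + 1)} [CommRing Λ] {I : Ideal Λ} {X : Scheme.{u}} [ProEtS.EpsCont X]

theorem exists_adic_of_tower {F : EtModW.ModP Λ X} (Q : ℕᵒᵖ ⥤ EtModW.ModP Λ X) (p : (Functor.const ℕᵒᵖ).obj F ⟶ Q)
    (hQ : ∀ n : ℕ, ARSys.IsQuot (I ^ (n + 1)) (p.app (op n)))
    (hc : ∀ n : ℕ, ∃ E : EtModW.Mod Λ X, EtModW.IsConstructible Λ E ∧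
      Nonempty ((EtModW.epsPullMod Λ X).obj E ≅ Q.obj (op n))) :
    ∃ G : ARSys.PS (EtModW.Mod Λ X), ARSys.IsAdic I G ∧ (∀ n, EtModW.IsConstructible Λ (G.obj (op n))) ∧
      ∀ n, Nonempty ((EtModW.epsPullMod Λ X).obj (G.obj (op n)) ≅ Q.obj (op n)) := by
  obtain ⟨_, _⟩ := Groth.Agent.EpsLib.epsPullMod_fullyFaithful (Λ := Λ) (X := X)
  choose E hE e using hc
  let e' : ∀ n, (EtModW.epsPullMod Λ X).obj (E n) ≅ Q.obj (op n) := fun n => (e n).some
  let G : ARSys.PS (EtModW.Mod Λ X) :=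
    { obj := fun n => E n.unop
      map := fun {n m} a => (EtModW.epsPullMod Λ X).preimage ((e' n.unop).hom ≫ Q.map a ≫ (e' m.unop).inv)
      map_id := fun n => (EtModW.epsPullMod Λ X).map_injective (by simp)
      map_comp := fun a b => (EtModW.epsPullMod Λ X).map_injective (by simp) }
  have hk : ∀ n, ARSys.KilledBy (I ^ (n + 1)) (E n) := fun n =>
    Groth.Agent.EpsLib.killedBy_of_epsPullMod fun c hc => by
      rw [← cancel_mono (e' n).hom, zero_comp, Linear.smul_comp, Category.id_comp,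
        ← Category.comp_id (e' n).hom, ← Linear.comp_smul, (hQ n).1 c hc, comp_zero]
  refine ⟨G, ⟨hk, fun n m h => ?_⟩, hE, fun n => e n⟩
  refine Groth.Agent.EpsLib.isQuot_of_map _ (hk n) ?_
  have h1 : ARSys.IsQuot (I ^ (n + 1)) (ARSys.tr Q h) := by
    refine isQuot_tr_of_tower (Ideal.pow_le_pow_right (Nat.succ_le_succ h)) ?_ (hQ m) (hQ n)
    simpa using (p.naturality (homOfLE h).op).symm
  show ARSys.IsQuot _ ((EtModW.epsPullMod Λ X).map ((EtModW.epsPullMod Λ X).preimage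
    ((e' m).hom ≫ ARSys.tr Q h ≫ (e' n).inv)))
  rw [Functor.map_preimage]
  refine ⟨Groth.Agent.EpsLib.killedBy_epsPullMod (hk n), fun Y φ hφ => ?_⟩
  obtain ⟨ψ, hψ, hu⟩ := h1.2 Y ((e' m).inv ≫ φ) fun a ha => by rw [← Linear.comp_smul, hφ a ha, comp_zero]
  refine ⟨(e' n).hom ≫ ψ, by simp [hψ], fun ψ' hψ' => ?_⟩
  rw [← hu ((e' n).inv ≫ ψ') (by simp [← hψ'])]
  simp

end Groth.Agent.EtShLib
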