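import Groth.Agent.EtShLib.LocExt
import Groth.Prelude.Def_EtMod2
import Groth.Prelude.Def_ARSys
import Mathlib.CategoryTheory.Linear.FunctorCategory

/-! Stalks of adic systems of sheaves of modules. -/

set_option autoImplicit false
set_option linter.unusedSectionVars false
set_option linter.style.haveILetI false
set_option backward.isDefEq.respectTransparency false
set_option backward.isDefEq.respectTransparency.types false
set_option synthInstance.maxHeartbeats 400000
set_option maxHeartbeats 1000000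

universe u

open CategoryTheory CategoryTheory.Limits AlgebraicGeometry Opposite

namespace Groth.Agent.EtShLib

variable {Λ : Type (u + 1)} [CommRing Λ] {X : Scheme.{u}}

theorem app_smul {F G : EtModW.Mod Λ X} (c : Λ) (φ : F ⟶ G) (U : X.Etale) (x : F.obj.obj (op U)) :
    (c • φ).hom.app (op U) x = c • φ.hom.app (op U) x := rfl

theorem stk_map_smul {Ω : Type u} [Field Ω] [IsSepClosed Ω] (ξ : Spec (CommRingCat.of Ω) ⟶ X)
    {F G : EtModW.Mod Λ X} (c : Λ) (φ : F ⟶ G) (m : (stk (A := ModuleCat.{u + 1} Λ) ξ).obj F) :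
    (stk (A := ModuleCat.{u + 1} Λ) ξ).map (c • φ) m = c • (stk (A := ModuleCat.{u + 1} Λ) ξ).map φ m := by
  obtain ⟨U, u, x, rfl⟩ := exists_germ (A := ModuleCat.{u + 1} Λ) ξ m
  rw [germ_natural_apply, germ_natural_apply, app_smul, map_smul]

theorem epi_of_isQuot {C : Type*} [Category C] [Preadditive C] [Linear Λ C] {J : Ideal Λ} {A B : C} {p : A ⟶ B}
    (h : ARSys.IsQuot J p) : Epi p :=
  ⟨fun {Z} g h' e => by
    obtain ⟨ψ, -, hu⟩ := h.2 Z (p ≫ g) fun a ha => by
      rw [← Linear.smul_comp, ← Category.comp_id p, ← Linear.comp_smul, h.1 a ha, comp_zero, zero_comp]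
    exact (hu g rfl).trans (hu h' e.symm).symm⟩

variable {J : Ideal Λ} {A B : EtModW.Mod Λ X} {p : A ⟶ B}
  {Ω : Type u} [Field Ω] [IsSepClosed Ω] (ξ : Spec (CommRingCat.of Ω) ⟶ X)

theorem smul_stalk_eq_zero (h : ARSys.KilledBy J B) {c : Λ} (hc : c ∈ J)
    (m : (stk (A := ModuleCat.{u + 1} Λ) ξ).obj B) : c • m = 0 := by
  have := stk_map_smul ξ c (𝟙 B) m
  rw [h c hc, Functor.map_zero] at this
  simpa using this.symm

theorem smul_sect_eq_zero (h : ARSys.KilledBy J B) {c : Λ} (hc : c ∈ J) (U : X.Etale)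
    (x : B.obj.obj (op U)) : c • x = 0 := by
  have := app_smul c (𝟙 B) U x
  rw [h c hc] at this
  exact this.symm

theorem stalk_surjective (h : ARSys.IsQuot J p) :
    Function.Surjective ((stk (A := ModuleCat.{u + 1} Λ) ξ).map p) := by
  haveI := epi_of_isQuot h
  exact (ModuleCat.epi_iff_surjective _).1
    ((epi_iff_stalks (A := ModuleCat.{u + 1} Λ) p).1 inferInstance Ω ξ)

theorem stalk_ker_le (hJ : J.FG) (h : ARSys.IsQuot J p) (m : (stk (A := ModuleCat.{u + 1} Λ) ξ).obj A)
    (hm : (stk (A := ModuleCat.{u + 1} Λ) ξ).map p m = 0) :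
    m ∈ J • (⊤ : Submodule Λ ((stk (A := ModuleCat.{u + 1} Λ) ξ).obj A)) := by
  obtain ⟨k, a, ha⟩ := Submodule.fg_iff_exists_fin_generating_family.1 hJ
  haveI : HasFiniteBiproducts (EtModW.Mod Λ X) := Abelian.hasFiniteBiproducts
  let Φ : (⨁ fun _ : Fin k => A) ⟶ A := biproduct.desc fun i => a i • 𝟙 A
  have hk : ARSys.HomKilledBy J (cokernel.π Φ) := fun c hc => by
    rw [← ha] at hc
    induction hc using Submodule.span_induction with
    | mem x hx =>
      obtain ⟨i, rfl⟩ := hx
      calc a i • cokernel.π Φ = (biproduct.ι (fun _ : Fin k => A) i ≫ Φ) ≫ cokernel.π Φ := by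
            simp [Φ]
        _ = 0 := by rw [Category.assoc, cokernel.condition, comp_zero]
    | zero => exact zero_smul _ _
    | add x y _ _ hx hy => rw [add_smul, hx, hy, add_zero]
    | smul r x _ hx => rw [smul_assoc, hx, smul_zero]
  obtain ⟨ψ, hψ, -⟩ := h.2 _ _ hk
  have hπ : (stk (A := ModuleCat.{u + 1} Λ) ξ).map (cokernel.π Φ) m = 0 := by
    rw [← hψ, Functor.map_comp, ConcreteCategory.comp_apply, hm, map_zero]
  have hex := (ShortComplex.exact_of_g_is_cokernel (ShortComplex.mk Φ (cokernel.π Φ) (cokernel.condition Φ))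
    (cokernelIsCokernel Φ))
  obtain ⟨v, rfl⟩ := (ShortComplex.moduleCat_exact_iff _).1
    ((exact_iff_stalks (A := ModuleCat.{u + 1} Λ) _).1 hex Ω ξ) m hπ
  have hv : v = ∑ i, (stk (A := ModuleCat.{u + 1} Λ) ξ).map (biproduct.ι (fun _ : Fin k => A) i)
      ((stk (A := ModuleCat.{u + 1} Λ) ξ).map (biproduct.π (fun _ : Fin k => A) i) v) := by
    conv_lhs => rw [← ConcreteCategory.id_apply (X := (stk (A := ModuleCat.{u + 1} Λ) ξ).obj (⨁ fun _ : Fin k => A)) v,
      ← CategoryTheory.Functor.map_id, ← biproduct.total (f := fun _ : Fin k => A), Functor.map_sum]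
    simp [Functor.map_comp]
  show (stk (A := ModuleCat.{u + 1} Λ) ξ).map Φ v ∈ _
  rw [hv, map_sum]
  refine Submodule.sum_mem _ fun i _ => ?_
  rw [← ConcreteCategory.comp_apply, ← Functor.map_comp, biproduct.ι_desc, stk_map_smul, CategoryTheory.Functor.map_id]
  exact Submodule.smul_mem_smul (ha ▸ Submodule.subset_span ⟨i, rfl⟩) trivial

end Groth.Agent.EtShLib
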