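import Groth.Agent.EtShLib.ConsCriterion
import Groth.Agent.EtShLib.Locus
import Mathlib.Data.Finite.Card

/-! Constructibility and the cardinality of stalks. -/

set_option autoImplicit false
set_option linter.unusedSectionVars false
set_option linter.style.haveILetI false
set_option backward.isDefEq.respectTransparency false
set_option backward.isDefEq.respectTransparency.types false
set_option synthInstance.maxHeartbeats 400000
set_option maxHeartbeats 1000000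

universe u

open CategoryTheory CategoryTheory.Limits AlgebraicGeometry Opposite Topology TopologicalSpace

namespace Groth.Agent.EtShLib

variable {X : Scheme.{u}} [IsLocallyNoetherian X]

theorem exists_lc_open_of_card (F : EtCoh.Ab X)
    (hfin : ∀ (Ω : Type u) [Field Ω] [IsSepClosed Ω] (ξ : Spec (CommRingCat.of Ω) ⟶ X),
      Finite ((EtCoh.stalk ξ).obj F)) (x : X) (O : Set X) (hO : IsOpen O) (hxO : x ∈ O) (n : ℕ)
    (hcard : ∀ (Ω : Type u) [Field Ω] [IsSepClosed Ω] (ξ : Spec (CommRingCat.of Ω) ⟶ X),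
      ξ.base default ∈ O → x ⤳ ξ.base default → Nat.card ((EtCoh.stalk ξ).obj F) = n) :
    ∃ (V : X.Opens) (T : Scheme.{u}) (g : T ⟶ X), IsImmersion g ∧ x ∈ V ∧
      Set.range g.base = (V : Set X) ∩ closure {x} ∧ PullLC (A := AddCommGrpCat.{u + 1}) FinP F g := by
  obtain ⟨Ω, _, _, ξ, hξ⟩ := exists_geometric_pt x
  haveI hM : Finite ((stk (A := AddCommGrpCat.{u + 1}) ξ).obj F) := hfin Ω ξ
  haveI : AlgebraicGeometry.Etale (EtCoh.top X).hom := (EtCoh.top X).prop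
  obtain ⟨u₀⟩ := exists_fib_of_range ξ (U := EtCoh.top X) ⟨ξ.base default, rfl⟩
  obtain ⟨V₁, -, v₁, σ, -, hσ⟩ := lifts_Ab (M := (stk (A := AddCommGrpCat.{u + 1}) ξ).obj F) F ξ (EtCoh.top X) u₀ (𝟙 _)
  obtain ⟨V₂, j, v₂, hv₂, hq⟩ := exists_specializing_closure ξ V₁ v₁
  let σ₂ := σ ≫ F.obj.map j.op
  have hinj : ∀ {Ω' : Type u} [Field Ω'] [IsSepClosed Ω'] (ζ : Spec (CommRingCat.of Ω') ⟶ X) (z : Fib ζ V₂),
      x ⤳ ζ.base default → Function.Injective (σ₂ ≫ germ ζ F V₂ z) := by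
    intro Ω' _ _ ζ z hz a b hab
    rw [ConcreteCategory.comp_apply, ConcreteCategory.comp_apply] at hab
    obtain ⟨Y, g, w, -, he⟩ := (germ_eq_iff ζ V₂ z _ _).1 hab
    obtain ⟨q, hqv⟩ := hq Y g w.pt (by
      rw [show Y.hom.base w.pt = ζ.base default from congrArg (fun t : Spec (CommRingCat.of Ω') ⟶ X => t.base default) w.w, hξ]
      exact hz)
    have := congrArg (germ ξ F Y q) he
    have hr : ∀ c, germ ξ F Y q (F.obj.map g.op c) = germ ξ F V₂ v₂ c := fun c => by rw [germ_res_apply, hqv]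
    rw [hr, hr] at this
    replace this : (σ₂ ≫ germ ξ F V₂ v₂) a = (σ₂ ≫ germ ξ F V₂ v₂) b := this
    have e : σ₂ ≫ germ ξ F V₂ v₂ = 𝟙 _ := by
      simp only [σ₂, Category.assoc]
      rw [germ_res, hv₂, hσ]
    rw [e] at this
    simpa using this
  obtain ⟨T₀, g₀, hg₀, -, hr₀⟩ := exists_reduced_immersion (X := X) (E := (Set.range V₂.hom.base ∩ O) ∩ closure {x})
    (((isOpen_range_etale V₂).inter hO).isLocallyClosed.inter isClosed_closure.isLocallyClosed)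
  refine ⟨⟨Set.range V₂.hom.base ∩ O, (isOpen_range_etale V₂).inter hO⟩, T₀, g₀, hg₀,
    ⟨⟨v₂.pt, (congrArg (fun t : Spec (CommRingCat.of Ω) ⟶ X => t.base default) v₂.w).trans hξ⟩, hxO⟩, hr₀, fun t => ?_⟩
  have ht : g₀.base t ∈ (Set.range V₂.hom.base ∩ O) ∩ closure {x} := hr₀ ▸ ⟨t, rfl⟩
  obtain ⟨y, hy⟩ := ht.1.1
  obtain ⟨q, -, hq'⟩ := Scheme.Pullback.exists_preimage_pullback (f := V₂.hom) (g := g₀) y t hy
  refine ⟨(EtCoh.bc g₀).obj V₂, q, _, σ₂ ≫ ((adjA g₀ AddCommGrpCat.{u + 1}).unit.app F).hom.app (op V₂), hq', hM,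
    fun Ω' _ _ ζ' z' => ?_⟩
  let ζ := ζ' ≫ g₀
  let z : Fib ζ V₂ := z'.proj g₀ ζ'
  have hz : x ⤳ ζ.base default :=
    specializes_iff_mem_closure.2 (show g₀.base (ζ'.base default) ∈ closure {x} from
      ((show g₀.base (ζ'.base default) ∈ (Set.range V₂.hom.base ∩ O) ∩ closure {x} from hr₀ ▸ ⟨_, rfl⟩)).2)
  haveI : IsIso (σ₂ ≫ germ ζ F V₂ z) := by
    rw [← isIso_iff_of_reflects_iso _ (forget AddCommGrpCat.{u + 1}), isIso_iff_bijective]
    haveI : Finite ((stk (A := AddCommGrpCat.{u + 1}) ζ).obj F) := hfin Ω' ζ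
    have hc : Nat.card ((stk (A := AddCommGrpCat.{u + 1}) ξ).obj F) =
        Nat.card ((stk (A := AddCommGrpCat.{u + 1}) ζ).obj F) :=
      (hcard Ω ξ (hξ.symm ▸ hxO) (hξ.symm ▸ specializes_rfl)).trans (hcard Ω' ζ
        ((show g₀.base (ζ'.base default) ∈ (Set.range V₂.hom.base ∩ O) ∩ closure {x} from hr₀ ▸ ⟨_, rfl⟩)).1.2 hz).symm
    exact (Nat.bijective_iff_injective_and_card _).2 ⟨hinj ζ z hz, hc⟩
  have e := germ_stalkPull g₀ ζ' AddCommGrpCat.{u + 1} F V₂ z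
  rw [show z.lift g₀ ζ' = z' from Fib.lift_proj g₀ ζ' z'] at e
  rw [Category.assoc, ← e, ← Category.assoc]
  infer_instance

end Groth.Agent.EtShLib
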