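import Groth.Prelude.Def_EtCech
import Groth.Agent.EtShLib.SectColimGen
import Groth.Agent.EtShLib.CechColim
import Mathlib.CategoryTheory.Limits.Constructions.FiniteProductsOfBinaryProducts
import Mathlib.CategoryTheory.Limits.Constructions.Over.Products

/-! Čech cohomology of finite families of quasi-compact quasi-separated objects and filtered colimits. -/

set_option autoImplicit false
set_option linter.unusedSectionVars false
set_option linter.style.haveILetI false
set_option backward.isDefEq.respectTransparency false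
set_option backward.isDefEq.respectTransparency.types false
set_option synthInstance.maxHeartbeats 400000
set_option maxHeartbeats 1000000

universe u

open CategoryTheory CategoryTheory.Limits AlgebraicGeometry Opposite

namespace Groth.Agent.EtShLib

section Homology

variable {I : Type (u + 1)} [SmallCategory I] [IsFiltered I] {G : I ⥤ CochainComplex AddCommGrpCat.{u + 1} ℕ}
  (c : Cocone G)

theorem cycle_lift {K : CochainComplex AddCommGrpCat.{u + 1} ℕ} (n : ℕ) (x : K.X n)
    (h : K.d n (n + 1) x = 0) : ∃ z : K.cycles n, K.iCycles n z = x := by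
  let he : (ShortComplex.mk (K.iCycles n) (K.d n (n + 1)) (K.iCycles_d _ _)).Exact :=
    ShortComplex.exact_of_f_is_kernel _ (K.cyclesIsKernel n (n + 1) (CochainComplex.next ℕ n))
  exact (ShortComplex.ab_exact_iff _).1 he x h

theorem homology_zero_lift {K : CochainComplex AddCommGrpCat.{u + 1} ℕ} (n : ℕ) (z : K.cycles n)
    (h : K.homologyπ n z = 0) : ∃ b : K.X ((ComplexShape.up ℕ).prev n), K.d ((ComplexShape.up ℕ).prev n) n b = K.iCycles n z := by
  let he : (ShortComplex.mk (K.toCycles _ n) (K.homologyπ n) (K.toCycles_comp_homologyπ ((ComplexShape.up ℕ).prev n) n)).Exact :=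
    ShortComplex.exact_of_g_is_cokernel _ (K.homologyIsCokernel ((ComplexShape.up ℕ).prev n) n rfl)
  obtain ⟨b, hb⟩ := (ShortComplex.ab_exact_iff _).1 he z h
  exact ⟨b, (congrArg (fun t : K.X _ ⟶ K.X n => t b) (K.toCycles_i _ n)).symm.trans
    ((ConcreteCategory.comp_apply (K.toCycles _ n) (K.iCycles n) b).trans (congrArg (K.iCycles n) hb))⟩

theorem iCycles_injective (K : CochainComplex AddCommGrpCat.{u + 1} ℕ) (n : ℕ) :
    Function.Injective (K.iCycles n) :=
  (AddCommGrpCat.mono_iff_injective _).1 inferInstance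

variable (hs : ∀ (n : ℕ) (x : c.pt.X n), ∃ (i : I) (s : (G.obj i).X n), (c.ι.app i).f n s = x)
  (hz : ∀ (n : ℕ) (i : I) (s : (G.obj i).X n), (c.ι.app i).f n s = 0 →
    ∃ (k : I) (a : i ⟶ k), (G.map a).f n s = 0)

theorem comp_f {i : I} {k : I} (a : i ⟶ k) (n : ℕ) (s : (G.obj i).X n) :
    (c.ι.app k).f n ((G.map a).f n s) = (c.ι.app i).f n s := by
  rw [← ConcreteCategory.comp_apply, ← HomologicalComplex.comp_f, c.w]
  rfl

theorem cyclesMap_apply {K L : CochainComplex AddCommGrpCat.{u + 1} ℕ} (φ : K ⟶ L) (n : ℕ) (z : K.cycles n) :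
    L.iCycles n (HomologicalComplex.cyclesMap φ n z) = φ.f n (K.iCycles n z) := by
  rw [← ConcreteCategory.comp_apply, HomologicalComplex.cyclesMap_i, ConcreteCategory.comp_apply]

theorem homologyMap_apply {K L : CochainComplex AddCommGrpCat.{u + 1} ℕ} (φ : K ⟶ L) (n : ℕ) (z : K.cycles n) :
    HomologicalComplex.homologyMap φ n (K.homologyπ n z) = L.homologyπ n (HomologicalComplex.cyclesMap φ n z) := by
  rw [← ConcreteCategory.comp_apply, HomologicalComplex.homologyπ_naturality, ConcreteCategory.comp_apply]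

theorem d_f {K L : CochainComplex AddCommGrpCat.{u + 1} ℕ} (φ : K ⟶ L) (p q : ℕ) (x : K.X p) :
    φ.f q (K.d p q x) = L.d p q (φ.f p x) := by
  rw [← ConcreteCategory.comp_apply, ← φ.comm, ConcreteCategory.comp_apply]

include hs hz in
theorem isColimit_homology (q : ℕ) :
    Nonempty (IsColimit ((HomologicalComplex.homologyFunctor AddCommGrpCat.{u + 1} (ComplexShape.up ℕ) q).mapCocone c)) := by
  haveI : ReflectsColimitsOfShape I (forget AddCommGrpCat.{u + 1}) := reflectsColimitsOfShape_of_reflectsIsomorphisms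
  refine ⟨isColimitOfReflects (forget AddCommGrpCat.{u + 1})
    (Types.FilteredColimit.isColimitOf' _ _ (fun x => ?_) fun i x y h => ?_)⟩
  · obtain ⟨z, rfl⟩ := (AddCommGrpCat.epi_iff_surjective (c.pt.homologyπ q)).1 inferInstance x
    obtain ⟨i, s, hsz⟩ := hs q (c.pt.iCycles q z)
    obtain ⟨k, a, ha⟩ := hz (q + 1) i ((G.obj i).d q (q + 1) s) (by
      refine (d_f (c.ι.app i) q (q + 1) s).trans ?_
      show c.pt.d q (q + 1) _ = 0
      rw [hsz, ← ConcreteCategory.comp_apply, c.pt.iCycles_d]; rfl)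
    obtain ⟨z', hz'⟩ := cycle_lift q ((G.map a).f q s) (by rw [← d_f, ha])
    refine ⟨k, (G.obj k).homologyπ q z', ?_⟩
    refine Eq.trans ?_ (homologyMap_apply (c.ι.app k) q z').symm
    refine congrArg (c.pt.homologyπ q) (iCycles_injective _ _ ?_)
    exact ((cyclesMap_apply (c.ι.app k) q z').trans (by rw [hz', comp_f, hsz])).symm
  · obtain ⟨z, hzx⟩ := (AddCommGrpCat.epi_iff_surjective ((G.obj i).homologyπ q)).1 inferInstance x
    obtain ⟨w, hwy⟩ := (AddCommGrpCat.epi_iff_surjective ((G.obj i).homologyπ q)).1 inferInstance y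
    obtain ⟨b, hb⟩ := homology_zero_lift q (HomologicalComplex.cyclesMap (c.ι.app i) q (z - w)) (by
      rw [← homologyMap_apply, map_sub, hzx, hwy, map_sub]
      exact sub_eq_zero.2 h)
    obtain ⟨j, b', hb'⟩ := hs _ b
    obtain ⟨k, f, g, -⟩ := IsFilteredOrEmpty.cocone_objs i j
    obtain ⟨l, a, ha⟩ := hz q k ((G.map f).f q ((G.obj i).iCycles q (z - w)) -
      (G.obj k).d _ q ((G.map g).f _ b')) (by
        rw [map_sub, comp_f, d_f, comp_f]
        show _ - c.pt.d _ q _ = 0
        rw [hb']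
        exact sub_eq_zero.2 ((cyclesMap_apply (c.ι.app i) q (z - w)).symm.trans hb.symm))
    refine ⟨l, f ≫ a, ?_⟩
    show HomologicalComplex.homologyMap (G.map (f ≫ a)) q x = HomologicalComplex.homologyMap (G.map (f ≫ a)) q y
    rw [← sub_eq_zero, ← map_sub, ← hzx, ← hwy, ← map_sub, homologyMap_apply]
    have e : HomologicalComplex.cyclesMap (G.map (f ≫ a)) q (z - w) =
        (G.obj l).toCycles _ q ((G.map a).f _ ((G.map g).f ((ComplexShape.up ℕ).prev q) b')) := by
      apply iCycles_injective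
      rw [cyclesMap_apply, ← ConcreteCategory.comp_apply ((G.obj l).toCycles _ q), HomologicalComplex.toCycles_i,
        G.map_comp, HomologicalComplex.comp_f, ConcreteCategory.comp_apply, ← d_f]
      rw [map_sub ((G.map a).f q).hom] at ha
      exact sub_eq_zero.1 ha
    rw [e, ← ConcreteCategory.comp_apply, HomologicalComplex.toCycles_comp_homologyπ]
    rfl

end Homology

variable {X : Scheme.{u}}

theorem pullback_mem_qcqsObj {W' V W : X.Etale} (π : W' ⟶ W) (h : V ⟶ W) (hW' : W' ∈ qcqsObj X)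
    (hV : V ∈ qcqsObj X) (hW : W ∈ qcqsObj X) : pullback π h ∈ qcqsObj X := by
  let G := Scheme.Etale.forget X ⋙ Over.forget X
  let e := PreservesPullback.iso G π h
  haveI : CompactSpace ↥(G.obj W') := hW'.1
  haveI : QuasiSeparatedSpace ↥(G.obj W') := hW'.2
  haveI : QuasiSeparatedSpace ↥(G.obj W) := hW.2
  haveI : CompactSpace ↥(G.obj V) := hV.1
  haveI : QuasiSeparatedSpace ↥(G.obj V) := hV.2
  haveI : CompactSpace ↥(pullback (G.map π) (G.map h)) :=
    QuasiCompact.compactSpace_of_compactSpace (pullback.snd (G.map π) (G.map h))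
  haveI : QuasiSeparatedSpace ↥(pullback (G.map π) (G.map h)) :=
    quasiSeparatedSpace_of_quasiSeparated (pullback.snd (G.map π) (G.map h))
  exact ⟨(e.hom.homeomorph).symm.compactSpace, quasiSeparatedSpace_of_quasiSeparated e.hom⟩

theorem mem_qcqsObj_of_iso {V W : X.Etale} (e : V ≅ W) (h : W ∈ qcqsObj X) : V ∈ qcqsObj X := by
  let G := Scheme.Etale.forget X ⋙ Over.forget X
  let e' := G.mapIso e
  haveI : CompactSpace ↥(G.obj W) := h.1
  haveI : QuasiSeparatedSpace ↥(G.obj W) := h.2
  exact ⟨(e'.hom.homeomorph).symm.compactSpace, quasiSeparatedSpace_of_quasiSeparated e'.hom⟩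

variable {U : X.Etale} [HasFiniteProducts (Over U)] (hU : U ∈ qcqsObj X)

include hU

theorem fan_pt_mem_qcqsObj : ∀ (n : ℕ) (f : Fin n → Over U), (∀ a, (f a).left ∈ qcqsObj X) →
    ∀ (c : Fan f), IsLimit c → c.pt.left ∈ qcqsObj X
  | 0, f, _, c, hc => by
    have hT : IsTerminal (Over.mk (𝟙 U)) := Over.mkIdTerminal
    have hc' : IsTerminal c.pt := IsTerminal.ofUniqueHom (fun Y => hc.lift (Fan.mk Y fun a => a.elim0)) fun Y m =>
      hc.uniq (Fan.mk Y fun a => a.elim0) m fun ⟨a⟩ => a.elim0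
    exact mem_qcqsObj_of_iso ((Over.forget U).mapIso (hc'.uniqueUpToIso hT)) hU
  | n + 1, f, hf, c, hc => by
    let g : Fin n → Over U := fun i => f i.succ
    have h1 := fan_pt_mem_qcqsObj n g (fun a => hf a.succ) _ (limit.isLimit (Discrete.functor g))
    let c₂ : BinaryFan (f 0) (limit (Discrete.functor g)) := BinaryFan.mk prod.fst prod.snd
    have hc₂ : IsLimit c₂ := prodIsProd _ _
    let e := hc.conePointUniqueUpToIso (extendFanIsLimit f (limit.isLimit (Discrete.functor g)) hc₂)
    refine mem_qcqsObj_of_iso ((Over.forget U).mapIso e) ?_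
    exact mem_qcqsObj_of_iso (Over.prodLeftIsoPullback (f 0) (limit (Discrete.functor g)))
      (pullback_mem_qcqsObj _ _ (hf 0) h1 hU)

theorem preservesColimits_cechH {ι : Type (u + 1)} [Finite ι] (Uf : ι → Over U)
    (hUf : ∀ i, (Uf i).left ∈ qcqsObj X) (q : ℕ) (I : Type (u + 1)) [SmallCategory I] [IsFiltered I] :
    PreservesColimitsOfShape I
      (sheafToPresheaf X.smallEtaleTopology AddCommGrpCat.{u + 1} ⋙ EtCech.cechHFunctor Uf q) := by
  classical
  let Φ : EtCoh.Ab X ⥤ CochainComplex AddCommGrpCat.{u + 1} ℕ :=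
    sheafToPresheaf X.smallEtaleTopology AddCommGrpCat.{u + 1} ⋙
      (Functor.whiskeringLeft (Over U)ᵒᵖ X.Etaleᵒᵖ AddCommGrpCat.{u + 1}).obj (Over.forget U).op ⋙
        cechComplexFunctor Uf
  refine ⟨fun {D} => preservesColimit_of_preserves_colimit_cocone (colimit.isColimit D) ?_⟩
  let c := Φ.mapCocone (colimit.cocone D)
  let Idx := fun n : ℕ => Fin (n + 1) → ι
  let W : ∀ n : ℕ, Idx n → X.Etale := fun n i => (∏ᶜ (Uf ∘ i)).left
  have hW : ∀ n i, W n i ∈ qcqsObj X := fun n i =>
    fan_pt_mem_qcqsObj hU (n + 1) (Uf ∘ i) (fun a => hUf (i a)) _ (limit.isLimit _)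
  haveI : ∀ n i, CompactSpace (W n i).left := fun n i => (hW n i).1
  haveI : ∀ n i, QuasiSeparatedSpace (W n i).left := fun n i => (hW n i).2
  let P : ∀ (n : ℕ) (F : EtCoh.Ab X) (i : Idx n), (Φ.obj F).X n ⟶ F.obj.obj (op (W n i)) := fun n F i =>
    Pi.π (fun i : Idx n => F.obj.obj (op (W n i))) i
  have hP : ∀ (n : ℕ) {F F' : EtCoh.Ab X} (φ : F ⟶ F') (i : Idx n) (x : (Φ.obj F).X n),
      P n F' i ((Φ.map φ).f n x) = φ.hom.app (op (W n i)) (P n F i x) := by
    intro n F F' φ i x
    have e : (Φ.map φ).f n ≫ P n F' i = P n F i ≫ φ.hom.app (op (W n i)) :=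
      Limits.Pi.map_π (fun i : Idx n => φ.hom.app (op (W n i))) i
    exact (ConcreteCategory.comp_apply ((Φ.map φ).f n) (P n F' i) x).symm.trans
      ((congrArg (fun t : (Φ.obj F).X n ⟶ F'.obj.obj (op (W n i)) => t x) e).trans
        (ConcreteCategory.comp_apply (P n F i) (φ.hom.app (op (W n i))) x))
  have hext : ∀ (n : ℕ) (F : EtCoh.Ab X) (x y : (Φ.obj F).X n), (∀ i, P n F i x = P n F i y) → x = y :=
    fun n F x y h => Concrete.limit_ext (Discrete.functor fun i : Idx n => F.obj.obj (op (W n i))) x y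
      (fun ⟨i⟩ => h i)
  have hmk : ∀ (n : ℕ) (F : EtCoh.Ab X) (v : ∀ i, F.obj.obj (op (W n i))),
      ∃ x : (Φ.obj F).X n, ∀ i, P n F i x = v i := fun n F v => by
    let fam := fun i : Idx n => F.obj.obj (op (W n i))
    let x : (∏ᶜ fam : AddCommGrpCat.{u + 1}) :=
      Pi.lift (fun i => AddCommGrpCat.ofHom ((zmultiplesHom _ (v i)).comp (AddEquiv.ulift : ULift.{u + 1} ℤ ≃+ ℤ).toAddMonoidHom))
        (ULift.up (1 : ℤ))
    refine ⟨x, fun i => ?_⟩
    show Pi.π fam i x = v i
    rw [← ConcreteCategory.comp_apply, Pi.lift_π]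
    show (1 : ℤ) • v i = v i
    rw [one_zsmul]
  refine (isColimit_homology c (fun n x => ?_) (fun n k s h => ?_) q).some
  · have hl : ∀ i, ∃ (j : I) (s : (D.obj j).obj.obj (op (W n i))),
        (colimit.ι D j).hom.app (op (W n i)) s = P n _ i x := fun i =>
      Gen.exists_stage_lift (colimit.isColimit D) (W n i) (P n _ i x)
    choose j s hs using hl
    haveI := Fintype.ofFinite (Idx n)
    obtain ⟨m, hm⟩ := IsFiltered.sup_objs_exists (Finset.univ.image j)
    have hb : ∀ i, Nonempty (j i ⟶ m) := fun i => hm (Finset.mem_image_of_mem j (Finset.mem_univ i))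
    obtain ⟨y, hy⟩ := hmk n (D.obj m) fun i => (D.map (hb i).some).hom.app _ (s i)
    refine ⟨m, y, hext n _ _ _ fun i => (hP n (colimit.ι D m) i y).trans ?_⟩
    rw [hy, ← ConcreteCategory.comp_apply, ← NatTrans.comp_app]
    exact (congrArg (fun t : D.obj (j i) ⟶ colimit D => t.hom.app (op (W n i)) (s i))
      (colimit.w D (hb i).some)).trans (hs i)
  · have hl : ∀ i, ∃ (l : I) (a : k ⟶ l), (D.map a).hom.app (op (W n i)) (P n _ i s) = 0 := fun i => by
      obtain ⟨l, a, ha⟩ := Gen.exists_stage_eq (colimit.isColimit D) (W n i) (P n _ i s) 0 (by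
        rw [map_zero]
        exact (hP n (colimit.ι D k) i s).symm.trans ((congrArg (P n _ i) h).trans (map_zero _)))
      exact ⟨l, a, ha.trans (map_zero _)⟩
    choose l a ha using hl
    haveI := Fintype.ofFinite (Idx n)
    let H : Finset (Σ' (A B : I) (_ : A ∈ insert k (Finset.univ.image l)) (_ : B ∈ insert k (Finset.univ.image l)), A ⟶ B) :=
      Finset.univ.image fun i => ⟨k, l i, by simp, by simp, a i⟩
    obtain ⟨m, T, hT⟩ := IsFiltered.sup_exists _ H
    refine ⟨m, T (X := k) (by simp), hext n _ _ _ fun i => ?_⟩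
    refine (hP n (D.map (T (X := k) (by simp))) i s).trans ?_
    have eT := hT (X := k) (Y := l i) (by simp) (by simp) (f := a i) (Finset.mem_image.2 ⟨i, Finset.mem_univ _, rfl⟩)
    rw [← eT, D.map_comp, map_zero]
    refine (Gen.app_comp (D.map (a i)) (D.map _) (op (W n i)) (P n _ i s)).trans ?_
    rw [ha i, map_zero]

end Groth.Agent.EtShLib
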