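import Groth.Agent.EtShLib.LiftClosed
import Groth.Agent.EtShLib.Stalk
import Groth.Agent.EtShLib.ShriekSupp

/-! Etale neighbourhoods of closed subschemes; loci where sections agree. -/

set_option autoImplicit false
set_option linter.unusedSectionVars false
set_option linter.style.haveILetI false
set_option backward.isDefEq.respectTransparency false
set_option backward.isDefEq.respectTransparency.types false
set_option maxHeartbeats 1000000

universe u

open CategoryTheory CategoryTheory.Limits AlgebraicGeometry Opposite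

namespace Groth.Agent.EtShLib

theorem exists_refinement {X Y : Scheme.{u}} (f : X ⟶ Y) [IsClosedImmersion f] {ι : Type u} (U : ι → X.Etale)
    (hU : EtCoh.Covers U) : ∃ (κ : Type u) (V : κ → Y.Etale), EtCoh.Covers V ∧
      ∀ j, IsEmpty ↥(pullback (V j).hom f) ∨
        ∃ (i : ι) (h : pullback (V j).hom f ⟶ (U i).left), h ≫ (U i).hom = pullback.snd (V j).hom f := by
  suffices h : ∀ y : Y, ∃ (V : Y.Etale), y ∈ Set.range V.hom.base ∧ (IsEmpty ↥(pullback V.hom f) ∨
      ∃ (i : ι) (h : pullback V.hom f ⟶ (U i).left), h ≫ (U i).hom = pullback.snd V.hom f) by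
    choose V hV hV' using h
    exact ⟨Y, V, fun y => ⟨y, hV y⟩, hV'⟩
  intro y
  by_cases hy : y ∈ Set.range f.base
  · obtain ⟨x, rfl⟩ := hy
    obtain ⟨i, w, hw⟩ := hU x
    haveI : AlgebraicGeometry.Etale (U i).hom := (U i).prop
    obtain ⟨W₀, hw₀, U', k, c, hk, hpb⟩ := exists_lift_closed f (U i).hom w
    haveI := hk
    refine ⟨MorphismProperty.Over.mk ⊤ k hk, ⟨c.base ⟨w, hw₀⟩, ?_⟩, Or.inr ⟨i, hpb.isoPullback.inv ≫ W₀.ι, ?_⟩⟩
    · rw [← hw]
      exact congrArg (fun t : (W₀ : Scheme.{u}) ⟶ Y => t.base ⟨w, hw₀⟩) hpb.w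
    · rw [Category.assoc]
      exact hpb.isoPullback_inv_snd
  · let O : Y.Opens := ⟨(Set.range f.base)ᶜ, f.isClosedEmbedding.isClosed_range.isOpen_compl⟩
    refine ⟨MorphismProperty.Over.mk ⊤ O.ι (inferInstance : AlgebraicGeometry.Etale O.ι),
      (Scheme.Opens.range_ι O).ge hy, Or.inl ⟨fun p => ?_⟩⟩
    exact (Scheme.Opens.range_ι O).le ⟨(pullback.fst O.ι f).base p, rfl⟩
      ⟨_, (congrArg (fun t : pullback O.ι f ⟶ Y => t.base p) pullback.condition).symm⟩

theorem isOpen_range_section {P T : Scheme.{u}} (r : P ⟶ T) [AlgebraicGeometry.Etale r] (s : T ⟶ P)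
    (hs : s ≫ r = 𝟙 T) : IsOpen (Set.range s.base) := by
  haveI : AlgebraicGeometry.Etale (s ≫ r) := by rw [hs]; infer_instance
  haveI : AlgebraicGeometry.Etale s := .of_comp s r
  exact s.isOpenMap.isOpen_range

theorem exists_almost_full {Z X : Scheme.{u}} (i : Z ⟶ X) [IsClosedImmersion i] (U U' : X.Etale)
    (h : (EtCoh.bc i).obj U ⟶ (EtCoh.bc i).obj U') :
    ∃ (W : X.Etale) (a : W ⟶ U) (b : W ⟶ U'),
      IsIso ((EtCoh.bc i).map a) ∧ (EtCoh.bc i).map a ≫ h = (EtCoh.bc i).map b := by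
  haveI : AlgebraicGeometry.Etale U.hom := U.prop
  haveI : AlgebraicGeometry.Etale U'.hom := U'.prop
  let q : ((EtCoh.bc i).obj U).left ⟶ U.left := pullback.fst U.hom i
  haveI : IsClosedImmersion q := inferInstanceAs (IsClosedImmersion (pullback.fst U.hom i))
  let q' : ((EtCoh.bc i).obj U').left ⟶ U'.left := pullback.fst U'.hom i
  let pr : pullback U.hom U'.hom ⟶ U.left := pullback.fst U.hom U'.hom
  let pr' : pullback U.hom U'.hom ⟶ U'.left := pullback.snd U.hom U'.hom
  let γ : ((EtCoh.bc i).obj U).left ⟶ pullback U.hom U'.hom := pullback.lift q (h.left ≫ q') (by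
    rw [Category.assoc]
    refine (pullback.condition : q ≫ U.hom = _).trans ?_
    refine Eq.trans ?_ (congrArg (h.left ≫ ·) (pullback.condition : q' ≫ U'.hom = _)).symm
    rw [← Category.assoc]
    exact congrArg (· ≫ i) (MorphismProperty.Over.w h).symm)
  have hγ : γ ≫ pr = q := pullback.lift_fst _ _ _
  let r : pullback pr q ⟶ ((EtCoh.bc i).obj U).left := pullback.snd pr q
  haveI : AlgebraicGeometry.Etale r := MorphismProperty.pullback_snd (P := @AlgebraicGeometry.Etale) _ _ inferInstance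
  let s : ((EtCoh.bc i).obj U).left ⟶ pullback pr q := pullback.lift γ (𝟙 _) (by rw [hγ, Category.id_comp])
  let e : pullback pr q ⟶ pullback U.hom U'.hom := pullback.fst pr q
  haveI : IsClosedImmersion e := inferInstanceAs (IsClosedImmersion (pullback.fst pr q))
  obtain ⟨O, hO, hOs⟩ := e.isClosedEmbedding.isInducing.isOpen_iff.1
    (isOpen_range_section r s (pullback.lift_snd _ _ _))
  let Ω : (pullback U.hom U'.hom).Opens := ⟨O, hO⟩
  let W : X.Etale := MorphismProperty.Over.mk ⊤ (Ω.ι ≫ pr ≫ U.hom)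
    (inferInstance : AlgebraicGeometry.Etale (Ω.ι ≫ pr ≫ U.hom))
  let a : W ⟶ U := MorphismProperty.Over.homMk (Ω.ι ≫ pr) (Category.assoc _ _ _)
  let b : W ⟶ U' := MorphismProperty.Over.homMk (Ω.ι ≫ pr') (by
    rw [Category.assoc]
    exact congrArg (Ω.ι ≫ ·) pullback.condition.symm)
  let P := (EtCoh.bc i).obj W
  let pW : P.left ⟶ W.left := pullback.fst W.hom i
  let A : P.left ⟶ ((EtCoh.bc i).obj U).left := ((EtCoh.bc i).map a).left
  have hA : A ≫ q = pW ≫ Ω.ι ≫ pr := (EtCoh.isPullback_bc_map i a).w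
  let t : P.left ⟶ pullback pr q := pullback.lift (pW ≫ Ω.ι) A (by rw [Category.assoc, hA])
  have hγΩ : Set.range γ.base ⊆ Set.range Ω.ι.base := by
    rintro _ ⟨x, rfl⟩
    rw [Scheme.Opens.range_ι]
    show γ.base x ∈ O
    have hx : s.base x ∈ e.base ⁻¹' O := hOs.ge ⟨x, rfl⟩
    rw [show γ = s ≫ e from (pullback.lift_fst _ _ _).symm]
    exact hx
  haveI : IsOpenImmersion s := by
    haveI : AlgebraicGeometry.Etale (s ≫ r) := by rw [show s ≫ r = 𝟙 _ from pullback.lift_snd _ _ _]; infer_instance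
    haveI : AlgebraicGeometry.Etale s := .of_comp s r
    haveI : IsSplitMono s := ⟨⟨r, pullback.lift_snd _ _ _⟩⟩
    exact IsOpenImmersion.of_flat_of_mono _
  let B : ((EtCoh.bc i).obj U).left ⟶ P.left :=
    pullback.lift (IsOpenImmersion.lift Ω.ι γ hγΩ) (pullback.snd U.hom i) (by
      show _ ≫ Ω.ι ≫ pr ≫ U.hom = _
      rw [IsOpenImmersion.lift_fac_assoc, reassoc_of% hγ]
      exact pullback.condition)
  have hBA : B ≫ A = 𝟙 _ := by
    apply pullback.hom_ext
    · show (B ≫ A) ≫ q = 𝟙 _ ≫ q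
      rw [Category.assoc, hA, Category.id_comp]
      refine ((Category.assoc _ _ _).symm.trans (congrArg (· ≫ Ω.ι ≫ pr) (pullback.lift_fst _ _ _))).trans ?_
      rw [IsOpenImmersion.lift_fac_assoc]
      exact hγ
    · show (B ≫ A) ≫ pullback.snd U.hom i = 𝟙 _ ≫ pullback.snd U.hom i
      rw [Category.assoc, Category.id_comp]
      refine (congrArg (B ≫ ·) (?_ : A ≫ pullback.snd U.hom i = pullback.snd W.hom i)).trans (pullback.lift_snd _ _ _)
      exact pullback.lift_snd _ _ _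
  have hts : Set.range t.base ⊆ Set.range s.base := by
    rintro _ ⟨x, rfl⟩
    refine hOs.le ?_
    show (t ≫ e).base x ∈ O
    rw [show t ≫ e = pW ≫ Ω.ι from pullback.lift_fst _ _ _]
    exact (Scheme.Opens.range_ι Ω).le ⟨pW.base x, rfl⟩
  have hAγ : A ≫ γ = pW ≫ Ω.ι := by
    have hl := IsOpenImmersion.lift_fac s t hts
    have h2 : IsOpenImmersion.lift s t hts = A := by
      have := congrArg (· ≫ r) hl
      simp only [Category.assoc] at this
      rw [show s ≫ r = 𝟙 _ from pullback.lift_snd _ _ _, Category.comp_id] at this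
      exact this.trans (pullback.lift_snd _ _ _)
    rw [h2] at hl
    have := congrArg (· ≫ e) hl
    simp only [Category.assoc] at this
    rw [show s ≫ e = γ from pullback.lift_fst _ _ _] at this
    exact this.trans (pullback.lift_fst _ _ _)
  have hAB : A ≫ B = 𝟙 _ := by
    apply pullback.hom_ext
    · show (A ≫ B) ≫ pW = 𝟙 _ ≫ pW
      rw [← cancel_mono Ω.ι, Category.assoc, Category.assoc, Category.id_comp]
      refine (congrArg (A ≫ ·) ((Category.assoc _ _ _).symm.trans (congrArg (· ≫ Ω.ι) (pullback.lift_fst _ _ _)))).trans ?_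
      rw [IsOpenImmersion.lift_fac]
      exact hAγ
    · show (A ≫ B) ≫ pullback.snd W.hom i = 𝟙 _ ≫ pullback.snd W.hom i
      rw [Category.assoc, Category.id_comp]
      exact (congrArg (A ≫ ·) (pullback.lift_snd _ _ _)).trans (pullback.lift_snd _ _ _)
  refine ⟨W, a, b, ⟨MorphismProperty.Over.homMk B (pullback.lift_snd _ _ _),
    MorphismProperty.Over.Hom.ext hAB, MorphismProperty.Over.Hom.ext hBA⟩, MorphismProperty.Over.Hom.ext ?_⟩
  apply pullback.hom_ext
  · show (A ≫ h.left) ≫ q' = ((EtCoh.bc i).map b).left ≫ q'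
    rw [(EtCoh.isPullback_bc_map i b).w]
    show (A ≫ h.left) ≫ q' = pW ≫ Ω.ι ≫ pr'
    rw [← reassoc_of% hAγ, show γ ≫ pr' = h.left ≫ q' from pullback.lift_snd _ _ _, Category.assoc]
  · exact (MorphismProperty.Over.w ((EtCoh.bc i).map a ≫ h)).trans (MorphismProperty.Over.w ((EtCoh.bc i).map b)).symm

theorem exists_open_agree {S : Scheme.{u}} (F : EtCoh.Ab S) (s t : EtCoh.sect F (EtCoh.top S)) :
    ∃ W : S.Opens, ∀ (T : Scheme.{u}) (f : T ⟶ S), Set.range f.base ⊆ (W : Set S) ↔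
      ((EtCoh.pullPushAdj f).unit.app F).hom.app (op (EtCoh.top S)) s =
        ((EtCoh.pullPushAdj f).unit.app F).hom.app (op (EtCoh.top S)) t := by
  refine ⟨⟨(EtShriek.sectSupp F (EtCoh.top S) (s - t))ᶜ, (isClosed_sectSupp _ _ _).isOpen_compl⟩, fun T f => ?_⟩
  have key : ∀ {Ω : Type u} [Field Ω] [IsSepClosed Ω] (ζ : Spec (CommRingCat.of Ω) ⟶ T)
      (z : Fib (ζ ≫ f) (EtCoh.top S)) (x : EtCoh.sect F (EtCoh.top S)),
      (stalkPull f ζ AddCommGrpCat.{u + 1}).hom.app F (germ (A := AddCommGrpCat.{u + 1}) (ζ ≫ f) F _ z x) =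
        germ (A := AddCommGrpCat.{u + 1}) ζ ((EtCoh.pull f).obj F) _ (z.lift f ζ)
          (((EtCoh.pullPushAdj f).unit.app F).hom.app (op (EtCoh.top S)) x) := fun ζ z x => by
    have h := ConcreteCategory.congr_hom (germ_stalkPull (A := AddCommGrpCat.{u + 1}) f ζ F _ z) x
    rw [ConcreteCategory.comp_apply, ConcreteCategory.comp_apply] at h
    exact h
  constructor
  · intro hW
    refine eq_of_germ (A := AddCommGrpCat.{u + 1}) ((EtCoh.pull f).obj F) (U := (EtCoh.bc f).obj (EtCoh.top S)) _ _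
      fun Ω _ _ ζ w => ?_
    let z := Fib.proj f ζ w
    have hz : z.pt ∉ EtShriek.sectSupp F (EtCoh.top S) (s - t) := by
      have h1 : z.pt = f.base (ζ.base default) :=
        congrArg (fun q : Spec (CommRingCat.of Ω) ⟶ S => q.base default) ((Category.comp_id _).symm.trans z.w)
      rw [h1]
      exact hW ⟨_, rfl⟩
    have h2 : germ (A := AddCommGrpCat.{u + 1}) (ζ ≫ f) F _ z s = germ (A := AddCommGrpCat.{u + 1}) (ζ ≫ f) F _ z t :=
      sub_eq_zero.1 (by rw [← map_sub]; exact germ_eq_zero_of_notMem F (s - t) z hz)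
    rw [← Fib.lift_proj f ζ w]
    exact ((key ζ z s).symm.trans (congrArg _ h2)).trans (key ζ z t)
  · rintro h _ ⟨x, rfl⟩
    obtain ⟨Ω, _, _, ζ, hζ⟩ := exists_geometric_pt x
    let z : Fib (ζ ≫ f) (EtCoh.top S) := Fib.mk (ζ ≫ f) (Category.comp_id _)
    rw [← hζ]
    show z.pt ∉ EtShriek.sectSupp F (EtCoh.top S) (s - t)
    refine notMem_sectSupp_of_germ F _ z ?_
    rw [map_sub, sub_eq_zero]
    refine ((ConcreteCategory.isIso_iff_bijective
      ((stalkPull f ζ AddCommGrpCat.{u + 1}).hom.app F)).1 inferInstance).1 ?_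
    rw [key, key, h]

end Groth.Agent.EtShLib
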