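import Groth.Agent.EtShLib.TorsionColim

/-! Compact torsion sheaves are constructible. -/

set_option autoImplicit false
set_option linter.unusedSectionVars false
set_option backward.isDefEq.respectTransparency false
set_option backward.isDefEq.respectTransparency.types false

universe u

open CategoryTheory CategoryTheory.Limits AlgebraicGeometry Opposite

namespace Groth.Agent.EtShLib

variable {X : Scheme.{u}} [CompactSpace X] [QuasiSeparatedSpace X]

theorem isCons_of_retract {F G : EtCoh.Ab X} (s : F ⟶ G) (r : G ⟶ F) (h : s ≫ r = 𝟙 F)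
    (hG : IsCons (A := AddCommGrpCat.{u + 1}) FinP G) : IsCons (A := AddCommGrpCat.{u + 1}) FinP F := by
  let θ : G ⟶ G := 𝟙 G - r ≫ s
  have h1 : θ ≫ r = 0 := by rw [Preadditive.sub_comp, Category.id_comp, Category.assoc, h, Category.comp_id, sub_self]
  have h2 : s ≫ cokernel.π θ ≫ cokernel.desc θ r h1 = 𝟙 F := by rw [cokernel.π_desc, h]
  haveI : IsIso (cokernel.desc θ r h1) := ⟨s ≫ cokernel.π θ, (cancel_epi (cokernel.π θ)).1 (by
    rw [cokernel.π_desc_assoc, Category.comp_id]
    have := cokernel.condition θ
    rw [Preadditive.sub_comp, Category.id_comp, sub_eq_zero, Category.assoc] at this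
    exact this.symm), by rw [Category.assoc]; exact h2⟩
  exact IsCons.of_hom (cons_cokernel θ hG hG) (cokernel.desc θ r h1)

theorem isCons_of_compact (F : EtCoh.Ab X) (hF : TorsionBy (fun n => 0 < n) F)
    (hc : ∀ (J : Type (u + 1)) [SmallCategory J] [IsFiltered J], PreservesColimitsOfShape J (coyoneda.obj (op F))) :
    IsCons (A := AddCommGrpCat.{u + 1}) FinP F := by
  haveI := isFiltered_consOver F
  haveI := hc (ConsOver F)
  obtain ⟨hl⟩ := nonempty_isColimit_consCocone F hF
  obtain ⟨p, s, hs⟩ := Types.jointly_surjective _ (isColimitOfPreserves (coyoneda.obj (op F)) hl) (𝟙 F)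
  exact isCons_of_retract s ((consCocone F).ι.app p) hs (PresOver.isCons (F := F) p)

end Groth.Agent.EtShLib
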