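import Groth.Agent.EtShLib.SpecArrow
import Groth.Agent.EtShLib.NoethCons
import Groth.Agent.EtShLib.Constructible

/-! Criteria for constructibility on locally Noetherian schemes. -/

set_option autoImplicit false
set_option linter.unusedSectionVars false
set_option linter.style.haveILetI false
set_option backward.isDefEq.respectTransparency false
set_option backward.isDefEq.respectTransparency.types false
set_option synthInstance.maxHeartbeats 400000
set_option maxHeartbeats 1000000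

universe u

open CategoryTheory CategoryTheory.Limits AlgebraicGeometry Opposite Topology TopologicalSpace

namespace Groth.Agent.EtShLib

variable {X : Scheme.{u}} [IsLocallyNoetherian X]

/-- A neighbourhood all of whose points over the closure of a point specialise a given lift. -/
theorem exists_specializing_closure {Ω : Type u} [Field Ω] [IsSepClosed Ω]
    (ξ : Spec (CommRingCat.of Ω) ⟶ X) (V₁ : X.Etale) (v₁ : Fib ξ V₁) :
    ∃ (V₂ : X.Etale) (j : V₂ ⟶ V₁) (v₂ : Fib ξ V₂), v₂.map j = v₁ ∧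
      ∀ (Y : X.Etale) (h : Y ⟶ V₂) (y : Y.left), ξ.base default ⤳ Y.hom.base y → ∃ q : Fib ξ Y, q.map h = v₂ := by
  haveI : AlgebraicGeometry.Etale V₁.hom := V₁.prop
  haveI : IsLocallyNoetherian V₁.left := LocallyOfFiniteType.isLocallyNoetherian (Y := X) V₁.hom
  obtain ⟨W, hW, hvW, -⟩ := exists_isAffineOpen_mem_and_subset (X := V₁.left) (x := v₁.pt) (U := ⊤) trivial
  haveI : IsAffine W.toScheme := hW
  haveI : IsLocallyNoetherian W.toScheme := LocallyOfFiniteType.isLocallyNoetherian W.ι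
  haveI : IsNoetherian W.toScheme := {}
  haveI : NoetherianSpace W.toScheme := inferInstance
  let C : Set W.toScheme := {w | ξ.base default ⤳ V₁.hom.base w.1}
  have hC : IsClosed C := by
    have : C = (fun w : W.toScheme => V₁.hom.base w.1) ⁻¹' closure {ξ.base default} := by
      ext w
      exact specializes_iff_mem_closure
    rw [this]
    exact isClosed_closure.preimage (V₁.hom.continuous.comp continuous_subtype_val)
  haveI : NoetherianSpace C := IsEmbedding.subtypeVal.isInducing.noetherianSpace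
  haveI : QuasiSober C := hC.isClosedEmbedding_subtypeVal.quasiSober
  have hpt : V₁.hom.base v₁.pt = ξ.base default :=
    congrArg (fun t : Spec (CommRingCat.of Ω) ⟶ X => t.base default) v₁.w
  let v : C := ⟨⟨v₁.pt, hvW⟩, show ξ.base default ⤳ V₁.hom.base v₁.pt by rw [hpt]⟩
  have hmax : ∀ w : C, w ⤳ v → w = v := fun w hw => by
    have hw₁ : w.1 ⤳ v.1 := (subtype_specializes_iff w v).1 hw
    have hw' : (w.1.1 : V₁.left) ⤳ v₁.pt := (subtype_specializes_iff w.1 v.1).1 hw₁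
    refine Subtype.ext (Subtype.ext (eq_of_specializes_of_etale hw' ?_))
    have h1 : V₁.hom.base w.1.1 ⤳ ξ.base default := hpt ▸ hw'.map V₁.hom.continuous
    rw [hpt]
    exact (h1.antisymm w.2).eq
  obtain ⟨O, hO, hvO, hOv⟩ := exists_nhds_specializes hmax
  obtain ⟨O₁, hO₁, rfl⟩ := isOpen_induced_iff.1 hO
  let O' : V₁.left.Opens := ⟨Subtype.val '' O₁, W.isOpen.isOpenMap_subtype_val O₁ hO₁⟩
  let V₂ : X.Etale := MorphismProperty.Over.mk ⊤ (O'.ι ≫ V₁.hom)
    (inferInstance : AlgebraicGeometry.Etale (O'.ι ≫ V₁.hom))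
  let j : V₂ ⟶ V₁ := MorphismProperty.Over.homMk O'.ι rfl
  have hrange : Set.range (Fib.hom (ξ := ξ) (U := V₁) v₁).base ⊆ Set.range O'.ι.base := by
    rintro _ ⟨a, rfl⟩
    rw [Scheme.Opens.range_ι, Subsingleton.elim a default]
    exact ⟨⟨v₁.pt, hvW⟩, hvO, rfl⟩
  let v₂ : Fib ξ V₂ := Fib.mk (IsOpenImmersion.lift O'.ι v₁.hom hrange) (by
    show _ ≫ O'.ι ≫ V₁.hom = ξ
    rw [← Category.assoc, IsOpenImmersion.lift_fac]
    exact v₁.w)
  have hv₂' : (show ↥O'.toScheme from v₂.pt).1 = v₁.pt :=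
    congrArg (fun t : Spec (CommRingCat.of Ω) ⟶ V₁.left => t.base default) (IsOpenImmersion.lift_fac O'.ι v₁.hom hrange)
  have hspec : ∀ o : ↥O'.toScheme, ξ.base default ⤳ V₁.hom.base o.1 → (show ↥O'.toScheme from v₂.pt) ⤳ o :=
    fun o hoC => by
    obtain ⟨o', ho', hoe⟩ := o.2
    refine (subtype_specializes_iff _ _).2 ?_
    show (show ↥O'.toScheme from v₂.pt).1 ⤳ o.1
    rw [hv₂', ← hoe]
    have h1 := (subtype_specializes_iff _ _).1 (hOv ⟨o', show ξ.base default ⤳ V₁.hom.base o'.1 by rw [hoe]; exact hoC⟩ ho')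
    exact (subtype_specializes_iff _ _).1 h1
  refine ⟨V₂, j, v₂, Fib.ext (IsOpenImmersion.lift_fac _ _ _), fun Y h y hy => ?_⟩
  haveI : AlgebraicGeometry.Etale h.left := etale_left h
  have hyC : ξ.base default ⤳ V₁.hom.base (show ↥O'.toScheme from h.left.base y).1 := by
    rw [show V₁.hom.base (show ↥O'.toScheme from h.left.base y).1 = Y.hom.base y from
      congrArg (fun t : Y.left ⟶ X => t.base y) (MorphismProperty.Over.w h)]
    exact hy
  obtain ⟨y', hy'⟩ := ((hspec (h.left.base y) hyC).mem_open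
    (show IsOpen (Set.range h.left.base) from IsOpenMap.isOpen_range h.left.isOpenMap) ⟨_, rfl⟩)
  obtain ⟨l, hl, -⟩ := Scheme.exists_fac_of_etale_of_isSepClosed h.left v₂.hom y' hy'
  refine ⟨Fib.mk l ?_, Fib.ext ?_⟩
  · rw [← MorphismProperty.Over.w h, ← Category.assoc, hl]
    exact v₂.w
  · rw [Fib.map_hom]
    exact hl

section

omit [IsLocallyNoetherian X]

theorem sheafFiber_germ {F : EtCoh.Ab X} {Ω Ω' : Type u} [Field Ω] [IsSepClosed Ω] [Field Ω'] [IsSepClosed Ω']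
    {ζ : Spec (CommRingCat.of Ω) ⟶ X} {ξ : Spec (CommRingCat.of Ω') ⟶ X}
    (φ : Scheme.pointSmallEtale ξ ⟶ Scheme.pointSmallEtale ζ) (U : X.Etale) (u : Fib ζ U)
    (t : F.obj.obj (op U)) :
    (GrothendieckTopology.Point.Hom.sheafFiber (A := AddCommGrpCat.{u + 1}) φ).app F
        (germ (A := AddCommGrpCat.{u + 1}) ζ F U u t) =
      germ (A := AddCommGrpCat.{u + 1}) ξ F U (φ.hom.app U u) t := by
  show (GrothendieckTopology.Point.Hom.presheafFiber (A := AddCommGrpCat.{u + 1}) φ).app F.obj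
    ((pt ζ).toPresheafFiber U u F.obj t) = (pt ξ).toPresheafFiber U (φ.hom.app U u) F.obj t
  rw [← ConcreteCategory.comp_apply, GrothendieckTopology.Point.Hom.presheafFiber_app]
  exact congrArg (fun q : F.obj.obj (op U) ⟶ (stk (A := AddCommGrpCat.{u + 1}) ξ).obj F => q t)
    ((pt ζ).toPresheafFiber_presheafFiberDesc (P := F.obj) _ _ U u)

end

theorem exists_lc_open_of_mono (F : EtCoh.Ab X)
    (hfin : ∀ (Ω : Type u) [Field Ω] [IsSepClosed Ω] (ξ : Spec (CommRingCat.of Ω) ⟶ X),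
      Finite ((EtCoh.stalk ξ).obj F))
    (hmono : ∀ (Ω Ω' : Type u) [Field Ω] [IsSepClosed Ω] [Field Ω'] [IsSepClosed Ω']
        (ξ : Spec (CommRingCat.of Ω) ⟶ X) (ξ' : Spec (CommRingCat.of Ω') ⟶ X)
        (φ : Scheme.pointSmallEtale ξ' ⟶ Scheme.pointSmallEtale ξ),
        Mono ((GrothendieckTopology.Point.Hom.sheafFiber (A := AddCommGrpCat.{u + 1}) φ).app F)) (x : X) :
    ∃ (V : X.Opens) (T : Scheme.{u}) (g : T ⟶ X), IsImmersion g ∧ x ∈ V ∧
      Set.range g.base = (V : Set X) ∩ closure {x} ∧ PullLC (A := AddCommGrpCat.{u + 1}) FinP F g := by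
  obtain ⟨Ω, _, _, ξ, hξ⟩ := exists_geometric_pt x
  haveI hM : Finite ((stk (A := AddCommGrpCat.{u + 1}) ξ).obj F) := hfin Ω ξ
  haveI : AlgebraicGeometry.Etale (EtCoh.top X).hom := (EtCoh.top X).prop
  obtain ⟨u₀⟩ := exists_fib_of_range ξ (U := EtCoh.top X) ⟨ξ.base default, rfl⟩
  obtain ⟨V₁, -, v₁, σ, -, hσ⟩ := lifts_Ab (M := (stk (A := AddCommGrpCat.{u + 1}) ξ).obj F) F ξ (EtCoh.top X) u₀ (𝟙 _)
  obtain ⟨V₂, j, v₂, hv₂, hq⟩ := exists_specializing_closure ξ V₁ v₁
  let σ₂ := σ ≫ F.obj.map j.op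
  have hinj : ∀ {Ω' : Type u} [Field Ω'] [IsSepClosed Ω'] (ζ : Spec (CommRingCat.of Ω') ⟶ X) (z : Fib ζ V₂),
      x ⤳ ζ.base default → Function.Injective (σ₂ ≫ germ ζ F V₂ z) := by
    intro Ω' _ _ ζ z hz a b hab
    rw [ConcreteCategory.comp_apply, ConcreteCategory.comp_apply] at hab
    obtain ⟨Y, g, w, -, he⟩ := (germ_eq_iff ζ V₂ z _ _).1 hab
    obtain ⟨q, hqv⟩ := hq Y g w.pt (by
      rw [show Y.hom.base w.pt = ζ.base default from congrArg (fun t : Spec (CommRingCat.of Ω') ⟶ X => t.base default) w.w, hξ]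
      exact hz)
    have := congrArg (germ ξ F Y q) he
    have hr : ∀ c, germ ξ F Y q (F.obj.map g.op c) = germ ξ F V₂ v₂ c := fun c => by rw [germ_res_apply, hqv]
    rw [hr, hr] at this
    replace this : (σ₂ ≫ germ ξ F V₂ v₂) a = (σ₂ ≫ germ ξ F V₂ v₂) b := this
    have e : σ₂ ≫ germ ξ F V₂ v₂ = 𝟙 _ := by
      simp only [σ₂, Category.assoc]
      rw [germ_res, hv₂, hσ]
    rw [e] at this
    simpa using this
  obtain ⟨T₀, g₀, hg₀, -, hr₀⟩ := exists_reduced_immersion (X := X) (E := Set.range V₂.hom.base ∩ closure {x})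
    ((isOpen_range_etale V₂).isLocallyClosed.inter isClosed_closure.isLocallyClosed)
  refine ⟨⟨Set.range V₂.hom.base, isOpen_range_etale V₂⟩, T₀, g₀, hg₀,
    ⟨v₂.pt, (congrArg (fun t : Spec (CommRingCat.of Ω) ⟶ X => t.base default) v₂.w).trans hξ⟩, hr₀, fun t => ?_⟩
  have ht : g₀.base t ∈ Set.range V₂.hom.base ∩ closure {x} := hr₀ ▸ ⟨t, rfl⟩
  obtain ⟨y, hy⟩ := ht.1
  obtain ⟨q, -, hq'⟩ := Scheme.Pullback.exists_preimage_pullback (f := V₂.hom) (g := g₀) y t hy
  refine ⟨(EtCoh.bc g₀).obj V₂, q, _, σ₂ ≫ ((adjA g₀ AddCommGrpCat.{u + 1}).unit.app F).hom.app (op V₂), hq', hM,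
    fun Ω' _ _ ζ' z' => ?_⟩
  let ζ := ζ' ≫ g₀
  let z : Fib ζ V₂ := z'.proj g₀ ζ'
  have hz : x ⤳ ζ.base default :=
    specializes_iff_mem_closure.2 (show g₀.base (ζ'.base default) ∈ closure {x} from
      ((show g₀.base (ζ'.base default) ∈ Set.range V₂.hom.base ∩ closure {x} from hr₀ ▸ ⟨_, rfl⟩)).2)
  haveI : IsIso (σ₂ ≫ germ ζ F V₂ z) := by
    rw [← isIso_iff_of_reflects_iso _ (forget AddCommGrpCat.{u + 1}), isIso_iff_bijective]
    refine ⟨hinj ζ z hz, fun p => ?_⟩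
    obtain ⟨Y, g, w, s, hw, rfl⟩ := exists_germ_below (A := AddCommGrpCat.{u + 1}) ζ p V₂ z
    obtain ⟨φ⟩ := exists_spec_arrow ζ ξ (by rw [hξ]; exact hz)
    let w' : Fib ξ Y := φ.hom.app Y w
    have hb : Function.Bijective (σ₂ ≫ germ ξ F V₂ (w'.map g)) :=
      (Finite.injective_iff_bijective (f := (σ₂ ≫ germ ξ F V₂ (w'.map g)))).1 (hinj ξ _ (by rw [hξ]))
    obtain ⟨m, hm⟩ := hb.2 (germ ξ F Y w' s)
    refine ⟨m, ?_⟩
    apply (AddCommGrpCat.mono_iff_injective _).1 (hmono Ω' Ω ζ ξ φ)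
    show (GrothendieckTopology.Point.Hom.sheafFiber (A := AddCommGrpCat.{u + 1}) φ).app F ((σ₂ ≫ germ ζ F V₂ z) m) = _
    rw [sheafFiber_germ, ← hm, ConcreteCategory.comp_apply, ConcreteCategory.comp_apply, ← hw, ← germ_res_apply,
      sheafFiber_germ, germ_res_apply]
    simp only [σ₂, ConcreteCategory.comp_apply]
    rfl
  have e := germ_stalkPull g₀ ζ' AddCommGrpCat.{u + 1} F V₂ z
  rw [show z.lift g₀ ζ' = z' from Fib.lift_proj g₀ ζ' z'] at e
  rw [Category.assoc, ← e, ← Category.assoc]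
  infer_instance

theorem isCons_of_closures (F : EtCoh.Ab X)
    (h : ∀ x : X, ∃ (V : X.Opens) (T : Scheme.{u}) (g : T ⟶ X), IsImmersion g ∧ x ∈ V ∧
      Set.range g.base = (V : Set X) ∩ closure {x} ∧ PullLC (A := AddCommGrpCat.{u + 1}) FinP F g) :
    IsCons (A := AddCommGrpCat.{u + 1}) FinP F := by
  refine IsCons.of_open_cover (fun U : X.affineOpens => (U : X.Opens)) (exists_noetherian_cover X).1 fun U => ?_
  haveI := (exists_noetherian_cover X).2 U
  let Y := (U : X.Opens).toScheme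
  let ι := (U : X.Opens).ι
  let G := (pullA ι AddCommGrpCat.{u + 1}).obj F
  have key : ∀ Z : Closeds Y, ∃ (n : ℕ) (T : Fin n → Scheme.{u}) (g : ∀ i, T i ⟶ Y), (∀ i, IsImmersion (g i)) ∧
      (Z : Set Y) ⊆ ⋃ i, Set.range (g i) ∧ ∀ i, PullLC (A := AddCommGrpCat.{u + 1}) FinP G (g i) := by
    intro Z
    induction Z using WellFoundedLT.induction with
    | ind Z ih =>
      by_cases hne : (Z : Set Y).Nonempty
      · obtain ⟨a, ha⟩ := hne
        haveI : QuasiSober (Z : Set Y) := Z.isClosed.isClosedEmbedding_subtypeVal.quasiSober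
        haveI : NoetherianSpace (Z : Set Y) := IsEmbedding.subtypeVal.isInducing.noetherianSpace
        obtain ⟨x, -, hx⟩ := exists_maximal_generization (⟨a, ha⟩ : (Z : Set Y))
        obtain ⟨O, hO, hxO, hOs⟩ := exists_nhds_specializes hx
        obtain ⟨O₁, hO₁, rfl⟩ := isOpen_induced_iff.1 hO
        obtain ⟨V, T, g, hg, hxV, hr, hl⟩ := h (ι.base x.1)
        haveI := hg
        have hcov : (Z : Set Y) ∩ O₁ ∩ ι.base ⁻¹' V ⊆ Set.range (pullback.snd g ι) := by
          rintro b ⟨⟨hbZ, hbO⟩, hbV⟩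
          have hb : ι.base b ∈ Set.range g.base := by
            rw [hr]
            exact ⟨hbV, specializes_iff_mem_closure.1
              (((subtype_specializes_iff _ _).1 (hOs ⟨b, hbZ⟩ hbO)).map ι.continuous)⟩
          obtain ⟨t, ht⟩ := hb
          obtain ⟨q, -, hq⟩ := Scheme.Pullback.exists_preimage_pullback (f := g) (g := ι) t b ht
          exact ⟨q, hq⟩
        let Z₁ : Closeds Y := ⟨(Z : Set Y) ∩ (O₁ ∩ ι.base ⁻¹' V)ᶜ,
          Z.isClosed.inter (hO₁.inter (V.isOpen.preimage ι.continuous)).isClosed_compl⟩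
        have hlt : Z₁ < Z := lt_of_le_of_ne (fun b hb => hb.1) fun e => by
          have : x.1 ∈ (Z₁ : Set Y) := by rw [e]; exact x.2
          exact this.2 ⟨hxO, hxV⟩
        obtain ⟨n, T', g', hi, hc, hl'⟩ := ih Z₁ hlt
        refine ⟨n + 1, Fin.cases (motive := fun _ => Scheme.{u}) (pullback g ι) T',
          fun i => Fin.cases (motive := fun i => (Fin.cases (motive := fun _ => Scheme.{u}) (pullback g ι) T' i : Scheme.{u}) ⟶ Y) (pullback.snd g ι) g' i,
          Fin.cases (inferInstanceAs (IsImmersion (pullback.snd g ι))) hi, fun b hb => ?_,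
          Fin.cases (hl.pull (pullback.fst g ι) pullback.condition) hl'⟩
        by_cases hb' : b ∈ O₁ ∩ ι.base ⁻¹' V
        · exact Set.mem_iUnion.2 ⟨0, hcov ⟨⟨hb, hb'.1⟩, hb'.2⟩⟩
        · obtain ⟨i, hi⟩ := Set.mem_iUnion.1 (hc ⟨hb, hb'⟩)
          exact Set.mem_iUnion.2 ⟨i.succ, hi⟩
      · exact ⟨0, Fin.elim0, fun i => i.elim0, fun i => i.elim0, fun a ha => absurd ⟨a, ha⟩ hne, fun i => i.elim0⟩
  obtain ⟨n, T, g, hi, hc, hl⟩ := key ⊤
  haveI := hi
  exact isCons_of_adapted_univ (adapted_of_cover isOpen_univ T g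
    (fun i => isConstructible_of_isLocallyClosed
      ((Scheme.Hom.isLocallyClosed_range (g i)).preimage continuous_subtype_val))
    (fun b hb => hc trivial) hl)

theorem exists_closure_lc {F : EtCoh.Ab X} (h : IsCons (A := AddCommGrpCat.{u + 1}) FinP F) (x : X) :
    ∃ (V : X.Opens) (T : Scheme.{u}) (g : T ⟶ X), IsImmersion g ∧ x ∈ V ∧
      Set.range g.base = (V : Set X) ∩ closure {x} ∧ PullLC (A := AddCommGrpCat.{u + 1}) FinP F g := by
  obtain ⟨W, hW, hxW, -⟩ := exists_isAffineOpen_mem_and_subset (X := X) (x := x) (U := ⊤) trivial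
  obtain ⟨n, T, g, hi, -, -, hu, hl⟩ := h W hW
  obtain ⟨i, t, ht⟩ := Set.mem_iUnion.1 (hu.ge hxW)
  haveI := hi i
  obtain ⟨U, Z, hU, hZ, hUZ⟩ := Scheme.Hom.isLocallyClosed_range (g i)
  have hmem : x ∈ U ∩ Z := hUZ ▸ ⟨t, ht⟩
  obtain ⟨T', g', hg', hred, hr⟩ := exists_reduced_immersion (X := X) (E := U ∩ closure {x})
    (hU.isLocallyClosed.inter isClosed_closure.isLocallyClosed)
  obtain ⟨l, hl'⟩ := exists_lift_immersion (g i) g' (by
    rw [hr, hUZ]
    exact Set.inter_subset_inter_right _ (closure_minimal (Set.singleton_subset_iff.2 hmem.2) hZ))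
  exact ⟨⟨U, hU⟩, T', g', hg', hmem.1, hr, ((hl i).comp l).of_eq hl'⟩

end Groth.Agent.EtShLib
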