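import Groth.Agent.EtShLib.Stalk
import Groth.Agent.EtShLib.Split
import Mathlib.AlgebraicGeometry.Morphisms.QuasiSeparated
import Mathlib.AlgebraicGeometry.Morphisms.UniversallyOpen

/-! Geometric points of étale schemes over a field and quasi-compact covers. -/

set_option autoImplicit false
set_option linter.unusedSectionVars false
set_option linter.style.haveILetI false
set_option backward.isDefEq.respectTransparency false
set_option backward.isDefEq.respectTransparency.types false
set_option maxHeartbeats 1000000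

universe u

open CategoryTheory CategoryTheory.Limits AlgebraicGeometry Opposite

namespace Groth.Agent.EtShLib

theorem specPoints_bijective (k K Ω : Type u) [Field k] [Field K] [Field Ω] [Algebra k K] [IsAlgClosed K]
    [Algebra.IsAlgebraic k K] [Algebra K Ω] [Algebra k Ω] [IsScalarTower k K Ω] (Z : Scheme.{u})
    (f : Z ⟶ Spec (CommRingCat.of k)) [AlgebraicGeometry.Etale f] :
    (∀ g₁ g₂ : Spec (CommRingCat.of K) ⟶ Z,
        g₁ ≫ f = Spec.map (CommRingCat.ofHom (algebraMap k K)) →
        g₂ ≫ f = Spec.map (CommRingCat.ofHom (algebraMap k K)) →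
        Spec.map (CommRingCat.ofHom (algebraMap K Ω)) ≫ g₁ = Spec.map (CommRingCat.ofHom (algebraMap K Ω)) ≫ g₂ →
        g₁ = g₂) ∧
    (∀ h : Spec (CommRingCat.of Ω) ⟶ Z, h ≫ f = Spec.map (CommRingCat.ofHom (algebraMap k Ω)) →
        ∃ g : Spec (CommRingCat.of K) ⟶ Z, g ≫ f = Spec.map (CommRingCat.ofHom (algebraMap k K)) ∧
          Spec.map (CommRingCat.ofHom (algebraMap K Ω)) ≫ g = h) := by
  haveI : Mono (CommRingCat.ofHom (algebraMap K Ω)) :=
    ConcreteCategory.mono_of_injective _ (algebraMap K Ω).injective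
  refine ⟨fun g₁ g₂ _ _ h => ?_, fun h hh => ?_⟩
  · obtain ⟨⟨x, α⟩, rfl⟩ := (Scheme.SpecToEquivOfField K Z).symm.surjective g₁
    obtain ⟨⟨y, β⟩, rfl⟩ := (Scheme.SpecToEquivOfField K Z).symm.surjective g₂
    have h' : (Scheme.SpecToEquivOfField Ω Z).symm ⟨x, α ≫ CommRingCat.ofHom (algebraMap K Ω)⟩ =
        (Scheme.SpecToEquivOfField Ω Z).symm ⟨y, β ≫ CommRingCat.ofHom (algebraMap K Ω)⟩ := by
      show Spec.map _ ≫ Z.fromSpecResidueField x = Spec.map _ ≫ Z.fromSpecResidueField y
      rw [Spec.map_comp, Spec.map_comp, Category.assoc, Category.assoc]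
      exact h
    obtain ⟨rfl, h2⟩ := Sigma.mk.injEq _ _ _ _ ▸ (Scheme.SpecToEquivOfField Ω Z).symm.injective h'
    rw [(cancel_mono (CommRingCat.ofHom (algebraMap K Ω))).1 (eq_of_heq h2)]
  · obtain ⟨⟨x, α⟩, rfl⟩ := (Scheme.SpecToEquivOfField Ω Z).symm.surjective h
    obtain ⟨g₀, hg₀, hx⟩ := Scheme.exists_fac_of_etale_of_isSepClosed f
      (Spec.map (CommRingCat.ofHom (algebraMap k K))) x (Subsingleton.elim (α := Spec (CommRingCat.of k)) _ _)
    obtain ⟨⟨x', β⟩, rfl⟩ := (Scheme.SpecToEquivOfField K Z).symm.surjective g₀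
    obtain rfl : x' = x := by
      simpa [Scheme.SpecToEquivOfField] using hx
    let c := Spec.preimage (Z.fromSpecResidueField x' ≫ f)
    have hc : c ≫ β = CommRingCat.ofHom (algebraMap k K) := Spec.map_injective (by
      rw [Spec.map_comp, Spec.map_preimage]
      exact (Category.assoc _ _ _).symm.trans hg₀)
    have hcα : c ≫ α = CommRingCat.ofHom (algebraMap k Ω) := Spec.map_injective (by
      rw [Spec.map_comp, Spec.map_preimage]
      exact (Category.assoc _ _ _).symm.trans hh)
    have hmem : ∀ a, α.hom a ∈ (algebraMap K Ω).range := fun a => by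
      have hint : IsIntegral k (β.hom a) := Algebra.IsIntegral.isIntegral _
      have h0 : Polynomial.eval₂ c.hom a (minpoly k (β.hom a)) = 0 := β.hom.injective (by
        rw [Polynomial.hom_eval₂, map_zero,
          show β.hom.comp c.hom = algebraMap k K from congrArg CommRingCat.Hom.hom hc]
        exact minpoly.aeval k (β.hom a))
      have h1 : Polynomial.aeval (α.hom a) (minpoly k (β.hom a)) = 0 := by
        have := congrArg α.hom h0
        rwa [Polynomial.hom_eval₂, map_zero,
          show α.hom.comp c.hom = algebraMap k Ω from congrArg CommRingCat.Hom.hom hcα] at this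
      have hi : IsIntegral K (α.hom a) :=
        IsIntegral.tower_top (R := k) (A := K) (⟨_, minpoly.monic hint, h1⟩ : IsIntegral k (α.hom a))
      exact minpoly.degree_eq_one_iff.1 (IsAlgClosed.degree_eq_one_of_irreducible K (minpoly.irreducible hi))
    choose γ hγ using hmem
    have hinj := (algebraMap K Ω).injective
    let γ' : Z.residueField x' →+* K :=
      { toFun := γ
        map_one' := hinj (by rw [hγ, map_one, map_one])
        map_mul' := fun a b => hinj (by rw [hγ, map_mul, map_mul, hγ, hγ])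
        map_zero' := hinj (by rw [hγ, map_zero, map_zero])
        map_add' := fun a b => hinj (by rw [hγ, map_add, map_add, hγ, hγ]) }
    have hγα : CommRingCat.ofHom γ' ≫ CommRingCat.ofHom (algebraMap K Ω) = α :=
      CommRingCat.hom_ext (RingHom.ext hγ)
    refine ⟨Spec.map (CommRingCat.ofHom γ') ≫ Z.fromSpecResidueField x', ?_, ?_⟩
    · rw [Category.assoc, ← Spec.map_preimage (Z.fromSpecResidueField x' ≫ f), ← Spec.map_comp]
      refine congrArg Spec.map ((cancel_mono (CommRingCat.ofHom (algebraMap K Ω))).1 ?_)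
      rw [Category.assoc, hγα, ← CommRingCat.ofHom_comp, ← IsScalarTower.algebraMap_eq]
      exact hcα
    · rw [← Category.assoc, ← Spec.map_comp, hγα]
      rfl

theorem exists_finset_subcover {S : Scheme.{u}} [CompactSpace S] (U : S.Etale) [QuasiCompact U.hom]
    (ι : Type (u + 1)) (Uf : ι → Over U)
    (hU : ∀ x : U.left, ∃ (i : ι) (y : (Uf i).left.left), (Uf i).hom.left.base y = x) :
    ∃ t : Finset ι, ∀ x : U.left, ∃ i ∈ t, ∃ y : (Uf i).left.left, (Uf i).hom.left.base y = x := by
  haveI : QuasiCompact (str U) := ‹QuasiCompact U.hom›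
  haveI : CompactSpace U.left := QuasiCompact.compactSpace_of_compactSpace (str U)
  obtain ⟨t, ht⟩ := (isCompact_univ (X := U.left)).elim_finite_subcover (fun i => Set.range (Uf i).hom.left.base)
    (fun i => by
      haveI : AlgebraicGeometry.Etale (Uf i).hom.left := by
        haveI : AlgebraicGeometry.Etale ((Uf i).hom.left ≫ U.hom) := by
          rw [MorphismProperty.Over.w (Uf i).hom]
          exact (Uf i).left.prop
        haveI : AlgebraicGeometry.Etale U.hom := U.prop
        exact .of_comp _ U.hom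
      exact (Uf i).hom.left.isOpenMap.isOpen_range)
    (fun x _ => Set.mem_iUnion.2 (hU x))
  refine ⟨t, fun x => ?_⟩
  obtain ⟨i, hi, y, hy⟩ := Set.mem_iUnion₂.1 (ht (Set.mem_univ x))
  exact ⟨i, hi, y, hy⟩

theorem exists_cover_qcqs {X : Scheme.{u}} [QuasiSeparatedSpace X] (U : X.Etale) :
    ∃ (ι : Type u) (V : ι → Over U), (∀ i, QuasiCompact (V i).left.hom ∧ QuasiSeparated (V i).left.hom) ∧
      ∀ x : U.left, ∃ (i : ι) (y : (V i).left.left), (V i).hom.left.base y = x := by
  haveI : AlgebraicGeometry.Etale U.hom := U.prop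
  let W : U.left.affineOpens → X.Etale := fun O =>
    MorphismProperty.Over.mk ⊤ (O.1.ι ≫ U.hom) (inferInstance : AlgebraicGeometry.Etale (O.1.ι ≫ U.hom))
  refine ⟨U.left.affineOpens, fun O => Over.mk (MorphismProperty.Over.homMk O.1.ι rfl : W O ⟶ U), fun O => ?_,
    fun x => ?_⟩
  · haveI : IsAffine O.1.toScheme := O.2
    exact ⟨quasiCompact_of_compactSpace (O.1.ι ≫ str U),
      inferInstanceAs (QuasiSeparated (O.1.ι ≫ str U))⟩
  · obtain ⟨O, hO, hx, -⟩ := exists_isAffineOpen_mem_and_subset (X := U.left) (x := x) (U := ⊤) trivial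
    exact ⟨⟨O, hO⟩, ⟨x, hx⟩, rfl⟩

end Groth.Agent.EtShLib
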