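import Groth.Agent.EtShLib.Point

/-! Stalks of extensions by zero. -/

set_option autoImplicit false
set_option linter.unusedSectionVars false
set_option linter.style.haveILetI false
set_option backward.isDefEq.respectTransparency false
set_option backward.isDefEq.respectTransparency.types false
set_option synthInstance.maxHeartbeats 400000
set_option maxHeartbeats 1000000

universe u

open CategoryTheory CategoryTheory.Limits AlgebraicGeometry Opposite

namespace Groth.Agent.EtShLib

section

variable {X : Scheme.{u}} {Ω : Type u} [Field Ω] [IsSepClosed Ω] (ξ : Spec (CommRingCat.of Ω) ⟶ X)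
  {C : Type (u + 1)} [Category.{u} C] (K : GrothendieckTopology C) (G : C ⥤ X.Etale)
  [G.IsContinuous K X.smallEtaleTopology]
  {A : Type (u + 2)} [Category.{u + 1} A] [HasColimitsOfSize.{u, u} A] [HasProducts.{u} A]
  [(G.sheafPushforwardContinuous A K X.smallEtaleTopology).IsRightAdjoint]
  {κ : Type u} (Φ : κ → GrothendieckTopology.Point.{u} K) (ν : ∀ k, (Φ k).fiber ⟶ G ⋙ (pt ξ).fiber)

/-- The comparison from the stalk at a point over `ξ`. -/
noncomputable def extStalkMap (F : Sheaf K A) (k : κ) :
    (Φ k).sheafFiber.obj F ⟶ (stk ξ).obj ((G.sheafPullback A K X.smallEtaleTopology).obj F) :=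
  (Φ k).presheafFiberDesc
    (fun V v => ((G.sheafAdjunctionContinuous A K X.smallEtaleTopology).unit.app F).hom.app (op V) ≫
      germ ξ ((G.sheafPullback A K X.smallEtaleTopology).obj F) (G.obj V) ((ν k).app V v))
    (fun {V W} f v => by
      have hn := ((G.sheafAdjunctionContinuous A K X.smallEtaleTopology).unit.app F).hom.naturality f.op
      refine (Category.assoc _ _ _).symm.trans ?_
      refine (congrArg (· ≫ _) hn).trans ((Category.assoc _ _ _).trans ?_)
      refine congrArg (_ ≫ ·) ?_
      show ((G.sheafPullback A K X.smallEtaleTopology).obj F).obj.map (G.map f).op ≫ _ = _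
      rw [germ_res]
      exact congrArg (germ ξ _ (G.obj W)) (NatTrans.naturality_apply (ν k) f v).symm)

theorem toPresheafFiber_extStalkMap (F : Sheaf K A) (k : κ) (V : C) (v : (Φ k).fiber.obj V) :
    (Φ k).toPresheafFiber V v F.obj ≫ extStalkMap ξ K G Φ ν F k =
      ((G.sheafAdjunctionContinuous A K X.smallEtaleTopology).unit.app F).hom.app (op V) ≫
        germ ξ ((G.sheafPullback A K X.smallEtaleTopology).obj F) (G.obj V) ((ν k).app V v) :=
  (Φ k).toPresheafFiber_presheafFiberDesc _ _ V v

variable (hν : ∀ V : C, Function.Bijective (fun q : Σ k, (Φ k).fiber.obj V => (ν q.1).app V q.2))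

include hν

theorem existsUnique_desc (F : Sheaf K A) {M : A} (b : ∀ k, (Φ k).sheafFiber.obj F ⟶ M) :
    ∃! f : (stk ξ).obj ((G.sheafPullback A K X.smallEtaleTopology).obj F) ⟶ M,
      ∀ k, extStalkMap ξ K G Φ ν F k ≫ f = b k := by
  let adj := G.sheafAdjunctionContinuous A K X.smallEtaleTopology
  let sadj := (pt ξ).skyscraperSheafAdjunction (A := A)
  let e : ∀ V : C, (Σ k, (Φ k).fiber.obj V) ≃ Fib ξ (G.obj V) := fun V => Equiv.ofBijective _ (hν V)
  let b' : ∀ V : C, (Σ k, (Φ k).fiber.obj V) → (F.obj.obj (op V) ⟶ M) :=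
    fun V q => (Φ q.1).toPresheafFiber V q.2 F.obj ≫ b q.1
  have hb : ∀ V q, b' V ((e V).symm (e V q)) = b' V q := fun V q => by rw [Equiv.symm_apply_apply]
  let β : F ⟶ (G.sheafPushforwardContinuous A K X.smallEtaleTopology).obj ((pt ξ).skyscraperSheafFunctor.obj M) :=
    ObjectProperty.homMk
      { app := fun V => Pi.lift fun p : Fib ξ (G.obj V.unop) => b' V.unop ((e V.unop).symm p)
        naturality := fun V W g => by
          apply Pi.hom_ext
          intro p
          show (F.obj.map g ≫ Pi.lift fun p : Fib ξ (G.obj W.unop) => b' W.unop ((e W.unop).symm p)) ≫ Pi.π _ p =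
            ((Pi.lift fun p : Fib ξ (G.obj V.unop) => b' V.unop ((e V.unop).symm p)) ≫
              ((pt ξ).skyscraperPresheaf M).map (G.map g.unop).op) ≫ Pi.π _ p
          obtain ⟨⟨k, w⟩, rfl⟩ := (e W.unop).surjective p
          have hsky : ((pt ξ).skyscraperPresheaf M).map (G.map g.unop).op ≫ Pi.π _ ((ν k).app W.unop w) =
              Pi.π _ (Fib.map (G.map g.unop) ((ν k).app W.unop w)) := by
            simp [GrothendieckTopology.Point.skyscraperPresheafFunctor, Fib.map]
          simp only [Category.assoc, limit.lift_π, Fan.mk_pt, Fan.mk_π_app, Equiv.symm_apply_apply]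
          show F.obj.map g ≫ b' W.unop ⟨k, w⟩ = _ ≫ ((pt ξ).skyscraperPresheaf M).map (G.map g.unop).op ≫
            Pi.π _ ((ν k).app W.unop w)
          rw [hsky]
          have hn : Fib.map (G.map g.unop) ((ν k).app W.unop w) =
              e V.unop ⟨k, (Φ k).fiber.map g.unop w⟩ := (NatTrans.naturality_apply (ν k) g.unop w).symm
          rw [hn]
          refine Eq.trans ?_ (limit.lift_π (Fan.mk _ fun p : Fib ξ (G.obj V.unop) => b' V.unop ((e V.unop).symm p))
            (Discrete.mk (e V.unop ⟨k, (Φ k).fiber.map g.unop w⟩))).symm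
          show _ = b' V.unop ((e V.unop).symm (e V.unop ⟨k, _⟩))
          rw [Equiv.symm_apply_apply]
          simp only [b']
          rw [← Category.assoc]
          exact congrArg (· ≫ b k) ((Φ k).toPresheafFiber_w g.unop w F.obj) }
  let γ := (adj.homEquiv F _).symm β
  let f := (sadj.homEquiv _ M).symm γ
  have htr : ∀ (h : (stk ξ).obj ((G.sheafPullback A K X.smallEtaleTopology).obj F) ⟶ M) (V : C)
      (p : Fib ξ (G.obj V)), (adj.homEquiv F _ (sadj.homEquiv _ M h)).hom.app (op V) ≫ Pi.π _ p =
        (adj.unit.app F).hom.app (op V) ≫ germ ξ _ (G.obj V) p ≫ h := by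
    intro h V p
    rw [Adjunction.homEquiv_unit (adj := adj)]
    show ((adj.unit.app F).hom.app (op V) ≫ (sadj.homEquiv _ M h).hom.app (op (G.obj V))) ≫ Pi.π _ p = _
    rw [Category.assoc]
    refine congrArg (_ ≫ ·) ?_
    exact (congrArg (fun (t : ((G.sheafPullback A K X.smallEtaleTopology).obj F).obj ⟶ (pt ξ).skyscraperPresheaf M) =>
      t.app (op (G.obj V)) ≫ Pi.π _ p) ((pt ξ).skyscraperSheafAdjunction_homEquiv_apply_hom h)).trans
        ((pt ξ).skyscraperPresheafHomEquiv_app_π h (G.obj V) p)
  refine ⟨f, fun k => ?_, fun f' hf' => ?_⟩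
  · refine (Φ k).presheafFiber_hom_ext fun V v => ?_
    refine (Category.assoc _ _ _).symm.trans ((congrArg (· ≫ f)
      (toPresheafFiber_extStalkMap ξ K G Φ ν F k V v)).trans ((Category.assoc _ _ _).trans ?_))
    refine (htr f V _).symm.trans ?_
    simp only [f, γ, Equiv.apply_symm_apply]
    show (Pi.lift fun p : Fib ξ (G.obj V) => b' V ((e V).symm p)) ≫ Pi.π _ (e V ⟨k, v⟩) = _
    exact (limit.lift_π _ _).trans (hb _ ⟨_, _⟩)
  · apply (sadj.homEquiv _ M).injective
    apply (adj.homEquiv F _).injective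
    apply Sheaf.hom_ext
    ext V : 2
    apply Pi.hom_ext
    intro p
    rw [htr f' V.unop p, htr f V.unop p]
    obtain ⟨⟨k, w⟩, rfl⟩ := (e V.unop).surjective p
    refine (Category.assoc _ _ _).symm.trans (Eq.trans ?_ (Category.assoc _ _ _))
    have h1 := toPresheafFiber_extStalkMap ξ K G Φ ν F k V.unop w
    refine ((congrArg (· ≫ f') h1.symm).trans ((Category.assoc _ _ _).trans ?_)).trans
      ((Category.assoc _ _ _).symm.trans (congrArg (· ≫ f) h1))
    refine congrArg (_ ≫ ·) ((hf' k).trans ?_)
    refine ((Φ k).presheafFiber_hom_ext fun U x => ?_)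
    refine Eq.symm ((Category.assoc _ _ _).symm.trans ((congrArg (· ≫ f)
      (toPresheafFiber_extStalkMap ξ K G Φ ν F k U x)).trans ((Category.assoc _ _ _).trans ?_)))
    refine (htr f U _).symm.trans ?_
    simp only [f, γ, Equiv.apply_symm_apply]
    show (Pi.lift fun p : Fib ξ (G.obj U) => b' U ((e U).symm p)) ≫ Pi.π _ (e U ⟨k, x⟩) = _
    exact (limit.lift_π _ _).trans (hb _ ⟨_, _⟩)

/-- The stalk of the extension is the coproduct of the stalks over `ξ`. -/
noncomputable def extStalkColimit (F : Sheaf K A) :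
    IsColimit (Cofan.mk _ (extStalkMap ξ K G Φ ν F)) :=
  mkCofanColimit _ (fun s => (existsUnique_desc ξ K G Φ ν hν F s.inj).choose)
    (fun s k => (existsUnique_desc ξ K G Φ ν hν F s.inj).choose_spec.1 k)
    (fun s m hm => (existsUnique_desc ξ K G Φ ν hν F s.inj).choose_spec.2 m hm)

end

end Groth.Agent.EtShLib
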