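import Groth.Agent.EtShLib.ShriekPush
import Groth.Agent.EtShLib.FinSplit
import Groth.Agent.EtShLib.ExtConst
import Groth.Agent.EtShLib.RestrPull
import Groth.Agent.EtShLib.JContAll

/-! Direct images along finite étale morphisms. -/

set_option autoImplicit false
set_option linter.unusedSectionVars false
set_option linter.style.haveILetI false
set_option backward.isDefEq.respectTransparency false
set_option backward.isDefEq.respectTransparency.types false
set_option synthInstance.maxHeartbeats 400000
set_option maxHeartbeats 1000000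

universe u

open CategoryTheory CategoryTheory.Limits AlgebraicGeometry Opposite

namespace Groth.Agent.EtShLib

variable {X Y : Scheme.{u}}

theorem nonempty_pull_id (G : EtCoh.Ab Y) :
    Nonempty ((pullA (𝟙 Y) AddCommGrpCat.{u + 1}).obj G ≅ G) := by
  haveI := jCont (𝟙 Y)
  obtain ⟨e⟩ := nonempty_pull_iso_restrAlong (𝟙 Y) G
  let k : ∀ V : Y.Etale, V ≅ (EtShriek.compEtale (𝟙 Y)).obj V := fun V =>
    MorphismProperty.Over.isoMk (Iso.refl V.left) ((Category.id_comp _).trans (Category.comp_id _))
  exact ⟨e ≪≫ (fullyFaithfulSheafToPresheaf _ _).preimageIso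
    (NatIso.ofComponents (fun V => G.obj.mapIso (k V.unop).op) fun {V V'} g => by
      show G.obj.map ((EtShriek.compEtale (𝟙 Y)).map g.unop).op ≫ G.obj.map (k V'.unop).hom.op =
        G.obj.map (k V.unop).hom.op ≫ G.obj.map g
      rw [← Functor.map_comp, ← Functor.map_comp, ← op_comp, ← Quiver.Hom.op_unop g, ← op_comp]
      exact congrArg (fun t => G.obj.map (Quiver.Hom.op t))
        (MorphismProperty.Over.Hom.ext ((Category.id_comp _).trans (Category.comp_id _).symm)))⟩

theorem nonempty_iso_push (f : X ⟶ Y) [IsFinite f] [AlgebraicGeometry.Etale f] [EtShriek.JCont f] (F : EtCoh.Ab X) :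
    Nonempty ((EtShriek.extZero f).obj F ≅ (EtCoh.push f).obj F) :=
  haveI := isIso_shriekToPush f F
  ⟨asIso (shriekToPush f F)⟩

theorem lc_push_finite (f : X ⟶ Y) [IsFinite f] [AlgebraicGeometry.Etale f] [EtShriek.JCont f] {F : EtCoh.Ab X}
    (hF : LC (A := AddCommGrpCat.{u + 1}) FinP F) :
    LC (A := AddCommGrpCat.{u + 1}) FinP ((EtCoh.push f).obj F) := by
  obtain ⟨P, hP⟩ := hasPieces_extZero f hF
  haveI : IsFinite (str (etaleObj f)) := inferInstanceAs (IsFinite f)
  obtain ⟨e⟩ := nonempty_pull_id ((EtShriek.extZero f).obj F)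
  obtain ⟨e'⟩ := nonempty_iso_push f F
  exact (hP.lc_pull (𝟙 Y) (splits_of_isFinite (𝟙 Y) (etaleObj f))).of_stalk_iso (e ≪≫ e').hom

end Groth.Agent.EtShLib
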