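import Groth.Prelude.Def_EtCore
import Groth.Agent.EtShLib.Stalk
import Mathlib.AlgebraicGeometry.Morphisms.UniversallyOpen

/-! The sheaf condition along a Galois covering. -/

set_option autoImplicit false
set_option backward.isDefEq.respectTransparency false
universe u w

open CategoryTheory CategoryTheory.Limits AlgebraicGeometry Opposite

namespace Groth.Agent.EtShLib

variable {X : Scheme.{u}} {Y : X.Etale} {G : Type u} [Group G] (σ : G →* Aut Y)

theorem isSheafFor_galois_iff (P : X.Etaleᵒᵖ ⥤ Type w)
    (hP : Function.Injective (fun s : P.obj (op (Y ⨯ Y)) => fun g : G => P.map (prod.lift (𝟙 Y) (σ g).hom).op s)) :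
    Presieve.IsSheafFor P (Presieve.singleton ((EtCore.topIsTerminal X).from Y)) ↔
      (Function.Injective (P.map ((EtCore.topIsTerminal X).from Y).op) ∧
        Set.range (P.map ((EtCore.topIsTerminal X).from Y).op) = {s | ∀ g : G, P.map (σ g).hom.op s = s}) := by
  have hterm : ∀ {Z : X.Etale} (p q : Z ⟶ Y),
      p ≫ (EtCore.topIsTerminal X).from Y = q ≫ (EtCore.topIsTerminal X).from Y :=
    fun p q => (EtCore.topIsTerminal X).hom_ext _ _
  have hinv : ∀ t (g : G), P.map (σ g).hom.op (P.map ((EtCore.topIsTerminal X).from Y).op t) =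
      P.map ((EtCore.topIsTerminal X).from Y).op t := fun t g => by
    rw [← ConcreteCategory.comp_apply, ← P.map_comp, ← op_comp,
      (EtCore.topIsTerminal X).hom_ext ((σ g).hom ≫ (EtCore.topIsTerminal X).from Y) ((EtCore.topIsTerminal X).from Y)]
  have hcompat : ∀ (s : P.obj (op Y)), (∀ g : G, P.map (σ g).hom.op s = s) →
      ∀ {Z : X.Etale} (p q : Z ⟶ Y), P.map p.op s = P.map q.op s := by
    intro s hs Z p q
    have h : P.map (prod.fst : Y ⨯ Y ⟶ Y).op s = P.map (prod.snd : Y ⨯ Y ⟶ Y).op s := hP (funext fun g => by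
      show P.map (prod.lift (𝟙 Y) (σ g).hom).op (P.map prod.fst.op s) =
        P.map (prod.lift (𝟙 Y) (σ g).hom).op (P.map prod.snd.op s)
      rw [← ConcreteCategory.comp_apply, ← ConcreteCategory.comp_apply, ← P.map_comp, ← P.map_comp, ← op_comp,
        ← op_comp, prod.lift_fst, prod.lift_snd, op_id, P.map_id, hs g]
      rfl)
    have := congrArg (P.map (prod.lift p q).op) h
    rwa [← ConcreteCategory.comp_apply, ← ConcreteCategory.comp_apply, ← P.map_comp, ← P.map_comp, ← op_comp,
      ← op_comp, prod.lift_fst, prod.lift_snd] at this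
  rw [Presieve.isSheafFor_singleton]
  constructor
  · intro h
    refine ⟨fun a b hab => (h (P.map ((EtCore.topIsTerminal X).from Y).op b) (fun p q _ => ?_)).unique hab rfl,
      Set.ext fun s => ⟨?_, fun hs => (h s fun p q _ => hcompat s hs p q).exists⟩⟩
    · rw [← ConcreteCategory.comp_apply, ← ConcreteCategory.comp_apply, ← P.map_comp, ← P.map_comp, ← op_comp,
        ← op_comp, hterm p q]
    · rintro ⟨t, rfl⟩ g
      exact hinv t g
  · rintro ⟨hinj, hr⟩ s hs
    obtain ⟨t, ht⟩ := hr.symm.subset (show s ∈ {s | ∀ g : G, P.map (σ g).hom.op s = s} from fun g => by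
      refine (hs (σ g).hom (𝟙 Y) (hterm _ _)).trans ?_
      rw [op_id, P.map_id]
      rfl)
    exact ⟨t, ht, fun y hy => hinj (hy.trans ht.symm)⟩

/-- The summands of a colimit cofan of etale schemes cover it. -/
theorem exists_mem_range_of_isColimit_cofan {ι : Type u} {V : ι → X.Etale} {W : X.Etale} (π : ∀ i, V i ⟶ W)
    (hW : IsColimit (Cofan.mk W π)) (y : W.left) : ∃ i, y ∈ Set.range (π i).left.base := by
  haveI hopen : ∀ i, UniversallyOpen (π i).left := fun i => inferInstance
  let U : W.left.Opens := ⨆ i, (⟨Set.range (π i).left.base, (π i).left.isOpenMap.isOpen_range⟩ : W.left.Opens)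
  haveI : Etale W.hom := W.prop
  haveI : IsOpenImmersion U.ι := inferInstanceAs (IsOpenImmersion (Scheme.Opens.ι U))
  let W' : X.Etale := MorphismProperty.Over.mk ⊤ (U.ι ≫ W.hom) inferInstance
  let ι' : W' ⟶ W := MorphismProperty.Over.homMk U.ι rfl trivial
  have hsub : ∀ i, Set.range (π i).left.base ⊆ Set.range U.ι.base := fun i => by
    rw [Scheme.Opens.range_ι]
    exact SetLike.coe_subset_coe.2 (le_iSup (fun i => (⟨Set.range (π i).left.base, (π i).left.isOpenMap.isOpen_range⟩ : W.left.Opens)) i)
  let l : ∀ i, V i ⟶ W' := fun i =>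
    MorphismProperty.Over.homMk (IsOpenImmersion.lift U.ι (π i).left (hsub i))
      (by
        show IsOpenImmersion.lift U.ι (π i).left (hsub i) ≫ U.ι ≫ W.hom = _
        rw [IsOpenImmersion.lift_fac_assoc]
        exact MorphismProperty.Over.w (π i)) trivial
  have h : Cofan.IsColimit.desc hW l ≫ ι' = 𝟙 W := Cofan.IsColimit.hom_ext hW _ _ fun i => by
    refine Eq.trans ?_ (Category.comp_id _).symm
    rw [← Category.assoc, Cofan.IsColimit.fac]
    apply MorphismProperty.Over.Hom.ext
    show (l i).left ≫ ι'.left = (π i).left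
    simp only [l, ι', MorphismProperty.Over.homMk]
    exact IsOpenImmersion.lift_fac U.ι (π i).left (hsub i)
  have hy : y ∈ (U : Set W.left) := by
    rw [← Scheme.Opens.range_ι]
    refine ⟨(Cofan.IsColimit.desc hW l).left.base y, ?_⟩
    exact congrArg (fun m : W ⟶ W => m.left.base y) h
  simpa [U, TopologicalSpace.Opens.mem_iSup, TopologicalSpace.Opens.mem_mk] using hy

end Groth.Agent.EtShLib
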