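import Groth.Agent.EtShLib.PushStalk
import Mathlib.AlgebraicGeometry.Morphisms.Immersion

/-! Étale neighbourhoods along immersions. -/

set_option autoImplicit false
set_option linter.unusedSectionVars false
set_option linter.style.haveILetI false
set_option backward.isDefEq.respectTransparency false
set_option backward.isDefEq.respectTransparency.types false
set_option maxHeartbeats 1000000

universe u

open CategoryTheory CategoryTheory.Limits AlgebraicGeometry Opposite

namespace Groth.Agent.EtShLib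

theorem exists_etale_lift_immersion {P U W : Scheme.{u}} (q : P ⟶ U) [IsImmersion q] (g : W ⟶ P) [Etale g] (w : W) :
    ∃ (W₀ : W.Opens) (_ : w ∈ W₀) (U' : Scheme.{u}) (k : U' ⟶ U) (c : (W₀ : Scheme.{u}) ⟶ U'),
      Etale k ∧ IsPullback c (W₀.ι ≫ g) k q := by
  obtain ⟨W₀, hw, U', k, c, hk, hpb⟩ := exists_lift_closed q.liftCoborder g w
  haveI := hk
  refine ⟨W₀, hw, U', k ≫ q.coborderRange.ι, c, inferInstance, ?_⟩
  have h2 : IsPullback q.liftCoborder (𝟙 P) q.coborderRange.ι q :=
    ⟨⟨by rw [Category.id_comp]; exact q.liftCoborder_ι⟩, ⟨PullbackCone.IsLimit.mk _ (fun s => s.snd)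
      (fun s => by
        rw [← cancel_mono q.coborderRange.ι, Category.assoc, q.liftCoborder_ι]
        exact s.condition.symm)
      (fun s => Category.comp_id _) fun s m h1 h2 => (Category.comp_id m).symm.trans h2⟩⟩
  have h3 := hpb.paste_vert h2
  rwa [Category.comp_id] at h3

variable {Z X : Scheme.{u}} (f : Z ⟶ X) {Ω : Type u} [Field Ω] [IsSepClosed Ω] (ξ : Spec (CommRingCat.of Ω) ⟶ Z)

theorem refines_of_immersion [IsImmersion f] : Refines f ξ := by
  intro U u W g w hw
  let q : ((EtCoh.bc f).obj U).left ⟶ U.left := pullback.fst U.hom f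
  haveI : IsImmersion q := inferInstanceAs (IsImmersion (pullback.fst U.hom f))
  haveI := etale_left g
  haveI : AlgebraicGeometry.Etale U.hom := U.prop
  obtain ⟨W₀, hw₀, U', k, c, hk, hpb⟩ := exists_etale_lift_immersion q g.left w.pt
  haveI := hk
  let U'' : X.Etale := MorphismProperty.Over.mk _ (k ≫ U.hom) inferInstance
  let kk : U'' ⟶ U := MorphismProperty.Over.homMk k
  have sq := EtCoh.isPullback_bc_map f kk
  let e : ((EtCoh.bc f).obj U'').left ≅ (W₀ : Scheme.{u}) := (IsPullback.isoIsPullback _ _ hpb.flip sq).symm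
  have e1 : e.hom ≫ W₀.ι ≫ g.left = ((EtCoh.bc f).map kk).left :=
    IsPullback.isoIsPullback_inv_fst _ _ hpb.flip sq
  have e2 : e.hom ≫ c = (pullback.fst U''.hom f : ((EtCoh.bc f).obj U'').left ⟶ U''.left) :=
    IsPullback.isoIsPullback_inv_snd _ _ hpb.flip sq
  let h : (EtCoh.bc f).obj U'' ⟶ W := MorphismProperty.Over.homMk (e.hom ≫ W₀.ι) (by
    rw [← MorphismProperty.Over.w g, Category.assoc, ← Category.assoc W₀.ι, ← Category.assoc, e1]
    exact MorphismProperty.Over.w ((EtCoh.bc f).map kk))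
  let w₀ : Spec (CommRingCat.of Ω) ⟶ (W₀ : Scheme.{u}) := IsOpenImmersion.lift W₀.ι w.hom (by
    rintro _ ⟨a, rfl⟩
    rw [Subsingleton.elim a default, Scheme.Opens.range_ι]
    exact hw₀)
  have hw₀' : w₀ ≫ W₀.ι = w.hom := IsOpenImmersion.lift_fac _ _ _
  have e3 : (w₀ ≫ c) ≫ k = u.hom := by
    rw [Category.assoc, hpb.w, ← Category.assoc, ← Category.assoc, hw₀']
    refine (congrArg (fun t : Fib ξ ((EtCoh.bc f).obj U) => t.hom ≫ q) hw).trans ?_
    exact pullback.lift_fst _ _ _
  let u' : Fib (ξ ≫ f) U'' := Fib.mk (w₀ ≫ c) (by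
    show (w₀ ≫ c) ≫ k ≫ U.hom = ξ ≫ f
    rw [← Category.assoc, e3]
    exact u.w)
  have hku : u'.map kk = u := Fib.ext e3
  refine ⟨U'', kk, u', h, hku, ?_, ?_⟩
  · apply Fib.ext
    show (u'.lift f ξ).hom ≫ e.hom ≫ W₀.ι = w.hom
    rw [← hw₀', ← Category.assoc]
    refine congrArg (· ≫ W₀.ι) ?_
    rw [← Iso.eq_comp_inv]
    apply sq.hom_ext
    · rw [Category.assoc]
      refine Eq.trans ?_ (congrArg (w₀ ≫ ·) (IsPullback.isoIsPullback_hom_fst _ _ hpb.flip sq).symm)
      rw [← Category.assoc, hw₀']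
      have := congrArg Fib.hom ((lift_map f ξ kk u').trans ((congrArg (Fib.lift f ξ) hku).trans hw.symm))
      exact this
    · rw [Category.assoc]
      refine Eq.trans ?_ (congrArg (w₀ ≫ ·) (IsPullback.isoIsPullback_hom_snd _ _ hpb.flip sq).symm)
      exact pullback.lift_fst _ _ _
  · apply MorphismProperty.Over.Hom.ext
    show (e.hom ≫ W₀.ι) ≫ g.left = _
    rw [Category.assoc]
    exact e1

end Groth.Agent.EtShLib
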