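import Groth.Agent.EtShLib.LocConst
import Mathlib.Algebra.Homology.ShortComplex.ShortExact
import Mathlib.RingTheory.Finiteness.Cardinality
import Mathlib.Algebra.Homology.ShortComplex.ModuleCat
import Mathlib.Algebra.Homology.ShortComplex.Ab

/-! Extensions of locally constant sheaves. -/

set_option autoImplicit false
set_option linter.unusedSectionVars false
set_option linter.style.haveILetI false
set_option backward.isDefEq.respectTransparency false
set_option backward.isDefEq.respectTransparency.types false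
set_option synthInstance.maxHeartbeats 400000
set_option maxHeartbeats 1000000

universe u

open CategoryTheory CategoryTheory.Limits AlgebraicGeometry Opposite

namespace Groth.Agent.EtShLib

variable {X : Scheme.{u}}

section Generic

variable {A : Type (u + 2)} [Category.{u + 1} A] [HasColimitsOfSize.{u, u} A]
  {FA : A → A → Type*} {CA : A → Type (u + 1)} [∀ M N, FunLike (FA M N) (CA M) (CA N)]
  [ConcreteCategory.{u + 1} A FA] [hfc : PreservesFilteredColimitsOfSize.{u, u} (forget A)]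

/-- Morphisms from `M` to stalks extend to neighbourhoods. -/
def Lifts (M : A) : Prop :=
  ∀ {X : Scheme.{u}} (F : Sheaf X.smallEtaleTopology A) {Ω : Type u} [Field Ω] [IsSepClosed Ω]
    (ξ : Spec (CommRingCat.of Ω) ⟶ X) (U : X.Etale) (u : Fib ξ U) (φ : M ⟶ (stk ξ).obj F),
    ∃ (V : X.Etale) (g : V ⟶ U) (v : Fib ξ V) (σ : M ⟶ F.obj.obj (op V)),
      v.map g = u ∧ σ ≫ germ ξ F V v = φ

include hfc

theorem exists_eq {F : Sheaf X.smallEtaleTopology A} {Ω : Type u} [Field Ω] [IsSepClosed Ω]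
    (ξ : Spec (CommRingCat.of Ω) ⟶ X) {U : X.Etale} (u : Fib ξ U) {M : A} (hM : FG M)
    (a b : M ⟶ F.obj.obj (op U)) (h : a ≫ germ ξ F U u = b ≫ germ ξ F U u) :
    ∃ (V : X.Etale) (g : V ⟶ U) (v : Fib ξ V), v.map g = u ∧ a ≫ F.obj.map g.op = b ≫ F.obj.map g.op := by
  obtain ⟨s, hs⟩ := hM
  obtain ⟨V, g, v, hv, he⟩ := exists_equalizer F ξ u s (fun x => a x) (fun x => b x) (fun x _ => by
    rw [← ConcreteCategory.comp_apply, ← ConcreteCategory.comp_apply, h])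
  exact ⟨V, g, v, hv, hs _ _ fun x hx => by
    rw [ConcreteCategory.comp_apply, ConcreteCategory.comp_apply]
    exact he x hx⟩

theorem LC.extension [Abelian A] [HasSheafify X.smallEtaleTopology A] [AB5OfSize.{u, u} A] [HasProducts.{u} A]
    {P R : A → Prop} (S : ShortComplex (Sheaf X.smallEtaleTopology A)) (hS : S.ShortExact)
    (h₁ : LC P S.X₁) (h₃ : LC P S.X₃) (hP : ∀ M, P M → FG M)
    (hR : ∀ T : ShortComplex A, T.ShortExact → P T.X₁ → P T.X₃ → R T.X₂)
    (hR' : ∀ M, R M → FG M ∧ Lifts M) : LC R S.X₂ := by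
  intro x
  obtain ⟨U, y, M, η, hy, hM, hη⟩ := h₁ x
  obtain ⟨U', y', N, θ, hy', hN, hθ⟩ := h₃ x
  obtain ⟨Ω, _, _, ξ, hξ⟩ := exists_geometric_pt x
  obtain ⟨a, -⟩ := exists_fib ξ U y (hy.trans hξ.symm)
  obtain ⟨b, -⟩ := exists_fib ξ U' y' (hy'.trans hξ.symm)
  obtain ⟨⟨W, w⟩, g, g', -⟩ := IsCofilteredOrEmpty.cone_objs ((pt ξ).fiber.elementsMk U a) ((pt ξ).fiber.elementsMk U' b)
  replace hη := hη.map g.1
  replace hθ := hθ.map g'.1
  generalize η ≫ S.X₁.obj.map g.1.op = η₁ at hη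
  generalize θ ≫ S.X₃.obj.map g'.1.op = θ₁ at hθ
  haveI := hη Ω ξ w
  haveI := hθ Ω ξ w
  have hse := hS.map_of_exact (stk ξ)
  haveI := hse.mono_f
  haveI := hse.epi_g
  let T : ShortComplex A := ShortComplex.mk ((η₁ ≫ germ ξ S.X₁ W w) ≫ (stk ξ).map S.f)
    ((stk ξ).map S.g ≫ inv (θ₁ ≫ germ ξ S.X₃ W w)) (by
      rw [Category.assoc, ← Category.assoc ((stk ξ).map S.f), ← Functor.map_comp, S.zero, Functor.map_zero]
      simp)
  have hT : T.ShortExact := ShortComplex.shortExact_of_iso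
    (show S.map (stk ξ) ≅ T from
      ShortComplex.isoMk (asIso (η₁ ≫ germ ξ S.X₁ W w)).symm (Iso.refl _) (asIso (θ₁ ≫ germ ξ S.X₃ W w)).symm
        (by simp [T]) (by simp [T])) hse
  have hR2 : R ((stk ξ).obj S.X₂) := hR T hT hM hN
  obtain ⟨hfg, hl⟩ := hR' _ hR2
  obtain ⟨V, k, v, σ, hv, hσ⟩ := hl S.X₂ ξ W w (𝟙 _)
  have e1 : ((η₁ ≫ S.X₁.obj.map k.op) ≫ S.f.hom.app (op V)) ≫ germ ξ S.X₂ V v =
      (T.f ≫ σ) ≫ germ ξ S.X₂ V v := by
    rw [Category.assoc T.f, hσ, Category.comp_id]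
    show _ = (η₁ ≫ germ ξ S.X₁ W w) ≫ (stk ξ).map S.f
    rw [Category.assoc, Category.assoc, ← germ_natural, ← Category.assoc (S.X₁.obj.map k.op), germ_res, hv,
      Category.assoc]
  obtain ⟨V₁, k₁, v₁, hv₁, e1⟩ := exists_eq ξ v (hP M hM) _ _ e1
  have e2 : ((σ ≫ S.X₂.obj.map k₁.op) ≫ S.g.hom.app (op V₁)) ≫ germ ξ S.X₃ V₁ v₁ =
      (T.g ≫ θ₁ ≫ S.X₃.obj.map (k₁ ≫ k).op) ≫ germ ξ S.X₃ V₁ v₁ := by
    have hw : v₁.map (k₁ ≫ k) = w := by
      show (pt ξ).fiber.map (k₁ ≫ k) v₁ = w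
      rw [Functor.map_comp_apply]
      exact (congrArg (Fib.map k) hv₁).trans hv
    rw [Category.assoc T.g, Category.assoc θ₁, germ_res, hw, Category.assoc, ← germ_natural,
      Category.assoc, ← Category.assoc (S.X₂.obj.map k₁.op), germ_res, hv₁, ← Category.assoc σ, hσ, Category.id_comp]
    simp [T]
  obtain ⟨V₂, k₂, v₂, -, e2⟩ := exists_eq ξ v₁ hfg _ _ e2
  let σ' := σ ≫ S.X₂.obj.map (k₂ ≫ k₁).op
  let η' := η₁ ≫ S.X₁.obj.map ((k₂ ≫ k₁) ≫ k).op
  let θ' := θ₁ ≫ S.X₃.obj.map ((k₂ ≫ k₁) ≫ k).op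
  have f1 : η' ≫ S.f.hom.app (op V₂) = T.f ≫ σ' := by
    have := congrArg (fun t => t ≫ S.X₂.obj.map k₂.op) e1
    simpa [η', σ', op_comp, Functor.map_comp] using this
  have f2 : σ' ≫ S.g.hom.app (op V₂) = T.g ≫ θ' := by
    simpa [θ', σ', op_comp, Functor.map_comp] using e2
  refine ⟨V₂, v₂.pt, T.X₂, σ', (congrArg (fun t : Spec (CommRingCat.of Ω) ⟶ X => t.base default) v₂.w).trans hξ,
    hR T hT hM hN, fun Ω' _ _ ξ' z => ?_⟩
  haveI : IsIso (η' ≫ germ ξ' S.X₁ V₂ z) := (hη.map _) Ω' ξ' z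
  haveI : IsIso (θ' ≫ germ ξ' S.X₃ V₂ z) := (hθ.map _) Ω' ξ' z
  let Φ : T ⟶ S.map (stk ξ') :=
    ShortComplex.Hom.mk (η' ≫ germ ξ' S.X₁ V₂ z) (σ' ≫ germ ξ' S.X₂ V₂ z) (θ' ≫ germ ξ' S.X₃ V₂ z)
      (by
        show (η' ≫ germ ξ' S.X₁ V₂ z) ≫ (stk ξ').map S.f = T.f ≫ σ' ≫ germ ξ' S.X₂ V₂ z
        rw [Category.assoc, germ_natural, ← Category.assoc, f1, Category.assoc])
      (by
        show (σ' ≫ germ ξ' S.X₂ V₂ z) ≫ (stk ξ').map S.g = T.g ≫ θ' ≫ germ ξ' S.X₃ V₂ z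
        rw [Category.assoc, germ_natural, ← Category.assoc, f2, Category.assoc])
  haveI : IsIso Φ.τ₁ := ‹IsIso (η' ≫ germ ξ' S.X₁ V₂ z)›
  haveI : IsIso Φ.τ₃ := ‹IsIso (θ' ≫ germ ξ' S.X₃ V₂ z)›
  exact ShortComplex.isIso₂_of_shortExact_of_isIso₁₃ Φ hT (hS.map_of_exact (stk ξ'))

end Generic

section

variable {A : Type (u + 2)} [Category.{u + 1} A] [HasColimitsOfSize.{u, u} A]
  {FA : A → A → Type*} {CA : A → Type (u + 1)} [∀ M N, FunLike (FA M N) (CA M) (CA N)]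
  [ConcreteCategory.{u + 1} A FA] [hfc : PreservesFilteredColimitsOfSize.{u, u} (forget A)]

include hfc

theorem exists_germs {F : Sheaf X.smallEtaleTopology A} {Ω : Type u} [Field Ω] [IsSepClosed Ω]
    (ξ : Spec (CommRingCat.of Ω) ⟶ X) (U : X.Etale) (u : Fib ξ U) {κ : Type*} [Finite κ]
    (p : κ → ToType ((stk ξ).obj F)) :
    ∃ (V : X.Etale) (g : V ⟶ U) (v : Fib ξ V) (t : κ → ToType (F.obj.obj (op V))),
      v.map g = u ∧ ∀ k, germ ξ F V v (t k) = p k := by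
  classical
  choose W w r hr using fun k => exists_germ ξ (p k)
  obtain ⟨T, hT⟩ := IsCofiltered.inf_objs_exists
    ({(pt ξ).fiber.elementsMk U u} ∪ (Set.finite_range fun k => (pt ξ).fiber.elementsMk (W k) (w k)).toFinset)
  obtain ⟨g⟩ := hT (X := (pt ξ).fiber.elementsMk U u) (by simp)
  have h : ∀ k, Nonempty (T ⟶ (pt ξ).fiber.elementsMk (W k) (w k)) := fun k => hT (by simp)
  refine ⟨T.1, g.1, T.2, fun k => F.obj.map (h k).some.1.op (r k), g.2, fun k => ?_⟩
  rw [germ_res_apply, show Fib.map (h k).some.1 T.2 = w k from (h k).some.2, hr]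

end

theorem lifts_Ab {M : AddCommGrpCat.{u + 1}} [Finite M] : Lifts M := by
  intro X F Ω _ _ ξ U u φ
  haveI := Fintype.ofFinite M
  obtain ⟨V, g, v, t, hv, ht⟩ := exists_germs (A := AddCommGrpCat.{u + 1}) ξ U u (fun m : M => φ m)
  obtain ⟨V', g', v', hv', he⟩ := exists_equalizer (A := AddCommGrpCat.{u + 1}) F ξ v
    (Finset.univ : Finset (M × M)) (fun q => t (q.1 + q.2)) (fun q => t q.1 + t q.2)
    (fun q _ => by rw [map_add, ht, ht, ht, map_add])
  refine ⟨V', g' ≫ g, v', AddCommGrpCat.ofHom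
    (AddMonoidHom.mk' (fun m => F.obj.map g'.op (t m)) fun m n => (he (m, n) (Finset.mem_univ _)).trans (map_add _ _ _)), ?_, ?_⟩
  · show (pt ξ).fiber.map (g' ≫ g) v' = u
    rw [Functor.map_comp_apply]
    exact (congrArg (Fib.map g) hv').trans hv
  · ext m
    show germ ξ F V' v' (F.obj.map g'.op (t m)) = φ m
    rw [germ_res_apply, hv', ht]

theorem lifts_Mod {Λ : Type (u + 1)} [CommRing Λ] [IsNoetherianRing Λ] {M : ModuleCat.{u + 1} Λ}
    (h : Module.Finite Λ M) : Lifts M := by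
  intro X F Ω _ _ ξ U u φ
  obtain ⟨n, p, hp⟩ := Module.Finite.exists_fin' Λ M
  obtain ⟨V, g, v, t, hv, ht⟩ := exists_germs (A := ModuleCat.{u + 1} Λ) ξ U u
    (fun i : Fin n => φ (p (Pi.single i 1)))
  let L : (Fin n → Λ) →ₗ[Λ] F.obj.obj (op V) := (Pi.basisFun Λ (Fin n)).constr Λ t
  have hL : ∀ c, germ ξ F V v (L c) = φ (p c) := by
    have : (germ ξ F V v).hom.comp L = φ.hom.comp p := (Pi.basisFun Λ (Fin n)).ext fun i => by
      simpa [L] using ht i
    exact fun c => LinearMap.congr_fun this c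
  obtain ⟨s, hs⟩ := (IsNoetherian.noetherian (LinearMap.ker p) : (LinearMap.ker p).FG)
  obtain ⟨V', g', v', hv', he⟩ := exists_equalizer (A := ModuleCat.{u + 1} Λ) F ξ v s (fun c => L c) (fun _ => 0)
    (fun c hc => by
      have hc' : p c = 0 := by
        rw [← LinearMap.mem_ker, ← hs]
        exact Submodule.subset_span hc
      rw [hL, hc', map_zero, map_zero])
  let L' := (F.obj.map g'.op).hom.comp L
  have hk : LinearMap.ker p ≤ LinearMap.ker L' := by
    rw [← hs, Submodule.span_le]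
    intro c hc
    exact (he c hc).trans (map_zero _)
  let σ : M →ₗ[Λ] F.obj.obj (op V') :=
    (LinearMap.ker p).liftQ L' hk ∘ₗ (p.quotKerEquivOfSurjective hp).symm.toLinearMap
  refine ⟨V', g' ≫ g, v', ModuleCat.ofHom σ, ?_, ?_⟩
  · show (pt ξ).fiber.map (g' ≫ g) v' = u
    rw [Functor.map_comp_apply]
    exact (congrArg (Fib.map g) hv').trans hv
  · ext m
    obtain ⟨c, rfl⟩ := hp m
    have e : σ (p c) = L' c := by
      show (LinearMap.ker p).liftQ L' hk ((p.quotKerEquivOfSurjective hp).symm (p c)) = L' c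
      rw [show p c = (p.quotKerEquivOfSurjective hp) (Submodule.Quotient.mk c) from rfl, LinearEquiv.symm_apply_apply]
      rfl
    show germ ξ F V' v' (σ (p c)) = φ (p c)
    rw [e]
    show germ ξ F V' v' (F.obj.map g'.op (L c)) = _
    rw [germ_res_apply, hv', hL]

end Groth.Agent.EtShLib

namespace Groth.Agent.EtShLib

variable {X : Scheme.{u}}

theorem flc_kernel {F G : EtCoh.Ab X} (φ : F ⟶ G) (hF : LC (fun M : AddCommGrpCat.{u + 1} => Finite M) F)
    (hG : LC (fun M : AddCommGrpCat.{u + 1} => Finite M) G) :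
    LC (fun M : AddCommGrpCat.{u + 1} => Finite M) (kernel φ) :=
  hF.kernel φ hG (fun M (hM : Finite M) => fg_Ab) fun M N h (hM : Finite M) _ =>
    Finite.of_injective (kernel.ι h) ((AddCommGrpCat.mono_iff_injective _).1 inferInstance)

theorem flc_cokernel {F G : EtCoh.Ab X} (φ : F ⟶ G) (hF : LC (fun M : AddCommGrpCat.{u + 1} => Finite M) F)
    (hG : LC (fun M : AddCommGrpCat.{u + 1} => Finite M) G) :
    LC (fun M : AddCommGrpCat.{u + 1} => Finite M) (cokernel φ) :=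
  hF.cokernel φ hG (fun M (hM : Finite M) => fg_Ab) fun M N h _ (hN : Finite N) =>
    Finite.of_surjective (cokernel.π h) ((AddCommGrpCat.epi_iff_surjective _).1 inferInstance)

theorem finite_mid {T : ShortComplex AddCommGrpCat.{u + 1}} (hT : T.ShortExact) [Finite T.X₁] [Finite T.X₃] :
    Finite T.X₂ := by
  haveI : Finite T.g.hom.range := inferInstance
  haveI : Finite T.g.hom.ker := by
    refine Finite.of_surjective (fun a => (⟨T.f a, ?_⟩ : T.g.hom.ker)) fun b => ?_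
    · exact AddMonoidHom.mem_ker.2 (by
        show (T.f ≫ T.g) a = 0
        rw [T.zero]; rfl)
    · obtain ⟨a, ha⟩ := (T.ab_exact_iff.1 hT.exact) b.1 b.2
      exact ⟨a, Subtype.ext ha⟩
  haveI : Finite (T.X₂ ⧸ T.g.hom.ker) := Finite.of_equiv _ (QuotientAddGroup.quotientKerEquivRange T.g.hom).symm.toEquiv
  exact Finite.of_equiv _ (AddSubgroup.addGroupEquivQuotientProdAddSubgroup (s := T.g.hom.ker)).symm

theorem flc_extension {S : ShortComplex (EtCoh.Ab X)} (hS : S.ShortExact)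
    (h₁ : LC (fun M : AddCommGrpCat.{u + 1} => Finite M) S.X₁) (h₃ : LC (fun M : AddCommGrpCat.{u + 1} => Finite M) S.X₃) :
    LC (fun M : AddCommGrpCat.{u + 1} => Finite M) S.X₂ :=
  LC.extension S hS h₁ h₃ (fun M (hM : Finite M) => fg_Ab)
    (fun T hT (h1 : Finite T.X₁) (h3 : Finite T.X₃) => finite_mid hT) fun M (hM : Finite M) => ⟨fg_Ab, lifts_Ab⟩

section

variable {Λ : Type (u + 1)} [CommRing Λ]

theorem ftlc_cokernel {F G : EtModW.Mod Λ X} (φ : F ⟶ G) (hF : LC (fun M : ModuleCat.{u + 1} Λ => Module.Finite Λ M) F)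
    (hG : LC (fun M : ModuleCat.{u + 1} Λ => Module.Finite Λ M) G) :
    LC (fun M : ModuleCat.{u + 1} Λ => Module.Finite Λ M) (cokernel φ) :=
  hF.cokernel φ hG (fun M hM => fg_Mod hM) fun M N h _ (hN : Module.Finite Λ N) =>
    Module.Finite.of_surjective (cokernel.π h).hom ((ModuleCat.epi_iff_surjective _).1 inferInstance)

variable [IsNoetherianRing Λ]

theorem ftlc_kernel {F G : EtModW.Mod Λ X} (φ : F ⟶ G) (hF : LC (fun M : ModuleCat.{u + 1} Λ => Module.Finite Λ M) F)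
    (hG : LC (fun M : ModuleCat.{u + 1} Λ => Module.Finite Λ M) G) :
    LC (fun M : ModuleCat.{u + 1} Λ => Module.Finite Λ M) (kernel φ) :=
  hF.kernel φ hG (fun M hM => fg_Mod hM) fun M N h (hM : Module.Finite Λ M) _ =>
    Module.Finite.of_injective (kernel.ι h).hom ((ModuleCat.mono_iff_injective _).1 inferInstance)

theorem ftlc_extension {S : ShortComplex (EtModW.Mod Λ X)} (hS : S.ShortExact)
    (h₁ : LC (fun M : ModuleCat.{u + 1} Λ => Module.Finite Λ M) S.X₁)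
    (h₃ : LC (fun M : ModuleCat.{u + 1} Λ => Module.Finite Λ M) S.X₃) :
    LC (fun M : ModuleCat.{u + 1} Λ => Module.Finite Λ M) S.X₂ :=
  LC.extension S hS h₁ h₃ (fun M hM => fg_Mod hM)
    (fun T hT (h1 : Module.Finite Λ T.X₁) (h3 : Module.Finite Λ T.X₃) => by
      haveI : IsNoetherian Λ T.X₁ := isNoetherian_of_isNoetherianRing_of_finite Λ _
      haveI : IsNoetherian Λ T.X₃ := isNoetherian_of_isNoetherianRing_of_finite Λ _
      haveI : IsNoetherian Λ T.X₂ := isNoetherian_of_range_eq_ker T.f.hom T.g.hom (T.moduleCat_exact_iff_range_eq_ker.1 hT.exact)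
      infer_instance)
    fun M hM => ⟨fg_Mod hM, lifts_Mod hM⟩

end

end Groth.Agent.EtShLib
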