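import Groth.Agent.EtShLib.ShriekComp

/-! The composition isomorphism of direct images with proper support. -/

set_option autoImplicit false
set_option linter.unusedSectionVars false
set_option linter.style.haveILetI false
set_option backward.isDefEq.respectTransparency false
set_option backward.isDefEq.respectTransparency.types false
set_option synthInstance.maxHeartbeats 400000
set_option maxHeartbeats 1000000

universe u

open CategoryTheory CategoryTheory.Limits AlgebraicGeometry Opposite

namespace Groth.Agent.EtShLib

theorem toPush_eq {X Y : Scheme.{u}} (f : X ⟶ Y) [LocallyOfFiniteType f] (F : EtCoh.Ab X) :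
    EtShriek.lowerShriekToPush f F = (lowerShriekIso f).hom.app F ≫ (preι f).app F := by
  rw [EtShriek.lowerShriekToPush, Adjunction.homEquiv_counit]
  exact (sheafificationAdjunction Y.smallEtaleTopology AddCommGrpCat.{u + 1}).counit.naturality ((preι f).app F)

variable {X Y Z : Scheme.{u}} (h : X ⟶ Y) (g : Y ⟶ Z) [IsSeparated h] [LocallyOfFiniteType h] [IsSeparated g]
  [LocallyOfFiniteType g]

theorem preComp_compat (F : EtCoh.Ab X) :
    (preCompIso h g).hom.app F ≫ (preF g).map ((preι h).app F) ≫ (preι g).app ((EtCoh.push h).obj F) =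
      (preι (h ≫ g)).app F ≫ (EtCoh.pushComp g h).inv.app F := by
  refine Sheaf.hom_ext ?_
  ext V : 2
  ext s
  simp [EtCoh.pushComp, preι, preCompIso, preF, bcComp, EtShriek.lowerShriekPreι, EtShriek.lowerShriekPreFunctor]
  rfl

theorem existsUnique_comp_iso :
    ∃! φ : EtShriek.lowerShriek (h ≫ g) ≅ EtShriek.lowerShriek h ⋙ EtShriek.lowerShriek g,
      ∀ F : EtCoh.Ab X,
        φ.hom.app F ≫ (EtShriek.lowerShriek g).map (EtShriek.lowerShriekToPush h F) ≫
            EtShriek.lowerShriekToPush g ((EtCoh.push h).obj F) =
          EtShriek.lowerShriekToPush (h ≫ g) F ≫ (EtCoh.pushComp g h).inv.app F := by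
  have hmap : ∀ F, (EtShriek.lowerShriek g).map (EtShriek.lowerShriekToPush h F) ≫
      EtShriek.lowerShriekToPush g ((EtCoh.push h).obj F) =
      (lowerShriekIso g).hom.app ((EtShriek.lowerShriek h).obj F) ≫ (preF g).map ((lowerShriekIso h).hom.app F) ≫
        (preF g).map ((preι h).app F) ≫ (preι g).app ((EtCoh.push h).obj F) := fun F => by
    rw [toPush_eq g, NatTrans.naturality_assoc, toPush_eq h, Functor.map_comp, Category.assoc]
  have hkey : ∀ F, (NatIso.hcomp (lowerShriekIso h).symm (lowerShriekIso g).symm).hom.app F ≫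
      (lowerShriekIso g).hom.app ((EtShriek.lowerShriek h).obj F) ≫ (preF g).map ((lowerShriekIso h).hom.app F) =
      𝟙 ((preF g).obj ((preF h).obj F)) := fun F => by
    show ((lowerShriekIso g).inv.app ((preF h).obj F) ≫ (EtShriek.lowerShriek g).map ((lowerShriekIso h).inv.app F)) ≫
      _ = _
    rw [Category.assoc, NatTrans.naturality_assoc, ← Functor.map_comp, Iso.inv_hom_id_app,
      CategoryTheory.Functor.map_id, Category.comp_id, Iso.inv_hom_id_app]
  refine ⟨lowerShriekIso (h ≫ g) ≪≫ preCompIso h g ≪≫
    NatIso.hcomp (lowerShriekIso h).symm (lowerShriekIso g).symm, fun F => ?_, fun ψ hψ => ?_⟩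
  · rw [hmap, toPush_eq (h ≫ g), Category.assoc, ← preComp_compat]
    simp only [Iso.trans_hom, NatTrans.comp_app, Category.assoc]
    erw [reassoc_of% (hkey F)]
  · have hu : ∀ F, Mono ((EtShriek.lowerShriek g).map (EtShriek.lowerShriekToPush h F) ≫
        EtShriek.lowerShriekToPush g ((EtCoh.push h).obj F)) := fun F => by
      haveI := preservesMonomorphisms_preF g
      haveI : Mono ((preF g).map ((preι h).app F)) := Functor.map_mono _ _
      rw [hmap]
      infer_instance
    refine Iso.ext (NatTrans.ext (funext fun F => ?_))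
    haveI := hu F
    refine (cancel_mono ((EtShriek.lowerShriek g).map (EtShriek.lowerShriekToPush h F) ≫
        EtShriek.lowerShriekToPush g ((EtCoh.push h).obj F))).1 ?_
    rw [hψ F]
    symm
    rw [hmap, toPush_eq (h ≫ g), Category.assoc, ← preComp_compat]
    simp only [Iso.trans_hom, NatTrans.comp_app, Category.assoc]
    erw [reassoc_of% (hkey F)]

end Groth.Agent.EtShLib
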