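import Groth.Agent.EtShLib.ShriekSupp
import Groth.Agent.EtShLib.Trace
import Groth.Agent.EtShLib.PushStalk
import Groth.Agent.WeightLib.Local

/-! Stalks of sections with proper support along locally quasi-finite morphisms. -/

set_option autoImplicit false
set_option linter.unusedSectionVars false
set_option linter.style.haveILetI false
set_option backward.isDefEq.respectTransparency false
set_option backward.isDefEq.respectTransparency.types false
set_option synthInstance.maxHeartbeats 400000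
set_option maxHeartbeats 1000000

universe u

open CategoryTheory CategoryTheory.Limits AlgebraicGeometry Opposite

namespace Groth.Agent.EtShLib

variable {X Y : Scheme.{u}} (f : X ⟶ Y) {Ω : Type u} [Field Ω] [IsSepClosed Ω]

/-- The point of the base change given by a lift and a neighbourhood. -/
noncomputable def Fib.liftU {ξ : Spec (CommRingCat.of Ω) ⟶ Y}
    (u : {u : Spec (CommRingCat.of Ω) ⟶ X // u ≫ f = ξ}) {W : Y.Etale} (w : Fib ξ W) :
    Fib u.1 ((EtCoh.bc f).obj W) :=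
  Fib.mk (U := (EtCoh.bc f).obj W) (pullback.lift w.hom u.1 (w.w.trans u.2.symm)) (pullback.lift_snd _ _ _)

theorem Fib.liftU_map {ξ : Spec (CommRingCat.of Ω) ⟶ Y}
    (u : {u : Spec (CommRingCat.of Ω) ⟶ X // u ≫ f = ξ}) {W W' : Y.Etale} (g : W' ⟶ W) (w : Fib ξ W') :
    (Fib.liftU f u w).map ((EtCoh.bc f).map g) = Fib.liftU f u (w.map g) := by
  obtain ⟨u₀, rfl⟩ := u
  exact lift_map f u₀ g w

variable (F : EtCoh.Ab X)

/-- The component of a stalk of the direct image at a lift. -/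
noncomputable def liftGerm (ξ : Spec (CommRingCat.of Ω) ⟶ Y)
    (u : {u : Spec (CommRingCat.of Ω) ⟶ X // u ≫ f = ξ}) :
    (stk (A := AddCommGrpCat.{u + 1}) ξ).obj ((EtCoh.push f).obj F) ⟶ (stk (A := AddCommGrpCat.{u + 1}) u.1).obj F :=
  eqToHom (congrArg (fun t => (stk (A := AddCommGrpCat.{u + 1}) t).obj ((EtCoh.push f).obj F)) u.2.symm) ≫
    compare (A := AddCommGrpCat.{u + 1}) f u.1 F

theorem liftGerm_germ (ξ : Spec (CommRingCat.of Ω) ⟶ Y)
    (u : {u : Spec (CommRingCat.of Ω) ⟶ X // u ≫ f = ξ}) (W : Y.Etale) (w : Fib ξ W)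
    (t : F.obj.obj (op ((EtCoh.bc f).obj W))) :
    liftGerm f F ξ u (germ (A := AddCommGrpCat.{u + 1}) ξ ((EtCoh.push f).obj F) W w t) =
      germ (A := AddCommGrpCat.{u + 1}) u.1 F _ (Fib.liftU f u w) t := by
  obtain ⟨u₀, rfl⟩ := u
  rw [show liftGerm f F (u₀ ≫ f) ⟨u₀, rfl⟩ = compare (A := AddCommGrpCat.{u + 1}) f u₀ F from Category.id_comp _]
  exact congrArg (fun q : ((EtCoh.push f).obj F).obj.obj (op W) ⟶ (stk (A := AddCommGrpCat.{u + 1}) u₀).obj F => q t)
    (germ_compare (A := AddCommGrpCat.{u + 1}) f u₀ F W w)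

theorem liftGerm_natural {G : EtCoh.Ab X} (α : F ⟶ G) (ξ : Spec (CommRingCat.of Ω) ⟶ Y)
    (u : {u : Spec (CommRingCat.of Ω) ⟶ X // u ≫ f = ξ}) (p : (stk (A := AddCommGrpCat.{u + 1}) ξ).obj ((EtCoh.push f).obj F)) :
    liftGerm f G ξ u ((stk (A := AddCommGrpCat.{u + 1}) ξ).map ((EtCoh.push f).map α) p) =
      (stk (A := AddCommGrpCat.{u + 1}) u.1).map α (liftGerm f F ξ u p) := by
  obtain ⟨W, w, t, rfl⟩ := exists_germ (A := AddCommGrpCat.{u + 1}) ξ p
  rw [germ_natural_apply, liftGerm_germ, liftGerm_germ, germ_natural_apply]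
  rfl

variable [LocallyOfFiniteType f]

theorem germ_eq_zero_of_lifts {ξ : Spec (CommRingCat.of Ω) ⟶ Y} (W : Y.Etale) (w : Fib ξ W)
    (t : F.obj.obj (op ((EtCoh.bc f).obj W))) (ht : t ∈ EtShriek.shriekSubgroup f F W)
    (hlift : ∀ z ∈ EtShriek.sectSupp F ((EtCoh.bc f).obj W) t, (EtShriek.prV f W).base z = w.pt →
      ∃ u, (Fib.liftU f u w).pt = z)
    (h0 : ∀ u, germ (A := AddCommGrpCat.{u + 1}) u.1 F _ (Fib.liftU f u w) t = 0) :
    germ (A := AddCommGrpCat.{u + 1}) ξ ((EtCoh.push f).obj F) W w t = 0 := by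
  obtain ⟨T, i, hi, hr, hp⟩ := ProperOverLib.exists_closedImmersion ((mem_shriekSubgroup_iff F f W t).1 ht)
  let O : W.left.Opens := ⟨(Set.range (i ≫ EtShriek.prV f W).base)ᶜ,
    (i ≫ EtShriek.prV f W).isClosedMap.isClosed_range.isOpen_compl⟩
  have hw : w.pt ∈ O := by
    rintro ⟨x, hx⟩
    have hz : i.base x ∈ EtShriek.sectSupp F ((EtCoh.bc f).obj W) t := hr.subset ⟨x, rfl⟩
    obtain ⟨u, hu⟩ := hlift _ hz hx
    exact notMem_sectSupp_of_germ F t (Fib.liftU f u w) (h0 u) (hu ▸ hz)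
  obtain ⟨W', j, w', hw', hj⟩ := exists_open_below ξ W w O hw
  have h : ((EtCoh.push f).obj F).obj.map j.op t = 0 := by
    refine eq_of_germ (A := AddCommGrpCat.{u + 1}) F (U := (EtCoh.bc f).obj W') _ _ fun Ω' _ _ ζ z => ?_
    show germ ζ F _ z (F.obj.map ((EtCoh.bc f).map j).op t) = _
    rw [map_zero]
    refine germ_eq_zero_of_notMem F _ z fun hz => ?_
    obtain ⟨x, hx⟩ := hr.superset (sectSupp_res F ((EtCoh.bc f).map j) t hz)
    refine hj ⟨(EtShriek.prV f W').base z.pt, rfl⟩ ⟨x, ?_⟩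
    show (EtShriek.prV f W).base (i.base x) = j.left.base ((EtShriek.prV f W').base z.pt)
    rw [hx]
    exact congrArg (fun t : ((EtCoh.bc f).obj W').left ⟶ W.left => t.base z.pt) (EtCoh.isPullback_bc_map f j).w
  rw [← hw', ← germ_res_apply, h, map_zero]

theorem exists_lift_of_mem [LocallyQuasiFinite f] [IsAlgClosed Ω] {ξ : Spec (CommRingCat.of Ω) ⟶ Y} (W : Y.Etale)
    (w : Fib ξ W) (z : ((EtCoh.bc f).obj W).left) (hz : (EtShriek.prV f W).base z = w.pt) :
    ∃ u : {u : Spec (CommRingCat.of Ω) ⟶ X // u ≫ f = ξ}, (Fib.liftU f u w).pt = z := by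
  haveI : LocallyQuasiFinite (EtShriek.prV f W) :=
    MorphismProperty.pullback_fst (P := @LocallyQuasiFinite) _ _ ‹_›
  obtain ⟨⟨p, hp⟩, hpz⟩ := WeightLib.exists_gpt (EtShriek.prV f W) z w.hom
    (hz.trans (congrArg w.hom.base (Subsingleton.elim _ _)))
  refine ⟨⟨p ≫ pullback.snd W.hom f, ?_⟩, ?_⟩
  · rw [Category.assoc, ← pullback.condition, ← Category.assoc]
    exact (congrArg (· ≫ W.hom) hp).trans w.w
  · rw [← hpz]
    have e : (pullback.lift w.hom (p ≫ pullback.snd W.hom f) (by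
        rw [Category.assoc, ← pullback.condition, ← Category.assoc]
        exact (congrArg (· ≫ W.hom) hp).symm) : Spec (CommRingCat.of Ω) ⟶ pullback W.hom f) = p :=
      pullback.hom_ext ((pullback.lift_fst _ _ _).trans hp.symm) (pullback.lift_snd _ _ _)
    exact (congrArg (fun t : Spec (CommRingCat.of Ω) ⟶ pullback W.hom f => t.base default) e).trans
      (congrArg p.base (Subsingleton.elim _ _))

/-- A germ at one lift is realised by a section with proper support vanishing at the other lifts. -/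
theorem exists_section_of_lift [IsSeparated f] [LocallyQuasiFinite f] {ξ : Spec (CommRingCat.of Ω) ⟶ Y}
    (u₀ : {u : Spec (CommRingCat.of Ω) ⟶ X // u ≫ f = ξ})
    (a : (stk (A := AddCommGrpCat.{u + 1}) u₀.1).obj F) :
    ∃ (W : Y.Etale) (w : Fib ξ W) (t : F.obj.obj (op ((EtCoh.bc f).obj W))), t ∈ EtShriek.shriekSubgroup f F W ∧
      germ (A := AddCommGrpCat.{u + 1}) u₀.1 F _ (Fib.liftU f u₀ w) t = a ∧
      ∀ u, u ≠ u₀ → germ (A := AddCommGrpCat.{u + 1}) u.1 F _ (Fib.liftU f u w) t = 0 := by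
  obtain ⟨V₁, v₁, s₁, rfl⟩ := exists_germ (A := AddCommGrpCat.{u + 1}) u₀.1 a
  obtain ⟨B, hB, hvB, -⟩ := exists_isAffineOpen_mem_and_subset (X := V₁.left) (x := v₁.pt) (U := ⊤) trivial
  let V : X.Etale := MorphismProperty.Over.mk ⊤ (B.ι ≫ str V₁)
    (inferInstance : AlgebraicGeometry.Etale (B.ι ≫ str V₁))
  let e : V ⟶ V₁ := MorphismProperty.Over.homMk B.ι rfl
  have hrv : Set.range v₁.hom.base ⊆ Set.range B.ι.base := by
    rintro _ ⟨b, rfl⟩
    rw [Scheme.Opens.range_ι, Subsingleton.elim b default]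
    exact hvB
  let v : Fib u₀.1 V := Fib.mk (IsOpenImmersion.lift B.ι v₁.hom hrv) (by
    show _ ≫ B.ι ≫ V₁.hom = _
    rw [← Category.assoc, IsOpenImmersion.lift_fac]
    exact v₁.w)
  have hv : v.map e = v₁ := Fib.ext (IsOpenImmersion.lift_fac _ _ _)
  let s := F.obj.map e.op s₁
  let h : V.left ⟶ Y := V.hom ≫ f
  haveI : IsAffine V.left := hB
  haveI : AlgebraicGeometry.Etale V.hom := V.prop
  haveI := locallyQuasiFinite_of_etale (str V)
  haveI : LocallyQuasiFinite h := inferInstanceAs (LocallyQuasiFinite (str V ≫ f))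
  haveI : LocallyOfFiniteType h := inferInstanceAs (LocallyOfFiniteType (str V ≫ f))
  obtain ⟨W₀, g, hg, w₀, hw₀, n, piece, hfin, hsingle, -, hcov⟩ :=
    WeightLib.exists_split h ((v.hom ≫ h).base default) {v.pt} (Set.finite_singleton _)
  haveI := hg
  let W : Y.Etale := MorphismProperty.Over.mk ⊤ g hg
  have hξ : v.hom ≫ h = ξ := (Category.assoc _ _ _).symm.trans ((congrArg (· ≫ f) v.w).trans u₀.2)
  obtain ⟨w, hw⟩ := exists_fib ξ W w₀ (hw₀.trans (congrArg (fun t : Spec (CommRingCat.of Ω) ⟶ Y => t.base default) hξ))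
  let o₀ : Spec (CommRingCat.of Ω) ⟶ pullback h g := pullback.lift v.hom w.hom (hξ.trans w.w.symm)
  obtain ⟨k, hk⟩ := hcov (o₀.base default)
    ((congrArg (fun t : Spec (CommRingCat.of Ω) ⟶ W₀ => t.base default) (pullback.lift_snd _ _ _)).trans hw)
    (congrArg (fun t : Spec (CommRingCat.of Ω) ⟶ V.left => t.base default) (pullback.lift_fst _ _ _))
  haveI := hfin k
  let c : (piece k).toScheme ⟶ V.left := (piece k).ι ≫ pullback.fst h g
  haveI : AlgebraicGeometry.Etale c := inferInstance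
  let O : X.Etale := MorphismProperty.Over.mk ⊤ (c ≫ str V) (inferInstance : AlgebraicGeometry.Etale (c ≫ str V))
  let P := (EtCoh.bc f).obj W
  let q : (piece k).toScheme ⟶ W₀ := (piece k).ι ≫ pullback.snd h g
  let i : O ⟶ P := MorphismProperty.Over.homMk (pullback.lift q (c ≫ V.hom) (by
    show ((piece k).ι ≫ pullback.snd h g) ≫ g = (((piece k).ι ≫ pullback.fst h g) ≫ V.hom) ≫ f
    simp only [Category.assoc, h]
    exact congrArg ((piece k).ι ≫ ·) (pullback.condition (f := h) (g := g)).symm)) (pullback.lift_snd _ _ _)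
  have hiq : i.left ≫ EtShriek.prV f W = q := pullback.lift_fst _ _ _
  haveI : IsFinite i.left := by
    haveI : IsSeparated (EtShriek.prV f W) := MorphismProperty.pullback_fst (P := @IsSeparated) _ _ ‹_›
    haveI : IsFinite (i.left ≫ EtShriek.prV f W) := by rw [hiq]; infer_instance
    exact IsFinite.of_comp i.left (EtShriek.prV f W)
  obtain ⟨t, ht⟩ := exists_trace F i (F.obj.map (MorphismProperty.Over.homMk c rfl : O ⟶ V).op s)
  have hr₀ : Set.range o₀.base ⊆ Set.range (piece k).ι.base := by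
    rintro _ ⟨b, rfl⟩
    rw [Scheme.Opens.range_ι, Subsingleton.elim b default]
    exact hk
  let l := IsOpenImmersion.lift (piece k).ι o₀ hr₀
  have hl : l ≫ c = v.hom :=
    (IsOpenImmersion.lift_fac_assoc _ _ _ _).trans (pullback.lift_fst _ _ _)
  have hlq : l ≫ q = w.hom :=
    (IsOpenImmersion.lift_fac_assoc _ _ _ _).trans (pullback.lift_snd _ _ _)
  haveI : Subsingleton (WeightLib.GPts q w.hom) := hsingle k Ω w.hom
    ((congrArg w.hom.base (Subsingleton.elim _ _)).trans hw)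
  have key : ∀ u (o : Fib u.1 O), o.map i = Fib.liftU f u w → o.hom = l := fun u o ho => by
    have e1 : o.hom ≫ q = w.hom := by
      rw [← hiq, ← Category.assoc]
      exact (congrArg (fun z : Fib u.1 P => z.hom ≫ EtShriek.prV f W) ho).trans (pullback.lift_fst _ _ _)
    exact congrArg Subtype.val (Subsingleton.elim (⟨o.hom, e1⟩ : WeightLib.GPts q w.hom) ⟨l, hlq⟩)
  refine ⟨W, w, t, ?_, ?_, fun u hu => ?_⟩
  · rw [mem_shriekSubgroup_iff]
    haveI : IsFinite (i.left ≫ EtShriek.prV f W) := by rw [hiq]; infer_instance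
    refine ProperOverLib.of_map i.left _ _ (isClosed_sectSupp F _ _) fun z hz => ?_
    obtain ⟨Ω', _, _, ζ, z', rfl⟩ := exists_geometric (U := P) z
    by_contra hn
    refine notMem_sectSupp_of_germ F t z' ?_ hz
    rw [ht]
    haveI : IsEmpty {o : Fib ζ O // o.map i = z'} :=
      ⟨fun o => hn ⟨o.1.pt, congrArg (fun z : Fib ζ P => z.pt) o.2⟩⟩
    exact finsum_of_isEmpty _
  · let o : Fib u₀.1 O := Fib.mk l (by
      show l ≫ c ≫ str V = u₀.1
      rw [← Category.assoc, hl]
      exact v.w)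
    have ho : o.map i = Fib.liftU f u₀ w := Fib.ext (pullback.hom_ext
      ((Category.assoc _ _ _).trans ((congrArg (l ≫ ·) hiq).trans (hlq.trans (pullback.lift_fst _ _ _).symm)))
      ((Category.assoc _ _ _).trans ((congrArg (l ≫ ·) (pullback.lift_snd _ _ _)).trans
        (((Category.assoc _ _ _).symm.trans ((congrArg (· ≫ V.hom) hl).trans v.w)).trans (pullback.lift_snd _ _ _).symm))))
    rw [ht, finsum_eq_single _ (⟨o, ho⟩ : {o : Fib u₀.1 O // o.map i = Fib.liftU f u₀ w})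
      (fun o' h => absurd (Subtype.ext (Fib.ext (key u₀ o'.1 o'.2))) h), germ_res_apply]
    have e : o.map (MorphismProperty.Over.homMk c rfl : O ⟶ V) = v := Fib.ext hl
    rw [e, germ_res_apply, hv]
  · rw [ht]
    haveI : IsEmpty {o : Fib u.1 O // o.map i = Fib.liftU f u w} := ⟨fun o => hu (Subtype.ext (by
      rw [← o.1.w, key u o.1 o.2]
      show l ≫ c ≫ str V = u₀.1
      rw [← Category.assoc, hl]
      exact v.w))⟩
    exact finsum_of_isEmpty _

end Groth.Agent.EtShLib
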