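import Groth.Agent.EtShLib.Split
import Groth.Agent.EtShLib.Constructible
import Mathlib.Algebra.Category.Grp.Biproducts
import Mathlib.CategoryTheory.Limits.Shapes.Biproducts

/-! Sheaves whose stalks are sums over the lifts to a quasi-compact étale scheme are constructible. -/

set_option autoImplicit false
set_option linter.unusedSectionVars false
set_option linter.style.haveILetI false
set_option backward.isDefEq.respectTransparency false
set_option backward.isDefEq.respectTransparency.types false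
set_option synthInstance.maxHeartbeats 400000
set_option maxHeartbeats 1000000

universe u

open CategoryTheory CategoryTheory.Limits AlgebraicGeometry Opposite Topology

namespace Groth.Agent.EtShLib

variable {X : Scheme.{u}}

/-- Finite groups of sections of `H` over étale `U`-schemes. -/
structure Piece (H : EtCoh.Ab X) (U : X.Etale) where
  V : X.Etale
  r : V ⟶ U
  M : AddCommGrpCat.{u + 1}
  η : M ⟶ H.obj.obj (op V)
  fin : Finite M

/-- The stalks of `H` are sums over lifts to `U` of the values of pieces in `P`. -/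
structure HasPieces (H : EtCoh.Ab X) (U : X.Etale) (P : Piece H U → Prop) : Prop where
  cover : ∀ (Ω : Type u) [Field Ω] [IsSepClosed Ω] (ξ : Spec (CommRingCat.of Ω) ⟶ X) (u : Fib ξ U),
    ∃ p, P p ∧ ∃ v : Fib ξ p.V, v.map p.r = u
  colim : ∀ (Ω : Type u) [Field Ω] [IsSepClosed Ω] (ξ : Spec (CommRingCat.of Ω) ⟶ X) (p : Fib ξ U → Piece H U)
    (_ : ∀ u, P (p u)) (v : ∀ u, Fib ξ (p u).V), (∀ u, (v u).map (p u).r = u) →
    Nonempty (IsColimit (Cofan.mk ((stk (A := AddCommGrpCat.{u + 1}) ξ).obj H)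
      fun u => (p u).η ≫ germ ξ H (p u).V (v u)))

theorem finite_biproduct {κ : Type u} [Finite κ] (M : κ → AddCommGrpCat.{u + 1}) [∀ k, Finite (M k)] :
    Finite (⨁ M : AddCommGrpCat.{u + 1}) := by
  haveI := Fintype.ofFinite κ
  refine Finite.of_surjective (fun a : ∀ k, M k => ∑ k, biproduct.ι M k (a k)) fun x =>
    ⟨fun k => biproduct.π M k x, ?_⟩
  have e := congrArg (fun t : (⨁ M) ⟶ ⨁ M => t x) (IsBilimit.total (biproduct.isBilimit M))
  have hs : ∀ s : Finset κ, (∑ k ∈ s, biproduct.π M k ≫ biproduct.ι M k : (⨁ M) ⟶ ⨁ M) x =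
      ∑ k ∈ s, biproduct.ι M k (biproduct.π M k x) := by
    classical
    intro s
    induction s using Finset.induction_on with
    | empty => simp
    | insert a s ha ih => rw [Finset.sum_insert ha, Finset.sum_insert ha, ← ih]; rfl
  exact (hs Finset.univ).symm.trans e

theorem HasPieces.lc_pull {H : EtCoh.Ab X} {U : X.Etale} {P : Piece H U → Prop} (h : HasPieces H U P)
    {T : Scheme.{u}} (g : T ⟶ X) (hs : Splits g U) :
    LC (A := AddCommGrpCat.{u + 1}) FinP ((pullA g AddCommGrpCat.{u + 1}).obj H) := by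
  intro x
  obtain ⟨Ω, _, _, ζ, rfl⟩ := exists_geometric_pt x
  obtain ⟨hfin, W₀, w₀, s, hsw, hbij⟩ := hs Ω ζ
  haveI := hfin
  choose p hp v hv using fun u : Fib (ζ ≫ g) U => h.cover Ω (ζ ≫ g) u
  classical
  obtain ⟨W₁, hW₁⟩ := IsCofiltered.inf_objs_exists
    ({(pt ζ).fiber.elementsMk W₀ w₀} ∪
      (Set.finite_range fun u => (pt ζ).fiber.elementsMk ((EtCoh.bc g).obj (p u).V) ((v u).lift g ζ)).toFinset)
  obtain ⟨h₀⟩ := hW₁ (X := (pt ζ).fiber.elementsMk W₀ w₀) (by simp)
  have hj : ∀ u, Nonempty (W₁ ⟶ (pt ζ).fiber.elementsMk ((EtCoh.bc g).obj (p u).V) ((v u).lift g ζ)) :=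
    fun u => hW₁ (by simp)
  let j := fun u => (hj u).some.1
  have hj' : ∀ u, Fib.map (j u) W₁.2 = (v u).lift g ζ := fun u => (hj u).some.2
  haveI := Fintype.ofFinite (Fib (ζ ≫ g) U)
  obtain ⟨W, e, w, hw, he⟩ := exists_below_list ζ Finset.univ W₁.1 W₁.2
    (fun {V} e (u : Fib (ζ ≫ g) U) => e ≫ j u ≫ (EtCoh.bc g).map (p u).r = e ≫ h₀.1 ≫ s u)
    (fun a b u hab => by simp only [Category.assoc, hab]) fun u _ => by
      let a : W₁ ⟶ (pt ζ).fiber.elementsMk ((EtCoh.bc g).obj U) (u.lift g ζ) :=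
        ⟨j u ≫ (EtCoh.bc g).map (p u).r, by
          show (pt ζ).fiber.map (j u ≫ (EtCoh.bc g).map (p u).r) W₁.2 = _
          rw [Functor.map_comp_apply]
          refine (congrArg (Fib.map ((EtCoh.bc g).map (p u).r)) (hj' u)).trans ?_
          rw [← Fib.lift_proj g ζ (Fib.map ((EtCoh.bc g).map (p u).r) ((v u).lift g ζ)), Fib.proj_map,
            Fib.proj_lift, hv]⟩
      let b : W₁ ⟶ (pt ζ).fiber.elementsMk ((EtCoh.bc g).obj U) (u.lift g ζ) :=
        ⟨h₀.1 ≫ s u, by
          show (pt ζ).fiber.map (h₀.1 ≫ s u) W₁.2 = _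
          rw [Functor.map_comp_apply]
          exact (congrArg (Fib.map (s u)) h₀.2).trans (hsw u)⟩
      exact ⟨(IsCofiltered.eq a b).1, (IsCofiltered.eqHom a b).1, (IsCofiltered.eq a b).2,
        (IsCofiltered.eqHom a b).2, congrArg Subtype.val (IsCofiltered.eq_condition a b)⟩
  let M := fun u => (p u).M
  haveI : ∀ u, Finite (M u) := fun u => (p u).fin
  let η : (⨁ M) ⟶ ((pullA g AddCommGrpCat.{u + 1}).obj H).obj.obj (op W) := biproduct.desc fun u =>
    (p u).η ≫ ((adjA g AddCommGrpCat.{u + 1}).unit.app H).hom.app (op (p u).V) ≫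
      ((pullA g AddCommGrpCat.{u + 1}).obj H).obj.map (e ≫ j u).op
  refine ⟨W, w.pt, _, η, congrArg (fun t : Spec (CommRingCat.of Ω) ⟶ T => t.base default) w.w, finite_biproduct M,
    fun Ω' _ _ ζ' w' => ?_⟩
  let v' : ∀ u, Fib (ζ' ≫ g) (p u).V := fun u => (w'.map (e ≫ j u)).proj g ζ'
  let w₀' : Fib ζ' W₀ := w'.map (e ≫ h₀.1)
  let φ : Fib (ζ ≫ g) U ≃ Fib (ζ' ≫ g) U := Equiv.ofBijective _ (hbij Ω' ζ' w₀')
  have hφ : ∀ u, (v' u).map (p u).r = φ u := fun u => by
    show ((w'.map (e ≫ j u)).proj g ζ').map (p u).r = (Fib.map (s u) (w'.map (e ≫ h₀.1))).proj g ζ'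
    rw [← Fib.proj_map]
    refine congrArg (Fib.proj g ζ') ?_
    show (pt ζ').fiber.map ((EtCoh.bc g).map (p u).r) ((pt ζ').fiber.map (e ≫ j u) w') = _
    rw [← Functor.map_comp_apply, Category.assoc, he u (Finset.mem_univ _), ← Category.assoc,
      Functor.map_comp_apply]
  let p' : Fib (ζ' ≫ g) U → Piece H U := fun u' => p (φ.symm u')
  obtain ⟨hc⟩ := h.colim Ω' (ζ' ≫ g) p' (fun u' => hp _) (fun u' => v' (φ.symm u'))
    (fun u' => (hφ _).trans (φ.apply_symm_apply u'))
  let q := (stalkPull g ζ' AddCommGrpCat.{u + 1}).hom.app H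
  have key : ∀ u, biproduct.ι M u ≫ η ≫ germ ζ' _ W w' = ((p u).η ≫ germ (ζ' ≫ g) H (p u).V (v' u)) ≫ q := by
    intro u
    simp only [η, biproduct.ι_desc_assoc, Category.assoc, q]
    rw [germ_res, germ_stalkPull g ζ' AddCommGrpCat.{u + 1} H (p u).V (v' u), Fib.lift_proj]
  let c' : IsColimit (Cofan.mk ((stk (A := AddCommGrpCat.{u + 1}) (ζ' ≫ g)).obj H)
      fun u => (p u).η ≫ germ (ζ' ≫ g) H (p u).V (v' u)) := by
    refine Cofan.IsColimit.mk _ (fun t => hc.desc (Cofan.mk t.pt fun u' => t.inj (φ.symm u'))) (fun t u => ?_)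
      (fun t m hm => hc.hom_ext fun ⟨u'⟩ => ?_)
    · have := hc.fac (Cofan.mk t.pt fun u' => t.inj (φ.symm u')) ⟨φ u⟩
      dsimp [Cofan.mk] at this ⊢
      simp only [p'] at this
      rwa [φ.symm_apply_apply] at this
    · rw [hc.fac]
      exact hm _
  let i := (biproduct.isColimit M).coconePointUniqueUpToIso c'
  have : η ≫ germ ζ' _ W w' = i.hom ≫ q := by
    refine biproduct.hom_ext' _ _ fun u => (key u).trans ?_
    exact (congrArg (· ≫ q) ((biproduct.isColimit M).comp_coconePointUniqueUpToIso_hom c' ⟨u⟩).symm).trans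
      (Category.assoc _ _ _)
  rw [this]
  infer_instance

theorem HasPieces.isCons [CompactSpace X] [QuasiSeparatedSpace X] {H : EtCoh.Ab X} {U : X.Etale}
    [CompactSpace U.left] [QuasiSeparatedSpace U.left] {P : Piece H U → Prop} (h : HasPieces H U P) :
    IsCons (A := AddCommGrpCat.{u + 1}) FinP H := by
  choose T g hi hx hc hs using exists_split_strata U
  obtain ⟨t, ht⟩ := exists_finite_subcover_constructible (fun x => Set.range (g x)) hc
    (Set.eq_univ_of_forall fun x => Set.mem_iUnion.2 ⟨x, hx x⟩)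
  haveI : ∀ i : t, IsImmersion (g i.1) := fun i => hi i.1
  refine isCons_of_adapted_univ (adapted_of_cover isOpen_univ (fun i : t => T i.1) (fun i => g i.1)
    (fun i => (hc i.1).preimage_of_isOpenEmbedding isOpen_univ.isOpenEmbedding_subtypeVal) (fun x _ => ?_)
    fun i => h.lc_pull (g i.1) (hs i.1))
  obtain ⟨i, hi', hxi⟩ := Set.mem_iUnion₂.1 (ht.ge (Set.mem_univ x))
  exact Set.mem_iUnion.2 ⟨⟨i, hi'⟩, hxi⟩

end Groth.Agent.EtShLib
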