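import Groth.Agent.EtShLib.TensorStalk
import Groth.Agent.EtShLib.LqfExact

/-! The projection formula for separated locally quasi-finite morphisms. -/

set_option autoImplicit false
set_option linter.unusedSectionVars false
set_option linter.style.haveILetI false
set_option backward.isDefEq.respectTransparency false
set_option backward.isDefEq.respectTransparency.types false
set_option synthInstance.maxHeartbeats 400000
set_option maxHeartbeats 1000000

universe u

open CategoryTheory CategoryTheory.Limits AlgebraicGeometry Opposite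
open scoped TensorProduct

namespace Groth.Agent.EtShLib

variable {X Y : Scheme.{u}} (f : X ⟶ Y) [LocallyOfFiniteType f] (F : EtCoh.Ab X) (G : EtCoh.Ab Y)

/-- The target sheaf upstairs. -/
noncomputable abbrev pfM : EtCoh.Ab X := tsh F ((EtCoh.pull f).obj G)

/-- The pulled back section. -/
noncomputable def pSec (V : Y.Etale) : G.obj.obj (op V) →+
    ((EtCoh.pull f).obj G).obj.obj (op ((EtCoh.bc f).obj V)) :=
  (((EtCoh.pullPushAdj f).unit.app G).hom.app (op V)).hom

theorem pSec_res {V V' : Y.Etale} (a : V' ⟶ V) (g : G.obj.obj (op V)) :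
    pSec f G V' (G.obj.map a.op g) = ((EtCoh.pull f).obj G).obj.map ((EtCoh.bc f).map a).op (pSec f G V g) :=
  NatTrans.naturality_apply ((EtCoh.pullPushAdj f).unit.app G).hom a.op g

theorem tsec_mem (V : Y.Etale) (t : EtShriek.shriekSubgroup f F V) (g : G.obj.obj (op V)) :
    tsec F ((EtCoh.pull f).obj G) ((EtCoh.bc f).obj V) t.1 (pSec f G V g) ∈
      EtShriek.shriekSubgroup f (pfM f F G) V :=
  (mem_shriekSubgroup_iff _ f V _).2 (isProperOver_mono ((mem_shriekSubgroup_iff F f V t.1).1 t.2)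
    (isClosed_sectSupp _ _ _) (sectSupp_tsec _ _ _ _ _))

/-- The product of a properly supported section and a section. -/
noncomputable def pfApp (V : Y.Etale) :
    (EtShriek.shriekSubgroup f F V) ⊗[ℤ] (G.obj.obj (op V)) →+ EtShriek.shriekSubgroup f (pfM f F G) V :=
  (TensorProduct.lift ((AddMonoidHom.mk' (fun t => (AddMonoidHom.mk'
    (fun g => (⟨_, tsec_mem f F G V t g⟩ : EtShriek.shriekSubgroup f (pfM f F G) V))
    (fun g g' => Subtype.ext (by
      show tsec _ _ _ _ (pSec f G V (g + g')) = tsec _ _ _ _ _ + tsec _ _ _ _ _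
      rw [map_add, tsec_add_right]))).toIntLinearMap)
    fun t t' => LinearMap.ext fun g => Subtype.ext (tsec_add_left _ _ _ t.1 t'.1 _)).toIntLinearMap)).toAddMonoidHom

theorem pfApp_tmul (V : Y.Etale) (t : EtShriek.shriekSubgroup f F V) (g : G.obj.obj (op V)) :
    (pfApp f F G V (t ⊗ₜ[ℤ] g)).1 = tsec F ((EtCoh.pull f).obj G) ((EtCoh.bc f).obj V) t.1 (pSec f G V g) := by
  unfold pfApp
  rw [LinearMap.toAddMonoidHom_coe, TensorProduct.lift.tmul]
  rfl

/-- The map of presheaves. -/
noncomputable def pfPre : EtTens.tensorObj ((preF f).obj F).obj G.obj ⟶ ((preF f).obj (pfM f F G)).obj where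
  app V := AddCommGrpCat.ofHom (pfApp f F G V.unop)
  naturality V V' a := EtTens.hom_ext_tmul fun t g => by
    refine Subtype.ext ?_
    show (pfApp f F G V'.unop (((preF f).obj F).obj.map a t ⊗ₜ[ℤ] G.obj.map a g)).1 =
      (pfM f F G).obj.map ((EtCoh.bc f).map a.unop).op (pfApp f F G V.unop (t ⊗ₜ[ℤ] g)).1
    rw [pfApp_tmul, pfApp_tmul, tsec_res]
    exact congrArg (tsec F ((EtCoh.pull f).obj G) _ _) (pSec_res f G a.unop g)

/-- The projection formula morphism. -/
noncomputable def pfHom : tsh ((preF f).obj F) G ⟶ (preF f).obj (pfM f F G) :=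
  ((sheafificationAdjunction Y.smallEtaleTopology AddCommGrpCat.{u + 1}).homEquiv _ _).symm (pfPre f F G)

theorem pfHom_tsec (V : Y.Etale) (t : EtShriek.shriekSubgroup f F V) (g : G.obj.obj (op V)) :
    (pfHom f F G).hom.app (op V) (tsec ((preF f).obj F) G V t g) = pfApp f F G V (t ⊗ₜ[ℤ] g) := by
  have h : tη ((preF f).obj F) G ≫ (pfHom f F G).hom = pfPre f F G := by
    have h1 := Equiv.apply_symm_apply ((sheafificationAdjunction Y.smallEtaleTopology AddCommGrpCat.{u + 1}).homEquiv
      (EtTens.tensorObj ((preF f).obj F).obj G.obj) ((preF f).obj (pfM f F G))) (pfPre f F G)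
    rw [Adjunction.homEquiv_unit] at h1
    exact h1
  exact congrArg (fun m : EtTens.tensorObj ((preF f).obj F).obj G.obj ⟶ _ => m.app (op V) (t ⊗ₜ[ℤ] g)) h

variable {Ω : Type u} [Field Ω] [IsSepClosed Ω] (ξ : Spec (CommRingCat.of Ω) ⟶ Y)

/-- Transport of stalks to a lift. -/
noncomputable def spull (u : {u : Spec (CommRingCat.of Ω) ⟶ X // u ≫ f = ξ}) :
    (stk (A := AddCommGrpCat.{u + 1}) ξ).obj G ⟶ (stk (A := AddCommGrpCat.{u + 1}) u.1).obj ((EtCoh.pull f).obj G) :=
  eqToHom (congrArg (fun t => (stk (A := AddCommGrpCat.{u + 1}) t).obj G) u.2.symm) ≫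
    (stalkPull f u.1 AddCommGrpCat.{u + 1}).hom.app G

theorem spull_germ (u : {u : Spec (CommRingCat.of Ω) ⟶ X // u ≫ f = ξ}) (W : Y.Etale) (w : Fib ξ W)
    (g : G.obj.obj (op W)) : spull f G ξ u (germ (A := AddCommGrpCat.{u + 1}) ξ G W w g) =
      germ (A := AddCommGrpCat.{u + 1}) u.1 _ ((EtCoh.bc f).obj W) (Fib.liftU f u w) (pSec f G W g) := by
  obtain ⟨u₀, rfl⟩ := u
  rw [show spull f G (u₀ ≫ f) ⟨u₀, rfl⟩ = (stalkPull f u₀ AddCommGrpCat.{u + 1}).hom.app G from Category.id_comp _]
  have h := ConcreteCategory.congr_hom (germ_stalkPull (A := AddCommGrpCat.{u + 1}) f u₀ G W w) g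
  rw [ConcreteCategory.comp_apply, ConcreteCategory.comp_apply] at h
  exact h

instance (u : {u : Spec (CommRingCat.of Ω) ⟶ X // u ≫ f = ξ}) : IsIso (spull f G ξ u) :=
  inferInstanceAs (IsIso (eqToHom _ ≫ (stalkPull f u.1 AddCommGrpCat.{u + 1}).hom.app G))

/-- The stalk of the projection formula morphism. -/
noncomputable def pfStalk : ((stk (A := AddCommGrpCat.{u + 1}) ξ).obj ((preF f).obj F)) ⊗[ℤ]
    ((stk (A := AddCommGrpCat.{u + 1}) ξ).obj G) →+ (stk (A := AddCommGrpCat.{u + 1}) ξ).obj ((preF f).obj (pfM f F G)) :=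
  ((stk (A := AddCommGrpCat.{u + 1}) ξ).map (pfHom f F G)).hom.comp (tstalk ((preF f).obj F) G ξ)

theorem pfStalk_comp' (u : {u : Spec (CommRingCat.of Ω) ⟶ X // u ≫ f = ξ})
    (z : ((stk (A := AddCommGrpCat.{u + 1}) ξ).obj ((preF f).obj F)) ⊗[ℤ] ((stk (A := AddCommGrpCat.{u + 1}) ξ).obj G)) :
    comp' f ξ (pfM f F G) u (pfStalk f F G ξ z) = tstalk F ((EtCoh.pull f).obj G) u.1
      (TensorProduct.map (comp' f ξ F u).hom.toIntLinearMap (spull f G ξ u).hom.toIntLinearMap z) := by
  induction z using TensorProduct.induction_on with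
  | zero => simp
  | tmul p q =>
    obtain ⟨⟨W, w, t, g⟩, rfl, rfl⟩ := exists_rep ((preF f).obj F) G ξ p q
    rw [TensorProduct.map_tmul]
    show comp' f ξ (pfM f F G) u ((stk (A := AddCommGrpCat.{u + 1}) ξ).map (pfHom f F G)
      (tstalk ((preF f).obj F) G ξ (_ ⊗ₜ[ℤ] _))) = tstalk F _ u.1 ((comp' f ξ F u _) ⊗ₜ[ℤ] (spull f G ξ u _))
    rw [tstalk_tmul, tstalk_tmul, tprod_germ, tgerm, germ_natural_apply, pfHom_tsec, comp'_germ, pfApp_tmul,
      comp'_germ, spull_germ, tprod_germ]
    rfl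
  | add x y hx hy => simp only [map_add, hx, hy]

variable [IsSeparated f] [LocallyQuasiFinite f] [IsAlgClosed Ω]

theorem exists_decomp
    (z : ((stk (A := AddCommGrpCat.{u + 1}) ξ).obj ((preF f).obj F)) ⊗[ℤ] ((stk (A := AddCommGrpCat.{u + 1}) ξ).obj G)) :
    ∃ s : Finset {u : Spec (CommRingCat.of Ω) ⟶ X // u ≫ f = ξ}, ∀ s', s ⊆ s' →
      z = ∑ u ∈ s', TensorProduct.map (injAt f ξ F u).hom.toIntLinearMap LinearMap.id
        (TensorProduct.map (comp' f ξ F u).hom.toIntLinearMap LinearMap.id z) := by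
  classical
  induction z using TensorProduct.induction_on with
  | zero => exact ⟨∅, fun s' _ => by simp⟩
  | tmul p q =>
    refine ⟨(finite_support_comp' f ξ F p).toFinset, fun s' hs => ?_⟩
    simp only [TensorProduct.map_tmul, LinearMap.id_apply, AddMonoidHom.coe_toIntLinearMap]
    rw [← TensorProduct.sum_tmul]
    refine congrArg (· ⊗ₜ[ℤ] q) ?_
    rw [← Finset.sum_subset hs fun u _ hu => ?_]
    · exact (sum_injAt f ξ F p).symm
    · have h0 : comp' f ξ F u p = 0 := by_contra fun h => hu ((Set.Finite.mem_toFinset _).2 h)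
      rw [h0, map_zero]
  | add x y hx hy =>
    obtain ⟨s, hs⟩ := hx
    obtain ⟨t, ht⟩ := hy
    refine ⟨s ∪ t, fun s' h => ?_⟩
    simp only [map_add, Finset.sum_add_distrib]
    exact congrArg₂ (· + ·) (hs s' (Finset.union_subset_left h)) (ht s' (Finset.union_subset_right h))

theorem bijective_pfStalk : Function.Bijective (pfStalk f F G ξ) := by
  classical
  refine ⟨(injective_iff_map_eq_zero _).2 fun z hz => ?_, fun p => ?_⟩
  · have hc : ∀ u, TensorProduct.map (comp' f ξ F u).hom.toIntLinearMap LinearMap.id z = 0 := fun u => by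
      have h1 := pfStalk_comp' f F G ξ u z
      rw [hz, map_zero] at h1
      have h2 := (bijective_tstalk F _ u.1).1 (h1.symm.trans (map_zero _).symm)
      have h3 := congrArg (TensorProduct.map LinearMap.id (inv (spull f G ξ u)).hom.toIntLinearMap) h2
      rw [map_zero, ← LinearMap.comp_apply, ← TensorProduct.map_comp, LinearMap.id_comp] at h3
      rw [show (inv (spull f G ξ u)).hom.toIntLinearMap ∘ₗ (spull f G ξ u).hom.toIntLinearMap = LinearMap.id from
        LinearMap.ext fun q => ConcreteCategory.congr_hom (IsIso.hom_inv_id (spull f G ξ u)) q] at h3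
      exact h3
    obtain ⟨s, hs⟩ := exists_decomp f F G ξ z
    rw [hs s subset_rfl]
    refine Finset.sum_eq_zero fun u _ => ?_
    rw [hc, map_zero]
  · have hmem : ∀ (u) (c : (stk (A := AddCommGrpCat.{u + 1}) u.1).obj (pfM f F G)),
        injAt f ξ (pfM f F G) u c ∈ (pfStalk f F G ξ).range := fun u c => by
      obtain ⟨z, rfl⟩ := (bijective_tstalk F ((EtCoh.pull f).obj G) u.1).2 c
      induction z using TensorProduct.induction_on with
      | zero => exact ⟨0, by simp⟩
      | tmul a b =>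
        obtain ⟨q, rfl⟩ := ((ConcreteCategory.isIso_iff_bijective (spull f G ξ u)).1 inferInstance).2 b
        refine ⟨injAt f ξ F u a ⊗ₜ[ℤ] q, sub_eq_zero.1 (comp'_jointly_injective f ξ _ _ fun v => ?_)⟩
        rw [map_sub, sub_eq_zero, pfStalk_comp', TensorProduct.map_tmul]
        show tstalk F _ v.1 (comp' f ξ F v (injAt f ξ F u a) ⊗ₜ[ℤ] spull f G ξ v q) = _
        by_cases h : v = u
        · subst h
          rw [injAt_comp', injAt_comp']
        · rw [injAt_comp'_ne f ξ F u v h, injAt_comp'_ne f ξ _ u v h, TensorProduct.zero_tmul, map_zero]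
      | add x y hx hy =>
        rw [map_add, map_add]
        exact add_mem hx hy
    rw [← sum_injAt f ξ (pfM f F G) p]
    exact (pfStalk f F G ξ).range.sum_mem fun u _ => hmem u _

theorem isIso_pfHom_stalk : IsIso ((stk (A := AddCommGrpCat.{u + 1}) ξ).map (pfHom f F G)) := by
  refine (ConcreteCategory.isIso_iff_bijective _).2 ?_
  exact (Function.Bijective.of_comp_iff _ (bijective_tstalk ((preF f).obj F) G ξ)).1 (bijective_pfStalk f F G ξ)

omit Ω ξ in
theorem nonempty_projection_formula :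
    Nonempty ((EtTens.tensorBi.obj ((EtShriek.lowerShriek f).obj F)).obj G ≅
      (EtShriek.lowerShriek f).obj ((EtTens.tensorBi.obj F).obj ((EtCoh.pull f).obj G))) := by
  haveI : IsIso (pfHom f F G) := isIso_of_stalks_algClosed _ fun Ω _ _ _ ξ => isIso_pfHom_stalk f F G ξ
  exact ⟨((EtTens.tensorBi).mapIso ((lowerShriekIso f).app F)).app G ≪≫ asIso (pfHom f F G) ≪≫
    ((lowerShriekIso f).app _).symm⟩

end Groth.Agent.EtShLib
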