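import Groth.Agent.ProperOverLib.Basic
import Groth.Agent.ChowLib.ChowAll
import Groth.Agent.EtShLib.Locus

/-! Decreasing closed sets with proper intersection are eventually proper. -/

set_option autoImplicit false
set_option linter.unusedSectionVars false
set_option linter.style.haveILetI false
set_option backward.isDefEq.respectTransparency false
set_option backward.isDefEq.respectTransparency.types false
set_option maxHeartbeats 1000000

universe u

open CategoryTheory CategoryTheory.Limits AlgebraicGeometry Topology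

namespace Groth.Agent.EtShLib

theorem exists_proper_stage {O W : Scheme.{u}} (q : O ⟶ W) [IsSeparated q] [LocallyOfFiniteType q]
    [CompactSpace O] [CompactSpace W] [QuasiSeparatedSpace W] {J : Type*} [Category J] [IsFiltered J]
    (Z : J → Set O) (hZ : ∀ k, IsClosed (Z k)) (hmono : ∀ {i k : J}, (i ⟶ k) → Z k ⊆ Z i) {Z₀ : Set O}
    (hinter : ⋂ k, Z k ⊆ Z₀) (hZ₀ : ClSub.IsProperOver q Z₀) : ∃ k, ClSub.IsProperOver q (Z k) := by
  classical
  haveI : QuasiSeparatedSpace O := quasiSeparatedSpace_of_quasiSeparated q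
  obtain ⟨n, O', π, j, hj, hjb, hπ, hπs, -⟩ := ChowLib.chow_all q
  let p := CohB1.ProjSpaceOver.toBase n W
  haveI : IsProper p := inferInstance
  haveI : CompactSpace (CohB1.ProjSpaceOver n W) := QuasiCompact.compactSpace_of_compactSpace p
  haveI : QuasiSeparatedSpace (CohB1.ProjSpaceOver n W) := quasiSeparatedSpace_of_quasiSeparated p
  haveI : CompactSpace O' := QuasiCompact.compactSpace_of_compactSpace π
  haveI : QuasiSeparatedSpace O' := quasiSeparatedSpace_of_quasiSeparated π
  haveI : QuasiCompact j := quasiCompact_of_compactSpace j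
  let C : J → Set O' := fun k => π.base ⁻¹' Z k
  have hC : ∀ k, IsClosed (C k) := fun k => (hZ k).preimage π.continuous
  have hloc : IsLocallyClosed (Set.range j.base) := j.isLocallyClosed_range
  let A : J → Set (CohB1.ProjSpaceOver n W) := fun k => closure (j.base '' C k) ∩ (coborder (Set.range j.base))ᶜ
  have hA : ∀ k, IsClosed (A k) := fun k => isClosed_closure.inter hloc.isOpen_coborder.isClosed_compl
  have hAeq : ∀ k, A k = closure (j.base '' C k) \ Set.range j.base := fun k => by
    ext x
    simp only [A, coborder, compl_compl, Set.mem_inter_iff, Set.mem_sdiff]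
    exact ⟨fun h => ⟨h.1, h.2.2⟩, fun h => ⟨h.1, closure_mono (Set.image_subset_range _ _) h.1, h.2⟩⟩
  obtain ⟨k, hk⟩ : ∃ k, A k = ∅ := by
    by_contra hne
    simp only [not_exists, ← Set.nonempty_iff_ne_empty] at hne
    have hdir : Directed (· ⊇ ·) A := fun i i' => ⟨IsFiltered.max i i', fun x hx =>
      ⟨closure_mono (Set.image_mono (Set.preimage_mono (hmono (IsFiltered.leftToMax i i')))) hx.1, hx.2⟩, fun x hx =>
      ⟨closure_mono (Set.image_mono (Set.preimage_mono (hmono (IsFiltered.rightToMax i i')))) hx.1, hx.2⟩⟩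
    haveI : Nonempty J := IsFiltered.nonempty
    obtain ⟨x, hx⟩ := IsCompact.nonempty_iInter_of_directed_nonempty_isCompact_isClosed A hdir hne
      (fun k => (hA k).isCompact) hA
    simp only [Set.mem_iInter, hAeq] at hx
    obtain ⟨T, i, hi, hr, hT⟩ := ProperOverLib.exists_closedImmersion hZ₀
    let T' := pullback i π
    haveI : IsProper ((pullback.snd i π ≫ j) ≫ p) := by
      rw [Category.assoc, hjb, ← pullback.condition_assoc]
      infer_instance
    haveI : IsProper (pullback.snd i π ≫ j) := IsProper.of_comp _ p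
    have hclosed : IsClosed (j.base '' (π.base ⁻¹' Z₀)) := by
      have e : Set.range (pullback.snd i π ≫ j).base = j.base '' (π.base ⁻¹' Z₀) := by
        rw [← hr, ← Scheme.Pullback.range_snd (f := i) (g := π), ← Set.range_comp]
        rfl
      exact e ▸ (pullback.snd i π ≫ j).isClosedMap.isClosed_range
    let ι := {U : (CohB1.ProjSpaceOver n W).Opens // IsCompact (U : Set (CohB1.ProjSpaceOver n W)) ∧ x ∈ U} ⊕
      {V : O'.Opens // IsCompact (V : Set O') ∧ ∃ k, Disjoint (V : Set O') (C k)}
    let S : ι → Set O' := fun l => Sum.elim (fun U => (j.base ⁻¹' (U.1 : Set _))ᶜ) (fun V => (V.1 : Set O')) l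
    obtain ⟨t, ht⟩ := exists_finite_subcover_constructible S (fun l => by
      rcases l with U | V
      · exact ((j.isCompact_preimage (U := U.1) U.2.1).isConstructible (U.1.isOpen.preimage j.continuous)).compl
      · exact V.2.1.isConstructible V.1.isOpen) (Set.eq_univ_of_forall fun y => by
      by_contra hy
      simp only [Set.mem_iUnion, not_exists] at hy
      have h1 : j.base y ⤳ x := specializes_iff_forall_open.2 fun U hU hxU => by
        obtain ⟨_, ⟨V, hV, rfl⟩, hxV, hVU⟩ :=
          (CohB1.ProjSpaceOver n W).isBasis_affineOpens.exists_subset_of_mem_open hxU hU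
        exact hVU (not_not.1 (hy (Sum.inl ⟨V, IsAffineOpen.isCompact hV, hxV⟩)))
      have h2 : π.base y ∈ Z₀ := hinter (Set.mem_iInter.2 fun k => by_contra fun hn => by
        obtain ⟨_, ⟨V, hV, rfl⟩, hyV, hVU⟩ :=
          O'.isBasis_affineOpens.exists_subset_of_mem_open (show y ∈ (C k)ᶜ from hn) (hC k).isOpen_compl
        exact hy (Sum.inr ⟨V, IsAffineOpen.isCompact hV, k, Set.subset_compl_iff_disjoint_right.1 hVU⟩) hyV)
      exact (hx (Classical.arbitrary J)).2
        (Set.image_subset_range _ _ (h1.mem_closed hclosed ⟨y, h2, rfl⟩)))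
    let kk : {V : O'.Opens // IsCompact (V : Set O') ∧ ∃ k, Disjoint (V : Set O') (C k)} → J := fun V => V.2.2.choose
    obtain ⟨K, hK⟩ := IsFiltered.sup_objs_exists (t.toRight.image kk)
    have hN : x ∈ ⋂ U ∈ t.toLeft, ((U.1 : (CohB1.ProjSpaceOver n W).Opens) : Set (CohB1.ProjSpaceOver n W)) :=
      Set.mem_iInter₂.2 fun U _ => U.2.2
    obtain ⟨_, hyN, y, hy, rfl⟩ := mem_closure_iff.1 (hx K).1 _ (isOpen_biInter_finset fun U _ => U.1.isOpen) hN
    obtain ⟨l, hl, hyl⟩ := Set.mem_iUnion₂.1 (ht.ge (Set.mem_univ y))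
    rcases l with U | V
    · exact hyl (Set.mem_iInter₂.1 hyN U (Finset.mem_toLeft.2 hl))
    · exact Set.disjoint_left.1 V.2.2.choose_spec hyl
        (hmono (hK (Finset.mem_image_of_mem kk (Finset.mem_toRight.2 hl))).some hy)
  refine ⟨k, ?_⟩
  have hsub : closure (j.base '' C k) ⊆ Set.range j.base := fun x hx => by
    by_contra hn
    exact (hk.le ((hAeq k).ge ⟨hx, hn⟩) : x ∈ (∅ : Set _))
  have hcl : IsClosed (j.base '' C k) := by
    refine isClosed_of_closure_subset fun x hx => ?_
    obtain ⟨y, rfl⟩ := hsub hx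
    exact ⟨y, (hC k).closure_subset ((j.isEmbedding.closure_eq_preimage_closure_image (C k)).ge hx), rfl⟩
  let i' := (Scheme.IdealSheafData.vanishingIdeal ⟨C k, hC k⟩).subschemeι
  haveI : IsClosedImmersion (i' ≫ j) := IsClosedImmersion.of_isPreimmersion _ (by
    have : Set.range (i' ≫ j).base = j.base '' C k :=
      (Set.range_comp j.base i'.base).trans
        (congrArg (j.base '' ·) (ProperOverLib.range_subschemeι_vanishingIdeal ⟨C k, hC k⟩))
    exact this ▸ hcl)
  haveI : IsProper ((i' ≫ π) ≫ q) := by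
    rw [Category.assoc, ← hjb, ← Category.assoc]
    infer_instance
  haveI : IsProper (i' ≫ π) := IsProper.of_comp _ q
  refine ProperOverLib.of_map (i' ≫ π) q _ (hZ k) fun z hz => ?_
  obtain ⟨y, rfl⟩ := π.surjective z
  obtain ⟨x, hx⟩ := (ProperOverLib.range_subschemeι_vanishingIdeal ⟨C k, hC k⟩).ge (show y ∈ C k from hz)
  exact ⟨x, by rw [Scheme.Hom.comp_apply, hx]⟩

end Groth.Agent.EtShLib
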