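import Groth.Agent.EtShLib.Stalk
import Mathlib.AlgebraicGeometry.Morphisms.QuasiSeparated
import Mathlib.AlgebraicGeometry.Morphisms.UniversallyOpen
import Mathlib.AlgebraicGeometry.Morphisms.FlatMono
import Mathlib.CategoryTheory.Limits.ConcreteCategory.Basic

/-! Sections over quasi-compact quasi-separated objects of filtered colimits of sheaves. -/

set_option autoImplicit false
set_option linter.unusedSectionVars false
set_option linter.style.haveILetI false
set_option backward.isDefEq.respectTransparency false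
set_option backward.isDefEq.respectTransparency.types false
set_option synthInstance.maxHeartbeats 400000
set_option maxHeartbeats 1000000

universe u

open CategoryTheory CategoryTheory.Limits AlgebraicGeometry Opposite

namespace Groth.Agent.EtShLib

variable {X : Scheme.{u}} {J : Type u} [SmallCategory J] [IsFiltered J] {D : J ⥤ EtCoh.Ab X}
  {c : Cocone D} (hc : IsColimit c)

include hc

/-- A section killed in the colimit dies at a later stage. -/
theorem exists_stage_zero (U : X.Etale) [CompactSpace U.left] {i : J} (s : (D.obj i).obj.obj (op U))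
    (h : (c.ι.app i).hom.app (op U) s = 0) :
    ∃ (k : J) (a : i ⟶ k), (D.map a).hom.app (op U) s = 0 := by
  classical
  have hloc : ∀ y : U.left, ∃ (k : J) (a : i ⟶ k) (V : X.Etale) (g : V ⟶ U), y ∈ Set.range g.left.base ∧
      (D.obj k).obj.map g.op ((D.map a).hom.app (op U) s) = 0 := by
    intro y
    obtain ⟨Ω, _, _, ξ, u, rfl⟩ := exists_geometric (U := U) y
    let S := stk (A := AddCommGrpCat.{u + 1}) ξ
    have h0 : (S.mapCocone c).ι.app i (germ ξ (D.obj i) U u s) = (S.mapCocone c).ι.app i 0 := by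
      rw [map_zero]
      exact (germ_natural_apply ξ (c.ι.app i) U u s).trans (by rw [h, map_zero])
    obtain ⟨k, a, b, e⟩ :=
      (Concrete.isColimit_rep_eq_iff_exists (D ⋙ S) (isColimitOfPreserves S hc) _ _).1 h0
    rw [map_zero] at e
    change S.map (D.map a) (germ ξ (D.obj i) U u s) = 0 at e
    rw [germ_natural_apply] at e
    obtain ⟨V, g, v, hv, he⟩ := (germ_eq_iff ξ U u _ 0).1 (e.trans (map_zero _).symm)
    exact ⟨k, a, V, g, ⟨v.pt, congrArg (fun t : Fib ξ U => t.pt) hv⟩, he.trans (map_zero _)⟩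
  choose k a V g hy he using hloc
  obtain ⟨t, ht⟩ := (isCompact_univ (X := U.left)).elim_finite_subcover (fun y => Set.range (g y).left.base)
    (fun y => haveI := etale_left (g y); (g y).left.isOpenMap.isOpen_range)
    (fun y _ => Set.mem_iUnion.2 ⟨y, hy y⟩)
  obtain ⟨m, hm⟩ := IsFiltered.sup_objs_exists (insert i (t.image k))
  obtain ⟨b₀⟩ := hm (Finset.mem_insert_self _ _)
  have hb : ∀ y ∈ t, ∃ b : k y ⟶ m, True := fun y hy' =>
    ⟨(hm (Finset.mem_insert_of_mem (Finset.mem_image_of_mem k hy'))).some, trivial⟩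
  choose b hb using hb
  let H : Finset (Σ' (X Y : J) (_ : X ∈ insert i (insert m (t.image k))) (_ : Y ∈ insert i (insert m (t.image k))), X ⟶ Y) :=
    insert ⟨i, m, by simp, by simp, b₀⟩
      (t.attach.image fun y => ⟨i, m, by simp, by simp, a y.1 ≫ b y.1 y.2⟩)
  obtain ⟨n, T, hT⟩ := IsFiltered.sup_exists _ H
  refine ⟨n, T (X := i) (by simp), res_ext (D.obj n) _ _ fun z => ?_⟩
  obtain ⟨y, hy', hz⟩ := Set.mem_iUnion₂.1 (ht (Set.mem_univ z))
  refine ⟨V y, g y, hz, ?_⟩
  have e1 := hT (X := i) (Y := m) (by simp) (by simp) (f := a y ≫ b y hy')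
    (Finset.mem_insert_of_mem (Finset.mem_image.2 ⟨⟨y, hy'⟩, Finset.mem_attach _ _, rfl⟩))
  rw [← e1, Category.assoc, D.map_comp, map_zero]
  exact (NatTrans.naturality_apply (D.map (b y hy' ≫ T _)).hom (g y).op ((D.map (a y)).hom.app (op U) s)).symm.trans
    (by rw [he y, map_zero])

/-- A section of the colimit comes from a stage. -/
theorem exists_stage_lift (U : X.Etale) [CompactSpace U.left] [QuasiSeparatedSpace U.left] (t : c.pt.obj.obj (op U)) :
    ∃ (i : J) (s : (D.obj i).obj.obj (op U)), (c.ι.app i).hom.app (op U) s = t := by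
  classical
  have hloc : ∀ y : U.left, ∃ (i : J) (V : X.Etale) (g : V ⟶ U) (s : (D.obj i).obj.obj (op V)),
      IsAffine V.left ∧ y ∈ Set.range g.left.base ∧ (c.ι.app i).hom.app (op V) s = c.pt.obj.map g.op t := by
    intro y
    obtain ⟨Ω, _, _, ξ, u, rfl⟩ := exists_geometric (U := U) y
    let S := stk (A := AddCommGrpCat.{u + 1}) ξ
    obtain ⟨i, q, hq⟩ := Concrete.isColimit_exists_rep (D ⋙ S) (isColimitOfPreserves S hc) (germ ξ c.pt U u t)
    obtain ⟨V₁, g₁, v₁, s₁, hv₁, rfl⟩ := exists_germ_below ξ q U u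
    have e : germ (A := AddCommGrpCat.{u + 1}) ξ c.pt V₁ v₁ ((c.ι.app i).hom.app (op V₁) s₁) =
        germ (A := AddCommGrpCat.{u + 1}) ξ c.pt V₁ v₁ (c.pt.obj.map g₁.op t) := by
      exact (germ_natural_apply ξ (c.ι.app i) V₁ v₁ s₁).symm.trans (hq.trans (by rw [germ_res_apply, hv₁]))
    obtain ⟨V₂, g₂, v₂, hv₂, he⟩ := (germ_eq_iff ξ V₁ v₁ _ _).1 e
    obtain ⟨B, hB, hvB, -⟩ := exists_isAffineOpen_mem_and_subset (X := V₂.left) (x := v₂.pt) (U := ⊤) trivial
    haveI : AlgebraicGeometry.Etale V₂.hom := V₂.prop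
    let V : X.Etale := MorphismProperty.Over.mk ⊤ (B.ι ≫ V₂.hom)
      (inferInstance : AlgebraicGeometry.Etale (B.ι ≫ V₂.hom))
    let e₃ : V ⟶ V₂ := MorphismProperty.Over.homMk B.ι rfl
    refine ⟨i, V, e₃ ≫ g₂ ≫ g₁, (D.obj i).obj.map (e₃ ≫ g₂).op s₁, hB, ⟨⟨v₂.pt, hvB⟩, ?_⟩, ?_⟩
    · show g₁.left.base (g₂.left.base v₂.pt) = u.pt
      rw [← hv₁, ← hv₂]
      rfl
    · refine (NatTrans.naturality_apply (c.ι.app i).hom (e₃ ≫ g₂).op s₁).trans ?_
      show c.pt.obj.map (e₃ ≫ g₂).op ((c.ι.app i).hom.app (op V₁) s₁) = c.pt.obj.map (e₃ ≫ g₂ ≫ g₁).op t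
      simp only [op_comp, Functor.map_comp, ConcreteCategory.comp_apply]
      exact congrArg (c.pt.obj.map e₃.op) he
  choose i V g s hV hy hs using hloc
  obtain ⟨F, hF⟩ := (isCompact_univ (X := U.left)).elim_finite_subcover (fun y => Set.range (g y).left.base)
    (fun y => haveI := etale_left (g y); (g y).left.isOpenMap.isOpen_range)
    (fun y _ => Set.mem_iUnion.2 ⟨y, hy y⟩)
  obtain ⟨m, hm⟩ := IsFiltered.sup_objs_exists (F.image i)
  have hb : ∀ y : F, Nonempty (i y.1 ⟶ m) := fun y => hm (Finset.mem_image_of_mem i y.2)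
  let b : ∀ y : F, i y.1 ⟶ m := fun y => (hb y).some
  have hov : ∀ p : F × F, ∃ (n : J) (a : m ⟶ n), ∀ (Z : X.Etale) (q₁ : Z ⟶ V p.1.1) (q₂ : Z ⟶ V p.2.1),
      q₁ ≫ g p.1.1 = q₂ ≫ g p.2.1 →
        (D.obj n).obj.map q₁.op ((D.map (b p.1 ≫ a)).hom.app _ (s p.1.1)) =
          (D.obj n).obj.map q₂.op ((D.map (b p.2 ≫ a)).hom.app _ (s p.2.1)) := by
    rintro ⟨y, y'⟩
    haveI := hV y.1
    haveI := hV y'.1
    haveI := etale_left (g y.1)
    haveI := etale_left (g y'.1)
    haveI : AlgebraicGeometry.Etale U.hom := U.prop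
    let P : X.Etale := MorphismProperty.Over.mk ⊤ (pullback.fst (g y.1).left (g y'.1).left ≫ (g y.1).left ≫ U.hom)
      (inferInstance : AlgebraicGeometry.Etale (pullback.fst (g y.1).left (g y'.1).left ≫ (g y.1).left ≫ U.hom))
    let p₁ : P ⟶ V y.1 := MorphismProperty.Over.homMk (pullback.fst _ _)
      (congrArg (pullback.fst (g y.1).left (g y'.1).left ≫ ·) (MorphismProperty.Over.w (g y.1)).symm :)
    let p₂ : P ⟶ V y'.1 := MorphismProperty.Over.homMk (pullback.snd _ _) (by
      show pullback.snd _ _ ≫ (V y'.1).hom = pullback.fst _ _ ≫ (g y.1).left ≫ U.hom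
      rw [← MorphismProperty.Over.w (g y'.1), pullback.condition_assoc])
    haveI : QuasiCompact (g y.1).left := quasiCompact_of_compactSpace _
    haveI : CompactSpace P.left := QuasiCompact.compactSpace_of_compactSpace (pullback.snd (g y.1).left (g y'.1).left)
    let σ := (D.obj m).obj.map p₁.op ((D.map (b y)).hom.app _ (s y.1)) -
      (D.obj m).obj.map p₂.op ((D.map (b y')).hom.app _ (s y'.1))
    have hσ : (c.ι.app m).hom.app (op P) σ = 0 := by
      rw [map_sub, NatTrans.naturality_apply, NatTrans.naturality_apply, ← ConcreteCategory.comp_apply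
        ((D.map (b y)).hom.app _) ((c.ι.app m).hom.app _), ← ConcreteCategory.comp_apply
        ((D.map (b y')).hom.app _) ((c.ι.app m).hom.app _)]
      have e1 : ∀ z : F, (D.map (b z)).hom.app (op (V z.1)) ≫ (c.ι.app m).hom.app (op (V z.1)) =
          (c.ι.app (i z.1)).hom.app (op (V z.1)) := fun z =>
        congrArg (fun w : D.obj (i z.1) ⟶ c.pt => w.hom.app (op (V z.1))) (c.w (b z))
      rw [e1, e1]
      show c.pt.obj.map p₁.op ((c.ι.app (i y.1)).hom.app _ (s y.1)) -
        c.pt.obj.map p₂.op ((c.ι.app (i y'.1)).hom.app _ (s y'.1)) = 0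
      erw [hs, hs]
      rw [sub_eq_zero, ← ConcreteCategory.comp_apply, ← ConcreteCategory.comp_apply,
        ← c.pt.obj.map_comp, ← c.pt.obj.map_comp, ← op_comp, ← op_comp]
      have e2 : p₁ ≫ g y.1 = p₂ ≫ g y'.1 := MorphismProperty.Over.Hom.ext pullback.condition
      rw [e2]
    obtain ⟨n, a, ha⟩ := exists_stage_zero hc P σ hσ
    refine ⟨n, a, fun Z q₁ q₂ hq => ?_⟩
    let q : Z ⟶ P := MorphismProperty.Over.homMk (pullback.lift q₁.left q₂.left (congrArg (fun t => t.left) hq)) (by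
      show pullback.lift _ _ _ ≫ pullback.fst _ _ ≫ (g y.1).left ≫ U.hom = _
      rw [pullback.lift_fst_assoc, MorphismProperty.Over.w (g y.1)]
      exact MorphismProperty.Over.w q₁)
    have hq₁ : q ≫ p₁ = q₁ := MorphismProperty.Over.Hom.ext (pullback.lift_fst _ _ _)
    have hq₂ : q ≫ p₂ = q₂ := MorphismProperty.Over.Hom.ext (pullback.lift_snd _ _ _)
    rw [map_sub, sub_eq_zero, NatTrans.naturality_apply, NatTrans.naturality_apply] at ha
    rw [← hq₁, ← hq₂, op_comp, op_comp, (D.obj n).obj.map_comp, (D.obj n).obj.map_comp, D.map_comp, D.map_comp]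
    exact congrArg ((D.obj n).obj.map q.op) ha
  choose n a ha using hov
  obtain ⟨K, hK⟩ := IsFiltered.sup_objs_exists (insert m (Finset.univ.image n))
  let H : Finset (Σ' (X Y : J) (_ : X ∈ insert m (Finset.univ.image n)) (_ : Y ∈ insert m (Finset.univ.image n)), X ⟶ Y) :=
    Finset.univ.image fun p => ⟨m, n p, by simp, by simp, a p⟩
  obtain ⟨N, T, hT⟩ := IsFiltered.sup_exists _ H
  let r : ∀ y : F, (D.obj N).obj.obj (op (V y.1)) := fun y => (D.map (b y ≫ T (X := m) (by simp))).hom.app _ (s y.1)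
  have hsh : (Presieve.ofArrows (fun y : F => V y.1) (fun y : F => g y.1)).IsSheafFor
      ((D.obj N).obj ⋙ forget AddCommGrpCat.{u + 1}) := by
    rw [Presieve.isSheafFor_iff_generate]
    refine ((isSheaf_iff_isSheaf_of_type _ _).1
      (GrothendieckTopology.HasSheafCompose.isSheaf (D.obj N).obj (D.obj N).property)) _ ?_
    show Sieve.ofArrows _ _ ∈ _
    rw [Scheme.ofArrows_mem_smallEtaleTopology_iff]
    refine Set.eq_univ_of_forall fun z => ?_
    obtain ⟨y, hy', hz⟩ := Set.mem_iUnion₂.1 (hF (Set.mem_univ z))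
    exact Set.mem_iUnion.2 ⟨⟨y, hy'⟩, hz⟩
  obtain ⟨R, hR, -⟩ := (Presieve.isSheafFor_arrows_iff _ _).1 hsh r (fun y y' Z q₁ q₂ hq => by
    have e := congrArg ((D.map (T (X := n (y, y')) (by simp))).hom.app (op Z)) (ha (y, y') Z q₁ q₂ hq)
    rw [NatTrans.naturality_apply, NatTrans.naturality_apply] at e
    have eT := hT (X := m) (Y := n (y, y')) (by simp) (by simp) (f := a (y, y'))
      (Finset.mem_image.2 ⟨(y, y'), Finset.mem_univ _, rfl⟩)
    show (D.obj N).obj.map q₁.op (r y) = (D.obj N).obj.map q₂.op (r y')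
    simp only [r]
    rw [← eT]
    simp only [D.map_comp] at e ⊢
    exact e)
  refine ⟨N, R, res_ext c.pt _ _ fun z => ?_⟩
  obtain ⟨y, hy', hz⟩ := Set.mem_iUnion₂.1 (hF (Set.mem_univ z))
  refine ⟨V y, g y, hz, ?_⟩
  refine ((NatTrans.naturality_apply (c.ι.app N).hom (g y).op R).symm.trans ?_)
  rw [show (D.obj N).obj.map (g y).op R = r ⟨y, hy'⟩ from hR ⟨y, hy'⟩, ← hs y]
  exact congrArg (fun w : D.obj (i y) ⟶ c.pt => w.hom.app (op (V y)) (s y))
    (c.w (b ⟨y, hy'⟩ ≫ T (X := m) (by simp)))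

end Groth.Agent.EtShLib
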