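import Groth.Agent.EtShLib.SetSheaf
import Groth.Agent.EtShLib.ExtConst

/-! Sheaves of sets and closed immersions. -/

set_option autoImplicit false
set_option linter.unusedSectionVars false
set_option linter.style.haveILetI false
set_option backward.isDefEq.respectTransparency false
set_option backward.isDefEq.respectTransparency.types false
set_option synthInstance.maxHeartbeats 400000
set_option maxHeartbeats 1000000

universe u

open CategoryTheory CategoryTheory.Limits AlgebraicGeometry Opposite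

namespace Groth.Agent.EtShLib

theorem ab5_type : AB5OfSize.{u, u} (Type (u + 1)) :=
  haveI : AB5OfSize.{u + 1, u + 1} (Type (u + 1)) := ⟨fun _ _ _ => ⟨inferInstance⟩⟩
  AB5OfSize_of_univLE.{u, u, u + 1, u + 1} (Type (u + 1))

attribute [local instance] ab5_type

theorem nonempty_unique_sect_empty {X : Scheme.{u}} (F : EtDesc.Sh X) (U : X.Etale) [IsEmpty U.left] :
    Nonempty (Unique (F.obj.obj (op U))) := by
  refine ⟨(Types.isTerminalEquivUnique _) (Sheaf.isTerminalOfBotCover F U ?_)⟩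
  let Z : PEmpty.{u + 1} → X.Etale := fun i => i.elim
  let f : ∀ i, Z i ⟶ U := fun i => i.elim
  have h := (Scheme.ofArrows_mem_smallEtaleTopology_iff f).2 (Set.eq_univ_of_forall fun y => isEmptyElim y)
  rwa [show Sieve.ofArrows Z f = ⊥ from
    Sieve.ext fun Y g => ⟨fun ⟨_, _, _, ⟨i⟩, _⟩ => i.elim, fun h => h.elim⟩] at h

theorem stk_push_empty {Y X : Scheme.{u}} (i : Y ⟶ X) [IsClosedImmersion i] (G : EtDesc.Sh Y) {Ω : Type u} [Field Ω]
    [IsSepClosed Ω] (ξ : Spec (CommRingCat.of Ω) ⟶ X) (hξ : ξ.base default ∉ Set.range i.base) :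
    Nonempty (Unique ((stk (A := Type (u + 1)) ξ).obj ((EtDesc.pushSh i).obj G))) := by
  let O : X.Opens := ⟨(Set.range i.base)ᶜ, i.isClosedEmbedding.isClosed_range.isOpen_compl⟩
  let t : Fib ξ (EtCoh.top X) := Fib.mk ξ (Category.comp_id _)
  have hemp : ∀ (V : X.Etale), Set.range V.hom.base ⊆ (Set.range i.base)ᶜ → IsEmpty ((EtCoh.bc i).obj V).left :=
    fun V hV => ⟨fun p => hV ⟨(pullback.fst V.hom i).base p, rfl⟩
      ⟨_, (congrArg (fun t : pullback V.hom i ⟶ X => t.base p) pullback.condition).symm⟩⟩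
  have hbelow : ∀ (U : X.Etale) (u : Fib ξ U), ∃ (V : X.Etale) (g : V ⟶ U) (v : Fib ξ V),
      v.map g = u ∧ IsEmpty ((EtCoh.bc i).obj V).left := fun U u => by
    have hu : u.pt ∈ (U.hom ⁻¹ᵁ O : U.left.Opens) := by
      show U.hom.base u.pt ∈ O
      have h1 : U.hom.base u.pt = ξ.base default :=
        congrArg (fun t : Spec (CommRingCat.of Ω) ⟶ X => t.base default) u.w
      rw [h1]
      exact hξ
    obtain ⟨V, g, v, hv, hg⟩ := exists_open_below ξ U u _ hu
    refine ⟨V, g, v, hv, hemp V ?_⟩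
    rintro _ ⟨z, rfl⟩
    rw [← MorphismProperty.Over.w g]
    exact hg ⟨z, rfl⟩
  obtain ⟨V, g, v, -, hV⟩ := hbelow _ t
  obtain ⟨uq⟩ := nonempty_unique_sect_empty G ((EtCoh.bc i).obj V)
  refine ⟨{ default := germ (A := Type (u + 1)) ξ ((EtDesc.pushSh i).obj G) V v uq.default, uniq := fun p => ?_ }⟩
  obtain ⟨W, k, w, x, hw, rfl⟩ := exists_germ_below (A := Type (u + 1)) ξ p V v
  obtain ⟨W', k', w', hw', hW'⟩ := hbelow W w
  obtain ⟨uq'⟩ := nonempty_unique_sect_empty G ((EtCoh.bc i).obj W')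
  rw [← hw, ← germ_res_apply, ← hw', ← germ_res_apply, ← germ_res_apply]
  exact congrArg _ (@Subsingleton.elim _ ⟨fun a b => (uq'.uniq a).trans (uq'.uniq b).symm⟩ _ _)

theorem unique_stk_terminal {X : Scheme.{u}} {Ω : Type u} [Field Ω] [IsSepClosed Ω]
    (ξ : Spec (CommRingCat.of Ω) ⟶ X) : Nonempty (Unique ((stk (A := Type (u + 1)) ξ).obj (⊤_ (EtDesc.Sh X)))) :=
  ⟨(Types.isTerminalEquivUnique _) (IsTerminal.isTerminalObj (stk (A := Type (u + 1)) ξ) _ terminalIsTerminal)⟩

theorem closedImmersion_pushSh {Y X U : Scheme.{u}} (i : Y ⟶ X) [IsClosedImmersion i] (j : U ⟶ X) [IsOpenImmersion j]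
    (hU : Set.range j.base = (Set.range i.base)ᶜ) :
    (EtDesc.pushSh i).Full ∧ (EtDesc.pushSh i).Faithful ∧
      ∀ F : EtDesc.Sh X, (EtDesc.pushSh i).essImage F ↔ IsIso (terminal.from ((EtDesc.pullSh j).obj F)) := by
  haveI : ∀ G, IsIso ((EtDesc.adjSh i).counit.app G) := fun G => isIso_counit_immersion i G
  haveI : IsIso (EtDesc.adjSh i).counit := NatIso.isIso_of_isIso_app _
  haveI hF : (EtDesc.pushSh i).Full := (EtDesc.adjSh i).fullyFaithfulROfIsIsoCounit.full
  haveI hf : (EtDesc.pushSh i).Faithful := (EtDesc.adjSh i).fullyFaithfulROfIsIsoCounit.faithful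
  refine ⟨hF, hf, fun F => ⟨?_, fun h => ?_⟩⟩
  · rintro ⟨G, ⟨e⟩⟩
    refine isIso_of_stalks (A := Type (u + 1)) _ fun Ω _ _ ζ => (CategoryTheory.isIso_iff_bijective _).2 ?_
    have hout : (ζ ≫ j).base default ∉ Set.range i.base :=
      (hU.le ⟨ζ.base default, rfl⟩ : j.base (ζ.base default) ∈ (Set.range i.base)ᶜ)
    obtain ⟨u1⟩ := stk_push_empty i G (ζ ≫ j) hout
    obtain ⟨u2⟩ := unique_stk_terminal (X := U) ζ
    let e' := ((stk (A := Type (u + 1)) (ζ ≫ j)).mapIso e ≪≫ (stalkPull j ζ (Type (u + 1))).app F).toEquiv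
    haveI : Unique ((stk (A := Type (u + 1)) ζ).obj ((EtDesc.pullSh j).obj F)) :=
      @Equiv.unique _ _ u1 e'.symm
    exact ⟨fun a b _ => Subsingleton.elim a b, fun b => ⟨default, (u2.uniq _).trans (u2.uniq b).symm⟩⟩
  · haveI := h
    haveI : IsIso ((EtDesc.adjSh i).unit.app F) := isIso_of_stalks (A := Type (u + 1)) _ fun Ω _ _ ξ => by
      by_cases hξ : ξ.base default ∈ Set.range i.base
      · obtain ⟨ζ, rfl⟩ := exists_factor i ξ hξ
        haveI := isIso_compare (A := Type (u + 1)) i ζ (refines_of_closedImmersion i ζ) ((EtDesc.pullSh i).obj F)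
        have e : (stk (A := Type (u + 1)) (ζ ≫ i)).map ((EtDesc.adjSh i).unit.app F) ≫
            compare (A := Type (u + 1)) i ζ ((EtDesc.pullSh i).obj F) = (stalkPull i ζ (Type (u + 1))).hom.app F := by
          apply stk_hom_ext
          intro W w
          rw [← Category.assoc, germ_natural, Category.assoc]
          exact (congrArg (_ ≫ ·) (germ_compare i ζ _ W w)).trans (germ_stalkPull i ζ _ F W w).symm
        haveI : IsIso ((stk (A := Type (u + 1)) (ζ ≫ i)).map ((EtDesc.adjSh i).unit.app F) ≫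
            compare (A := Type (u + 1)) i ζ ((EtDesc.pullSh i).obj F)) := by
          rw [e]; infer_instance
        exact IsIso.of_isIso_comp_right _ (compare (A := Type (u + 1)) i ζ ((EtDesc.pullSh i).obj F))
      · obtain ⟨ζ, rfl⟩ := exists_factor j ξ (hU.ge hξ)
        obtain ⟨u1⟩ := stk_push_empty i ((EtDesc.pullSh i).obj F) (ζ ≫ j) hξ
        obtain ⟨u2⟩ := unique_stk_terminal (X := U) ζ
        let e' := ((stalkPull j ζ (Type (u + 1))).app F ≪≫
          (stk (A := Type (u + 1)) ζ).mapIso (asIso (terminal.from ((EtDesc.pullSh j).obj F)))).toEquiv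
        haveI : Unique ((stk (A := Type (u + 1)) (ζ ≫ j)).obj F) := @Equiv.unique _ _ u2 e'
        refine (CategoryTheory.isIso_iff_bijective _).2
          ⟨fun a b _ => @Subsingleton.elim _ (inferInstanceAs (Subsingleton ((stk (A := Type (u + 1)) (ζ ≫ j)).obj F))) a b,
            fun b => ⟨(default : (stk (A := Type (u + 1)) (ζ ≫ j)).obj F), (u1.uniq _).trans (u1.uniq b).symm⟩⟩
    exact ⟨(EtDesc.pullSh i).obj F, ⟨(asIso ((EtDesc.adjSh i).unit.app F)).symm⟩⟩

end Groth.Agent.EtShLib
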