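import Groth.Prelude.Def_SGA4b
import Groth.Agent.EtShLib.LqfStalk
import Groth.Agent.EtShLib.SetClosed
import Mathlib.AlgebraicGeometry.Morphisms.Finite

/-! Stalks of direct images of sheaves of sets along finite morphisms. -/

set_option autoImplicit false
set_option linter.unusedSectionVars false
set_option linter.style.haveILetI false
set_option backward.isDefEq.respectTransparency false
set_option backward.isDefEq.respectTransparency.types false
set_option synthInstance.maxHeartbeats 400000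
set_option maxHeartbeats 1000000

universe u

open CategoryTheory CategoryTheory.Limits AlgebraicGeometry Opposite

namespace Groth.Agent.EtShLib

attribute [local instance] ab5_type

variable {X Y : Scheme.{u}} (f : X ⟶ Y) {Ω : Type u} [Field Ω] [IsAlgClosed Ω]
  {η : Spec (CommRingCat.of Ω) ⟶ Y} (G : EtDesc.Sh X)

/-- A germ at a lift, carried by an étale `X`-scheme with a single point over `w`. -/
structure LiftPiece (u : {u : Spec (CommRingCat.of Ω) ⟶ X // u ≫ f = η}) (W : Y.Etale) (w : Fib η W)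
    (a : (stk (A := Type (u + 1)) u.1).obj G) where
  O : X.Etale
  q : O.left ⟶ W.left
  fin : IsFinite q
  comm : q ≫ W.hom = O.hom ≫ f
  o : Fib u.1 O
  o_q : o.hom ≫ q = w.hom
  uniq : ∀ l : Spec (CommRingCat.of Ω) ⟶ O.left, l ≫ q = w.hom → l = o.hom
  x : G.obj.obj (op O)
  germ_x : germ (A := Type (u + 1)) u.1 G O o x = a

theorem exists_piece [IsFinite f] (u₀ : {u : Spec (CommRingCat.of Ω) ⟶ X // u ≫ f = η})
    (a : (stk (A := Type (u + 1)) u₀.1).obj G) :
    ∃ (W : Y.Etale) (w : Fib η W), Nonempty (LiftPiece f G u₀ W w a) := by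
  obtain ⟨V₁, v₁, s₁, rfl⟩ := exists_germ (A := Type (u + 1)) u₀.1 a
  obtain ⟨B, hB, hvB, -⟩ := exists_isAffineOpen_mem_and_subset (X := V₁.left) (x := v₁.pt) (U := ⊤) trivial
  let V : X.Etale := MorphismProperty.Over.mk ⊤ (B.ι ≫ str V₁)
    (inferInstance : AlgebraicGeometry.Etale (B.ι ≫ str V₁))
  let e : V ⟶ V₁ := MorphismProperty.Over.homMk B.ι rfl
  have hrv : Set.range v₁.hom.base ⊆ Set.range B.ι.base := by
    rintro _ ⟨b, rfl⟩
    rw [Scheme.Opens.range_ι, Subsingleton.elim b default]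
    exact hvB
  let v : Fib u₀.1 V := Fib.mk (IsOpenImmersion.lift B.ι v₁.hom hrv) (by
    show _ ≫ B.ι ≫ V₁.hom = _
    rw [← Category.assoc, IsOpenImmersion.lift_fac]
    exact v₁.w)
  have hv : v.map e = v₁ := Fib.ext (IsOpenImmersion.lift_fac _ _ _)
  let h : V.left ⟶ Y := V.hom ≫ f
  haveI : IsAffine V.left := hB
  haveI : AlgebraicGeometry.Etale V.hom := V.prop
  haveI := locallyQuasiFinite_of_etale (str V)
  haveI : LocallyQuasiFinite h := inferInstanceAs (LocallyQuasiFinite (str V ≫ f))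
  haveI : LocallyOfFiniteType h := inferInstanceAs (LocallyOfFiniteType (str V ≫ f))
  obtain ⟨W₀, g, hg, w₀, hw₀, n, piece, hfin, hsingle, -, hcov⟩ :=
    WeightLib.exists_split h ((v.hom ≫ h).base default) {v.pt} (Set.finite_singleton _)
  haveI := hg
  let W : Y.Etale := MorphismProperty.Over.mk ⊤ g hg
  have hξ : v.hom ≫ h = η := (Category.assoc _ _ _).symm.trans ((congrArg (· ≫ f) v.w).trans u₀.2)
  obtain ⟨w, hw⟩ := exists_fib η W w₀ (hw₀.trans (congrArg (fun t : Spec (CommRingCat.of Ω) ⟶ Y => t.base default) hξ))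
  let o₀ : Spec (CommRingCat.of Ω) ⟶ pullback h g := pullback.lift v.hom w.hom (hξ.trans w.w.symm)
  obtain ⟨k, hk⟩ := hcov (o₀.base default)
    ((congrArg (fun t : Spec (CommRingCat.of Ω) ⟶ W₀ => t.base default) (pullback.lift_snd _ _ _)).trans hw)
    (congrArg (fun t : Spec (CommRingCat.of Ω) ⟶ V.left => t.base default) (pullback.lift_fst _ _ _))
  haveI := hfin k
  let c : (piece k).toScheme ⟶ V.left := (piece k).ι ≫ pullback.fst h g
  haveI : AlgebraicGeometry.Etale c := inferInstance
  let O : X.Etale := MorphismProperty.Over.mk ⊤ (c ≫ str V) (inferInstance : AlgebraicGeometry.Etale (c ≫ str V))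
  have hr₀ : Set.range o₀.base ⊆ Set.range (piece k).ι.base := by
    rintro _ ⟨b, rfl⟩
    rw [Scheme.Opens.range_ι, Subsingleton.elim b default]
    exact hk
  let l := IsOpenImmersion.lift (piece k).ι o₀ hr₀
  have hl : l ≫ c = v.hom :=
    (IsOpenImmersion.lift_fac_assoc _ _ _ _).trans (pullback.lift_fst _ _ _)
  have hlq : l ≫ (piece k).ι ≫ pullback.snd h g = w.hom :=
    (IsOpenImmersion.lift_fac_assoc _ _ _ _).trans (pullback.lift_snd _ _ _)
  haveI : Subsingleton (WeightLib.GPts ((piece k).ι ≫ pullback.snd h g) w.hom) := hsingle k Ω w.hom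
    ((congrArg w.hom.base (Subsingleton.elim _ _)).trans hw)
  let o : Fib u₀.1 O := Fib.mk l (by
    show l ≫ c ≫ str V = u₀.1
    rw [← Category.assoc, hl]
    exact v.w)
  let ec : O ⟶ V := MorphismProperty.Over.homMk c rfl
  refine ⟨W, w, ⟨{
    O := O
    q := (piece k).ι ≫ pullback.snd h g
    fin := inferInstance
    comm := ?_
    o := o
    o_q := hlq
    uniq := fun l' hl' => congrArg Subtype.val
      (Subsingleton.elim (⟨l', hl'⟩ : WeightLib.GPts ((piece k).ι ≫ pullback.snd h g) w.hom) ⟨l, hlq⟩)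
    x := G.obj.map ec.op (G.obj.map e.op s₁)
    germ_x := ?_ }⟩⟩
  · show ((piece k).ι ≫ pullback.snd h g) ≫ g = (((piece k).ι ≫ pullback.fst h g) ≫ V.hom) ≫ f
    simp only [Category.assoc]
    exact congrArg ((piece k).ι ≫ ·) (pullback.condition (f := h) (g := g)).symm
  · rw [germ_res_apply, germ_res_apply]
    have : o.map ec = v := Fib.ext hl
    rw [this, hv]

/-- Base change of a piece along a refinement of the neighbourhood. -/
theorem LiftPiece.pull {u : {u : Spec (CommRingCat.of Ω) ⟶ X // u ≫ f = η}} {W W' : Y.Etale} {w : Fib η W}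
    {a : (stk (A := Type (u + 1)) u.1).obj G} (P : LiftPiece f G u W w a) (j : W' ⟶ W) (w' : Fib η W')
    (hj : w'.map j = w) : Nonempty (LiftPiece f G u W' w' a) := by
  haveI := etale_left j
  haveI := P.O.prop
  haveI := P.fin
  haveI : AlgebraicGeometry.Etale (pullback.fst P.q j.left) := MorphismProperty.pullback_fst _ _ inferInstance
  let O' : X.Etale := MorphismProperty.Over.mk ⊤ (pullback.fst P.q j.left ≫ str P.O)
    (inferInstance : AlgebraicGeometry.Etale (pullback.fst P.q j.left ≫ str P.O))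
  let k : O' ⟶ P.O := MorphismProperty.Over.homMk (pullback.fst P.q j.left) rfl
  have hc : P.o.hom ≫ P.q = w'.hom ≫ j.left := P.o_q.trans (congrArg Fib.hom hj).symm
  let o' : Fib u.1 O' := Fib.mk (pullback.lift P.o.hom w'.hom hc) (by
    show _ ≫ pullback.fst P.q j.left ≫ P.O.hom = _
    rw [← Category.assoc, pullback.lift_fst]
    exact P.o.w)
  refine ⟨{
    O := O'
    q := pullback.snd P.q j.left
    fin := MorphismProperty.pullback_snd _ _ P.fin
    comm := ?_
    o := o'
    o_q := pullback.lift_snd _ _ _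
    uniq := fun l hl => ?_
    x := G.obj.map k.op P.x
    germ_x := ?_ }⟩
  · show pullback.snd P.q j.left ≫ W'.hom = (pullback.fst P.q j.left ≫ P.O.hom) ≫ f
    rw [Category.assoc, ← P.comm, ← Category.assoc, pullback.condition, Category.assoc]
    exact congrArg (pullback.snd P.q j.left ≫ ·) (MorphismProperty.Over.w j).symm
  · refine pullback.hom_ext ?_ (hl.trans (pullback.lift_snd _ _ _).symm)
    rw [show o'.hom ≫ pullback.fst P.q j.left = P.o.hom from pullback.lift_fst _ _ _]
    refine P.uniq _ ?_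
    rw [Category.assoc, pullback.condition, ← Category.assoc, hl]
    exact congrArg Fib.hom hj
  · rw [germ_res_apply, show o'.map k = P.o from Fib.ext (pullback.lift_fst _ _ _)]
    exact P.germ_x

theorem finite_liftsOver [IsFinite f] : Finite {u : Spec (CommRingCat.of Ω) ⟶ X // u ≫ f = η} :=
  WeightLib.finite_gpts f η (f.finite_preimage_singleton _)

/-- All lifts have pieces over a common neighbourhood. -/
theorem exists_pieces [IsFinite f]
    (a : ∀ u : {u : Spec (CommRingCat.of Ω) ⟶ X // u ≫ f = η}, (stk (A := Type (u + 1)) u.1).obj G) :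
    ∃ (W : Y.Etale) (w : Fib η W), ∀ u, Nonempty (LiftPiece f G u W w (a u)) := by
  classical
  haveI := finite_liftsOver f (η := η)
  choose W w P using fun u => exists_piece f G u (a u)
  obtain ⟨⟨W₀, w₀⟩, hW₀⟩ := IsCofiltered.inf_objs_exists
    ((Set.finite_range fun u => (pt η).fiber.elementsMk (W u) (w u)).toFinset)
  refine ⟨W₀, w₀, fun u => ?_⟩
  obtain ⟨j⟩ : Nonempty ((pt η).fiber.elementsMk W₀ w₀ ⟶ (pt η).fiber.elementsMk (W u) (w u)) := hW₀ (by simp)
  exact LiftPiece.pull f G (P u).some j.1 w₀ j.2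

/-- Germs at all the lifts are realised by one section downstairs. -/
theorem exists_section_lifts [IsFinite f]
    (a : ∀ u : {u : Spec (CommRingCat.of Ω) ⟶ X // u ≫ f = η}, (stk (A := Type (u + 1)) u.1).obj G) :
    ∃ (W : Y.Etale) (w : Fib η W) (t : G.obj.obj (op ((EtCoh.bc f).obj W))),
      ∀ u, germ (A := Type (u + 1)) u.1 G _ (Fib.liftU f u w) t = a u := by
  classical
  haveI hfin := finite_liftsOver f (η := η)
  obtain ⟨W, w, hP⟩ := exists_pieces f G a
  let P := fun u => (hP u).some
  let i : ∀ u, (P u).O ⟶ (EtCoh.bc f).obj W := fun u =>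
    MorphismProperty.Over.homMk (pullback.lift (P u).q (P u).O.hom (P u).comm) (pullback.lift_snd _ _ _)
  have hiq : ∀ u, (i u).left ≫ EtShriek.prV f W = (P u).q := fun u => pullback.lift_fst _ _ _
  have ho : ∀ u, (P u).o.map (i u) = Fib.liftU f u w := fun u => Fib.ext (pullback.hom_ext
    ((Category.assoc _ _ _).trans ((congrArg ((P u).o.hom ≫ ·) (hiq u)).trans
      ((P u).o_q.trans (pullback.lift_fst _ _ _).symm)))
    ((Category.assoc _ _ _).trans ((congrArg ((P u).o.hom ≫ ·) (pullback.lift_snd _ _ _)).trans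
      ((P u).o.w.trans (pullback.lift_snd _ _ _).symm))))
  haveI : IsFinite (EtShriek.prV f W) := MorphismProperty.pullback_fst (P := @IsFinite) _ _ ‹_›
  haveI : ∀ u, AlgebraicGeometry.Etale (i u).left := fun u => etale_left (i u)
  haveI : ∀ u, IsFinite (i u).left := fun u => by
    haveI : IsFinite ((i u).left ≫ EtShriek.prV f W) := by rw [hiq]; exact (P u).fin
    exact IsFinite.of_comp (i u).left (EtShriek.prV f W)
  let C : Set ↥((EtCoh.bc f).obj W).left := (⋃ u, Set.range (i u).left.base)ᶜ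
  have hC : IsClosed C := (isOpen_iUnion fun u => (i u).left.isOpenMap.isOpen_range).isClosed_compl
  haveI : ∀ u v, AlgebraicGeometry.Etale (pullback.fst (i u).left (i v).left) := fun u v =>
    MorphismProperty.pullback_fst _ _ inferInstance
  haveI : ∀ u, AlgebraicGeometry.Etale (P u).O.hom := fun u => (P u).O.prop
  let R : ∀ (_ _ : {u : Spec (CommRingCat.of Ω) ⟶ X // u ≫ f = η}), X.Etale := fun u v =>
    MorphismProperty.Over.mk ⊤ (pullback.fst (i u).left (i v).left ≫ str (P u).O)
      (inferInstance : AlgebraicGeometry.Etale (pullback.fst (i u).left (i v).left ≫ str (P u).O))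
  let p₁ : ∀ u v, R u v ⟶ (P u).O := fun u v => MorphismProperty.Over.homMk (pullback.fst (i u).left (i v).left) rfl
  let p₂ : ∀ u v, R u v ⟶ (P v).O := fun u v => MorphismProperty.Over.homMk (pullback.snd (i u).left (i v).left) (by
    show pullback.snd (i u).left (i v).left ≫ (P v).O.hom = pullback.fst (i u).left (i v).left ≫ (P u).O.hom
    rw [← MorphismProperty.Over.w (i v), ← MorphismProperty.Over.w (i u), ← Category.assoc, ← Category.assoc,
      pullback.condition])
  let D : ∀ u v, Set ↥(R u v).left := fun u v => ⋃ T : {T : Σ V : X.Etale, (V ⟶ R u v) //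
    G.obj.map T.2.op (G.obj.map (p₁ u v).op (P u).x) = G.obj.map T.2.op (G.obj.map (p₂ u v).op (P v).x)},
    Set.range T.1.2.left.base
  have hD : ∀ u v, IsOpen (D u v) := fun u v => isOpen_iUnion fun T => by
    haveI := etale_left T.1.2
    exact T.1.2.left.isOpenMap.isOpen_range
  let π : ∀ u v, pullback (i u).left (i v).left ⟶ W.left := fun u v => pullback.fst (i u).left (i v).left ≫ (P u).q
  haveI : ∀ u v, IsFinite (π u v) := fun u v => by
    haveI : IsFinite (pullback.fst (i u).left (i v).left) := MorphismProperty.pullback_fst _ _ inferInstance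
    haveI := (P u).fin
    infer_instance
  let O : W.left.Opens := ⟨((EtShriek.prV f W).base '' C)ᶜ ∩
      ⋂ uv : {u : Spec (CommRingCat.of Ω) ⟶ X // u ≫ f = η} × {u : Spec (CommRingCat.of Ω) ⟶ X // u ≫ f = η},
        ((π uv.1 uv.2).base '' (D uv.1 uv.2)ᶜ)ᶜ,
    ((EtShriek.prV f W).isClosedMap _ hC).isOpen_compl.inter (isOpen_iInter_of_finite fun uv =>
      ((π uv.1 uv.2).isClosedMap _ (hD uv.1 uv.2).isClosed_compl).isOpen_compl)⟩
  have hw : w.pt ∈ O := by
    refine ⟨?_, Set.mem_iInter.2 fun uv => ?_⟩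
    · rintro ⟨z, hz, hzw⟩
      obtain ⟨u, hu⟩ := exists_lift_of_mem f W w z hzw
      refine hz (Set.mem_iUnion.2 ⟨u, (P u).o.pt, ?_⟩)
      rw [← hu, ← ho u]
      rfl
    · obtain ⟨u, v⟩ := uv
      rintro ⟨z, hz, hzw⟩
      obtain ⟨⟨p, hp⟩, hpz⟩ := WeightLib.exists_gpt (π u v) z w.hom
        (hzw.trans (congrArg w.hom.base (Subsingleton.elim _ _)))
      have h1 : p ≫ pullback.fst (i u).left (i v).left = (P u).o.hom :=
        (P u).uniq _ ((Category.assoc _ _ _).trans hp)
      have h2 : p ≫ pullback.snd (i u).left (i v).left = (P v).o.hom := (P v).uniq _ (by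
        rw [← hiq v, Category.assoc, ← Category.assoc (pullback.snd (i u).left (i v).left), ← pullback.condition,
          Category.assoc, hiq u]
        exact hp)
      have huv : u = v := by
        refine Subtype.ext (((P u).o.w.symm.trans ?_).trans (P v).o.w)
        rw [← h1, ← h2, Category.assoc, Category.assoc]
        exact congrArg (p ≫ ·) (MorphismProperty.Over.w (p₂ u v)).symm
      subst huv
      let pf : Fib u.1 (R u u) := Fib.mk p ((Category.assoc _ _ _).symm.trans
        ((congrArg (· ≫ (P u).O.hom) h1).trans (P u).o.w))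
      have e1 : pf.map (p₁ u u) = (P u).o := Fib.ext h1
      have e2 : pf.map (p₂ u u) = (P u).o := Fib.ext h2
      have hg : germ (A := Type (u + 1)) u.1 G _ pf (G.obj.map (p₁ u u).op (P u).x) =
          germ (A := Type (u + 1)) u.1 G _ pf (G.obj.map (p₂ u u).op (P u).x) := by
        rw [germ_res_apply, germ_res_apply, e1, e2]
      obtain ⟨V, g, v', hv', he⟩ := (germ_eq_iff (A := Type (u + 1)) u.1 _ pf _ _).1 hg
      refine hz (Set.mem_iUnion.2 ⟨⟨⟨V, g⟩, he⟩, v'.pt, ?_⟩)
      rw [← hpz]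
      exact (congrArg (fun t : Fib u.1 (R u u) => t.pt) hv').trans (congrArg p.base (Subsingleton.elim _ _))
  obtain ⟨W', j, w', hw', hj⟩ := exists_open_below η W w O hw
  let bj : (EtCoh.bc f).obj W' ⟶ (EtCoh.bc f).obj W := (EtCoh.bc f).map j
  have hbj : ∀ z, (EtShriek.prV f W).base (bj.left.base z) ∈ O := fun z => hj ⟨(EtShriek.prV f W').base z,
    (congrArg (fun t : ((EtCoh.bc f).obj W').left ⟶ W.left => t.base z) (EtCoh.isPullback_bc_map f j).w).symm⟩
  haveI : AlgebraicGeometry.Etale ((EtCoh.bc f).obj W').hom := ((EtCoh.bc f).obj W').prop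
  haveI : ∀ u, AlgebraicGeometry.Etale (pullback.snd (i u).left bj.left) := fun u =>
    MorphismProperty.pullback_snd _ _ inferInstance
  let B : {u : Spec (CommRingCat.of Ω) ⟶ X // u ≫ f = η} → X.Etale := fun u =>
    MorphismProperty.Over.mk ⊤ (pullback.snd (i u).left bj.left ≫ str ((EtCoh.bc f).obj W'))
      (inferInstance : AlgebraicGeometry.Etale (pullback.snd (i u).left bj.left ≫ str ((EtCoh.bc f).obj W')))
  let β : ∀ u, B u ⟶ (EtCoh.bc f).obj W' := fun u =>
    MorphismProperty.Over.homMk (pullback.snd (i u).left bj.left) rfl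
  let α : ∀ u, B u ⟶ (P u).O := fun u => MorphismProperty.Over.homMk (pullback.fst (i u).left bj.left) (by
    show pullback.fst (i u).left bj.left ≫ (P u).O.hom = pullback.snd (i u).left bj.left ≫ ((EtCoh.bc f).obj W').hom
    rw [← MorphismProperty.Over.w (i u), ← MorphismProperty.Over.w bj, ← Category.assoc, pullback.condition,
      Category.assoc])
  have hαβ : ∀ u, α u ≫ i u = β u ≫ bj := fun u => MorphismProperty.Over.Hom.ext pullback.condition
  have hcov : Sieve.ofArrows B β ∈ X.smallEtaleTopology _ := by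
    refine (Scheme.ofArrows_mem_smallEtaleTopology_iff β).2 (Set.eq_univ_of_forall fun z => ?_)
    have hz : bj.left.base z ∈ ⋃ u, Set.range (i u).left.base := by
      by_contra hn
      exact (hbj z).1 ⟨_, hn, rfl⟩
    obtain ⟨u, y, hy⟩ := Set.mem_iUnion.1 hz
    obtain ⟨b, -, hb⟩ := Scheme.Pullback.exists_preimage_pullback (f := (i u).left) (g := bj.left) y z hy
    exact Set.mem_iUnion.2 ⟨u, b, hb⟩
  have hsh : (Presieve.ofArrows B β).IsSheafFor G.obj := by
    rw [Presieve.isSheafFor_iff_generate]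
    exact ((isSheaf_iff_isSheaf_of_type _ _).1 G.property) _ hcov
  obtain ⟨t, ht, -⟩ := (Presieve.isSheafFor_arrows_iff _ _).1 hsh (fun u => G.obj.map (α u).op (P u).x)
    (fun u v Z gu gv hgg => by
      have hc : (gu ≫ α u).left ≫ (i u).left = (gv ≫ α v).left ≫ (i v).left := by
        have h3 : (gu ≫ α u) ≫ i u = (gv ≫ α v) ≫ i v := by
          rw [Category.assoc, hαβ, Category.assoc, hαβ, ← Category.assoc, hgg, Category.assoc]
        exact congrArg (fun t : Z ⟶ (EtCoh.bc f).obj W => t.left) h3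
      let τ : Z ⟶ R u v := MorphismProperty.Over.homMk (pullback.lift (gu ≫ α u).left (gv ≫ α v).left hc) (by
        show pullback.lift _ _ _ ≫ pullback.fst (i u).left (i v).left ≫ (P u).O.hom = Z.hom
        rw [← Category.assoc, pullback.lift_fst]
        exact MorphismProperty.Over.w (gu ≫ α u))
      have t1 : gu ≫ α u = τ ≫ p₁ u v := MorphismProperty.Over.Hom.ext (pullback.lift_fst _ _ hc).symm
      have t2 : gv ≫ α v = τ ≫ p₂ u v := MorphismProperty.Over.Hom.ext (pullback.lift_snd _ _ hc).symm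
      rw [← Functor.map_comp_apply, ← Functor.map_comp_apply, ← op_comp, ← op_comp, t1, t2, op_comp, op_comp,
        Functor.map_comp_apply, Functor.map_comp_apply]
      refine eq_of_germ (A := Type (u + 1)) G (U := Z) _ _ fun Ω' _ _ ζ z => ?_
      rw [germ_res_apply (A := Type (u + 1)) ζ G τ z, germ_res_apply (A := Type (u + 1)) ζ G τ z]
      have hmem : (z.map τ).pt ∈ D u v := by
        by_contra hn
        refine Set.mem_iInter.1 (hbj ((gu ≫ β u).left.base z.pt)).2 (u, v) ⟨_, hn, ?_⟩
        have h3 : τ.left ≫ π u v = (gu ≫ β u).left ≫ bj.left ≫ EtShriek.prV f W := by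
          show τ.left ≫ pullback.fst (i u).left (i v).left ≫ (P u).q = _
          rw [← hiq u, ← Category.assoc τ.left]
          rw [show τ.left ≫ pullback.fst (i u).left (i v).left = (gu ≫ α u).left from pullback.lift_fst _ _ hc]
          have h4 := congrArg (fun t : B u ⟶ (EtCoh.bc f).obj W => gu.left ≫ t.left ≫ EtShriek.prV f W) (hαβ u)
          exact h4
        exact congrArg (fun t : Z.left ⟶ W.left => t.base z.pt) h3
      obtain ⟨⟨⟨V, g⟩, he⟩, y, hy⟩ := Set.mem_iUnion.1 hmem
      haveI := etale_left g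
      obtain ⟨l, hl, -⟩ := Scheme.exists_fac_of_etale_of_isSepClosed g.left (z.map τ).hom y hy
      let v' : Fib ζ V := Fib.mk l (by
        rw [← MorphismProperty.Over.w g, ← Category.assoc, hl]
        exact (z.map τ).w)
      have hv' : v'.map g = z.map τ := Fib.ext hl
      rw [← hv', ← germ_res_apply (A := Type (u + 1)) ζ G g v', ← germ_res_apply (A := Type (u + 1)) ζ G g v']
      exact congrArg _ he)
  refine ⟨W', w', t, fun u => ?_⟩
  have hc : (P u).o.hom ≫ (i u).left = (Fib.liftU f u w').hom ≫ bj.left := by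
    refine (congrArg Fib.hom (ho u)).trans ?_
    rw [← hw', ← Fib.liftU_map]
    rfl
  let b : Fib u.1 (B u) := Fib.mk (pullback.lift (P u).o.hom (Fib.liftU f u w').hom hc) (by
    show _ ≫ pullback.snd (i u).left bj.left ≫ ((EtCoh.bc f).obj W').hom = _
    rw [← Category.assoc, pullback.lift_snd]
    exact (Fib.liftU f u w').w)
  have e1 : b.map (β u) = Fib.liftU f u w' := Fib.ext (pullback.lift_snd _ _ _)
  have e2 : b.map (α u) = (P u).o := Fib.ext (pullback.lift_fst _ _ _)
  rw [← e1, ← germ_res_apply, ht u, germ_res_apply, e2]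
  exact (P u).germ_x

/-- Sections with the same germs at all lifts have the same germ downstairs. -/
theorem germ_eq_of_lifts [IsFinite f] (W : Y.Etale) (w : Fib η W) (s t : G.obj.obj (op ((EtCoh.bc f).obj W)))
    (h : ∀ u, germ (A := Type (u + 1)) u.1 G _ (Fib.liftU f u w) s =
      germ (A := Type (u + 1)) u.1 G _ (Fib.liftU f u w) t) :
    germ (A := Type (u + 1)) η ((EtDesc.pushSh f).obj G) W w s =
      germ (A := Type (u + 1)) η ((EtDesc.pushSh f).obj G) W w t := by
  classical
  haveI : IsFinite (EtShriek.prV f W) := MorphismProperty.pullback_fst (P := @IsFinite) _ _ ‹_›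
  let D : Set ↥((EtCoh.bc f).obj W).left := ⋃ T : {T : Σ V : X.Etale, (V ⟶ (EtCoh.bc f).obj W) //
    G.obj.map T.2.op s = G.obj.map T.2.op t}, Set.range T.1.2.left.base
  have hD : IsOpen D := isOpen_iUnion fun T => by
    haveI := etale_left T.1.2
    exact T.1.2.left.isOpenMap.isOpen_range
  let O : W.left.Opens := ⟨((EtShriek.prV f W).base '' Dᶜ)ᶜ,
    ((EtShriek.prV f W).isClosedMap _ hD.isClosed_compl).isOpen_compl⟩
  have hw : w.pt ∈ O := by
    rintro ⟨z, hz, hzw⟩
    obtain ⟨u, hu⟩ := exists_lift_of_mem f W w z hzw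
    obtain ⟨V, g, v, hv, he⟩ := (germ_eq_iff (A := Type (u + 1)) u.1 _ _ _ _).1 (h u)
    refine hz (Set.mem_iUnion.2 ⟨⟨⟨V, g⟩, he⟩, v.pt, ?_⟩)
    rw [← hu, ← hv]
    rfl
  obtain ⟨W', j, w', hw', hj⟩ := exists_open_below η W w O hw
  rw [germ_eq_iff]
  refine ⟨W', j, w', hw', ?_⟩
  show G.obj.map ((EtCoh.bc f).map j).op s = G.obj.map ((EtCoh.bc f).map j).op t
  refine eq_of_germ (A := Type (u + 1)) G (U := (EtCoh.bc f).obj W') _ _ fun Ω' _ _ ζ z => ?_
  rw [germ_res_apply (A := Type (u + 1)) ζ G ((EtCoh.bc f).map j) z, germ_res_apply (A := Type (u + 1)) ζ G ((EtCoh.bc f).map j) z]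
  have hmem : (z.map ((EtCoh.bc f).map j)).pt ∈ D := by
    by_contra hn
    exact hj ⟨(EtShriek.prV f W').base z.pt, rfl⟩ ⟨_, hn,
      congrArg (fun t : ((EtCoh.bc f).obj W').left ⟶ W.left => t.base z.pt) (EtCoh.isPullback_bc_map f j).w⟩
  obtain ⟨⟨⟨V, g⟩, he⟩, y, hy⟩ := Set.mem_iUnion.1 hmem
  haveI := etale_left g
  obtain ⟨l, hl, -⟩ := Scheme.exists_fac_of_etale_of_isSepClosed g.left (z.map ((EtCoh.bc f).map j)).hom y hy
  let v' : Fib ζ V := Fib.mk l (by
    rw [← MorphismProperty.Over.w g, ← Category.assoc, hl]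
    exact (z.map ((EtCoh.bc f).map j)).w)
  have hv' : v'.map g = z.map ((EtCoh.bc f).map j) := Fib.ext hl
  rw [← hv', ← germ_res_apply (A := Type (u + 1)) ζ G g v', ← germ_res_apply (A := Type (u + 1)) ζ G g v']
  exact congrArg _ he

variable (η)

/-- The component of the stalk of the direct image at a lift. -/
noncomputable def liftCmp (u : {u : Spec (CommRingCat.of Ω) ⟶ X // u ≫ f = η}) :
    EtDesc.pushSh f ⋙ stk (A := Type (u + 1)) η ⟶ stk (A := Type (u + 1)) u.1 :=
  eqToHom (congrArg (fun t => EtDesc.pushSh f ⋙ stk (A := Type (u + 1)) t) u.2.symm) ≫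
    Functor.whiskerLeft _ (stalkPull f u.1 (Type (u + 1))).hom ≫
    Functor.whiskerRight (adjA f (Type (u + 1))).counit (stk (A := Type (u + 1)) u.1)

theorem liftCmp_germ (u : {u : Spec (CommRingCat.of Ω) ⟶ X // u ≫ f = η}) (W : Y.Etale) (w : Fib η W)
    (t : G.obj.obj (op ((EtCoh.bc f).obj W))) :
    (liftCmp f η u).app G (germ (A := Type (u + 1)) η ((EtDesc.pushSh f).obj G) W w t) =
      germ (A := Type (u + 1)) u.1 G _ (Fib.liftU f u w) t := by
  obtain ⟨u₀, rfl⟩ := u
  exact congrArg (fun q : ((EtDesc.pushSh f).obj G).obj.obj (op W) ⟶ (stk (A := Type (u + 1)) u₀).obj G => q t)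
    (germ_compare (A := Type (u + 1)) f u₀ G W w)

theorem nonempty_pushSh_stk_iso [IsFinite f] :
    Nonempty (EtDesc.pushSh f ⋙ stk (A := Type (u + 1)) η ≅
      ∏ᶜ fun u : {u : Spec (CommRingCat.of Ω) ⟶ X // u ≫ f = η} => stk (A := Type (u + 1)) u.1) := by
  let Φ := Pi.lift (liftCmp f η)
  haveI : ∀ G, IsIso (Φ.app G) := fun G => by
    rw [isIso_iff_bijective]
    let fam := fun u : {u : Spec (CommRingCat.of Ω) ⟶ X // u ≫ f = η} => stk (A := Type (u + 1)) u.1
    have hlim := isLimitOfPreserves ((evaluation (EtDesc.Sh X) (Type (u + 1))).obj G) (productIsProduct fam)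
    have hπ : ∀ u p, (Pi.π fam u).app G (Φ.app G p) = (liftCmp f η u).app G p := fun u p =>
      congrArg (fun q : EtDesc.pushSh f ⋙ stk (A := Type (u + 1)) η ⟶ fam u => q.app G p) (Pi.lift_π _ u)
    constructor
    · intro p q e
      obtain ⟨W, w, s, rfl⟩ := exists_germ (A := Type (u + 1)) η p
      obtain ⟨W', g, w', t, hw', rfl⟩ := exists_germ_below (A := Type (u + 1)) η q W w
      rw [← hw', ← germ_res_apply (A := Type (u + 1)) η _ g w'] at e ⊢
      refine germ_eq_of_lifts f G W' w' _ _ fun u => ?_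
      exact (liftCmp_germ f η G u W' w' _).symm.trans ((hπ u _).symm.trans
        ((congrArg ((Pi.π fam u).app G) e).trans ((hπ u _).trans (liftCmp_germ f η G u W' w' t))))
    · intro y
      obtain ⟨W, w, t, ht⟩ := exists_section_lifts f G fun u => (Pi.π fam u).app G y
      refine ⟨germ (A := Type (u + 1)) η ((EtDesc.pushSh f).obj G) W w t, Concrete.isLimit_ext _ hlim _ _ ?_⟩
      rintro ⟨u⟩
      exact (hπ u _).trans ((liftCmp_germ f η G u W w t).trans (ht u))
  haveI : IsIso Φ := NatIso.isIso_of_isIso_app _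
  exact ⟨asIso Φ⟩

end Groth.Agent.EtShLib
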