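import Groth.Agent.EtShLib.StrictLocal
import Groth.Agent.EtShLib.SamePoint
import Groth.Agent.EtShLib.ImmersionRefine
import Groth.Prelude.Def_SGA4b

/-! Étale sheaves of sets. -/

set_option autoImplicit false
set_option linter.unusedSectionVars false
set_option linter.style.haveILetI false
set_option backward.isDefEq.respectTransparency false
set_option backward.isDefEq.respectTransparency.types false
set_option synthInstance.maxHeartbeats 400000
set_option maxHeartbeats 1000000

universe u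

open CategoryTheory CategoryTheory.Limits AlgebraicGeometry Opposite

namespace Groth.Agent.EtShLib

theorem isIso_counit_immersion {X Y : Scheme.{u}} (f : X ⟶ Y) [IsImmersion f] (F : EtDesc.Sh X) :
    IsIso ((EtDesc.adjSh f).counit.app F) :=
  isIso_counit (A := Type (u + 1)) f (fun _ _ _ ξ => refines_of_immersion f ξ) F

theorem bijective_germ_top_set (R : Type u) [CommRing R] [HenselianLocalRing R]
    [IsSepClosed (IsLocalRing.ResidueField R)] (F : EtDesc.Sh (Spec (CommRingCat.of R))) :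
    Function.Bijective (germ (A := Type (u + 1)) (closedPt R) F (EtCoh.top _) (topPt R)) := by
  refine ⟨fun x y h => ?_, fun p => ?_⟩
  · obtain ⟨V, g, v, -, he⟩ := (germ_eq_iff (A := Type (u + 1)) (closedPt R) _ _ x y).1 h
    obtain ⟨σ, -⟩ := exists_section_fib R V v
    have h1 : σ ≫ g = 𝟙 _ := MorphismProperty.Over.Hom.ext (by
      have h2 := MorphismProperty.Over.w (σ ≫ g)
      exact (Category.comp_id _).symm.trans h2)
    have := congrArg (F.obj.map σ.op) he
    rwa [← ConcreteCategory.comp_apply, ← ConcreteCategory.comp_apply, ← Functor.map_comp, ← op_comp, h1,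
      op_id, CategoryTheory.Functor.map_id, ConcreteCategory.id_apply, ConcreteCategory.id_apply] at this
  · obtain ⟨U, u, x, rfl⟩ := exists_germ (A := Type (u + 1)) (closedPt R) p
    obtain ⟨σ, rfl⟩ := exists_section_fib R U u
    exact ⟨F.obj.map σ.op x, germ_res_apply _ _ _ _ _⟩

theorem exists_lift_point {X' X : Scheme.{u}} (f : X' ⟶ X) [Surjective f] {Ω : Type u} [Field Ω] [IsSepClosed Ω]
    (ξ : Spec (CommRingCat.of Ω) ⟶ X) : ∃ (Ω' : Type u) (_ : Field Ω') (_ : IsSepClosed Ω')
      (ξ' : Spec (CommRingCat.of Ω') ⟶ X'), (ξ' ≫ f).base default = ξ.base default := by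
  obtain ⟨x', hx'⟩ := f.surjective (ξ.base default)
  obtain ⟨Ω', h1, h2, ξ', hξ'⟩ := exists_geometric_pt x'
  exact ⟨Ω', h1, h2, ξ', (congrArg f.base hξ').trans hx'⟩

theorem faithful_reflects_pullSh {X' X : Scheme.{u}} (f : X' ⟶ X) [Surjective f] :
    (EtDesc.pullSh f).Faithful ∧ (EtDesc.pullSh f).ReflectsIsomorphisms := by
  refine ⟨⟨fun {F G a b} h => ?_⟩, ⟨fun {F G} a _ => ?_⟩⟩
  · refine Sheaf.hom_ext (NatTrans.ext (funext fun U => ?_))
    ext s
    refine eq_of_germ (A := Type (u + 1)) G (U := U.unop) _ _ fun Ω _ _ ξ z => ?_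
    obtain ⟨Ω', _, _, ξ', e⟩ := exists_lift_point f ξ
    obtain ⟨i⟩ := nonempty_stk_iso_of_eq (A := Type (u + 1)) (ξ := ξ) (ξ' := ξ' ≫ f) e
    obtain ⟨U⟩ := U
    show germ ξ G U z (a.hom.app (op U) s) = germ ξ G U z (b.hom.app (op U) s)
    rw [← germ_natural_apply, ← germ_natural_apply]
    refine congrArg (fun m : (stk (A := Type (u + 1)) ξ).obj F ⟶ (stk (A := Type (u + 1)) ξ).obj G => m _) (?_ : (stk (A := Type (u + 1)) ξ).map a = (stk (A := Type (u + 1)) ξ).map b)
    have h2 : (stk (A := Type (u + 1)) (ξ' ≫ f)).map a = (stk (A := Type (u + 1)) (ξ' ≫ f)).map b := by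
      have hn := fun m : F ⟶ G => (stalkPull f ξ' (Type (u + 1))).hom.naturality m
      rw [← cancel_mono ((stalkPull f ξ' (Type (u + 1))).hom.app G), hn a, hn b]
      exact congrArg (fun m => _ ≫ (stk (A := Type (u + 1)) ξ').map m) h
    rw [← cancel_mono (i.hom.app G), i.hom.naturality a, i.hom.naturality b, h2]
  · refine isIso_of_stalks (A := Type (u + 1)) a fun Ω _ _ ξ => ?_
    obtain ⟨Ω', _, _, ξ', e⟩ := exists_lift_point f ξ
    obtain ⟨i⟩ := nonempty_stk_iso_of_eq (A := Type (u + 1)) (ξ := ξ) (ξ' := ξ' ≫ f) e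
    refine (NatIso.isIso_map_iff i a).2 ((NatIso.isIso_map_iff (stalkPull f ξ' (Type (u + 1))) a).2 ?_)
    exact inferInstanceAs (IsIso ((stk (A := Type (u + 1)) ξ').map ((EtDesc.pullSh f).map a)))

end Groth.Agent.EtShLib
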