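import Groth.Agent.EtShLib.ProperStage
import Groth.Agent.EtShLib.SectColim
import Groth.Agent.EtShLib.ShriekComp
import Groth.Agent.EtShLib.Generate

/-! Sections with proper support of filtered colimits. -/

set_option autoImplicit false
set_option linter.unusedSectionVars false
set_option linter.style.haveILetI false
set_option backward.isDefEq.respectTransparency false
set_option backward.isDefEq.respectTransparency.types false
set_option synthInstance.maxHeartbeats 400000
set_option maxHeartbeats 1000000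

universe u

open CategoryTheory CategoryTheory.Limits AlgebraicGeometry Opposite

namespace Groth.Agent.EtShLib

theorem exists_extend_zero {X : Scheme.{u}} (F : EtCoh.Ab X) {P : X.Etale} (O : P.left.Opens) {K : Set P.left}
    (hK : IsClosed K) (hKO : K ⊆ O) {Oo : X.Etale} (e : Oo ⟶ P) [IsOpenImmersion e.left]
    (he : Set.range e.left.base = O) (s : F.obj.obj (op Oo))
    (hs : EtShriek.sectSupp F Oo s ⊆ e.left.base ⁻¹' K) :
    ∃ t : F.obj.obj (op P), F.obj.map e.op t = s ∧ EtShriek.sectSupp F P t ⊆ K := by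
  haveI : AlgebraicGeometry.Etale P.hom := P.prop
  let V : P.left.Opens := ⟨Kᶜ, hK.isOpen_compl⟩
  let B : X.Etale := MorphismProperty.Over.mk ⊤ (V.ι ≫ P.hom) (inferInstance : AlgebraicGeometry.Etale (V.ι ≫ P.hom))
  let b : B ⟶ P := MorphismProperty.Over.homMk V.ι rfl
  haveI : IsOpenImmersion b.left := inferInstanceAs (IsOpenImmersion V.ι)
  let W : Bool → X.Etale := fun i => Bool.rec (motive := fun _ => X.Etale) B Oo i
  let π : ∀ i, W i ⟶ P := fun i => Bool.rec (motive := fun i => W i ⟶ P) b e i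
  let x : ∀ i, (F.obj ⋙ forget AddCommGrpCat.{u + 1}).obj (op (W i)) := fun i =>
    Bool.rec (motive := fun i => (F.obj ⋙ forget AddCommGrpCat.{u + 1}).obj (op (W i))) (0 : F.obj.obj (op B)) s i
  have hmem : Sieve.ofArrows W π ∈ X.smallEtaleTopology P := by
    rw [Scheme.ofArrows_mem_smallEtaleTopology_iff]
    refine Set.eq_univ_of_forall fun y => ?_
    by_cases h : y ∈ K
    · exact Set.mem_iUnion.2 ⟨true, he.ge (hKO h)⟩
    · exact Set.mem_iUnion.2 ⟨false, (Scheme.Opens.range_ι V).ge h⟩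
  have hsh : (Presieve.ofArrows W π).IsSheafFor (F.obj ⋙ forget AddCommGrpCat.{u + 1}) := by
    rw [Presieve.isSheafFor_iff_generate]
    exact ((isSheaf_iff_isSheaf_of_type _ _).1
      (GrothendieckTopology.HasSheafCompose.isSheaf F.obj F.property)) _ hmem
  have hcross : ∀ {Z : X.Etale} (p : Z ⟶ Oo) (q : Z ⟶ B), p ≫ e = q ≫ b → F.obj.map p.op s = 0 := by
    intro Z p q h
    refine eq_of_germ (A := AddCommGrpCat.{u + 1}) F _ _ fun Ω _ _ ξ z => ?_
    rw [map_zero]
    refine germ_eq_zero_of_notMem F _ z fun hz => ?_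
    have h1 : (p ≫ e).left.base z.pt ∈ K := hs (sectSupp_res F p s hz)
    rw [h] at h1
    exact (Scheme.Opens.range_ι V).le ⟨q.left.base z.pt, rfl⟩ h1
  have hmono : ∀ {Z C : X.Etale} (c : C ⟶ P) [IsOpenImmersion c.left] (p q : Z ⟶ C), p ≫ c = q ≫ c → p = q :=
    fun c _ p q h => MorphismProperty.Over.Hom.ext ((cancel_mono c.left).1 (congrArg (fun t => t.left) h))
  obtain ⟨t, ht, -⟩ := (Presieve.isSheafFor_arrows_iff _ _).1 hsh x (fun i j Z p q h => by
    cases i <;> cases j
    · obtain rfl := hmono b p q h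
      rfl
    · show F.obj.map p.op (0 : F.obj.obj (op B)) = F.obj.map q.op s
      rw [map_zero, hcross q p h.symm]
    · show F.obj.map p.op s = F.obj.map q.op (0 : F.obj.obj (op B))
      rw [map_zero, hcross p q h]
    · obtain rfl := hmono e p q h
      rfl)
  refine ⟨t, ht true, fun y hy => by_contra fun hn => ?_⟩
  obtain ⟨z, hz⟩ := (Scheme.Opens.range_ι V).ge hn
  exact hy B b ⟨z, hz⟩ (ht false)

variable {X Y : Scheme.{u}} (f : X ⟶ Y) [LocallyOfFiniteType f]

theorem exists_qc_open_supp (F : EtCoh.Ab X) (W : Y.Etale) [CompactSpace W.left]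
    (t : F.obj.obj (op ((EtCoh.bc f).obj W))) (ht : t ∈ EtShriek.shriekSubgroup f F W) :
    ∃ O : ((EtCoh.bc f).obj W).left.Opens, IsCompact (O : Set ((EtCoh.bc f).obj W).left) ∧
      EtShriek.sectSupp F _ t ⊆ O := by
  obtain ⟨T, i, hi, hr, hp⟩ := ProperOverLib.exists_closedImmersion ((mem_shriekSubgroup_iff F f W t).1 ht)
  haveI : CompactSpace T := QuasiCompact.compactSpace_of_compactSpace (i ≫ EtShriek.prV f W)
  obtain ⟨s, hs⟩ := (hr ▸ isCompact_range i.continuous : IsCompact (EtShriek.sectSupp F _ t)).elim_finite_subcover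
    (fun V : ((EtCoh.bc f).obj W).left.affineOpens => ((V.1 : Scheme.Opens _) : Set ((EtCoh.bc f).obj W).left))
    (fun V => V.1.isOpen) (fun y _ => by
      obtain ⟨V, hV, hy, -⟩ := exists_isAffineOpen_mem_and_subset (X := ((EtCoh.bc f).obj W).left) (x := y) (U := ⊤) trivial
      exact Set.mem_iUnion.2 ⟨⟨V, hV⟩, hy⟩)
  refine ⟨⟨_, isOpen_biUnion fun V _ => V.1.isOpen⟩, s.finite_toSet.isCompact_biUnion fun V _ => V.2.isCompact, hs⟩

variable [IsSeparated f] {J : Type u} [SmallCategory J] [IsFiltered J] {D : J ⥤ EtCoh.Ab X} {c : Cocone D}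
  (hc : IsColimit c)

include hc

theorem exists_proper_stage_zero (W : Y.Etale) [CompactSpace W.left] {i : J}
    (t : (D.obj i).obj.obj (op ((EtCoh.bc f).obj W))) (ht : t ∈ EtShriek.shriekSubgroup f (D.obj i) W)
    (h0 : (c.ι.app i).hom.app _ t = 0) :
    ∃ (k : J) (a : i ⟶ k), (D.map a).hom.app (op ((EtCoh.bc f).obj W)) t = 0 := by
  let P := (EtCoh.bc f).obj W
  obtain ⟨O, hO, hsub⟩ := exists_qc_open_supp f (D.obj i) W t ht
  haveI : AlgebraicGeometry.Etale P.hom := P.prop
  let Oo : X.Etale := MorphismProperty.Over.mk ⊤ (O.ι ≫ P.hom) (inferInstance : AlgebraicGeometry.Etale (O.ι ≫ P.hom))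
  let e : Oo ⟶ P := MorphismProperty.Over.homMk O.ι rfl
  haveI : CompactSpace Oo.left := isCompact_iff_compactSpace.1 hO
  obtain ⟨k, a, ha⟩ := exists_stage_zero hc Oo ((D.obj i).obj.map e.op t) (by
    refine (NatTrans.naturality_apply (c.ι.app i).hom e.op t).trans ?_
    rw [h0, map_zero])
  refine ⟨k, a, eq_of_germ (A := AddCommGrpCat.{u + 1}) (D.obj k) _ _ fun Ω _ _ ξ z => ?_⟩
  rw [map_zero]
  refine germ_eq_zero_of_notMem _ _ z fun hz => ?_
  obtain ⟨y, hy⟩ := (Scheme.Opens.range_ι O).ge (hsub (EtShriek.sectSupp_map_subset (D.map a) P t hz))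
  rw [NatTrans.naturality_apply] at ha
  refine hz Oo e ⟨y, hy⟩ ha

theorem exists_proper_stage_lift (W : Y.Etale) [CompactSpace W.left] [QuasiSeparatedSpace W.left]
    (t : c.pt.obj.obj (op ((EtCoh.bc f).obj W))) (ht : t ∈ EtShriek.shriekSubgroup f c.pt W) :
    ∃ (k : J) (s : (D.obj k).obj.obj (op ((EtCoh.bc f).obj W))),
      s ∈ EtShriek.shriekSubgroup f (D.obj k) W ∧ (c.ι.app k).hom.app _ s = t := by
  let P := (EtCoh.bc f).obj W
  obtain ⟨O, hO, hsub⟩ := exists_qc_open_supp f c.pt W t ht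
  haveI : AlgebraicGeometry.Etale P.hom := P.prop
  haveI : IsSeparated (EtShriek.prV f W) := MorphismProperty.pullback_fst (P := @IsSeparated) _ _ ‹_›
  haveI : QuasiSeparatedSpace P.left := quasiSeparatedSpace_of_quasiSeparated (EtShriek.prV f W)
  let Oo : X.Etale := MorphismProperty.Over.mk ⊤ (O.ι ≫ P.hom) (inferInstance : AlgebraicGeometry.Etale (O.ι ≫ P.hom))
  let e : Oo ⟶ P := MorphismProperty.Over.homMk O.ι rfl
  haveI : IsOpenImmersion e.left := inferInstanceAs (IsOpenImmersion O.ι)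
  haveI : CompactSpace Oo.left := isCompact_iff_compactSpace.1 hO
  haveI : QuasiSeparatedSpace Oo.left := quasiSeparatedSpace_of_quasiSeparated O.ι
  obtain ⟨i, s₀, hs₀⟩ := exists_stage_lift hc Oo (c.pt.obj.map e.op t)
  let q : Oo.left ⟶ W.left := O.ι ≫ EtShriek.prV f W
  haveI : IsSeparated q := inferInstanceAs (IsSeparated (O.ι ≫ EtShriek.prV f W))
  haveI : LocallyOfFiniteType q := inferInstanceAs (LocallyOfFiniteType (O.ι ≫ EtShriek.prV f W))
  let Z : Under i → Set Oo.left := fun a => EtShriek.sectSupp (D.obj a.right) Oo ((D.map a.hom).hom.app (op Oo) s₀)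
  have hmap : ∀ {a b : Under i} (φ : a ⟶ b), (D.map b.hom).hom.app (op Oo) s₀ =
      (D.map φ.right).hom.app (op Oo) ((D.map a.hom).hom.app (op Oo) s₀) := fun {a b} φ => by
    rw [← Under.w φ, D.map_comp]
    rfl
  obtain ⟨T, i₀, hi₀, hr₀, hp₀⟩ := ProperOverLib.exists_closedImmersion ((mem_shriekSubgroup_iff c.pt f W t).1 ht)
  have hrO : Set.range i₀.base ⊆ Set.range O.ι.base := by rw [hr₀, Scheme.Opens.range_ι]; exact hsub
  let l : T ⟶ Oo.left := IsOpenImmersion.lift O.ι i₀ hrO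
  have hl : l ≫ O.ι = i₀ := IsOpenImmersion.lift_fac _ _ _
  haveI : IsClosedImmersion (l ≫ O.ι) := by rw [hl]; exact hi₀
  haveI : IsClosedImmersion l := IsClosedImmersion.of_comp l O.ι
  haveI : IsProper (l ≫ q) := by
    show IsProper (l ≫ O.ι ≫ EtShriek.prV f W)
    rw [← Category.assoc, hl]
    exact hp₀
  have hZ₀ : ClSub.IsProperOver q (Set.range l.base) := ProperOverLib.of_map_range l q
  obtain ⟨a, ha⟩ := exists_proper_stage q Z (fun a => isClosed_sectSupp _ _ _)
    (fun {a b} φ => by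
      show EtShriek.sectSupp _ _ ((D.map b.hom).hom.app (op Oo) s₀) ⊆ _
      rw [hmap φ]
      exact EtShriek.sectSupp_map_subset _ _ _)
    (Z₀ := Set.range l.base) (fun y hy => by
      rw [Set.mem_iInter] at hy
      suffices h : O.ι.base y ∈ EtShriek.sectSupp c.pt P t by
        obtain ⟨x, hx⟩ := hr₀.superset h
        refine ⟨x, O.ι.isOpenEmbedding.injective ?_⟩
        rw [← hx]
        exact congrArg (fun g : T ⟶ P.left => g.base x) hl
      by_contra hn
      obtain ⟨Ω, _, _, ξ, u, rfl⟩ := exists_geometric (U := Oo) y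
      have hg : germ (A := AddCommGrpCat.{u + 1}) ξ c.pt Oo u ((c.ι.app i).hom.app (op Oo) s₀) = 0 := by
        refine (congrArg (germ (A := AddCommGrpCat.{u + 1}) ξ c.pt Oo u) hs₀).trans ?_
        rw [germ_res_apply]
        exact germ_eq_zero_of_notMem _ t (u.map e) hn
      obtain ⟨V₁, g₁, v₁, hv₁, he₁⟩ := (germ_eq_iff ξ Oo u _ 0).1 (hg.trans (map_zero _).symm)
      obtain ⟨V, g₂, v, hV, hv⟩ := exists_affine_below' ξ V₁ v₁
      haveI := hV
      obtain ⟨k, b, hb⟩ := exists_stage_zero hc V ((D.obj i).obj.map (g₂ ≫ g₁).op s₀) (by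
        refine (NatTrans.naturality_apply (c.ι.app i).hom (g₂ ≫ g₁).op s₀).trans ?_
        show c.pt.obj.map (g₂ ≫ g₁).op ((c.ι.app i).hom.app (op Oo) s₀) = 0
        rw [op_comp, Functor.map_comp, ConcreteCategory.comp_apply, he₁, map_zero, map_zero])
      refine hy (Under.mk b) V (g₂ ≫ g₁) ⟨v.pt, ?_⟩ ?_
      · show g₁.left.base (g₂.left.base v.pt) = u.pt
        rw [← hv₁, ← hv]
        rfl
      · exact (NatTrans.naturality_apply (D.map b).hom (g₂ ≫ g₁).op s₀).symm.trans hb) hZ₀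
  obtain ⟨T₁, i₁, hi₁, hr₁, hp₁⟩ := ProperOverLib.exists_closedImmersion ha
  haveI : IsProper ((i₁ ≫ O.ι) ≫ EtShriek.prV f W) := by rw [Category.assoc]; exact hp₁
  haveI : IsProper (i₁ ≫ O.ι) := IsProper.of_comp _ (EtShriek.prV f W)
  obtain ⟨s, hs, hsK⟩ := exists_extend_zero (D.obj a.right) O (K := Set.range (i₁ ≫ O.ι).base)
    (i₁ ≫ O.ι).isClosedMap.isClosed_range
    ((Set.range_comp_subset_range i₁.base O.ι.base).trans (Scheme.Opens.range_ι O).le)
    e (Scheme.Opens.range_ι O) ((D.map a.hom).hom.app (op Oo) s₀) (fun y hy => by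
      obtain ⟨x, rfl⟩ := hr₁.superset hy
      exact ⟨x, rfl⟩)
  refine ⟨a.right, s, (mem_shriekSubgroup_iff _ f W s).2
    (ProperOverLib.of_map (i₁ ≫ O.ι) _ _ (isClosed_sectSupp _ _ _) hsK), ?_⟩
  have hO' : c.pt.obj.map e.op ((c.ι.app a.right).hom.app _ s) = c.pt.obj.map e.op t := by
    refine ((NatTrans.naturality_apply (c.ι.app a.right).hom e.op s).symm.trans ?_)
    rw [hs, ← hs₀]
    exact congrArg (fun w : D.obj i ⟶ c.pt => w.hom.app (op Oo) s₀) (c.w a.hom)
  refine eq_of_germ (A := AddCommGrpCat.{u + 1}) c.pt _ _ fun Ω _ _ ξ z => ?_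
  by_cases hz : z.pt ∈ O
  · obtain ⟨W', j, w', hw', hj⟩ := exists_open_below ξ P z O hz
    have hr : Set.range w'.hom.base ⊆ W'.hom.base ⁻¹' Set.univ := fun _ _ => trivial
    haveI : IsOpenImmersion e.left := inferInstanceAs (IsOpenImmersion O.ι)
    have hr' : Set.range z.hom.base ⊆ Set.range e.left.base := by
      rintro _ ⟨b, rfl⟩
      rw [Subsingleton.elim b default]
      exact (Scheme.Opens.range_ι O).ge hz
    let v : Fib ξ Oo := Fib.mk (IsOpenImmersion.lift e.left z.hom hr') (by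
      show _ ≫ O.ι ≫ P.hom = ξ
      rw [← Category.assoc]
      exact (congrArg (· ≫ P.hom) (IsOpenImmersion.lift_fac e.left z.hom hr')).trans z.w)
    have hv : v.map e = z := Fib.ext (IsOpenImmersion.lift_fac e.left z.hom hr')
    rw [← hv, ← germ_res_apply, ← germ_res_apply]
    exact congrArg _ hO'
  · rw [germ_eq_zero_of_notMem c.pt t z (fun h => hz (hsub h))]
    refine germ_eq_zero_of_notMem c.pt _ z fun h => hz ?_
    obtain ⟨x, hx⟩ := hsK (EtShriek.sectSupp_map_subset (c.ι.app a.right) P s h)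
    rw [← hx]
    exact (i₁.base x).2

end Groth.Agent.EtShLib
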