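import Groth.Agent.EtShLib.Noeth
import Groth.Agent.WeightLib.Pts
import Mathlib.CategoryTheory.CofilteredSystem

/-! Specialisation arrows between geometric points. -/

set_option autoImplicit false
set_option linter.unusedSectionVars false
set_option linter.style.haveILetI false
set_option backward.isDefEq.respectTransparency false
set_option backward.isDefEq.respectTransparency.types false
set_option synthInstance.maxHeartbeats 400000
set_option maxHeartbeats 1000000

universe u

open CategoryTheory CategoryTheory.Limits AlgebraicGeometry Opposite TopologicalSpace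

namespace Groth.Agent.EtShLib

theorem finite_gptsAt {A B : Scheme.{u}} (f : A ⟶ B) [LocallyQuasiFinite f] (x : A) {Ω : Type u} [Field Ω]
    (pv : Spec (CommRingCat.of Ω) ⟶ B) (hv : f x = WeightLib.img pv) :
    Finite {p : WeightLib.GPts f pv // WeightLib.img p.1 = x} := by
  obtain ⟨ev, rfl⟩ := WeightLib.exists_eq_specMap_fromSpecResidueField pv hv.symm
  letI := (f.residueFieldMap x).hom.toAlgebra
  letI : Algebra (B.residueField (f x)) Ω := ev.hom.toAlgebra
  haveI : Module.Finite (B.residueField (f x)) (A.residueField x) :=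
    RingHom.finite_algebraMap.mp (WeightLib.finite_residueFieldMap f x)
  haveI : Finite ((A.residueField x) →ₐ[B.residueField (f x)] Ω) := inferInstance
  exact Finite.of_equiv _ ((WeightLib.gptsAtEquiv f x ev).trans (WeightLib.embEquiv _ ev)).symm

variable {X : Scheme.{u}} [IsLocallyNoetherian X]

theorem finite_fib {Ω : Type u} [Field Ω] [IsSepClosed Ω] (ξ : Spec (CommRingCat.of Ω) ⟶ X) (W : X.Etale)
    [IsAffine W.left] : Finite (Fib ξ W) := by
  haveI : AlgebraicGeometry.Etale W.hom := W.prop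
  haveI := locallyQuasiFinite_of_etale W.hom
  haveI : IsLocallyNoetherian W.left := LocallyOfFiniteType.isLocallyNoetherian (Y := X) W.hom
  haveI : IsNoetherian W.left := {}
  haveI : NoetherianSpace W.left := inferInstance
  let S : Set W.left := W.hom.base ⁻¹' {ξ.base default}
  haveI : DiscreteTopology S := (Scheme.Hom.isDiscrete_preimage_singleton W.hom (ξ.base default)).to_subtype
  haveI : NoetherianSpace S := Topology.IsEmbedding.subtypeVal.isInducing.noetherianSpace
  haveI : Finite S := NoetherianSpace.finite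
  have hfin : ∀ y : S, Finite {p : WeightLib.GPts W.hom ξ // WeightLib.img p.1 = y.1} := by
    intro y
    have hv : W.hom y.1 = WeightLib.img ξ := by
      refine (show W.hom y.1 = ξ.base default from y.2).trans ?_
      exact congrArg ξ.base (Subsingleton.elim _ _)
    exact finite_gptsAt W.hom y.1 ξ hv
  let f : Fib ξ W → Σ y : S, {p : WeightLib.GPts W.hom ξ // WeightLib.img p.1 = y.1} := fun u =>
    ⟨⟨WeightLib.img u.hom, (WeightLib.img_comp u.hom W.hom).symm.trans
      ((congrArg WeightLib.img u.w).trans (congrArg ξ.base (Subsingleton.elim _ _)))⟩, ⟨u.hom, u.w⟩, rfl⟩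
  exact Finite.of_injective f fun a b e => Fib.ext (congrArg (fun t => t.2.1.1) e)

theorem exists_affine_below {Ω : Type u} [Field Ω] [IsSepClosed Ω] (ζ : Spec (CommRingCat.of Ω) ⟶ X)
    (U : X.Etale) (u : Fib ζ U) :
    ∃ (W : X.Etale) (g : W ⟶ U) (w : Fib ζ W), IsAffine W.left ∧ w.map g = u := by
  haveI : AlgebraicGeometry.Etale U.hom := U.prop
  obtain ⟨O, hO, huO, -⟩ := exists_isAffineOpen_mem_and_subset (X := U.left) (x := u.pt) (U := ⊤) trivial
  have hrange : Set.range (Fib.hom (ξ := ζ) (U := U) u).base ⊆ Set.range O.ι.base := by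
    rintro _ ⟨a, rfl⟩
    rw [Scheme.Opens.range_ι, Subsingleton.elim a default]
    exact huO
  refine ⟨MorphismProperty.Over.mk ⊤ (O.ι ≫ U.hom) (inferInstance : AlgebraicGeometry.Etale (O.ι ≫ U.hom)),
    MorphismProperty.Over.homMk O.ι rfl, Fib.mk (IsOpenImmersion.lift O.ι u.hom hrange) (by
      show _ ≫ O.ι ≫ U.hom = ζ
      rw [← Category.assoc, IsOpenImmersion.lift_fac]
      exact u.w), hO, Fib.ext (IsOpenImmersion.lift_fac _ _ _)⟩

theorem exists_spec_arrow {Ω Ω' : Type u} [Field Ω] [IsSepClosed Ω] [Field Ω'] [IsSepClosed Ω']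
    (ζ : Spec (CommRingCat.of Ω) ⟶ X) (ξ : Spec (CommRingCat.of Ω') ⟶ X)
    (h : ξ.base default ⤳ ζ.base default) :
    Nonempty (Scheme.pointSmallEtale ξ ⟶ Scheme.pointSmallEtale ζ) := by
  let E := (pt ζ).fiber.Elements
  let P : ObjectProperty E := fun e => IsAffine e.1.left
  haveI : IsCofilteredOrEmpty P.FullSubcategory :=
    { cone_objs := fun a b => by
        obtain ⟨c, f, g, -⟩ := IsCofilteredOrEmpty.cone_objs a.obj b.obj
        obtain ⟨W, k, w, hW, hw⟩ := exists_affine_below ζ c.1 c.2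
        let c' : E := (pt ζ).fiber.elementsMk W w
        let k' : c' ⟶ c := ⟨k, hw⟩
        exact ⟨⟨c', hW⟩, ⟨k' ≫ f⟩, ⟨k' ≫ g⟩, trivial⟩
      cone_maps := fun a b f g => by
        obtain ⟨c, e, he⟩ := IsCofilteredOrEmpty.cone_maps f.hom g.hom
        obtain ⟨W, k, w, hW, hw⟩ := exists_affine_below ζ c.1 c.2
        let c' : E := (pt ζ).fiber.elementsMk W w
        let k' : c' ⟶ c := ⟨k, hw⟩
        refine ⟨⟨c', hW⟩, ⟨k' ≫ e⟩, ?_⟩
        apply ObjectProperty.hom_ext
        show (k' ≫ e) ≫ f.hom = (k' ≫ e) ≫ g.hom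
        rw [Category.assoc, he, Category.assoc] }
  let D : P.FullSubcategory ⥤ Type u := P.ι ⋙ CategoryOfElements.π _ ⋙ (pt ξ).fiber
  haveI : ∀ j, Finite (D.obj j) := fun j => @finite_fib X _ Ω' _ _ ξ j.obj.1 j.property
  haveI : ∀ j, Nonempty (D.obj j) := fun j => by
    refine exists_fib_of_range ξ (U := j.obj.1) ?_
    exact h.mem_open (isOpen_range_etale _) ⟨Fib.pt (ξ := ζ) j.obj.2,
      congrArg (fun t : Spec (CommRingCat.of Ω) ⟶ X => t.base default) (Fib.w (ξ := ζ) j.obj.2)⟩
  obtain ⟨s, hs⟩ := nonempty_sections_of_finite_cofiltered_system D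
  choose W k w hW hw using fun (U : X.Etale) (u : Fib ζ U) => exists_affine_below ζ U u
  let app : ∀ U : X.Etale, Fib ζ U → Fib ξ U := fun U u =>
    Fib.map (ξ := ξ) (k U u) (s ⟨(pt ζ).fiber.elementsMk (W U u) (w U u), hW U u⟩)
  have hindep : ∀ (U : X.Etale) (u : Fib ζ U) (W' : X.Etale) (hW' : IsAffine W'.left) (k' : W' ⟶ U) (w' : Fib ζ W'),
      w'.map k' = u → Fib.map (ξ := ξ) k' (s ⟨(pt ζ).fiber.elementsMk W' w', hW'⟩) = app U u := by
    intro U u W' hW' k' w' hw'
    let a : E := (pt ζ).fiber.elementsMk W' w'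
    let b : E := (pt ζ).fiber.elementsMk (W U u) (w U u)
    let t : E := (pt ζ).fiber.elementsMk U u
    let fa : a ⟶ t := ⟨k', hw'⟩
    let fb : b ⟶ t := ⟨k U u, hw U u⟩
    obtain ⟨c, ga, gb, hc⟩ := IsCofiltered.cospan fa fb
    obtain ⟨Wc, kc, wc, hWc, hwc⟩ := exists_affine_below ζ c.1 c.2
    let c' : E := (pt ζ).fiber.elementsMk Wc wc
    let q : c' ⟶ c := ⟨kc, hwc⟩
    let ma : (⟨c', hWc⟩ : P.FullSubcategory) ⟶ ⟨a, hW'⟩ := ⟨q ≫ ga⟩
    let mb : (⟨c', hWc⟩ : P.FullSubcategory) ⟶ ⟨b, hW U u⟩ := ⟨q ≫ gb⟩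
    show Fib.map k' (s ⟨a, hW'⟩) = Fib.map (k U u) (s ⟨b, hW U u⟩)
    rw [← hs ma, ← hs mb]
    show (pt ξ).fiber.map k' ((pt ξ).fiber.map (q ≫ ga).1 (s ⟨c', hWc⟩)) =
      (pt ξ).fiber.map (k U u) ((pt ξ).fiber.map (q ≫ gb).1 (s ⟨c', hWc⟩))
    rw [← Functor.map_comp_apply, ← Functor.map_comp_apply]
    congr 3
    have := congrArg Subtype.val hc
    exact (congrArg (kc ≫ ·) this |> fun e => (Category.assoc _ _ _).trans (e.trans (Category.assoc _ _ _).symm))
  refine ⟨⟨{ app := fun U => TypeCat.ofHom (app U), naturality := fun U U' g => ?_ }⟩⟩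
  ext u
  show app U' ((pt ζ).fiber.map g u) = (pt ξ).fiber.map g (app U u)
  rw [← hindep U' _ (W U u) (hW U u) (k U u ≫ g) (w U u) (by
    show (pt ζ).fiber.map (k U u ≫ g) (w U u) = _
    rw [Functor.map_comp_apply]
    exact congrArg ((pt ζ).fiber.map g) (hw U u))]
  exact Functor.map_comp_apply (pt ξ).fiber (k U u) g _

end Groth.Agent.EtShLib
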