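import Groth.Agent.EtShLib.ConsCriterion

/-! Locally constant sheaves and specialisation arrows. -/

set_option autoImplicit false
set_option linter.unusedSectionVars false
set_option linter.style.haveILetI false
set_option backward.isDefEq.respectTransparency false
set_option backward.isDefEq.respectTransparency.types false
set_option synthInstance.maxHeartbeats 400000
set_option maxHeartbeats 1000000

universe u

open CategoryTheory CategoryTheory.Limits AlgebraicGeometry Opposite Topology TopologicalSpace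

namespace Groth.Agent.EtShLib

variable {X : Scheme.{u}}

/-- The tautological lift of a point of an étale scheme. -/
noncomputable def tautFib (V : X.Etale) {Ω : Type u} [Field Ω] [IsSepClosed Ω]
    (ξ : Spec (CommRingCat.of Ω) ⟶ V.left) : Fib (ξ ≫ V.hom) V :=
  Fib.mk ξ rfl

theorem exists_arrow_over [IsLocallyNoetherian X] (V : X.Etale) {Ω Ω' : Type u} [Field Ω] [IsSepClosed Ω]
    [Field Ω'] [IsSepClosed Ω'] (ζ : Spec (CommRingCat.of Ω) ⟶ V.left) (ξ : Spec (CommRingCat.of Ω') ⟶ V.left)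
    (h : ξ.base default ⤳ ζ.base default) :
    ∃ φ : Scheme.pointSmallEtale (ξ ≫ V.hom) ⟶ Scheme.pointSmallEtale (ζ ≫ V.hom),
      φ.hom.app V (tautFib V ζ) = tautFib V ξ := by
  haveI : AlgebraicGeometry.Etale V.hom := V.prop
  haveI : IsLocallyNoetherian V.left := LocallyOfFiniteType.isLocallyNoetherian (Y := X) V.hom
  obtain ⟨φ⟩ := exists_spec_arrow ζ ξ h
  refine ⟨⟨(fiberIso V.hom ζ).inv ≫ Functor.whiskerLeft (EtCoh.bc V.hom) φ.hom ≫ (fiberIso V.hom ξ).hom⟩, ?_⟩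
  let δ : EtCoh.top V.left ⟶ (EtCoh.bc V.hom).obj V :=
    MorphismProperty.Over.homMk (pullback.lift (𝟙 _) (𝟙 _) rfl) (pullback.lift_snd _ _ _)
  let tζ : Fib ζ (EtCoh.top V.left) := Fib.mk ζ (Category.comp_id _)
  let tξ : Fib ξ (EtCoh.top V.left) := Fib.mk ξ (Category.comp_id _)
  have hlift : ∀ {Ω₀ : Type u} [Field Ω₀] [IsSepClosed Ω₀] (θ : Spec (CommRingCat.of Ω₀) ⟶ V.left)
      (t : Fib θ (EtCoh.top V.left)), t.map δ = (tautFib V θ).lift V.hom θ := by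
    intro Ω₀ _ _ θ t
    have ht : t.hom = θ := (Category.comp_id _).symm.trans t.w
    apply Fib.ext
    rw [Fib.map_hom]
    show t.hom ≫ pullback.lift (𝟙 _) (𝟙 _) _ = pullback.lift θ θ _
    apply pullback.hom_ext <;> simp [ht]
  show Fib.proj V.hom ξ (φ.hom.app ((EtCoh.bc V.hom).obj V) (Fib.lift V.hom ζ (tautFib V ζ))) = tautFib V ξ
  rw [← hlift ζ tζ]
  have hn : φ.hom.app ((EtCoh.bc V.hom).obj V) (tζ.map δ) = Fib.map δ (φ.hom.app (EtCoh.top V.left) tζ) :=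
    NatTrans.naturality_apply φ.hom δ tζ
  rw [hn, hlift ξ, Fib.proj_lift]

theorem exists_arrow_fib [IsLocallyNoetherian X] (V : X.Etale) {Ω Ω' : Type u} [Field Ω] [IsSepClosed Ω]
    [Field Ω'] [IsSepClosed Ω'] {ζ : Spec (CommRingCat.of Ω) ⟶ X} {ξ : Spec (CommRingCat.of Ω') ⟶ X}
    (a : Fib ζ V) (b : Fib ξ V) (h : b.pt ⤳ a.pt) :
    ∃ φ : Scheme.pointSmallEtale ξ ⟶ Scheme.pointSmallEtale ζ, φ.hom.app V a = b := by
  obtain ⟨aS, haS⟩ : ∃ aS : Spec (CommRingCat.of Ω) ⟶ V.left, aS = a.hom := ⟨_, rfl⟩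
  obtain ⟨bS, hbS⟩ : ∃ bS : Spec (CommRingCat.of Ω') ⟶ V.left, bS = b.hom := ⟨_, rfl⟩
  obtain rfl : aS ≫ V.hom = ζ := haS ▸ a.w
  obtain rfl : bS ≫ V.hom = ξ := hbS ▸ b.w
  obtain rfl : a = tautFib V aS := Fib.ext haS.symm
  obtain rfl : b = tautFib V bS := Fib.ext hbS.symm
  exact exists_arrow_over V aS bS h

theorem isIso_spec_of_lc {F : EtCoh.Ab X} (h : LC (A := AddCommGrpCat.{u + 1}) FinP F) {Ω Ω' : Type u}
    [Field Ω] [IsSepClosed Ω] [Field Ω'] [IsSepClosed Ω']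
    (ξ : Spec (CommRingCat.of Ω) ⟶ X) (ξ' : Spec (CommRingCat.of Ω') ⟶ X)
    (φ : Scheme.pointSmallEtale ξ' ⟶ Scheme.pointSmallEtale ξ) :
    IsIso ((GrothendieckTopology.Point.Hom.sheafFiber (A := AddCommGrpCat.{u + 1}) φ).app F) := by
  obtain ⟨U, y, M, η, hy, -, hη⟩ := h (ξ.base default)
  obtain ⟨u, -⟩ := exists_fib ξ U y hy
  haveI := hη Ω ξ u
  haveI := hη Ω' ξ' (φ.hom.app U u)
  have e : (η ≫ germ ξ F U u) ≫ (GrothendieckTopology.Point.Hom.sheafFiber (A := AddCommGrpCat.{u + 1}) φ).app F =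
      η ≫ germ ξ' F U (φ.hom.app U u) := by
    ext m
    exact sheafFiber_germ φ U u (η m)
  haveI : IsIso ((η ≫ germ ξ F U u) ≫ (GrothendieckTopology.Point.Hom.sheafFiber (A := AddCommGrpCat.{u + 1}) φ).app F) := by
    rw [e]
    infer_instance
  exact IsIso.of_isIso_comp_left (η ≫ germ ξ F U u) _

theorem lc_of_isIso_spec [IsLocallyNoetherian X] (F : EtCoh.Ab X)
    (hfin : ∀ (Ω : Type u) [Field Ω] [IsSepClosed Ω] (ξ : Spec (CommRingCat.of Ω) ⟶ X),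
      Finite ((EtCoh.stalk ξ).obj F))
    (hiso : ∀ (Ω Ω' : Type u) [Field Ω] [IsSepClosed Ω] [Field Ω'] [IsSepClosed Ω']
        (ξ : Spec (CommRingCat.of Ω) ⟶ X) (ξ' : Spec (CommRingCat.of Ω') ⟶ X)
        (φ : Scheme.pointSmallEtale ξ' ⟶ Scheme.pointSmallEtale ξ),
        IsIso ((GrothendieckTopology.Point.Hom.sheafFiber (A := AddCommGrpCat.{u + 1}) φ).app F)) :
    LC (A := AddCommGrpCat.{u + 1}) FinP F := by
  intro x
  obtain ⟨Ω, _, _, ξ, hξ⟩ := exists_geometric_pt x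
  haveI hM : Finite ((stk (A := AddCommGrpCat.{u + 1}) ξ).obj F) := hfin Ω ξ
  haveI : AlgebraicGeometry.Etale (EtCoh.top X).hom := (EtCoh.top X).prop
  obtain ⟨u₀⟩ := exists_fib_of_range ξ (U := EtCoh.top X) ⟨ξ.base default, rfl⟩
  obtain ⟨V₁, -, v₁, σ, -, hσ⟩ := lifts_Ab (M := (stk (A := AddCommGrpCat.{u + 1}) ξ).obj F) F ξ (EtCoh.top X) u₀ (𝟙 _)
  haveI : AlgebraicGeometry.Etale V₁.hom := V₁.prop
  haveI : IsLocallyNoetherian V₁.left := LocallyOfFiniteType.isLocallyNoetherian (Y := X) V₁.hom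
  obtain ⟨W, hW, hvW, -⟩ := exists_isAffineOpen_mem_and_subset (X := V₁.left) (x := v₁.pt) (U := ⊤) trivial
  haveI : IsAffine W.toScheme := hW
  haveI : IsLocallyNoetherian W.toScheme := LocallyOfFiniteType.isLocallyNoetherian W.ι
  haveI : IsNoetherian W.toScheme := {}
  haveI : NoetherianSpace W.toScheme := inferInstance
  let v : W.toScheme := ⟨v₁.pt, hvW⟩
  let C : Set (Set W.toScheme) := {Z ∈ irreducibleComponents W.toScheme | v ∉ Z}
  have hC : C.Finite := NoetherianSpace.finite_irreducibleComponents.subset fun Z hZ => hZ.1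
  have hclosed : IsClosed (⋃₀ C) := by
    rw [Set.sUnion_eq_biUnion]
    exact hC.isClosed_biUnion fun Z hZ => isClosed_of_mem_irreducibleComponents Z hZ.1
  have hgen : ∀ o : W.toScheme, o ∉ ⋃₀ C → ∃ η : W.toScheme, η ⤳ o ∧ η ⤳ v := fun o ho => by
    let c : irreducibleComponents W.toScheme :=
      ⟨irreducibleComponent o, irreducibleComponent_mem_irreducibleComponents o⟩
    have hg := genericPoints.isGenericPoint_ofComponent c
    refine ⟨(genericPoints.ofComponent c).1, hg.specializes mem_irreducibleComponent, hg.specializes ?_⟩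
    by_contra hv
    exact ho ⟨irreducibleComponent o, ⟨c.2, hv⟩, mem_irreducibleComponent⟩
  let O' : V₁.left.Opens := ⟨Subtype.val '' (⋃₀ C)ᶜ, W.isOpen.isOpenMap_subtype_val _ hclosed.isOpen_compl⟩
  let V₂ : X.Etale := MorphismProperty.Over.mk ⊤ (O'.ι ≫ V₁.hom)
    (inferInstance : AlgebraicGeometry.Etale (O'.ι ≫ V₁.hom))
  let j : V₂ ⟶ V₁ := MorphismProperty.Over.homMk O'.ι rfl
  have hrange : Set.range (Fib.hom (ξ := ξ) (U := V₁) v₁).base ⊆ Set.range O'.ι.base := by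
    rintro _ ⟨a, rfl⟩
    rw [Scheme.Opens.range_ι, Subsingleton.elim a default]
    exact ⟨v, fun ⟨Z, hZ, hvZ⟩ => hZ.2 hvZ, rfl⟩
  let vS : Spec (CommRingCat.of Ω) ⟶ V₂.left := IsOpenImmersion.lift O'.ι v₁.hom hrange
  have hvS : vS ≫ O'.ι = v₁.hom := IsOpenImmersion.lift_fac _ _ _
  let u₂ : Fib ξ V₂ := Fib.mk vS (by
    show vS ≫ O'.ι ≫ V₁.hom = ξ
    rw [← Category.assoc, hvS]
    exact v₁.w)
  let σ₂ := σ ≫ F.obj.map j.op
  have hσ₂ : σ₂ ≫ germ ξ F V₂ u₂ = 𝟙 _ := by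
    simp only [σ₂, Category.assoc]
    rw [germ_res, show u₂.map j = v₁ from Fib.ext hvS, hσ]
  refine ⟨V₂, u₂.pt, _, σ₂,
    (congrArg (fun t : Spec (CommRingCat.of Ω) ⟶ X => t.base default) u₂.w).trans hξ, hM,
    fun Ω₁ _ _ ζ z => ?_⟩
  obtain ⟨o, ho, hoe⟩ := (show ↥O'.toScheme from z.pt).2
  obtain ⟨η, hηo, hηv⟩ := hgen o ho
  have hηO : η ∉ ⋃₀ C := fun hη => ho ((hηo.mem_closed hclosed hη))
  obtain ⟨Ω₂, _, _, θ, b, hb⟩ := exists_geometric (U := V₂) (show ↥O'.toScheme from ⟨η.1, η, hηO, rfl⟩)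
  have hspec : ∀ (a : W.toScheme) (c : ↥O'.toScheme), c.1 = a.1 → η ⤳ a →
      (show ↥O'.toScheme from b.pt) ⤳ c := fun a c hc hη => by
    rw [show (show ↥O'.toScheme from b.pt) = (⟨η.1, η, hηO, rfl⟩ : ↥O'.toScheme) from hb]
    refine (subtype_specializes_iff _ _).2 ?_
    show η.1 ⤳ c.1
    rw [hc]
    exact (subtype_specializes_iff _ _).1 hη
  obtain ⟨φ₁, hφ₁⟩ := exists_arrow_fib V₂ u₂ b
    (hspec v _ (congrArg (fun t : Spec (CommRingCat.of Ω) ⟶ V₁.left => t.base default) hvS) hηv)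
  obtain ⟨φ₂, hφ₂⟩ := exists_arrow_fib V₂ z b (hspec o _ hoe.symm hηo)
  have key : ∀ {Ω₀ : Type u} [Field Ω₀] [IsSepClosed Ω₀] {ξ₀ : Spec (CommRingCat.of Ω₀) ⟶ X} (a : Fib ξ₀ V₂)
      (φ : Scheme.pointSmallEtale θ ⟶ Scheme.pointSmallEtale ξ₀), φ.hom.app V₂ a = b →
      (σ₂ ≫ germ ξ₀ F V₂ a) ≫ (GrothendieckTopology.Point.Hom.sheafFiber (A := AddCommGrpCat.{u + 1}) φ).app F =
      σ₂ ≫ germ θ F V₂ b := by
    intro Ω₀ _ _ ξ₀ a φ hφ
    ext m
    exact (sheafFiber_germ φ V₂ _ (σ₂ m)).trans (by rw [hφ]; rfl)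
  haveI := hiso Ω Ω₂ ξ θ φ₁
  haveI := hiso Ω₁ Ω₂ ζ θ φ₂
  haveI : IsIso ((σ₂ ≫ germ ζ F V₂ z) ≫
      (GrothendieckTopology.Point.Hom.sheafFiber (A := AddCommGrpCat.{u + 1}) φ₂).app F) := by
    rw [key z φ₂ hφ₂, ← key u₂ φ₁ hφ₁, hσ₂, Category.id_comp]
    infer_instance
  exact IsIso.of_isIso_comp_right _ ((GrothendieckTopology.Point.Hom.sheafFiber (A := AddCommGrpCat.{u + 1}) φ₂).app F)

end Groth.Agent.EtShLib
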