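import Groth.Prelude.Def_SGA4b
import Groth.Prelude.Def_EtOpen
import Groth.Agent.EtShLib.SetClosed

/-! Subterminal étale sheaves of sets are the opens. -/

set_option autoImplicit false
set_option linter.unusedSectionVars false
set_option linter.style.haveILetI false
set_option backward.isDefEq.respectTransparency false
set_option backward.isDefEq.respectTransparency.types false

universe u

open CategoryTheory CategoryTheory.Limits AlgebraicGeometry Opposite TopologicalSpace

namespace Groth.Agent.EtShLib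

variable {X : Scheme.{u}}

theorem subsingleton_sect_of_mono (F : EtDesc.Sh X) [Mono (terminal.from F)] (V : X.Etale) :
    Subsingleton (F.obj.obj (op V)) := by
  let ev := sheafToPresheaf X.smallEtaleTopology (Type (u + 1)) ⋙ (evaluation _ (Type (u + 1))).obj (op V)
  haveI : Mono (ev.map (terminal.from F)) := inferInstance
  haveI : PreservesLimit (Functor.empty.{0} (EtDesc.Sh X)) ev := inferInstance
  obtain ⟨uq⟩ : Nonempty (Unique (ev.obj (⊤_ (EtDesc.Sh X)))) :=
    ⟨(Types.isTerminalEquivUnique _) (IsTerminal.isTerminalObj ev _ terminalIsTerminal)⟩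
  exact ⟨fun a b => (mono_iff_injective (ev.map (terminal.from F))).1 inferInstance
    ((uq.uniq _).trans (uq.uniq _).symm)⟩

theorem mono_terminal_from (F : EtDesc.Sh X) (h : ∀ V, Subsingleton (F.obj.obj (op V))) :
    Mono (terminal.from F) :=
  ⟨fun a b _ => Sheaf.hom_ext (by
    ext V x
    exact @Subsingleton.elim _ (h V.unop) _ _)⟩

theorem mem_of_hom {U : X.Opens} {W : X.Etale} (g : W ⟶ EtDesc.ofOpen U) :
    Set.range W.hom.base ⊆ (U : Set X) := by
  rintro _ ⟨z, rfl⟩
  rw [← MorphismProperty.Over.w g]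
  exact (g.left.base z).2

theorem exists_hom_ofOpen {U : X.Opens} {W : X.Etale} (h : Set.range W.hom.base ⊆ (U : Set X)) :
    Nonempty (W ⟶ EtDesc.ofOpen U) :=
  ⟨MorphismProperty.Over.homMk (IsOpenImmersion.lift U.ι W.hom (h.trans U.range_ι.ge))
    (IsOpenImmersion.lift_fac _ _ _)⟩

instance subsingleton_hom_ofOpen (U : X.Opens) (W : X.Etale) : Subsingleton (W ⟶ EtDesc.ofOpen U) :=
  ⟨fun a b => MorphismProperty.Over.Hom.ext ((cancel_mono U.ι).1
    ((MorphismProperty.Over.w a).trans (MorphismProperty.Over.w b).symm))⟩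

theorem range_subset_of_repSh {U : X.Opens} (W : X.Etale) (s : (EtDesc.repSh (EtDesc.ofOpen U)).obj.obj (op W)) :
    Set.range W.hom.base ⊆ (U : Set X) := by
  haveI := Presheaf.isLocallySurjective_toSheafify X.smallEtaleTopology
    (yoneda.obj (EtDesc.ofOpen U) ⋙ uliftFunctor.{u + 1, u})
  have hcov := Presheaf.imageSieve_mem X.smallEtaleTopology
    (toSheafify X.smallEtaleTopology (yoneda.obj (EtDesc.ofOpen U) ⋙ uliftFunctor.{u + 1, u})) s
  obtain ⟨S, hS⟩ : ∃ S : Sieve W, S = Presheaf.imageSieve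
      (toSheafify X.smallEtaleTopology (yoneda.obj (EtDesc.ofOpen U) ⋙ uliftFunctor.{u + 1, u})) s := ⟨_, rfl⟩
  rw [← hS] at hcov
  rintro _ ⟨z, rfl⟩
  have h2 : (⋃ i : Σ V : X.Etale, {g : V ⟶ W // S g}, Set.range i.2.1.left) = Set.univ := by
    refine (Scheme.ofArrows_mem_smallEtaleTopology_iff fun i : Σ V : X.Etale, {g : V ⟶ W // S g} => i.2.1).1
      (X.smallEtaleTopology.superset_covering (fun V g hg => ?_) hcov)
    exact Sieve.ofArrows_mk _ (fun i : Σ V : X.Etale, {g : V ⟶ W // S g} => i.2.1) ⟨V, g, hg⟩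
  obtain ⟨⟨V, g, hg⟩, v, hv⟩ := Set.mem_iUnion.1 (h2.ge (Set.mem_univ z))
  rw [hS] at hg
  obtain ⟨t, -⟩ := hg
  have := mem_of_hom (U := U) t.down ⟨v, rfl⟩
  rw [← hv, ← MorphismProperty.Over.w g] at *
  exact this

theorem mono_repSh_ofOpen (U : X.Opens) : Mono (terminal.from (EtDesc.repSh (EtDesc.ofOpen U))) := by
  refine mono_terminal_from _ fun V => ⟨fun a b => ?_⟩
  haveI := Presheaf.isLocallySurjective_toSheafify X.smallEtaleTopology
    (yoneda.obj (EtDesc.ofOpen U) ⋙ uliftFunctor.{u + 1, u})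
  refine ((isSheaf_iff_isSheaf_of_type _ _).1 (EtDesc.repSh (EtDesc.ofOpen U)).property).isSeparated _
    (X.smallEtaleTopology.intersection_covering
      (Presheaf.imageSieve_mem X.smallEtaleTopology
        (toSheafify X.smallEtaleTopology (yoneda.obj (EtDesc.ofOpen U) ⋙ uliftFunctor.{u + 1, u})) a)
      (Presheaf.imageSieve_mem X.smallEtaleTopology
        (toSheafify X.smallEtaleTopology (yoneda.obj (EtDesc.ofOpen U) ⋙ uliftFunctor.{u + 1, u})) b)) |>.ext ?_
  rintro W g ⟨⟨s, hs⟩, ⟨t, ht⟩⟩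
  rw [← hs, ← ht, show s = t from ULift.ext _ _ ((subsingleton_hom_ofOpen U W).elim _ _)]

theorem exists_open_of_subterminal (F : EtDesc.Sh X) [Mono (terminal.from F)] :
    ∃ U : X.Opens, Nonempty (F ≅ EtDesc.repSh (EtDesc.ofOpen U)) := by
  classical
  let U : X.Opens := ⟨⋃ V : {V : X.Etale // Nonempty (F.obj.obj (op V))}, Set.range V.1.hom.base,
    isOpen_iUnion fun V => by haveI := V.1.prop; exact V.1.hom.isOpenMap.isOpen_range⟩
  have hsub : ∀ V, Subsingleton (F.obj.obj (op V)) := subsingleton_sect_of_mono F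
  have hlift : ∀ V : {V : X.Etale // Nonempty (F.obj.obj (op V))}, Nonempty (V.1 ⟶ EtDesc.ofOpen U) := fun V =>
    exists_hom_ofOpen (fun p hp => Set.mem_iUnion.2 ⟨V, hp⟩)
  let T : Sieve (EtDesc.ofOpen U) :=
    { arrows := fun W _ => Nonempty (F.obj.obj (op W))
      downward_closed := fun {W W'} g hg k => hg.map (F.obj.map k.op) }
  have hT : T ∈ X.smallEtaleTopology (EtDesc.ofOpen U) := by
    refine X.smallEtaleTopology.superset_covering ?_ ((Scheme.ofArrows_mem_smallEtaleTopology_iff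
      fun V : {V : X.Etale // Nonempty (F.obj.obj (op V))} => (hlift V).some).2 ?_)
    · rintro W g ⟨W', h, k, ⟨i⟩, -⟩
      exact i.2.map (F.obj.map h.op)
    · refine Set.eq_univ_of_forall fun z => ?_
      obtain ⟨V, v, hv⟩ := Set.mem_iUnion.1 z.2
      refine Set.mem_iUnion.2 ⟨V, v, Subtype.ext ?_⟩
      rw [← hv, ← MorphismProperty.Over.w (hlift V).some]
      rfl
  have hFs := ((isSheaf_iff_isSheaf_of_type _ _).1 F.property) T hT
  let fam : Presieve.FamilyOfElements F.obj T.arrows := fun W g hg => (hg : Nonempty _).some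
  obtain ⟨s, -⟩ := hFs fam (fun _ _ _ _ _ _ _ _ _ _ => @Subsingleton.elim _ (hsub _) _ _)
  let ψ : yoneda.obj (EtDesc.ofOpen U) ⋙ uliftFunctor.{u + 1, u} ⟶ F.obj :=
    { app := fun W => TypeCat.ofHom fun t => F.obj.map t.down.op s
      naturality := fun W W' g => by ext t; exact @Subsingleton.elim _ (hsub _) _ _ }
  haveI := mono_repSh_ofOpen U
  have hsub' : ∀ V, Subsingleton ((EtDesc.repSh (EtDesc.ofOpen U)).obj.obj (op V)) := subsingleton_sect_of_mono _
  let φ : F.obj ⟶ (EtDesc.repSh (EtDesc.ofOpen U)).obj :=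
    { app := fun W => TypeCat.ofHom fun x =>
        (toSheafify X.smallEtaleTopology (yoneda.obj (EtDesc.ofOpen U) ⋙ uliftFunctor.{u + 1, u})).app W
          ⟨(hlift ⟨W.unop, ⟨x⟩⟩).some⟩
      naturality := fun W W' g => by
        ext x
        exact @Subsingleton.elim _ (hsub' _) _ _ }
  exact ⟨U, ⟨{
    hom := ObjectProperty.homMk φ
    inv := ((sheafificationAdjunction X.smallEtaleTopology (Type (u + 1))).homEquiv _ _).symm ψ
    hom_inv_id := Sheaf.hom_ext (by ext V x; exact @Subsingleton.elim _ (hsub _) _ _)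
    inv_hom_id := Sheaf.hom_ext (by ext V x; exact @Subsingleton.elim _ (hsub' _) _ _) }⟩⟩

theorem le_iff_nonempty_hom (U V : X.Opens) :
    U ≤ V ↔ Nonempty (EtDesc.repSh (EtDesc.ofOpen U) ⟶ EtDesc.repSh (EtDesc.ofOpen V)) := by
  refine ⟨fun h => ?_, fun ⟨f⟩ => ?_⟩
  · obtain ⟨g⟩ := exists_hom_ofOpen (U := V) (W := EtDesc.ofOpen U) (by rintro _ ⟨z, rfl⟩; exact h z.2)
    exact ⟨(presheafToSheaf _ _).map (Functor.whiskerRight (yoneda.map g) _)⟩
  · intro z hz
    exact range_subset_of_repSh (U := V) (EtDesc.ofOpen U)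
      (f.hom.app _ ((toSheafify X.smallEtaleTopology (yoneda.obj (EtDesc.ofOpen U) ⋙ uliftFunctor.{u + 1, u})).app (op (EtDesc.ofOpen U)) ⟨𝟙 (EtDesc.ofOpen U)⟩)) ⟨⟨z, hz⟩, rfl⟩

end Groth.Agent.EtShLib
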