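import Groth.Agent.EtShLib.ShriekSupp
import Groth.Agent.EtShLib.Stalk

/-! Sections supported in a closed subset are unchanged by étale neighbourhoods of it. -/

set_option autoImplicit false
set_option linter.unusedSectionVars false
set_option linter.style.haveILetI false
set_option backward.isDefEq.respectTransparency false
set_option backward.isDefEq.respectTransparency.types false
set_option maxHeartbeats 1000000

universe u

open CategoryTheory CategoryTheory.Limits AlgebraicGeometry Opposite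

namespace Groth.Agent.EtShLib

theorem eq_of_comp_eq_of_residue {S T : Scheme.{u}} (φ : S ⟶ T) {K : Type u} [Field K]
    (a b : Spec (CommRingCat.of K) ⟶ S) (hpt : a.base default = b.base default)
    (hres : Function.Bijective (φ.residueFieldMap (a.base default))) (h : a ≫ φ = b ≫ φ) : a = b := by
  obtain ⟨⟨x, α⟩, rfl⟩ := (Scheme.SpecToEquivOfField K S).symm.surjective a
  obtain ⟨⟨x', β⟩, rfl⟩ := (Scheme.SpecToEquivOfField K S).symm.surjective b
  simp only [Scheme.SpecToEquivOfField, Equiv.coe_fn_symm_mk, Scheme.Hom.comp_base, TopCat.coe_comp,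
    Function.comp_apply, Scheme.fromSpecResidueField_apply] at hpt hres h
  subst hpt
  simp only [Category.assoc, ← Scheme.Hom.SpecMap_residueFieldMap_fromSpecResidueField] at h
  rw [← Category.assoc, ← Category.assoc, cancel_mono, ← Spec.map_comp, ← Spec.map_comp] at h
  haveI : IsIso (φ.residueFieldMap x) := (ConcreteCategory.isIso_iff_bijective _).2 (S.fromSpecResidueField_apply x ((Spec.map α).base default) ▸ hres)
  show Spec.map α ≫ _ = Spec.map β ≫ _
  rw [(cancel_epi (φ.residueFieldMap x)).1 (Spec.map_injective h)]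

variable {X : Scheme.{u}} (F : EtCoh.Ab X) {U U' : X.Etale} (φ : U' ⟶ U) (Z : Set U.left) (hZ : IsClosed Z)
  (hbij : Set.BijOn φ.left.base (φ.left.base ⁻¹' Z) Z)
  (hres : ∀ x ∈ φ.left.base ⁻¹' Z, Function.Bijective (φ.left.residueFieldMap x))

include hbij in
theorem exists_fib_over {Ω : Type u} [Field Ω] [IsSepClosed Ω] {ξ : Spec (CommRingCat.of Ω) ⟶ X}
    (z : Fib ξ U) (hz : z.pt ∈ Z) : ∃ v : Fib ξ U', v.map φ = z := by
  obtain ⟨x, -, hx⟩ := hbij.surjOn hz
  haveI : AlgebraicGeometry.Etale U.hom := U.prop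
  haveI : AlgebraicGeometry.Etale U'.hom := U'.prop
  haveI : AlgebraicGeometry.Etale (φ.left ≫ U.hom) := by
    rw [MorphismProperty.Over.w φ]
    infer_instance
  haveI : AlgebraicGeometry.Etale φ.left := .of_comp φ.left U.hom
  obtain ⟨l, hl, -⟩ := Scheme.exists_fac_of_etale_of_isSepClosed φ.left z.hom x hx
  exact ⟨Fib.mk l (by rw [← MorphismProperty.Over.w φ, ← Category.assoc, hl]; exact z.w), Fib.ext hl⟩

include hbij hres in
theorem germ_res_eq {R : X.Etale} (p q : R ⟶ U') (h : p ≫ φ = q ≫ φ) (s : F.obj.obj (op U'))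
    (hs : EtShriek.sectSupp F U' s ⊆ φ.left.base ⁻¹' Z) : F.obj.map p.op s = F.obj.map q.op s := by
  refine eq_of_germ (A := AddCommGrpCat.{u + 1}) F _ _ fun Ω _ _ ξ r => ?_
  rw [germ_res_apply, germ_res_apply]
  by_cases hz : φ.left.base (r.map p).pt ∈ Z
  · have he : φ.left.base (r.map p).pt = φ.left.base (r.map q).pt :=
      congrArg (fun t : R ⟶ U => t.left.base r.pt) h
    have hpt : (r.map p).pt = (r.map q).pt := hbij.injOn hz (show _ ∈ Z from he ▸ hz) he
    rw [show r.map p = r.map q from Fib.ext (eq_of_comp_eq_of_residue φ.left _ _ hpt (hres _ hz) (by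
      show (r.hom ≫ p.left) ≫ φ.left = (r.hom ≫ q.left) ≫ φ.left
      rw [Category.assoc, Category.assoc]
      exact congrArg (r.hom ≫ ·) (congrArg (fun t : R ⟶ U => t.left) h)))]
  · have hq : φ.left.base (r.map q).pt ∉ Z := fun hq => hz ((congrArg (fun t : R ⟶ U => t.left.base r.pt) h).symm ▸ hq)
    rw [germ_eq_zero_of_notMem F s _ fun hh => hz (hs hh), germ_eq_zero_of_notMem F s _ fun hh => hq (hs hh)]

include hZ hbij hres in
theorem bijOn_restrict_supported : Set.BijOn (F.obj.map φ.op) {s | EtShriek.sectSupp F U s ⊆ Z}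
    {s' | EtShriek.sectSupp F U' s' ⊆ φ.left.base ⁻¹' Z} := by
  refine ⟨fun s hs y hy => hs (sectSupp_res F φ s hy), fun s hs t ht hst => ?_, fun s hs => ?_⟩
  · refine eq_of_germ (A := AddCommGrpCat.{u + 1}) F _ _ fun Ω _ _ ξ z => ?_
    by_cases hz : z.pt ∈ Z
    · obtain ⟨v, rfl⟩ := exists_fib_over φ Z hbij z hz
      rw [← germ_res_apply, ← germ_res_apply, hst]
    · rw [germ_eq_zero_of_notMem F s z fun h => hz (hs h), germ_eq_zero_of_notMem F t z fun h => hz (ht h)]
  haveI : AlgebraicGeometry.Etale U.hom := U.prop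
  let V : U.left.Opens := ⟨Zᶜ, hZ.isOpen_compl⟩
  let B : X.Etale := MorphismProperty.Over.mk ⊤ (V.ι ≫ U.hom) (inferInstance : AlgebraicGeometry.Etale (V.ι ≫ U.hom))
  let b : B ⟶ U := MorphismProperty.Over.homMk V.ι rfl
  haveI : IsOpenImmersion b.left := inferInstanceAs (IsOpenImmersion V.ι)
  let W : Bool → X.Etale := fun i => Bool.rec (motive := fun _ => X.Etale) B U' i
  let π : ∀ i, W i ⟶ U := fun i => Bool.rec (motive := fun i => W i ⟶ U) b φ i
  let x : ∀ i, (F.obj ⋙ forget AddCommGrpCat.{u + 1}).obj (op (W i)) := fun i =>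
    Bool.rec (motive := fun i => (F.obj ⋙ forget AddCommGrpCat.{u + 1}).obj (op (W i))) (0 : F.obj.obj (op B)) s i
  have hmem : Sieve.ofArrows W π ∈ X.smallEtaleTopology U := by
    rw [Scheme.ofArrows_mem_smallEtaleTopology_iff]
    refine Set.eq_univ_of_forall fun y => ?_
    by_cases h : y ∈ Z
    · obtain ⟨w, -, hw⟩ := hbij.surjOn h
      exact Set.mem_iUnion.2 ⟨true, w, hw⟩
    · exact Set.mem_iUnion.2 ⟨false, (Scheme.Opens.range_ι V).ge h⟩
  have hsh : (Presieve.ofArrows W π).IsSheafFor (F.obj ⋙ forget AddCommGrpCat.{u + 1}) := by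
    rw [Presieve.isSheafFor_iff_generate]
    exact ((isSheaf_iff_isSheaf_of_type _ _).1
      (GrothendieckTopology.HasSheafCompose.isSheaf F.obj F.property)) _ hmem
  have hcross : ∀ {R : X.Etale} (p : R ⟶ U') (q : R ⟶ B), p ≫ φ = q ≫ b → F.obj.map p.op s = 0 := by
    intro R p q h
    refine eq_of_germ (A := AddCommGrpCat.{u + 1}) F _ _ fun Ω _ _ ξ z => ?_
    rw [map_zero]
    refine germ_eq_zero_of_notMem F _ z fun hz => ?_
    have h1 : (p ≫ φ).left.base z.pt ∈ Z := hs (sectSupp_res F p s hz)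
    rw [h] at h1
    exact (Scheme.Opens.range_ι V).le ⟨q.left.base z.pt, rfl⟩ h1
  obtain ⟨t, ht, -⟩ := (Presieve.isSheafFor_arrows_iff _ _).1 hsh x (fun i j R p q h => by
    cases i <;> cases j
    · obtain rfl : p = q := MorphismProperty.Over.Hom.ext ((cancel_mono b.left).1 (congrArg (fun t => t.left) h))
      rfl
    · show F.obj.map p.op (0 : F.obj.obj (op B)) = F.obj.map q.op s
      rw [map_zero, hcross q p h.symm]
    · show F.obj.map p.op s = F.obj.map q.op (0 : F.obj.obj (op B))
      rw [map_zero, hcross p q h]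
    · exact germ_res_eq F φ Z hbij hres p q h s hs)
  refine ⟨t, fun y hy => by_contra fun hn => ?_, ht true⟩
  obtain ⟨z, hz⟩ := (Scheme.Opens.range_ι V).ge hn
  exact hy B b ⟨z, hz⟩ (ht false)

end Groth.Agent.EtShLib
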