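import Groth.Agent.EtShLib.ShriekSupp
import Groth.Agent.EtShLib.Stalk
import Groth.Prelude.Def_EtTens2

/-! Stalks of tensor products of abelian étale sheaves. -/

set_option autoImplicit false
set_option linter.unusedSectionVars false
set_option linter.style.haveILetI false
set_option backward.isDefEq.respectTransparency false
set_option backward.isDefEq.respectTransparency.types false
set_option synthInstance.maxHeartbeats 400000
set_option maxHeartbeats 1000000

universe u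

open CategoryTheory CategoryTheory.Limits AlgebraicGeometry Opposite
open scoped TensorProduct

namespace Groth.Agent.EtShLib

variable {X : Scheme.{u}} (A B : EtCoh.Ab X)

/-- The tensor product sheaf. -/
noncomputable abbrev tsh : EtCoh.Ab X := (EtTens.tensorBi.obj A).obj B

/-- The map from the presheaf tensor product. -/
noncomputable def tη : EtTens.tensorObj A.obj B.obj ⟶ (tsh A B).obj :=
  CategoryTheory.toSheafify X.smallEtaleTopology (EtTens.tensorObj A.obj B.obj)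

/-- The product section. -/
noncomputable def tsec (U : X.Etale) (a : A.obj.obj (op U)) (b : B.obj.obj (op U)) : (tsh A B).obj.obj (op U) :=
  (tη A B).app (op U) (a ⊗ₜ[ℤ] b)

theorem tsec_zero_left (U : X.Etale) (b : B.obj.obj (op U)) : tsec A B U 0 b = 0 := by
  rw [tsec, TensorProduct.zero_tmul]
  exact map_zero _

theorem tsec_add_left (U : X.Etale) (a a' : A.obj.obj (op U)) (b : B.obj.obj (op U)) :
    tsec A B U (a + a') b = tsec A B U a b + tsec A B U a' b := by
  rw [tsec, tsec, tsec, TensorProduct.add_tmul]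
  exact map_add _ _ _

theorem tsec_add_right (U : X.Etale) (a : A.obj.obj (op U)) (b b' : B.obj.obj (op U)) :
    tsec A B U a (b + b') = tsec A B U a b + tsec A B U a b' := by
  rw [tsec, tsec, tsec, TensorProduct.tmul_add]
  exact map_add _ _ _

theorem tsec_res {U V : X.Etale} (g : V ⟶ U) (a : A.obj.obj (op U)) (b : B.obj.obj (op U)) :
    (tsh A B).obj.map g.op (tsec A B U a b) = tsec A B V (A.obj.map g.op a) (B.obj.map g.op b) :=
  (NatTrans.naturality_apply (tη A B) g.op (a ⊗ₜ[ℤ] b)).symm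

theorem sectSupp_tsec (U : X.Etale) (a : A.obj.obj (op U)) (b : B.obj.obj (op U)) :
    EtShriek.sectSupp (tsh A B) U (tsec A B U a b) ⊆ EtShriek.sectSupp A U a := by
  intro x hx W g hg h0
  refine hx W g hg ?_
  show (tsh A B).obj.map g.op (tsec A B U a b) = 0
  rw [tsec_res, show A.obj.map g.op a = 0 from h0, tsec_zero_left]

variable {Ω : Type u} [Field Ω] [IsSepClosed Ω] (ξ : Spec (CommRingCat.of Ω) ⟶ X)

/-- The germ of a product section. -/
noncomputable def tgerm (U : X.Etale) (u : Fib ξ U) (a : A.obj.obj (op U)) (b : B.obj.obj (op U)) :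
    (stk (A := AddCommGrpCat.{u + 1}) ξ).obj (tsh A B) :=
  germ (A := AddCommGrpCat.{u + 1}) ξ (tsh A B) U u (tsec A B U a b)

theorem tgerm_res {U V : X.Etale} (g : V ⟶ U) (v : Fib ξ V) (a : A.obj.obj (op U)) (b : B.obj.obj (op U)) :
    tgerm A B ξ V v (A.obj.map g.op a) (B.obj.map g.op b) = tgerm A B ξ U (v.map g) a b := by
  rw [tgerm, tgerm, ← tsec_res, germ_res_apply]

theorem tgerm_congr {U U' : X.Etale} (u : Fib ξ U) (u' : Fib ξ U') (a : A.obj.obj (op U)) (b : B.obj.obj (op U))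
    (a' : A.obj.obj (op U')) (b' : B.obj.obj (op U'))
    (ha : germ (A := AddCommGrpCat.{u + 1}) ξ A U u a = germ (A := AddCommGrpCat.{u + 1}) ξ A U' u' a')
    (hb : germ (A := AddCommGrpCat.{u + 1}) ξ B U u b = germ (A := AddCommGrpCat.{u + 1}) ξ B U' u' b') :
    tgerm A B ξ U u a b = tgerm A B ξ U' u' a' b' := by
  obtain ⟨⟨W, w⟩, p, q, -⟩ := IsCofilteredOrEmpty.cone_objs (C := (pt ξ).fiber.Elements) ⟨U, u⟩ ⟨U', u'⟩
  obtain ⟨p, hp⟩ : ∃ g : W ⟶ U, Fib.map g w = u := ⟨p.1, p.2⟩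
  obtain ⟨q, hq⟩ : ∃ g : W ⟶ U', Fib.map g w = u' := ⟨q.1, q.2⟩
  rw [← hp, ← hq, ← germ_res_apply, ← germ_res_apply] at ha
  obtain ⟨W₁, k₁, w₁, hw₁, he₁⟩ := (germ_eq_iff ξ W w _ _).1 ha
  rw [← hp, ← hq, ← hw₁, ← germ_res_apply, ← germ_res_apply, ← germ_res_apply, ← germ_res_apply] at hb
  obtain ⟨W₂, k₂, w₂, hw₂, he₂⟩ := (germ_eq_iff ξ W₁ w₁ _ _).1 hb
  rw [← hp, ← hq, ← hw₁, ← hw₂, ← tgerm_res, ← tgerm_res, ← tgerm_res, ← tgerm_res, ← tgerm_res, ← tgerm_res,
    he₁, he₂]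

theorem exists_rep (x : (stk (A := AddCommGrpCat.{u + 1}) ξ).obj A) (y : (stk (A := AddCommGrpCat.{u + 1}) ξ).obj B) :
    ∃ (r : Σ (U : X.Etale) (_ : Fib ξ U), A.obj.obj (op U) × B.obj.obj (op U)),
      germ (A := AddCommGrpCat.{u + 1}) ξ A r.1 r.2.1 r.2.2.1 = x ∧
        germ (A := AddCommGrpCat.{u + 1}) ξ B r.1 r.2.1 r.2.2.2 = y := by
  obtain ⟨U, u, a, rfl⟩ := exists_germ (A := AddCommGrpCat.{u + 1}) ξ x
  obtain ⟨V, g, v, b, hv, rfl⟩ := exists_germ_below ξ y U u
  exact ⟨⟨V, v, A.obj.map g.op a, b⟩, by rw [germ_res_apply, hv], rfl⟩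

/-- The product of germs. -/
noncomputable def tprod (x : (stk (A := AddCommGrpCat.{u + 1}) ξ).obj A)
    (y : (stk (A := AddCommGrpCat.{u + 1}) ξ).obj B) : (stk (A := AddCommGrpCat.{u + 1}) ξ).obj (tsh A B) :=
  tgerm A B ξ _ (exists_rep A B ξ x y).choose.2.1 (exists_rep A B ξ x y).choose.2.2.1
    (exists_rep A B ξ x y).choose.2.2.2

theorem tprod_germ (U : X.Etale) (u : Fib ξ U) (a : A.obj.obj (op U)) (b : B.obj.obj (op U)) :
    tprod A B ξ (germ (A := AddCommGrpCat.{u + 1}) ξ A U u a) (germ (A := AddCommGrpCat.{u + 1}) ξ B U u b) =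
      tgerm A B ξ U u a b :=
  tgerm_congr A B ξ _ _ _ _ _ _ (exists_rep A B ξ _ _).choose_spec.1 (exists_rep A B ξ _ _).choose_spec.2

theorem tprod_add_left (x x' : (stk (A := AddCommGrpCat.{u + 1}) ξ).obj A)
    (y : (stk (A := AddCommGrpCat.{u + 1}) ξ).obj B) : tprod A B ξ (x + x') y = tprod A B ξ x y + tprod A B ξ x' y := by
  obtain ⟨⟨U, u, a, b⟩, rfl, rfl⟩ := exists_rep A B ξ x y
  obtain ⟨V, g, v, a', hv, rfl⟩ := exists_germ_below (A := AddCommGrpCat.{u + 1}) ξ x' U u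
  rw [← hv, ← germ_res_apply, ← germ_res_apply, ← map_add, tprod_germ, tprod_germ, tprod_germ, tgerm, tgerm, tgerm,
    tsec_add_left, map_add]

theorem tprod_add_right (x : (stk (A := AddCommGrpCat.{u + 1}) ξ).obj A)
    (y y' : (stk (A := AddCommGrpCat.{u + 1}) ξ).obj B) : tprod A B ξ x (y + y') = tprod A B ξ x y + tprod A B ξ x y' := by
  obtain ⟨⟨U, u, a, b⟩, rfl, rfl⟩ := exists_rep A B ξ x y
  obtain ⟨V, g, v, b', hv, rfl⟩ := exists_germ_below (A := AddCommGrpCat.{u + 1}) ξ y' U u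
  rw [← hv, ← germ_res_apply, ← germ_res_apply, ← map_add, tprod_germ, tprod_germ, tprod_germ, tgerm, tgerm, tgerm,
    tsec_add_right, map_add]

/-- The comparison from the tensor product of stalks. -/
noncomputable def tstalk : ((stk (A := AddCommGrpCat.{u + 1}) ξ).obj A) ⊗[ℤ] ((stk (A := AddCommGrpCat.{u + 1}) ξ).obj B) →+
    (stk (A := AddCommGrpCat.{u + 1}) ξ).obj (tsh A B) :=
  (TensorProduct.lift
    ((AddMonoidHom.mk' (fun x => (AddMonoidHom.mk' (tprod A B ξ x) (tprod_add_right A B ξ x)).toIntLinearMap)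
      fun x x' => LinearMap.ext fun y => tprod_add_left A B ξ x x' y).toIntLinearMap)).toAddMonoidHom

theorem tstalk_tmul (x : (stk (A := AddCommGrpCat.{u + 1}) ξ).obj A) (y : (stk (A := AddCommGrpCat.{u + 1}) ξ).obj B) :
    tstalk A B ξ (x ⊗ₜ[ℤ] y) = tprod A B ξ x y := by
  unfold tstalk
  rw [LinearMap.toAddMonoidHom_coe, TensorProduct.lift.tmul]
  rfl

theorem bijective_tstalk : Function.Bijective (tstalk A B ξ) := by
  let T := EtTens.tensorObj A.obj B.obj
  let τ : (pt ξ).presheafFiber.obj T ⟶ AddCommGrpCat.of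
      (((stk (A := AddCommGrpCat.{u + 1}) ξ).obj A) ⊗[ℤ] ((stk (A := AddCommGrpCat.{u + 1}) ξ).obj B)) :=
    (pt ξ).presheafFiberDesc (fun U u => AddCommGrpCat.ofHom (TensorProduct.map
      (germ (A := AddCommGrpCat.{u + 1}) ξ A U u).hom.toIntLinearMap
      (germ (A := AddCommGrpCat.{u + 1}) ξ B U u).hom.toIntLinearMap).toAddMonoidHom)
      (fun U V g u => EtTens.hom_ext_tmul fun a b => by
        show germ (A := AddCommGrpCat.{u + 1}) ξ A U u (A.obj.map g.op a) ⊗ₜ[ℤ]
          germ (A := AddCommGrpCat.{u + 1}) ξ B U u (B.obj.map g.op b) = _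
        rw [germ_res_apply, germ_res_apply]
        rfl)
  let e : (pt ξ).presheafFiber.obj T ⟶ (stk (A := AddCommGrpCat.{u + 1}) ξ).obj (tsh A B) :=
    (pt ξ).presheafFiber.map (tη A B)
  haveI : IsIso e := by
    show IsIso ((pt ξ).presheafFiber.map (CategoryTheory.toSheafify X.smallEtaleTopology T))
    infer_instance
  have he : ∀ (U : X.Etale) (u : Fib ξ U) (t : T.obj (op U)),
      e ((pt ξ).toPresheafFiber U u T t) = germ (A := AddCommGrpCat.{u + 1}) ξ (tsh A B) U u ((tη A B).app (op U) t) :=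
    fun U u t => (pt ξ).toPresheafFiber_naturality_apply (tη A B) U u t
  have hleft : ∀ z, (inv e ≫ τ) (tstalk A B ξ z) = z := by
    intro z
    induction z using TensorProduct.induction_on with
    | zero => rw [map_zero, map_zero]
    | tmul x y =>
      obtain ⟨⟨U, u, a, b⟩, rfl, rfl⟩ := exists_rep A B ξ x y
      rw [tstalk_tmul, tprod_germ, show tgerm A B ξ U u a b = e ((pt ξ).toPresheafFiber U u T (a ⊗ₜ[ℤ] b)) from
        (he U u _).symm, ← ConcreteCategory.comp_apply e, IsIso.hom_inv_id_assoc]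
      exact congrArg (fun m : T.obj (op U) ⟶ _ => m (a ⊗ₜ[ℤ] b)) ((pt ξ).toPresheafFiber_presheafFiberDesc _ _ U u)
    | add x y hx hy => rw [map_add, map_add, hx, hy]
  refine ⟨Function.LeftInverse.injective hleft, fun p => ?_⟩
  obtain ⟨q, rfl⟩ := ((ConcreteCategory.isIso_iff_bijective e).1 inferInstance).2 p
  obtain ⟨U, u, t, rfl⟩ := (pt ξ).toPresheafFiber_jointly_surjective (P := T) q
  rw [he]
  change (A.obj.obj (op U)) ⊗[ℤ] (B.obj.obj (op U)) at t
  induction t using TensorProduct.induction_on with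
  | zero => exact ⟨0, (map_zero _).trans ((congrArg _ (map_zero _)).trans (map_zero _)).symm⟩
  | tmul a b => exact ⟨germ (A := AddCommGrpCat.{u + 1}) ξ A U u a ⊗ₜ[ℤ] germ (A := AddCommGrpCat.{u + 1}) ξ B U u b,
      (tstalk_tmul A B ξ _ _).trans (tprod_germ A B ξ U u a b)⟩
  | add a b ha hb =>
    obtain ⟨x, hx⟩ := ha
    obtain ⟨y, hy⟩ := hb
    exact ⟨x + y, (map_add _ _ _).trans ((congrArg₂ (· + ·) hx hy).trans
      ((map_add _ _ _).symm.trans (congrArg _ (map_add _ _ _).symm)))⟩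

end Groth.Agent.EtShLib
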